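import Mathlib

/-!
# Tensor products of domains over an algebraically closed field
-/

set_option autoImplicit false
universe u v w w'

namespace Groth.Agent.H19

open TensorProduct

/-- Weak Nullstellensatz: over an algebraically closed field, a nonzero element of a finitely
generated domain is nonzero at some `k`-point. -/
theorem exists_algHom_ne_zero {k : Type u} {A : Type v} [Field k] [IsAlgClosed k] [CommRing A]
    [IsReduced A] [Algebra k A] [Algebra.FiniteType k A] (a : A) (ha : a ≠ 0) :
    ∃ φ : A →ₐ[k] k, φ a ≠ 0 := by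
  have : IsJacobsonRing A := isJacobsonRing_of_finiteType (A := k)
  have hJ : (⊥ : Ideal A).jacobson = ⊥ :=
    IsJacobsonRing.out ‹_› Ideal.isRadical_bot
  have : a ∉ (⊥ : Ideal A).jacobson := by rw [hJ]; simpa using ha
  rw [Ideal.jacobson, Ideal.mem_sInf] at this
  push Not at this
  obtain ⟨m, ⟨-, hm⟩, ham⟩ := this
  have := hm
  let _ : Field (A ⧸ m) := Ideal.Quotient.field m
  have : Module.Finite k (A ⧸ m) := finite_of_finite_type_of_isJacobsonRing k (A ⧸ m)
  have : Algebra.IsIntegral k (A ⧸ m) := Algebra.IsIntegral.of_finite k (A ⧸ m)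
  have hbij : Function.Bijective (algebraMap k (A ⧸ m)) :=
    IsAlgClosed.algebraMap_bijective_of_isIntegral
  let e : k ≃ₐ[k] (A ⧸ m) := AlgEquiv.ofBijective (Algebra.ofId k (A ⧸ m)) hbij
  refine ⟨(e.symm : (A ⧸ m) →ₐ[k] k).comp (Ideal.Quotient.mkₐ k m), ?_⟩
  intro h
  apply ham
  have : e.symm (Ideal.Quotient.mk m a) = 0 := h
  have h2 : Ideal.Quotient.mk m a = 0 := by
    have := congrArg e this
    simpa using this
  exact Ideal.Quotient.eq_zero_iff_mem.mp h2

/-- The evaluation map `A ⊗[k] B → B` attached to a `k`-point `φ` of `A`. -/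
noncomputable def evalTensor {k : Type u} {A : Type v} (B : Type w) [Field k] [CommRing A] [CommRing B]
    [Algebra k A] [Algebra k B] (φ : A →ₐ[k] k) : A ⊗[k] B →ₐ[k] B :=
  (Algebra.TensorProduct.lid k B : k ⊗[k] B →ₐ[k] B).comp
    (Algebra.TensorProduct.map φ (AlgHom.id k B))

theorem evalTensor_tmul {k : Type u} {A : Type v} {B : Type w} [Field k] [CommRing A] [CommRing B]
    [Algebra k A] [Algebra k B] (φ : A →ₐ[k] k) (a : A) (b : B) :
    evalTensor B φ (a ⊗ₜ b) = φ a • b := by
  simp [evalTensor]

theorem evalTensor_eq {k : Type u} {A : Type v} {B : Type w} [Field k] [CommRing A] [CommRing B]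
    [Algebra k A] [Algebra k B] {ι : Type*} (β : Module.Basis ι k B) (φ : A →ₐ[k] k) (x : A ⊗[k] B) :
    evalTensor B φ x = Finsupp.linearCombination k β
      (Finsupp.mapRange φ (map_zero φ) ((Algebra.TensorProduct.basis A β).repr x)) := by
  induction x using TensorProduct.induction_on with
  | zero => simp
  | tmul a b =>
    rw [evalTensor_tmul, Algebra.TensorProduct.basis_repr_tmul]
    conv_lhs => rw [← β.linearCombination_repr b]
    rw [← map_smul]
    congr 1
    ext i
    simp
  | add x y hx hy =>
    rw [map_add, hx, hy, map_add, Finsupp.mapRange_add (by intros; simp), map_add]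

theorem noZeroDivisors_tensor_of_fg {k : Type u} {A : Type v} {B : Type w} [Field k] [IsAlgClosed k]
    [CommRing A] [CommRing B] [IsDomain A] [IsDomain B] [Algebra k A] [Algebra k B]
    [Algebra.FiniteType k A] (x y : A ⊗[k] B) (hxy : x * y = 0) : x = 0 ∨ y = 0 := by
  by_contra hcon
  push Not at hcon
  obtain ⟨hx, hy⟩ := hcon
  let β := Module.Basis.ofVectorSpace k B
  let bA := Algebra.TensorProduct.basis A β
  have hx' : bA.repr x ≠ 0 := fun h => hx (by simpa using h)
  have hy' : bA.repr y ≠ 0 := fun h => hy (by simpa using h)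
  obtain ⟨i, hi⟩ := Finsupp.ne_iff.mp hx'
  obtain ⟨j, hj⟩ := Finsupp.ne_iff.mp hy'
  simp only [Finsupp.coe_zero, Pi.zero_apply] at hi hj
  obtain ⟨φ, hφ⟩ := exists_algHom_ne_zero (k := k) (bA.repr x i * bA.repr y j) (mul_ne_zero hi hj)
  rw [map_mul] at hφ
  have h1 : evalTensor B φ x ≠ 0 := by
    rw [evalTensor_eq β]
    intro h
    have := β.linearIndependent
    rw [linearIndependent_iff] at this
    have h2 := this _ h
    have h3 := DFunLike.congr_fun h2 i
    simp only [Finsupp.mapRange_apply, Finsupp.coe_zero, Pi.zero_apply] at h3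
    exact (left_ne_zero_of_mul hφ) h3
  have h1' : evalTensor B φ y ≠ 0 := by
    rw [evalTensor_eq β]
    intro h
    have := β.linearIndependent
    rw [linearIndependent_iff] at this
    have h2 := this _ h
    have h3 := DFunLike.congr_fun h2 j
    simp only [Finsupp.mapRange_apply, Finsupp.coe_zero, Pi.zero_apply] at h3
    exact (right_ne_zero_of_mul hφ) h3
  have h0 : evalTensor B φ x * evalTensor B φ y = 0 := by
    rw [← map_mul, hxy, map_zero]
  exact (mul_ne_zero h1 h1') h0


theorem baseChange_mono' {R A : Type*} [CommSemiring R] [Semiring A] [Algebra R A]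
    (B : Type*) [CommSemiring B] [Algebra R B] {C1 C2 : Subalgebra R A} (h : C1 ≤ C2) :
    C1.baseChange B ≤ C2.baseChange B := by
  rintro _ ⟨z, rfl⟩
  refine ⟨Algebra.TensorProduct.map (AlgHom.id B B) (Subalgebra.inclusion h) z, ?_⟩
  have : (Algebra.TensorProduct.map (AlgHom.id B B) C2.val).comp
      (Algebra.TensorProduct.map (AlgHom.id B B) (Subalgebra.inclusion h)) =
      Algebra.TensorProduct.map (AlgHom.id B B) C1.val := by
    ext x
    simp
  exact congrArg (fun f => f z) this

theorem isDomain_tensor_of_isAlgClosed {k : Type u} {A : Type v} {B : Type w} [Field k] [IsAlgClosed k]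
    [CommRing A] [CommRing B] [IsDomain A] [IsDomain B] [Algebra k A] [Algebra k B] :
    IsDomain (A ⊗[k] B) := by
  have : Nontrivial (A ⊗[k] B) :=
    (Algebra.TensorProduct.includeLeft_injective (R := k) (S := k) (A := A) (B := B)
      (algebraMap k B).injective).nontrivial
  have : NoZeroDivisors (A ⊗[k] B) := by
    refine ⟨fun {x y} hxy => ?_⟩
    obtain ⟨C1, hC1, hx⟩ := exists_fg_and_mem_baseChange x
    obtain ⟨C2, hC2, hy⟩ := exists_fg_and_mem_baseChange y
    have hC : (C1 ⊔ C2).FG := hC1.sup hC2
    obtain ⟨x', rfl⟩ := baseChange_mono' A (le_sup_left : C1 ≤ C1 ⊔ C2) hx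
    obtain ⟨y', rfl⟩ := baseChange_mono' A (le_sup_right : C2 ≤ C1 ⊔ C2) hy
    have hinj : Function.Injective (Algebra.TensorProduct.map (AlgHom.id A A) (C1 ⊔ C2).val) :=
      Module.Flat.lTensor_preserves_injective_linearMap _ Subtype.val_injective
    have hxy' : x' * y' = 0 := by
      apply hinj
      rw [map_mul, map_zero]
      exact hxy
    haveI : Algebra.FiniteType k (C1 ⊔ C2 : Subalgebra k B) := (Subalgebra.fg_iff_finiteType _).mp hC
    have h2 := noZeroDivisors_tensor_of_fg (k := k) (A := (C1 ⊔ C2 : Subalgebra k B)) (B := A)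
      (Algebra.TensorProduct.comm k A _ x') (Algebra.TensorProduct.comm k A _ y')
      (by rw [← map_mul, hxy', map_zero])
    rcases h2 with h2 | h2
    · left
      rw [EmbeddingLike.map_eq_zero_iff] at h2
      rw [h2, map_zero]
    · right
      rw [EmbeddingLike.map_eq_zero_iff] at h2
      rw [h2, map_zero]
  exact NoZeroDivisors.to_isDomain _


/-- Monotonicity of ranges of `L ⊗ S → E ⊗ S` in the intermediate field `L`. -/
theorem range_map_val_mono {k : Type u} {E : Type v} {S : Type w} [Field k] [Field E] [Algebra k E]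
    [CommRing S] [Algebra k S] {L1 L2 : IntermediateField k E} (h : L1 ≤ L2) :
    (Algebra.TensorProduct.map L1.val (AlgHom.id k S)).range ≤
      (Algebra.TensorProduct.map L2.val (AlgHom.id k S)).range := by
  rintro _ ⟨z, rfl⟩
  refine ⟨Algebra.TensorProduct.map (IntermediateField.inclusion h) (AlgHom.id k S) z, ?_⟩
  have : (Algebra.TensorProduct.map L2.val (AlgHom.id k S)).comp
      (Algebra.TensorProduct.map (IntermediateField.inclusion h) (AlgHom.id k S)) =
      Algebra.TensorProduct.map L1.val (AlgHom.id k S) := by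
    ext x
    · simp
    · simp
  exact congrArg (fun f => f z) this

/-- Every element of `E ⊗ S`, `E/k` algebraic, comes from `L ⊗ S` for a finite subextension `L`. -/
theorem exists_finiteDimensional_mem_range {k : Type u} {E : Type v} {S : Type w} [Field k] [Field E]
    [Algebra k E] [Algebra.IsAlgebraic k E] [CommRing S] [Algebra k S] (x : E ⊗[k] S) :
    ∃ L : IntermediateField k E, FiniteDimensional k L ∧
      x ∈ (Algebra.TensorProduct.map L.val (AlgHom.id k S)).range := by
  induction x using TensorProduct.induction_on with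
  | zero => exact ⟨⊥, inferInstance, zero_mem _⟩
  | tmul c s =>
    refine ⟨IntermediateField.adjoin k {c}, ?_, ?_⟩
    · exact IntermediateField.adjoin.finiteDimensional (Algebra.IsIntegral.isIntegral c)
    · exact ⟨(⟨c, IntermediateField.mem_adjoin_simple_self k c⟩ : IntermediateField.adjoin k {c}) ⊗ₜ s, by simp⟩
  | add x y hx hy =>
    obtain ⟨L1, h1, hx⟩ := hx
    obtain ⟨L2, h2, hy⟩ := hy
    refine ⟨L1 ⊔ L2, inferInstance, ?_⟩
    exact add_mem (range_map_val_mono le_sup_left hx) (range_map_val_mono le_sup_right hy)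

theorem map_val_injective {k : Type u} {E : Type v} {S : Type w} [Field k] [Field E] [Algebra k E]
    [CommRing S] [Algebra k S] (L : IntermediateField k E) :
    Function.Injective (Algebra.TensorProduct.map L.val (AlgHom.id k S)) :=
  Module.Flat.rTensor_preserves_injective_linearMap (M := S) L.val.toLinearMap
    Subtype.val_injective


theorem irreducibleSpace_iff_nilradical_isPrime {A : Type*} [CommRing A] :
    IrreducibleSpace (PrimeSpectrum A) ↔ (nilradical A).IsPrime := by
  rw [irreducibleSpace_def, show (⊤ : Set (PrimeSpectrum A)) = PrimeSpectrum.zeroLocus ((⊥ : Ideal A) : Set A) by simp,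
    PrimeSpectrum.isIrreducible_zeroLocus_iff]
  rfl

/-- Over an algebraically closed field, `Spec (K ⊗ B)` is irreducible whenever `K` is a domain and
`Spec B` is irreducible. -/
theorem irreducibleSpace_tensor_of_isAlgClosed {k : Type u} {K : Type v} {B : Type w} [Field k]
    [IsAlgClosed k] [CommRing K] [IsDomain K] [CommRing B] [Algebra k K] [Algebra k B]
    [IrreducibleSpace (PrimeSpectrum B)] : IrreducibleSpace (PrimeSpectrum (K ⊗[k] B)) := by
  have hN : (nilradical B).IsPrime := irreducibleSpace_iff_nilradical_isPrime.mp inferInstance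
  rw [irreducibleSpace_iff_nilradical_isPrime]
  haveI : IsDomain (B ⧸ nilradical B) := (Ideal.Quotient.isDomain_iff_prime _).mpr hN
  haveI : IsDomain (K ⊗[k] (B ⧸ nilradical B)) := isDomain_tensor_of_isAlgClosed
  let π : K ⊗[k] B →ₐ[k] K ⊗[k] (B ⧸ nilradical B) :=
    Algebra.TensorProduct.map (AlgHom.id k K) (Ideal.Quotient.mkₐ k (nilradical B))
  have hker : RingHom.ker π = (nilradical B).map
      (Algebra.TensorProduct.includeRight : B →ₐ[k] K ⊗[k] B) := by
    have := Algebra.TensorProduct.lTensor_ker (A := K) (Ideal.Quotient.mkₐ k (nilradical B))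
      (Ideal.Quotient.mkₐ_surjective k _)
    rw [this]
    congr 1
    ext x
    simp [Ideal.Quotient.eq_zero_iff_mem]
  have hle : RingHom.ker π ≤ nilradical (K ⊗[k] B) := by
    rw [hker, Ideal.map_le_iff_le_comap]
    intro b hb
    rw [Ideal.mem_comap, mem_nilradical]
    exact (mem_nilradical.mp hb).map _
  have hprime : (RingHom.ker π).IsPrime := RingHom.ker_isPrime π.toRingHom
  have : nilradical (K ⊗[k] B) = RingHom.ker π :=
    le_antisymm (nilradical_le_prime _) hle
  rw [this]
  exact hprime


theorem nilradical_isPrime_of_injective {A B : Type*} [CommRing A] [CommRing B] (f : A →+* B)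
    (hf : Function.Injective f) (h : (nilradical B).IsPrime) : (nilradical A).IsPrime := by
  have : nilradical A = (nilradical B).comap f := by
    ext x
    rw [Ideal.mem_comap, mem_nilradical, mem_nilradical]
    exact (IsNilpotent.map_iff hf).symm
  rw [this]
  exact Ideal.comap_isPrime _ _

theorem nilradical_isPrime_of_directed {B : Type v} [CommRing B] [Nontrivial B]
    (h : ∀ x y : B, ∃ (A : Type w) (_ : CommRing A) (g : A →+* B), Function.Injective g ∧
      (nilradical A).IsPrime ∧ x ∈ g.range ∧ y ∈ g.range) : (nilradical B).IsPrime := by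
  rw [Ideal.isPrime_iff]
  refine ⟨fun htop => ?_, fun {x y} hxy => ?_⟩
  · have : (1 : B) ∈ nilradical B := by rw [htop]; trivial
    exact not_isNilpotent_one (mem_nilradical.mp this)
  · obtain ⟨A, _, g, hg, hA, ⟨x', rfl⟩, ⟨y', rfl⟩⟩ := h x y
    rw [mem_nilradical, ← map_mul, IsNilpotent.map_iff hg, ← mem_nilradical] at hxy
    rcases hA.mem_or_mem hxy with h0 | h0
    · left; exact mem_nilradical.mpr ((mem_nilradical.mp h0).map g)
    · right; exact mem_nilradical.mpr ((mem_nilradical.mp h0).map g)

theorem isReduced_of_directed {B : Type v} [CommRing B]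
    (h : ∀ x : B, ∃ (A : Type w) (_ : CommRing A) (g : A →+* B), Function.Injective g ∧
      IsReduced A ∧ x ∈ g.range) : IsReduced B := by
  refine ⟨fun x hx => ?_⟩
  obtain ⟨A, _, g, hg, hA, ⟨x', rfl⟩⟩ := h x
  rw [IsNilpotent.map_iff hg] at hx
  rw [hA.eq_zero x' hx, map_zero]

/-- Colimit argument: irreducibility of `Spec (E ⊗ R)` for algebraic `E/k` from the finite
subextensions. -/
theorem irreducibleSpace_tensor_of_forall_finite {k : Type u} {E : Type v} {R : Type w} [Field k]
    [Field E] [Algebra k E] [Algebra.IsAlgebraic k E] [CommRing R] [Algebra k R] [Nontrivial R]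
    (h : ∀ L : IntermediateField k E, FiniteDimensional k L →
      IrreducibleSpace (PrimeSpectrum (L ⊗[k] R))) :
    IrreducibleSpace (PrimeSpectrum (E ⊗[k] R)) := by
  refine (irreducibleSpace_iff_nilradical_isPrime (A := E ⊗[k] R)).mpr ?_
  haveI : Nontrivial (E ⊗[k] R) :=
    (Algebra.TensorProduct.includeRight_injective (R := k) (A := E) (B := R)
      (algebraMap k E).injective).nontrivial
  refine nilradical_isPrime_of_directed (B := E ⊗[k] R) (fun x y => ?_)
  obtain ⟨L1, h1, hx⟩ := exists_finiteDimensional_mem_range x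
  obtain ⟨L2, h2, hy⟩ := exists_finiteDimensional_mem_range y
  refine ⟨(L1 ⊔ L2 : IntermediateField k E) ⊗[k] R, inferInstance,
    (Algebra.TensorProduct.map (L1 ⊔ L2).val (AlgHom.id k R)).toRingHom,
    map_val_injective (S := R) (L1 ⊔ L2), ?_, ?_, ?_⟩
  · exact (irreducibleSpace_iff_nilradical_isPrime
      (A := (L1 ⊔ L2 : IntermediateField k E) ⊗[k] R)).mp (h _ inferInstance)
  · exact range_map_val_mono (le_sup_left : L1 ≤ L1 ⊔ L2) hx
  · exact range_map_val_mono (le_sup_right : L2 ≤ L1 ⊔ L2) hy

/-- Colimit argument for reducedness. -/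
theorem isReduced_tensor_of_forall_finite {k : Type u} {E : Type v} {R : Type w} [Field k]
    [Field E] [Algebra k E] [Algebra.IsAlgebraic k E] [CommRing R] [Algebra k R]
    (h : ∀ L : IntermediateField k E, FiniteDimensional k L → IsReduced (L ⊗[k] R)) :
    IsReduced (E ⊗[k] R) := by
  refine isReduced_of_directed (B := E ⊗[k] R) (fun x => ?_)
  obtain ⟨L1, h1, hx⟩ := exists_finiteDimensional_mem_range x
  exact ⟨(L1 : IntermediateField k E) ⊗[k] R, inferInstance,
    (Algebra.TensorProduct.map L1.val (AlgHom.id k R)).toRingHom,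
    map_val_injective (S := R) L1, h _ h1, hx⟩


theorem eq_zero_of_isIdempotentElem_of_isNilpotent {A : Type*} [CommRing A] {e : A}
    (he : IsIdempotentElem e) (hn : IsNilpotent e) : e = 0 := by
  obtain ⟨n, hn⟩ := hn
  rcases Nat.eq_zero_or_pos n with rfl | hpos
  · rw [pow_zero] at hn
    rw [← mul_one e, hn, mul_zero]
  · obtain ⟨m, rfl⟩ := Nat.exists_eq_succ_of_ne_zero hpos.ne'
    rwa [he.pow_succ_eq] at hn

/-- In a ring with preconnected spectrum, idempotents are trivial. -/
theorem idem_trivial_of_preconnectedSpace {A : Type*} [CommRing A]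
    [PreconnectedSpace (PrimeSpectrum A)] (e : A) (he : IsIdempotentElem e) : e = 0 ∨ e = 1 := by
  have hclopen : IsClopen ((PrimeSpectrum.basicOpen e : TopologicalSpace.Opens _) : Set (PrimeSpectrum A)) :=
    PrimeSpectrum.isClopen_iff.mpr ⟨e, he, rfl⟩
  rcases isClopen_iff.mp hclopen with h | h
  · left
    have : PrimeSpectrum.basicOpen e = ⊥ := TopologicalSpace.Opens.ext (by simpa using h)
    exact eq_zero_of_isIdempotentElem_of_isNilpotent he ((PrimeSpectrum.basicOpen_eq_bot_iff e).mp this)
  · right
    have h2 : PrimeSpectrum.zeroLocus {e} = (∅ : Set (PrimeSpectrum A)) := by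
      have := PrimeSpectrum.basicOpen_eq_zeroLocus_compl e
      rw [h] at this
      exact Set.compl_univ_iff.mp this.symm
    rw [PrimeSpectrum.zeroLocus_eq_basicOpen_of_isIdempotentElem e he] at h2
    have : PrimeSpectrum.basicOpen (1 - e) = ⊥ := TopologicalSpace.Opens.ext (by simpa using h2)
    have h3 := eq_zero_of_isIdempotentElem_of_isNilpotent he.one_sub
      ((PrimeSpectrum.basicOpen_eq_bot_iff _).mp this)
    exact (sub_eq_zero.mp h3).symm

theorem preconnectedSpace_of_idem_trivial {A : Type*} [CommRing A]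
    (h : ∀ e : A, IsIdempotentElem e → e = 0 ∨ e = 1) : PreconnectedSpace (PrimeSpectrum A) := by
  rw [preconnectedSpace_iff_clopen]
  intro s hs
  obtain ⟨e, he, rfl⟩ := PrimeSpectrum.isClopen_iff.mp hs
  rcases h e he with rfl | rfl
  · left; simp
  · right; simp

/-- Nullstellensatz: an element of a finitely generated algebra over an algebraically closed
field vanishing at all `k`-points is nilpotent. -/
theorem isNilpotent_of_forall_algHom_eq_zero {k : Type u} {A : Type v} [Field k] [IsAlgClosed k]
    [CommRing A] [Algebra k A] [Algebra.FiniteType k A] (a : A)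
    (h : ∀ φ : A →ₐ[k] k, φ a = 0) : IsNilpotent a := by
  by_contra hn
  have h1 : Ideal.Quotient.mk (nilradical A) a ≠ 0 := by
    rw [ne_eq, Ideal.Quotient.eq_zero_iff_mem, mem_nilradical]
    exact hn
  haveI : IsReduced (A ⧸ nilradical A) := (Ideal.isRadical_iff_quotient_reduced _).mp (by rw [nilradical]; exact Ideal.radical_isRadical _)
  haveI : Algebra.FiniteType k (A ⧸ nilradical A) :=
    Algebra.FiniteType.of_surjective (Ideal.Quotient.mkₐ k (nilradical A)) (Ideal.Quotient.mkₐ_surjective k _)
  obtain ⟨φ, hφ⟩ := exists_algHom_ne_zero (k := k) _ h1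
  exact hφ (h (φ.comp (Ideal.Quotient.mkₐ k (nilradical A))))


/-- An element of `S ⊗ R` all of whose coordinates (w.r.t. a basis of `R`) are nilpotent is
nilpotent. -/
theorem isNilpotent_of_repr_isNilpotent {k : Type u} {S : Type v} {R : Type w} [Field k]
    [CommRing S] [CommRing R] [Algebra k S] [Algebra k R] {ι : Type*} (b : Module.Basis ι k R)
    (x : S ⊗[k] R) (h : ∀ i, IsNilpotent ((Algebra.TensorProduct.basis S b).repr x i)) :
    IsNilpotent x := by
  rw [← (Algebra.TensorProduct.basis S b).linearCombination_repr x, Finsupp.linearCombination_apply,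
    Finsupp.sum]
  refine isNilpotent_sum (fun i _ => ?_)
  rw [Algebra.smul_def]
  exact Commute.isNilpotent_mul_right (Commute.all _ _) ((h i).map _)

theorem idem_trivial_tensor_of_isAlgClosed_fg {k : Type u} {S : Type v} {R : Type w} [Field k]
    [IsAlgClosed k] [CommRing S] [CommRing R] [Algebra k S] [Algebra k R] [Algebra.FiniteType k S]
    [Nontrivial R]
    (hS : ∀ e : S, IsIdempotentElem e → e = 0 ∨ e = 1)
    (hR : ∀ e : R, IsIdempotentElem e → e = 0 ∨ e = 1)
    (e : S ⊗[k] R) (he : IsIdempotentElem e) : e = 0 ∨ e = 1 := by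
  classical
  have hs : LinearIndepOn k id ({1} : Set R) := by
    rw [linearIndepOn_singleton_iff]; exact one_ne_zero
  let b := Module.Basis.extend hs
  let i₀ : hs.extend (Set.subset_univ _) := ⟨1, Module.Basis.subset_extend hs (Set.mem_singleton 1)⟩
  have hb0 : b i₀ = 1 := Module.Basis.extend_apply_self hs i₀
  let bS := Algebra.TensorProduct.basis S b
  have hbS0 : bS i₀ = 1 := by
    rw [Algebra.TensorProduct.basis_apply, hb0]; rfl
  let c := bS.repr e
  -- key pointwise computation
  have hψ : ∀ ψ : S →ₐ[k] k, (∀ i, i ≠ i₀ → ψ (c i) = 0) ∧ ψ (c i₀ * c i₀ - c i₀) = 0 := by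
    intro ψ
    have hid : IsIdempotentElem (evalTensor R ψ e) := he.map _
    have heq := evalTensor_eq b ψ e
    rcases hR _ hid with h0 | h1
    · rw [h0] at heq
      have hz : Finsupp.mapRange ψ (map_zero ψ) c = 0 := by
        have := b.linearIndependent
        rw [linearIndependent_iff] at this
        exact this _ heq.symm
      have hz' : ∀ i, ψ (c i) = 0 := fun i => by
        have := DFunLike.congr_fun hz i
        simpa using this
      exact ⟨fun i _ => hz' i, by rw [map_sub, map_mul, hz' i₀]; simp⟩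
    · rw [h1] at heq
      have hz : Finsupp.mapRange ψ (map_zero ψ) c = Finsupp.single i₀ 1 := by
        apply b.repr.symm.injective
        rw [Module.Basis.repr_symm_apply, Module.Basis.repr_symm_apply, ← heq,
          Finsupp.linearCombination_single, one_smul, hb0]
      have hz' : ∀ i, ψ (c i) = (Finsupp.single i₀ (1 : k)) i := fun i => by
        have := DFunLike.congr_fun hz i
        simpa using this
      refine ⟨fun i hi => ?_, ?_⟩
      · rw [hz' i, Finsupp.single_apply, if_neg (Ne.symm hi)]
      · rw [map_sub, map_mul, hz' i₀, Finsupp.single_apply, if_pos rfl]; simp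
  have hnil : ∀ i, i ≠ i₀ → IsNilpotent (c i) := fun i hi =>
    isNilpotent_of_forall_algHom_eq_zero (k := k) _ (fun ψ => (hψ ψ).1 i hi)
  have hnil0 : IsNilpotent (c i₀ * c i₀ - c i₀) :=
    isNilpotent_of_forall_algHom_eq_zero (k := k) _ (fun ψ => (hψ ψ).2)
  -- lift the idempotent
  have hidq : IsIdempotentElem (Ideal.Quotient.mk (nilradical S) (c i₀)) := by
    rw [IsIdempotentElem, ← map_mul, ← sub_eq_zero, ← map_sub, Ideal.Quotient.eq_zero_iff_mem,
      mem_nilradical]
    exact hnil0
  obtain ⟨f₀, hf₀, hf₀c⟩ := exists_isIdempotentElem_eq_of_ker_isNilpotent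
    (Ideal.Quotient.mk (nilradical S))
    (fun x hx => by
      rw [RingHom.mem_ker, Ideal.Quotient.eq_zero_iff_mem, mem_nilradical] at hx; exact hx)
    _ ⟨c i₀, rfl⟩ hidq
  have hdiff : IsNilpotent (c i₀ - f₀) := by
    rw [← mem_nilradical, ← Ideal.Quotient.eq_zero_iff_mem, map_sub, hf₀c, sub_self]
  -- e - f₀ • 1 is nilpotent
  have hnilp : IsNilpotent (e - f₀ • (1 : S ⊗[k] R)) := by
    apply isNilpotent_of_repr_isNilpotent b
    intro i
    rw [map_sub, map_smul, ← hbS0, Module.Basis.repr_self, Finsupp.sub_apply, Finsupp.smul_apply,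
      Finsupp.single_apply]
    by_cases hi : i = i₀
    · subst hi
      simpa using hdiff
    · rw [if_neg (Ne.symm hi)]
      simpa using hnil i hi
  rcases hS f₀ hf₀ with rfl | rfl
  · left
    rw [zero_smul, sub_zero] at hnilp
    exact eq_zero_of_isIdempotentElem_of_isNilpotent he hnilp
  · right
    rw [one_smul] at hnilp
    have h1 : IsNilpotent (1 - e) := by
      have := hnilp.neg
      rwa [neg_sub] at this
    have := eq_zero_of_isIdempotentElem_of_isNilpotent he.one_sub h1
    exact (sub_eq_zero.mp this).symm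


/-- Over an algebraically closed field, the tensor product of two rings with only trivial
idempotents has only trivial idempotents. -/
theorem idem_trivial_tensor_of_isAlgClosed {k : Type u} {R : Type v} {S : Type w} [Field k]
    [IsAlgClosed k] [CommRing S] [CommRing R] [Algebra k S] [Algebra k R] [Nontrivial R]
    (hR : ∀ e : R, IsIdempotentElem e → e = 0 ∨ e = 1)
    (hS : ∀ e : S, IsIdempotentElem e → e = 0 ∨ e = 1)
    (e : R ⊗[k] S) (he : IsIdempotentElem e) : e = 0 ∨ e = 1 := by
  obtain ⟨C, hC, z, rfl⟩ := exists_fg_and_mem_baseChange e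
  have hinj : Function.Injective (Algebra.TensorProduct.map (AlgHom.id R R) C.val) :=
    Module.Flat.lTensor_preserves_injective_linearMap _ Subtype.val_injective
  have hz : IsIdempotentElem z := by
    apply hinj
    rw [map_mul]
    exact he
  haveI : Algebra.FiniteType k C := (Subalgebra.fg_iff_finiteType _).mp hC
  have hCid : ∀ e : C, IsIdempotentElem e → e = 0 ∨ e = 1 := by
    intro e he
    have : IsIdempotentElem (e : S) := by
      have := congrArg Subtype.val he.eq
      simpa [IsIdempotentElem] using this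
    rcases hS _ this with h | h
    · left; exact Subtype.ext h
    · right; exact Subtype.ext h
  have := idem_trivial_tensor_of_isAlgClosed_fg (k := k) (S := C) (R := R) hCid hR
    (Algebra.TensorProduct.comm k R C z) (hz.map _)
  rcases this with h | h
  · left
    rw [EmbeddingLike.map_eq_zero_iff] at h
    rw [h, map_zero]
  · right
    rw [EmbeddingLike.map_eq_one_iff] at h
    rw [h, map_one]


/-- Naturality of coordinates in `B ⊗ L` with respect to algebra maps `B → C`. -/
theorem basis_repr_map {F : Type u} {B : Type v} {C : Type w'} {L : Type w} [Field F] [CommRing B]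
    [CommRing C] [CommRing L] [Algebra F B] [Algebra F C] [Algebra F L] {ι : Type*}
    (β : Module.Basis ι F L) (ψ : B →ₐ[F] C) (z : B ⊗[F] L) :
    (Algebra.TensorProduct.basis C β).repr (Algebra.TensorProduct.map ψ (AlgHom.id F L) z) =
      Finsupp.mapRange ψ (map_zero ψ) ((Algebra.TensorProduct.basis B β).repr z) := by
  induction z using TensorProduct.induction_on with
  | zero => simp
  | tmul b l =>
    rw [Algebra.TensorProduct.map_tmul, Algebra.TensorProduct.basis_repr_tmul,
      Algebra.TensorProduct.basis_repr_tmul]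
    ext i
    simp
  | add x y hx hy =>
    rw [map_add, map_add, hx, hy, map_add, Finsupp.mapRange_add (by intros; simp)]

/-- **Lemma R**: reducedness of `B ⊗ L` can be tested on a jointly injective family of maps out
of `B`. -/
theorem isReduced_tensor_of_family {F : Type u} {B : Type v} {L : Type w} [Field F] [CommRing B]
    [CommRing L] [Algebra F B] [Algebra F L]
    (h : ∀ b : B, b ≠ 0 → ∃ (C : Type w') (_ : CommRing C) (_ : Algebra F C) (ψ : B →ₐ[F] C),
      ψ b ≠ 0 ∧ IsReduced (C ⊗[F] L)) : IsReduced (B ⊗[F] L) := by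
  refine ⟨fun z hz => ?_⟩
  by_contra hne
  let β := Module.Basis.ofVectorSpace F L
  have hz' : (Algebra.TensorProduct.basis B β).repr z ≠ 0 := fun h0 => hne (by simpa using h0)
  obtain ⟨i, hi⟩ := Finsupp.ne_iff.mp hz'
  simp only [Finsupp.coe_zero, Pi.zero_apply] at hi
  obtain ⟨C, _, _, ψ, hψ, hred⟩ := h _ hi
  have h1 : IsNilpotent (Algebra.TensorProduct.map ψ (AlgHom.id F L) z) := hz.map _
  have h2 := hred.eq_zero _ h1
  have h3 := basis_repr_map β ψ z
  rw [h2, map_zero] at h3
  have h4 := DFunLike.congr_fun h3 i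
  simp only [Finsupp.coe_zero, Pi.zero_apply, Finsupp.mapRange_apply] at h4
  exact hψ h4.symm

/-- A finite separable extension tensored with a reduced algebra is reduced. -/
theorem isReduced_tensor_of_isSeparable {F : Type u} {B : Type v} {L : Type w} [Field F] [CommRing B]
    [IsReduced B] [Field L] [Algebra F B] [Algebra F L] [FiniteDimensional F L]
    [Algebra.IsSeparable F L] : IsReduced (B ⊗[F] L) := by
  refine isReduced_tensor_of_family.{u, v, w, v} (fun b hb => ?_)
  have hbn : b ∉ nilradical B := by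
    rw [mem_nilradical]
    exact fun hn => hb (IsReduced.eq_zero b hn)
  rw [nilradical_eq_sInf, Ideal.mem_sInf] at hbn
  push Not at hbn
  obtain ⟨p, hp, hbp⟩ := hbn
  haveI : p.IsPrime := hp
  refine ⟨p.ResidueField, inferInstance, inferInstance, IsScalarTower.toAlgHom F B p.ResidueField, ?_, ?_⟩
  · rw [IsScalarTower.coe_toAlgHom', ne_eq, Ideal.algebraMap_residueField_eq_zero]
    exact hbp
  · haveI : Algebra.FormallyUnramified F L := Algebra.FormallyUnramified.of_isSeparable F L
    exact Algebra.FormallyUnramified.isReduced_of_field p.ResidueField (p.ResidueField ⊗[F] L)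

/-- Over an algebraically closed field, the tensor product of reduced algebras is reduced. -/
theorem isReduced_tensor_of_isAlgClosed {k : Type u} {B : Type v} {L : Type w} [Field k]
    [IsAlgClosed k] [CommRing B] [IsReduced B] [CommRing L] [IsReduced L] [Algebra k B]
    [Algebra k L] : IsReduced (B ⊗[k] L) := by
  haveI : IsReduced (L ⊗[k] B) := by
    refine IsReduced.tensorProduct_of_flat_of_forall_fg (fun B' hB' => ?_)
    haveI : Algebra.FiniteType k B' := (Subalgebra.fg_iff_finiteType _).mp hB'
    haveI : IsReduced B' := isReduced_of_injective B'.val Subtype.val_injective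
    haveI : IsReduced (B' ⊗[k] L) := by
      refine isReduced_tensor_of_family.{u, v, w, u} (fun b hb => ?_)
      obtain ⟨φ, hφ⟩ := exists_algHom_ne_zero (k := k) b hb
      exact ⟨k, inferInstance, inferInstance, φ, hφ,
        isReduced_of_injective (Algebra.TensorProduct.lid k L) (AlgEquiv.injective _)⟩
    exact isReduced_of_injective (Algebra.TensorProduct.comm k L B') (AlgEquiv.injective _)
  exact isReduced_of_injective (Algebra.TensorProduct.comm k B L) (AlgEquiv.injective _)


/-- If `P/k` is a perfect intermediate field of the algebraic extension `E/P` and `P ⊗ S` is reduced,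
then `E ⊗ S` is reduced. -/
theorem isReduced_tensor_of_perfect_tower {k P E S : Type*} [Field k] [Field P] [Field E]
    [CommRing S] [Algebra k P] [Algebra P E] [Algebra k E] [IsScalarTower k P E] [Algebra k S]
    [PerfectField P] [Algebra.IsAlgebraic P E] (h : IsReduced (P ⊗[k] S)) :
    IsReduced (E ⊗[k] S) := by
  haveI : Algebra.IsSeparable P E := Algebra.IsAlgebraic.isSeparable_of_perfectField
  haveI : IsReduced (E ⊗[P] (P ⊗[k] S)) := by
    refine isReduced_tensor_of_forall_finite (fun L hL => ?_)
    haveI : Algebra.IsSeparable P L := Algebra.isSeparable_tower_bot_of_isSeparable P L E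
    haveI : IsReduced ((P ⊗[k] S) ⊗[P] L) := isReduced_tensor_of_isSeparable
    exact isReduced_of_injective (Algebra.TensorProduct.comm P L (P ⊗[k] S)) (AlgEquiv.injective _)
  let e := Algebra.TensorProduct.cancelBaseChange k P P E S
  exact isReduced_of_injective e.symm (AlgEquiv.injective _)


section SepTower

variable {k k' K A : Type*} [Field k] [Field k'] [CommRing K] [CommRing A] [Algebra k k']
  [Algebra k' K] [Algebra k K] [IsScalarTower k k' K] [Algebra k' A] [Algebra k A]
  [IsScalarTower k k' A] [Algebra.IsSeparable k k']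

/-- For `a ∈ k'` (separable algebraic over `k`), there is `f ∈ K ⊗[k] A` mapping to `1` in
`K ⊗[k'] A` and killing `a ⊗ 1 - 1 ⊗ a`. -/
theorem exists_mul_eq_zero_of_isSeparable (a : k') :
    ∃ f : K ⊗[k] A, Algebra.TensorProduct.mapOfCompatibleSMul k' k k K A f = 1 ∧
      (algebraMap k' K a ⊗ₜ[k] (1 : A) - (1 : K) ⊗ₜ[k] algebraMap k' A a) * f = 0 := by
  let k₁ : IntermediateField k k' := IntermediateField.adjoin k {a}
  haveI : FiniteDimensional k k₁ :=
    IntermediateField.adjoin.finiteDimensional (Algebra.IsIntegral.isIntegral a)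
  haveI : Algebra.IsSeparable k k₁ := Algebra.isSeparable_tower_bot_of_isSeparable k k₁ k'
  haveI : Algebra.FormallyUnramified k k₁ := Algebra.FormallyUnramified.of_isSeparable k k₁
  let a₁ : k₁ := ⟨a, IntermediateField.mem_adjoin_simple_self k a⟩
  let g₁ : k₁ →ₐ[k] K := (IsScalarTower.toAlgHom k k' K).comp k₁.val
  let g₂ : k₁ →ₐ[k] A := (IsScalarTower.toAlgHom k k' A).comp k₁.val
  let θ : k₁ ⊗[k] k₁ →ₐ[k] K ⊗[k] A := Algebra.TensorProduct.map g₁ g₂
  let ε := Algebra.FormallyUnramified.elem k k₁
  let π := Algebra.TensorProduct.mapOfCompatibleSMul k' k k K A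
  refine ⟨θ ε, ?_, ?_⟩
  · let ι : k₁ →ₐ[k] K ⊗[k'] A :=
      (Algebra.TensorProduct.includeLeft : K →ₐ[k] K ⊗[k'] A).comp g₁
    have hcomp : π.comp θ = ι.comp (Algebra.TensorProduct.lmul' k) := by
      apply Algebra.TensorProduct.ext'
      intro x y
      simp only [AlgHom.comp_apply, Algebra.TensorProduct.lmul'_apply_tmul]
      show π (g₁ x ⊗ₜ[k] g₂ y) = (g₁ (x * y)) ⊗ₜ[k'] (1 : A)
      rw [Algebra.TensorProduct.mapOfCompatibleSMul_tmul, map_mul]
      have h2 : g₂ y = (y : k') • (1 : A) := by
        simp [g₂, Algebra.smul_def]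
      have h1 : g₁ x * g₁ y = (y : k') • g₁ x := by
        simp [g₁, Algebra.smul_def, mul_comm]
      rw [h2, h1, TensorProduct.smul_tmul]
    have := congrArg (fun F => F ε) hcomp
    simp only [AlgHom.comp_apply] at this
    rw [this, Algebra.FormallyUnramified.lmul_elem, map_one]
  · have h1 : (algebraMap k' K a ⊗ₜ[k] (1 : A) - (1 : K) ⊗ₜ[k] algebraMap k' A a) =
        - θ ((1 : k₁) ⊗ₜ[k] a₁ - a₁ ⊗ₜ[k] (1 : k₁)) := by
      simp [θ, g₁, g₂, a₁]
    rw [h1, neg_mul, ← map_mul, Algebra.FormallyUnramified.one_tmul_sub_tmul_one_mul_elem, map_zero,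
      neg_zero]

theorem exists_mul_eq_zero_of_mem_ker (z : K ⊗[k] A)
    (hz : Algebra.TensorProduct.mapOfCompatibleSMul k' k k K A z = 0) :
    ∃ f : K ⊗[k] A, Algebra.TensorProduct.mapOfCompatibleSMul k' k k K A f = 1 ∧ z * f = 0 := by
  have hz' : z ∈ LinearMap.ker (TensorProduct.mapOfCompatibleSMul k' k k' K A) := hz
  rw [TensorProduct.AlgebraTensorModule.ker_mapOfCompatibleSMul] at hz'
  clear hz
  induction hz' using Submodule.span_induction with
  | mem x hx =>
    obtain ⟨a, m, n, rfl⟩ := hx
    obtain ⟨f, hf1, hf2⟩ := exists_mul_eq_zero_of_isSeparable (k := k) (K := K) (A := A) a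
    refine ⟨f, hf1, ?_⟩
    have : (a • m) ⊗ₜ[k] n - m ⊗ₜ[k] (a • n) =
        (m ⊗ₜ[k] n) * (algebraMap k' K a ⊗ₜ[k] (1 : A) - (1 : K) ⊗ₜ[k] algebraMap k' A a) := by
      rw [mul_sub, Algebra.TensorProduct.tmul_mul_tmul, Algebra.TensorProduct.tmul_mul_tmul,
        mul_one, mul_one, Algebra.smul_def, Algebra.smul_def, mul_comm m, mul_comm n]
    rw [this, mul_assoc, hf2, mul_zero]
  | zero => exact ⟨1, map_one _, zero_mul _⟩
  | add x y _ _ hx hy =>
    obtain ⟨f1, h1, h1'⟩ := hx
    obtain ⟨f2, h2, h2'⟩ := hy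
    refine ⟨f1 * f2, by rw [map_mul, h1, h2, one_mul], ?_⟩
    rw [add_mul, ← mul_assoc, h1', zero_mul, mul_comm f1 f2, ← mul_assoc, h2', zero_mul, add_zero]
  | smul c x _ hx =>
    obtain ⟨f, h1, h1'⟩ := hx
    exact ⟨f, h1, by rw [smul_mul_assoc, h1', smul_zero]⟩

/-- Descent of reducedness along a separable algebraic extension of the base field. -/
theorem isReduced_tensor_of_isSeparable_tower (h : IsReduced (K ⊗[k] A)) : IsReduced (K ⊗[k'] A) := by
  refine ⟨fun w hw => ?_⟩
  obtain ⟨z, rfl⟩ := Algebra.TensorProduct.mapOfCompatibleSMul_surjective k' k k K A w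
  obtain ⟨n, hn⟩ := hw
  rw [← map_pow] at hn
  obtain ⟨f, hf1, hf2⟩ := exists_mul_eq_zero_of_mem_ker (k := k) (k' := k') _ hn
  have hzf : IsNilpotent (z * f) := by
    refine ⟨n + 1, ?_⟩
    calc (z * f) ^ (n + 1) = (z ^ n * f) * (z * f ^ n) := by ring
      _ = 0 := by rw [hf2, zero_mul]
  have := h.eq_zero _ hzf
  have h2 := congrArg (Algebra.TensorProduct.mapOfCompatibleSMul k' k k K A) this
  rwa [map_mul, hf1, mul_one, map_zero] at h2

end SepTower

end Groth.Agent.H19
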