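import Mathlib
import Groth.Prelude.Def_CAlg
import Groth.Agent.H19.MinCx2

set_option autoImplicit false
universe u

namespace Groth.Agent.H19.Acyc

open CategoryTheory Limits IsLocalRing Groth.Agent.H29 Groth.Agent.H19.MinCx

section core

variable {R : Type u} [CommRing R] [IsNoetherianRing R] [IsLocalRing R]
  (X : ℕ → Type u) [∀ i, AddCommGroup (X i)] [∀ i, Module R (X i)] [∀ i, Module.Finite R (X i)]
  (δ : (i : ℕ) → X (i + 1) →ₗ[R] X i)

/-- depth of the boundaries: `depth B_j ≥ j + 1` above the last non-exact spot. -/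
theorem depth_range_ge (e : ℕ) (hzero : ∀ j, e < j → Subsingleton (X j))
    (hdepth : ∀ j, j ≤ e → (j : ℕ∞) ≤ LocCoh.idealDepth (maximalIdeal R) (X j))
    (a : ℕ) (hex : ∀ j, a ≤ j → LinearMap.ker (δ j) = LinearMap.range (δ (j + 1))) :
    ∀ n j, a ≤ j → e ≤ j + n →
      ((j + 1 : ℕ) : ℕ∞) ≤ LocCoh.idealDepth (maximalIdeal R) (LinearMap.range (δ j)) := by
  intro n
  induction n with
  | zero =>
    intro j _ hj
    haveI := hzero (j + 1) (by omega)
    haveI : Subsingleton ↥(LinearMap.range (δ j)) := by
      refine ⟨fun x y => ?_⟩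
      obtain ⟨x', hx'⟩ := x.2
      obtain ⟨y', hy'⟩ := y.2
      apply Subtype.ext
      rw [← hx', ← hy', Subsingleton.elim x' y']
    rw [idealDepth_eq_top_of_smul_top_eq_top _ _ (Subsingleton.elim _ _)]
    exact le_top
  | succ n ih =>
    intro j haj hj
    by_cases hjn : e ≤ j + n
    · exact ih j haj hjn
    · have hje : j + 1 ≤ e := by omega
      haveI : IsNoetherian R (X (j + 1)) := isNoetherian_of_isNoetherianRing_of_finite R _
      haveI : IsNoetherian R (X j) := isNoetherian_of_isNoetherianRing_of_finite R _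
      haveI : Module.Finite R ↥(LinearMap.range (δ (j + 1))) := Module.IsNoetherian.finite R _
      haveI : Module.Finite R ↥(LinearMap.range (δ j)) := Module.IsNoetherian.finite R _
      have hexact : Function.Exact (LinearMap.range (δ (j + 1))).subtype (δ j).rangeRestrict := by
        intro x
        rw [← LinearMap.mem_ker, LinearMap.ker_rangeRestrict, hex j haj]
        simp
      have h3 := idealDepth_X₃_ge (maximalIdeal R) (LinearMap.range (δ (j + 1))).subtype
        (δ j).rangeRestrict (Submodule.injective_subtype _)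
        (LinearMap.surjective_rangeRestrict _) hexact
      refine le_trans ?_ h3
      rw [le_min_iff]
      constructor
      · exact hdepth (j + 1) hje
      · have h1 := ih (j + 1) (by omega) (by omega)
        apply ENat.le_sub_of_add_le_right ENat.one_ne_top
        exact_mod_cast h1

theorem depth_homology_ge (e : ℕ) (hzero : ∀ j, e < j → Subsingleton (X j))
    (hdepth : ∀ j, j ≤ e → (j : ℕ∞) ≤ LocCoh.idealDepth (maximalIdeal R) (X j))
    (a : ℕ) (hex : ∀ j, a + 1 ≤ j → LinearMap.ker (δ j) = LinearMap.range (δ (j + 1)))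
    (hcomp : ∀ v, δ (a + 1) v ∈ LinearMap.ker (δ a)) :
    1 ≤ LocCoh.idealDepth (maximalIdeal R) (↥(LinearMap.ker (δ a)) ⧸
      LinearMap.range ((δ (a + 1)).codRestrict (LinearMap.ker (δ a)) hcomp)) := by
  set 𝔪 := maximalIdeal R with h𝔪
  set Z := LinearMap.ker (δ a) with hZ
  set tc := (δ (a + 1)).codRestrict Z hcomp with htc
  set K := LinearMap.range tc with hK
  haveI : IsNoetherian R (X (a + 1)) := isNoetherian_of_isNoetherianRing_of_finite R _
  haveI : IsNoetherian R (X a) := isNoetherian_of_isNoetherianRing_of_finite R _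
  haveI : Module.Finite R ↥Z := Module.IsNoetherian.finite R _
  haveI : IsNoetherian R ↥Z := isNoetherian_of_isNoetherianRing_of_finite R _
  haveI : Module.Finite R ↥K := Module.IsNoetherian.finite R _
  haveI : Module.Finite R ↥(LinearMap.range (δ a)) := Module.IsNoetherian.finite R _
  haveI : Module.Finite R ↥(LinearMap.range (δ (a + 1))) := Module.IsNoetherian.finite R _
  by_cases hae : e < a + 1
  · -- everything vanishes
    haveI := hzero (a + 1) hae
    haveI : Subsingleton (↥Z ⧸ K) := by
      haveI : Subsingleton ↥Z := inferInstance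
      infer_instance
    rw [idealDepth_eq_top_of_smul_top_eq_top _ _ (Subsingleton.elim _ _)]
    exact le_top
  · have hae' : a + 1 ≤ e := by omega
    -- depth Z ≥ 1
    have hZ1 : (1 : ℕ∞) ≤ LocCoh.idealDepth 𝔪 ↥Z := by
      have hexact : Function.Exact Z.subtype (δ a).rangeRestrict := by
        intro x
        rw [← LinearMap.mem_ker, LinearMap.ker_rangeRestrict]
        simp [hZ]
      have h := idealDepth_X₁_ge 𝔪 Z.subtype (δ a).rangeRestrict (Submodule.injective_subtype _)
        (LinearMap.surjective_rangeRestrict _) hexact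
      refine le_trans ?_ h
      rw [le_min_iff]
      constructor
      · refine le_trans ?_ (hdepth (a + 1) hae')
        exact_mod_cast (by omega : 1 ≤ a + 1)
      · exact le_add_self
    -- depth K ≥ 2 : K ≃ range (δ (a + 1))
    have hK2 : (2 : ℕ∞) ≤ LocCoh.idealDepth 𝔪 ↥K := by
      have h1 := depth_range_ge X δ e hzero hdepth (a + 1) hex e (a + 1) le_rfl (by omega)
      have e1 : ↥K ≃ₗ[R] ↥(LinearMap.range (δ (a + 1))) := by
        refine LinearEquiv.ofBijective
          ((Z.subtype.domRestrict K).codRestrict (LinearMap.range (δ (a + 1))) ?_) ⟨?_, ?_⟩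
        · rintro ⟨x, ⟨v, rfl⟩⟩
          exact ⟨v, rfl⟩
        · intro x y hxy
          have := congrArg Subtype.val hxy
          exact Subtype.ext (Subtype.ext this)
        · rintro ⟨y, ⟨v, rfl⟩⟩
          exact ⟨⟨tc v, ⟨v, rfl⟩⟩, rfl⟩
      rw [idealDepth_congr 𝔪 e1]
      refine le_trans ?_ h1
      exact_mod_cast (by omega : 2 ≤ a + 1 + 1)
    have hexact : Function.Exact K.subtype K.mkQ := by
      intro x
      rw [← LinearMap.mem_ker, Submodule.ker_mkQ]
      simp
    have h3 := idealDepth_X₃_ge 𝔪 K.subtype K.mkQ (Submodule.injective_subtype _)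
      (Submodule.mkQ_surjective _) hexact
    refine le_trans ?_ h3
    rw [le_min_iff]
    refine ⟨hZ1, ?_⟩
    apply ENat.le_sub_of_add_le_right ENat.one_ne_top
    have : (1 : ℕ∞) + 1 = 2 := by norm_num
    rw [this]
    exact hK2

end core

end Groth.Agent.H19.Acyc
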