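import Mathlib
import Groth.Prelude.Def_CAlg
import Groth.Agent.H19.Acyc

set_option autoImplicit false
universe u

namespace Groth.Agent.H19.Acyc

open CategoryTheory Limits IsLocalRing Groth.Agent.H29 Groth.Agent.H19.MinCx

theorem acyclicity {R : Type u} [CommRing R] [IsLocalRing R] [IsNoetherianRing R]
    (C : ChainComplex (ModuleCat.{u} R) ℕ) (e : ℕ) (hzero : ∀ j, e < j → Limits.IsZero (C.X j))
    (hfin : ∀ j, Module.Finite R (C.X j)) (hdepth : ∀ j, j ≤ e → (j : ℕ∞) ≤ LocCoh.depth R (C.X j))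
    (i : ℕ) (hi : 0 < i) (habove : ∀ j, i < j → C.ExactAt j) :
    1 ≤ LocCoh.depth R (C.homology i) := by
  obtain ⟨a, rfl⟩ : ∃ a, i = a + 1 := ⟨i - 1, by omega⟩
  haveI : ∀ j, Module.Finite R (C.X j) := hfin
  have hsub : ∀ j, e < j → Subsingleton (C.X j) := fun j hj =>
    ModuleCat.subsingleton_of_isZero (hzero j hj)
  have hex : ∀ j, a + 1 ≤ j → LinearMap.ker (dl C j) = LinearMap.range (dl C (j + 1)) := by
    intro j hj
    rw [← isZero_homology_succ_iff, ← HomologicalComplex.exactAt_iff_isZero_homology]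
    exact habove (j + 1) (by omega)
  have h := depth_homology_ge (R := R) (fun j => C.X j) (dl C) e hsub hdepth a hex (dl_comp C a)
  unfold LocCoh.depth
  rw [idealDepth_congr (maximalIdeal R) (homologyEquiv C a)]
  exact h

end Groth.Agent.H19.Acyc
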