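import Mathlib

set_option autoImplicit false
universe u

namespace Groth.Agent.H19.Kos

open CategoryTheory CategoryTheory.Limits CochainComplex HomologicalComplex

section Abelian

variable {C : Type*} [Category C] [Abelian C]

theorem exact_transport {X₁ X₂ X₃ Y₁ Y₂ Y₃ : C} (a : X₁ ≅ Y₁) (b : X₂ ≅ Y₂) (c : X₃ ≅ Y₃)
    (f : X₁ ⟶ X₂) (g : X₂ ⟶ X₃) (w : f ≫ g = 0) (hE : (ShortComplex.mk f g w).Exact)
    (f' : Y₁ ⟶ Y₂) (g' : Y₂ ⟶ Y₃) (hf : f ≫ b.hom = a.hom ≫ f') (hg : g ≫ c.hom = b.hom ≫ g') :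
    ∃ w' : f' ≫ g' = 0, (ShortComplex.mk f' g' w').Exact := by
  have w' : f' ≫ g' = 0 := by
    have h1 : a.hom ≫ f' ≫ g' = 0 := by
      rw [← Category.assoc, ← hf, Category.assoc, ← hg, ← Category.assoc, w, zero_comp]
    have h2 := congrArg (fun t => a.inv ≫ t) h1
    simpa using h2
  refine ⟨w', ShortComplex.exact_of_iso (ShortComplex.isoMk a b c ?_ ?_) hE⟩
  · exact hf.symm
  · exact hg.symm

/-- Five-term exact sequence for the homology of a mapping cone. -/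
theorem cone_les {K L : CochainComplex C ℤ} (φ : K ⟶ L) (n₀ n₁ : ℤ) (h : n₀ + 1 = n₁) :
    ∃ (δ : (mappingCone φ).homology n₀ ⟶ K.homology n₁)
      (w₁ : homologyMap φ n₀ ≫ homologyMap (mappingCone.inr φ) n₀ = 0)
      (w₂ : homologyMap (mappingCone.inr φ) n₀ ≫ δ = 0)
      (w₃ : δ ≫ homologyMap φ n₁ = 0),
      (ShortComplex.mk _ _ w₁).Exact ∧ (ShortComplex.mk _ _ w₂).Exact ∧
        (ShortComplex.mk _ _ w₃).Exact := by
  let F := HomotopyCategory.homologyFunctor C (ComplexShape.up ℤ) 0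
  let T := mappingCone.triangleh φ
  have hT : T ∈ distTriang _ := HomotopyCategory.mappingCone_triangleh_distinguished φ
  let e : ∀ (n : ℤ) (X : CochainComplex C ℤ),
      (HomotopyCategory.homologyFunctor C (ComplexShape.up ℤ) n).obj
        ((HomotopyCategory.quotient C (ComplexShape.up ℤ)).obj X) ≅ X.homology n :=
    fun n X => (HomotopyCategory.homologyFunctorFactors C (ComplexShape.up ℤ) n).app X
  have enat : ∀ (n : ℤ) {X Y : CochainComplex C ℤ} (f : X ⟶ Y),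
      (HomotopyCategory.homologyFunctor C (ComplexShape.up ℤ) n).map
        ((HomotopyCategory.quotient C (ComplexShape.up ℤ)).map f) ≫ (e n Y).hom =
        (e n X).hom ≫ homologyMap f n := fun n X Y f =>
    (HomotopyCategory.homologyFunctorFactors C (ComplexShape.up ℤ) n).hom.naturality f
  let δ' : (HomotopyCategory.homologyFunctor C (ComplexShape.up ℤ) n₀).obj
        ((HomotopyCategory.quotient C (ComplexShape.up ℤ)).obj (mappingCone φ)) ⟶
      (HomotopyCategory.homologyFunctor C (ComplexShape.up ℤ) n₁).obj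
        ((HomotopyCategory.quotient C (ComplexShape.up ℤ)).obj K) :=
    F.homologySequenceδ T n₀ n₁ h
  have E₂ := F.homologySequence_exact₂ T hT n₀
  have E₃ := F.homologySequence_exact₃ T hT n₀ n₁ h
  have E₁ := F.homologySequence_exact₁ T hT n₀ n₁ h
  let δ : (mappingCone φ).homology n₀ ⟶ K.homology n₁ :=
    (e n₀ (mappingCone φ)).inv ≫ δ' ≫ (e n₁ K).hom
  have hδ : δ' ≫ (e n₁ K).hom = (e n₀ (mappingCone φ)).hom ≫ δ := by
    simp only [δ, Iso.hom_inv_id_assoc]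
  obtain ⟨w₁, X₁⟩ := exact_transport (e n₀ K) (e n₀ L) (e n₀ (mappingCone φ)) _ _ _ E₂
    (homologyMap φ n₀) (homologyMap (mappingCone.inr φ) n₀) (enat n₀ φ)
    (enat n₀ (mappingCone.inr φ))
  obtain ⟨w₂, X₂⟩ := exact_transport (e n₀ L) (e n₀ (mappingCone φ)) (e n₁ K) _ _ _ E₃
    (homologyMap (mappingCone.inr φ) n₀) δ (enat n₀ (mappingCone.inr φ)) hδ
  obtain ⟨w₃, X₃⟩ := exact_transport (e n₀ (mappingCone φ)) (e n₁ K) (e n₁ L) _ _ _ E₁
    δ (homologyMap φ n₁) hδ (enat n₁ φ)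
  exact ⟨δ, w₁, w₂, w₃, X₁, X₂, X₃⟩

end Abelian

end Groth.Agent.H19.Kos
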