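import Mathlib
import Groth.Prelude.Def_Koszul
import Groth.Prelude.Def_DRing2
import Groth.Agent.H19.KosCone

set_option autoImplicit false
universe u

namespace Groth.Agent.H19.Kos

open CategoryTheory CategoryTheory.Limits CochainComplex HomologicalComplex MonoidalCategory

variable {A : Type u} [CommRing A]

theorem homologyMap_smul' {K L : CochainComplex (ModuleCat.{u} A) ℤ} (r : A) (φ : K ⟶ L) (n : ℤ) :
    homologyMap (r • φ) n = r • homologyMap φ n := by
  have : (shortComplexFunctor (ModuleCat.{u} A) (ComplexShape.up ℤ) n).map (r • φ) =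
      r • (shortComplexFunctor (ModuleCat.{u} A) (ComplexShape.up ℤ) n).map φ := by
    ext <;> rfl
  unfold homologyMap
  rw [this, ShortComplex.homologyMap_smul]
  rfl

/-- module-level cone sequence -/
theorem cone_les_mod (K : CochainComplex (ModuleCat.{u} A) ℤ) (f : A) (n₀ n₁ : ℤ)
    (h : n₀ + 1 = n₁) :
    ∃ (α : K.homology n₀ →ₗ[A] (mappingCone (f • 𝟙 K)).homology n₀)
      (δ : (mappingCone (f • 𝟙 K)).homology n₀ →ₗ[A] K.homology n₁),
      Function.Exact (LinearMap.lsmul A (K.homology n₀) f) α ∧ Function.Exact α δ ∧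
        Function.Exact δ (LinearMap.lsmul A (K.homology n₁) f) := by
  obtain ⟨δ, w₁, w₂, w₃, E₁, E₂, E₃⟩ := cone_les (f • 𝟙 K) n₀ n₁ h
  rw [ShortComplex.ShortExact.moduleCat_exact_iff_function_exact] at E₁ E₂ E₃
  have hs : ∀ n, (homologyMap (f • 𝟙 K) n).hom = LinearMap.lsmul A (K.homology n) f := by
    intro n
    rw [homologyMap_smul', homologyMap_id]
    rfl
  refine ⟨(homologyMap (mappingCone.inr (f • 𝟙 K)) n₀).hom, δ.hom, ?_, E₂, ?_⟩
  · have := E₁
    dsimp only at this
    rw [← hs]
    exact this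
  · have := E₃
    dsimp only at this
    rw [← hs]
    exact this

end Groth.Agent.H19.Kos

namespace Groth.Agent.H19.Kos

open CategoryTheory CategoryTheory.Limits CochainComplex HomologicalComplex MonoidalCategory

variable {A : Type u} [CommRing A]

/-- the Koszul complex tensored with `M` -/
noncomputable abbrev KC (l : List A) (M : Type u) [AddCommGroup M] [Module A M] :
    CochainComplex (ModuleCat.{u} A) ℤ :=
  DRing.tensorCx (Koszul.koszul A l) (ModuleCat.of A M)

/-- Koszul homology -/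
noncomputable abbrev KH (l : List A) (M : Type u) [AddCommGroup M] [Module A M] (n : ℤ) :
    ModuleCat.{u} A :=
  (KC l M).homology n

noncomputable def coneIsoAux {K L : CochainComplex (ModuleCat.{u} A) ℤ} (φ : K ⟶ L)
    (H : ModuleCat.{u} A ⥤ ModuleCat.{u} A) [H.Additive]
    (ψ : (H.mapHomologicalComplex (ComplexShape.up ℤ)).obj K ⟶
      (H.mapHomologicalComplex (ComplexShape.up ℤ)).obj L)
    (hψ : (H.mapHomologicalComplex (ComplexShape.up ℤ)).map φ = ψ) :
    (H.mapHomologicalComplex (ComplexShape.up ℤ)).obj (mappingCone φ) ≅ mappingCone ψ := by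
  subst hψ
  exact mappingCone.mapHomologicalComplexIso φ H

noncomputable def KC_cons_iso (f : A) (l : List A) (M : Type u) [AddCommGroup M] [Module A M] :
    KC (f :: l) M ≅ mappingCone (f • 𝟙 (KC l M)) := by
  refine coneIsoAux (f • 𝟙 (Koszul.koszul A l)) (tensorRight (ModuleCat.of A M)) _ ?_
  rw [Functor.map_smul, CategoryTheory.Functor.map_id]
  rfl

theorem KH_cons_les (f : A) (l : List A) (M : Type u) [AddCommGroup M] [Module A M]
    (n₀ n₁ : ℤ) (h : n₀ + 1 = n₁) :
    ∃ (α : KH l M n₀ →ₗ[A] KH (f :: l) M n₀) (δ : KH (f :: l) M n₀ →ₗ[A] KH l M n₁),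
      Function.Exact (LinearMap.lsmul A (KH l M n₀) f) α ∧ Function.Exact α δ ∧
        Function.Exact δ (LinearMap.lsmul A (KH l M n₁) f) := by
  obtain ⟨α, δ, h₁, h₂, h₃⟩ := cone_les_mod (KC l M) f n₀ n₁ h
  let e : KH (f :: l) M n₀ ≃ₗ[A] (mappingCone (f • 𝟙 (KC l M))).homology n₀ :=
    (homologyMapIso (KC_cons_iso f l M) n₀).toLinearEquiv
  refine ⟨e.symm.toLinearMap ∘ₗ α, δ ∘ₗ e.toLinearMap, ?_, ?_, ?_⟩
  · intro y
    rw [← h₁ y]
    simp
  · intro y
    have := h₂ (e y)
    simp only [LinearMap.coe_comp, LinearEquiv.coe_coe, Function.comp_apply]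
    rw [this]
    constructor
    · rintro ⟨z, hz⟩
      exact ⟨z, by simp [hz]⟩
    · rintro ⟨z, hz⟩
      refine ⟨z, ?_⟩
      rw [← hz]; simp
  · intro y
    rw [h₃ y]
    constructor
    · rintro ⟨z, hz⟩
      exact ⟨e.symm z, by simpa using hz⟩
    · rintro ⟨z, hz⟩
      exact ⟨e z, by simpa using hz⟩

end Groth.Agent.H19.Kos

namespace Groth.Agent.H19.Kos

open CategoryTheory CategoryTheory.Limits CochainComplex HomologicalComplex MonoidalCategory

variable {A : Type u} [CommRing A]

noncomputable def KC_nil_iso (M : Type u) [AddCommGroup M] [Module A M] :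
    KC ([] : List A) M ≅
      (HomologicalComplex.single (ModuleCat.{u} A) (ComplexShape.up ℤ) 0).obj (ModuleCat.of A M) :=
  (HomologicalComplex.singleMapHomologicalComplex (tensorRight (ModuleCat.of A M))
    (ComplexShape.up ℤ) 0).app (ModuleCat.of A A) ≪≫
    (HomologicalComplex.single (ModuleCat.{u} A) (ComplexShape.up ℤ) 0).mapIso
      (λ_ (ModuleCat.of A M))

noncomputable def KH_nil_zero (M : Type u) [AddCommGroup M] [Module A M] :
    KH ([] : List A) M 0 ≃ₗ[A] M :=
  (homologyMapIso (KC_nil_iso M) 0 ≪≫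
    HomologicalComplex.singleObjHomologySelfIso (ComplexShape.up ℤ) 0 (ModuleCat.of A M)).toLinearEquiv

theorem KH_nil_subsingleton (M : Type u) [AddCommGroup M] [Module A M] (n : ℤ) (hn : n ≠ 0) :
    Subsingleton (KH ([] : List A) M n) := by
  have h1 : IsZero (((HomologicalComplex.single (ModuleCat.{u} A) (ComplexShape.up ℤ) 0).obj
      (ModuleCat.of A M)).homology n) :=
    HomologicalComplex.isZero_single_obj_homology _ _ _ n hn
  have h2 : IsZero (KH ([] : List A) M n) := IsZero.of_iso h1 (homologyMapIso (KC_nil_iso M) n)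
  exact ModuleCat.subsingleton_of_isZero h2

end Groth.Agent.H19.Kos
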