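import Mathlib
import Groth.Prelude.Def_Koszul
import Groth.Prelude.Def_DRing2
import Groth.Agent.H19.KosMod

set_option autoImplicit false
universe u

namespace Groth.Agent.H19.Kos

open CategoryTheory CategoryTheory.Limits CochainComplex HomologicalComplex MonoidalCategory

variable {A : Type u} [CommRing A]

theorem free_of_iso {X Y : ModuleCat.{u} A} (e : X ≅ Y) (h : Module.Free A X) : Module.Free A Y :=
  Module.Free.of_equiv e.toLinearEquiv

theorem free_cone {K L : CochainComplex (ModuleCat.{u} A) ℤ} (φ : K ⟶ L)
    (hK : ∀ n, Module.Free A (K.X n)) (hL : ∀ n, Module.Free A (L.X n)) (n : ℤ) :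
    Module.Free A ((mappingCone φ).X n) := by
  have e : (mappingCone φ).X n ≅ K.X (n + 1) ⊞ L.X n :=
    homotopyCofiber.XIsoBiprod φ n (n + 1) rfl
  have e2 : (K.X (n + 1) ⊞ L.X n) ≅ ModuleCat.of A (K.X (n + 1) × L.X n) :=
    ModuleCat.biprodIsoProd _ _
  haveI := hK (n + 1)
  haveI := hL n
  have : Module.Free A (ModuleCat.of A (K.X (n + 1) × L.X n)) := by
    show Module.Free A (K.X (n + 1) × L.X n)
    infer_instance
  exact free_of_iso (e ≪≫ e2).symm this

theorem free_koszul (l : List A) : ∀ n : ℤ, Module.Free A ((Koszul.koszul A l).X n) := by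
  induction l with
  | nil =>
    intro n
    by_cases hn : n = 0
    · subst hn
      have e : ((HomologicalComplex.single (ModuleCat.{u} A) (ComplexShape.up ℤ) 0).obj
          (ModuleCat.of A A)).X 0 ≅ ModuleCat.of A A :=
        HomologicalComplex.singleObjXSelf (ComplexShape.up ℤ) 0 (ModuleCat.of A A)
      have : Module.Free A (ModuleCat.of A A) := by
        show Module.Free A A
        infer_instance
      exact free_of_iso e.symm this
    · have h1 : IsZero (((HomologicalComplex.single (ModuleCat.{u} A) (ComplexShape.up ℤ) 0).obj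
          (ModuleCat.of A A)).X n) :=
        HomologicalComplex.isZero_single_obj_X (ComplexShape.up ℤ) 0 _ n hn
      haveI : Subsingleton ((Koszul.koszul A ([] : List A)).X n) :=
        ModuleCat.subsingleton_of_isZero h1
      infer_instance
  | cons f l ih =>
    intro n
    exact free_cone _ ih ih n

/-- the map of Koszul complexes induced by a linear map -/
noncomputable def KCmap (l : List A) {M N : Type u} [AddCommGroup M] [Module A M]
    [AddCommGroup N] [Module A N] (g : M →ₗ[A] N) : KC l M ⟶ KC l N :=
  (NatTrans.mapHomologicalComplex ((tensoringRight (ModuleCat.{u} A)).map (ModuleCat.ofHom g))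
    (ComplexShape.up ℤ)).app (Koszul.koszul A l)

theorem KCmap_f (l : List A) {M N : Type u} [AddCommGroup M] [Module A M]
    [AddCommGroup N] [Module A N] (g : M →ₗ[A] N) (n : ℤ) :
    ((KCmap l g).f n).hom = LinearMap.lTensor ((Koszul.koszul A l).X n) g := rfl

/-- induced map on Koszul homology -/
noncomputable def KHmap (l : List A) {M N : Type u} [AddCommGroup M] [Module A M]
    [AddCommGroup N] [Module A N] (g : M →ₗ[A] N) (n : ℤ) : KH l M n →ₗ[A] KH l N n :=
  (homologyMap (KCmap l g) n).hom

theorem KCmap_lsmul (l : List A) (M : Type u) [AddCommGroup M] [Module A M] (r : A) :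
    KCmap l (LinearMap.lsmul A M r) = r • 𝟙 (KC l M) := by
  ext n : 1
  apply ModuleCat.hom_ext
  show ((KCmap l (LinearMap.lsmul A M r)).f n).hom = _
  rw [KCmap_f]
  have h1 : LinearMap.lsmul A M r = r • LinearMap.id := by
    ext m; simp
  have key : LinearMap.lTensor ((Koszul.koszul A l).X n) (LinearMap.lsmul A M r) =
      r • LinearMap.id := by
    rw [h1, LinearMap.lTensor_smul, LinearMap.lTensor_id]
  rw [key]
  rfl

theorem KHmap_lsmul (l : List A) (M : Type u) [AddCommGroup M] [Module A M] (r : A) (n : ℤ) :
    KHmap l (LinearMap.lsmul A M r) n = LinearMap.lsmul A (KH l M n) r := by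
  unfold KHmap
  rw [KCmap_lsmul, homologyMap_smul', homologyMap_id]
  rfl

theorem KH_ses_les (l : List A) {M₁ M₂ M₃ : Type u} [AddCommGroup M₁] [Module A M₁]
    [AddCommGroup M₂] [Module A M₂] [AddCommGroup M₃] [Module A M₃]
    (f : M₁ →ₗ[A] M₂) (g : M₂ →ₗ[A] M₃) (hf : Function.Injective f) (hg : Function.Surjective g)
    (hfg : Function.Exact f g) :
    ∃ (c : ∀ n : ℤ, KH l M₃ n →ₗ[A] KH l M₁ (n + 1)),
      (∀ n, Function.Exact (KHmap l f n) (KHmap l g n)) ∧
        (∀ n, Function.Exact (KHmap l g n) (c n)) ∧
        (∀ n, Function.Exact (c n) (KHmap l f (n + 1))) := by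
  have w : KCmap l f ≫ KCmap l g = 0 := by
    ext n : 1
    apply ModuleCat.hom_ext
    show ((KCmap l g).f n).hom ∘ₗ ((KCmap l f).f n).hom = 0
    have : g ∘ₗ f = 0 := by
      ext x
      exact hfg.apply_apply_eq_zero x
    have key : LinearMap.lTensor ((Koszul.koszul A l).X n) g ∘ₗ
        LinearMap.lTensor ((Koszul.koszul A l).X n) f = 0 := by
      rw [← LinearMap.lTensor_comp, this, LinearMap.lTensor_zero]
    exact key
  let S : ShortComplex (CochainComplex (ModuleCat.{u} A) ℤ) := ShortComplex.mk _ _ w
  have hS : S.ShortExact := by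
    apply HomologicalComplex.shortExact_of_degreewise_shortExact
    intro n
    haveI : Module.Free A ((Koszul.koszul A l).X n) := free_koszul l n
    have hm : Mono ((KCmap l f).f n) := by
      rw [ModuleCat.mono_iff_injective]
      show Function.Injective ((KCmap l f).f n).hom
      rw [KCmap_f]
      exact Module.Flat.lTensor_preserves_injective_linearMap f hf
    have he : Epi ((KCmap l g).f n) := by
      rw [ModuleCat.epi_iff_surjective]
      show Function.Surjective ((KCmap l g).f n).hom
      rw [KCmap_f]
      exact LinearMap.lTensor_surjective _ hg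
    refine ShortComplex.ShortExact.mk' ?_ hm he
    rw [ShortComplex.ShortExact.moduleCat_exact_iff_function_exact]
    show Function.Exact ((KCmap l f).f n).hom ((KCmap l g).f n).hom
    rw [KCmap_f, KCmap_f]
    exact lTensor_exact _ hfg hg
  refine ⟨fun n => (hS.δ n (n + 1) rfl).hom, ?_, ?_, ?_⟩
  · intro n
    have := hS.homology_exact₂ n
    rw [ShortComplex.ShortExact.moduleCat_exact_iff_function_exact] at this
    exact this
  · intro n
    have := hS.homology_exact₃ n (n + 1) rfl
    rw [ShortComplex.ShortExact.moduleCat_exact_iff_function_exact] at this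
    exact this
  · intro n
    have := hS.homology_exact₁ n (n + 1) rfl
    rw [ShortComplex.ShortExact.moduleCat_exact_iff_function_exact] at this
    exact this

end Groth.Agent.H19.Kos
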