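import Mathlib
import Groth.Agent.H19.KosSES
import Groth.Agent.S16234

set_option autoImplicit false
universe u

namespace Groth.Agent.H19.Kos

open CategoryTheory

variable {A : Type u} [CommRing A]

section generic

variable {X Y Z : Type*} [AddCommGroup X] [Module A X] [AddCommGroup Y] [Module A Y]
  [AddCommGroup Z] [Module A Z]

theorem pow_smul_mid (α : X →ₗ[A] Y) (δ : Y →ₗ[A] Z) (h : Function.Exact α δ) (a : A) (k j : ℕ)
    (hX : ∀ x : X, a ^ k • x = 0) (hZ : ∀ z : Z, a ^ j • z = 0) (y : Y) :
    a ^ (k + j) • y = 0 := by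
  have h1 : δ (a ^ j • y) = 0 := by rw [map_smul, hZ]
  obtain ⟨x, hx⟩ := (h _).mp h1
  rw [pow_add, mul_smul, ← hx, ← map_smul, hX, map_zero]

theorem subsingleton_mid (α : X →ₗ[A] Y) (δ : Y →ₗ[A] Z) (h : Function.Exact α δ)
    [Subsingleton X] [Subsingleton Z] : Subsingleton Y := by
  refine ⟨fun y y' => ?_⟩
  have h1 : ∀ y : Y, y = 0 := by
    intro y
    obtain ⟨x, hx⟩ := (h y).mp (Subsingleton.elim _ _)
    rw [← hx, Subsingleton.elim x 0, map_zero]
  rw [h1 y, h1 y']

end generic

variable (l : List A) (N : Type u) [AddCommGroup N] [Module A N]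

theorem KH_subsingleton : ∀ (l : List A) (n : ℤ), (0 < n ∨ n < -(l.length : ℤ)) →
    Subsingleton (KH l N n) := by
  intro l
  induction l with
  | nil =>
    intro n hn
    apply KH_nil_subsingleton
    rcases hn with hn | hn
    · omega
    · simp at hn; omega
  | cons f l ih =>
    intro n hn
    obtain ⟨α, δ, -, h₂, -⟩ := KH_cons_les f l N n (n + 1) rfl
    haveI : Subsingleton (KH l N n) := ih n (by
      rcases hn with hn | hn
      · exact Or.inl hn
      · right; simp at hn ⊢; omega)
    haveI : Subsingleton (KH l N (n + 1)) := ih (n + 1) (by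
      rcases hn with hn | hn
      · left; omega
      · right; simp at hn ⊢; omega)
    exact subsingleton_mid α δ h₂

theorem KH_pow_smul_of_ann (a : A) (ha : ∀ m : N, a • m = 0) :
    ∀ (l : List A) (n : ℤ) (y : KH l N n), a ^ (2 ^ l.length) • y = 0 := by
  intro l
  induction l with
  | nil =>
    intro n y
    by_cases hn : n = 0
    · subst hn
      apply (KH_nil_zero (A := A) N).injective
      rw [map_smul, map_zero]
      simp only [List.length_nil, pow_zero, pow_one]
      exact ha _
    · haveI := KH_nil_subsingleton (A := A) N n hn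
      exact Subsingleton.elim _ _
  | cons f l ih =>
    intro n y
    obtain ⟨α, δ, -, h₂, -⟩ := KH_cons_les f l N n (n + 1) rfl
    have := pow_smul_mid α δ h₂ a (2 ^ l.length) (2 ^ l.length) (ih n) (ih (n + 1)) y
    rw [List.length_cons, pow_succ, mul_two]
    exact this

theorem KH_sq_smul_head (f : A) (l : List A) (n : ℤ) (y : KH (f :: l) N n) : f ^ 2 • y = 0 := by
  obtain ⟨α, δ, h₁, h₂, h₃⟩ := KH_cons_les f l N n (n + 1) rfl
  have h4 : δ (f • y) = 0 := by
    rw [map_smul]
    have h5 : (LinearMap.lsmul A (KH l N (n + 1)) f) (δ y) = 0 := (h₃ (δ y)).mpr ⟨y, rfl⟩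
    exact h5
  obtain ⟨z, hz⟩ := (h₂ _).mp h4
  rw [pow_two, mul_smul, ← hz, ← map_smul]
  exact (h₁ (f • z)).mpr ⟨z, rfl⟩

theorem KH_pow_smul_of_mem (g : A) :
    ∀ (l : List A), g ∈ l → ∀ (n : ℤ) (y : KH l N n), g ^ (2 ^ l.length) • y = 0 := by
  intro l
  induction l with
  | nil => intro h; simp at h
  | cons f l ih =>
    intro hg n y
    by_cases hgl : g ∈ l
    · obtain ⟨α, δ, -, h₂, -⟩ := KH_cons_les f l N n (n + 1) rfl
      have := pow_smul_mid α δ h₂ g (2 ^ l.length) (2 ^ l.length) (ih hgl n) (ih hgl (n + 1)) y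
      rw [List.length_cons, pow_succ, mul_two]
      exact this
    · have hgf : g = f := by
        rcases List.mem_cons.mp hg with h | h
        · exact h
        · exact absurd h hgl
      subst hgf
      have h2 : 2 ^ (g :: l).length = 2 + (2 ^ (g :: l).length - 2) := by
        have : 2 ≤ 2 ^ (g :: l).length := by
          rw [List.length_cons, pow_succ]
          have : 1 ≤ 2 ^ l.length := Nat.one_le_two_pow
          omega
        omega
      rw [h2, pow_add, mul_comm, mul_smul, KH_sq_smul_head, smul_zero]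

theorem KH_isNoetherian [IsNoetherianRing A] [Module.Finite A N] :
    ∀ (l : List A) (n : ℤ), IsNoetherian A (KH l N n) := by
  intro l
  induction l with
  | nil =>
    intro n
    by_cases hn : n = 0
    · subst hn
      exact isNoetherian_of_linearEquiv (KH_nil_zero (A := A) N).symm
    · haveI := KH_nil_subsingleton (A := A) N n hn
      infer_instance
  | cons f l ih =>
    intro n
    obtain ⟨α, δ, -, h₂, -⟩ := KH_cons_les f l N n (n + 1) rfl
    haveI := ih n
    haveI := ih (n + 1)
    exact isNoetherian_of_range_eq_ker α δ (LinearMap.exact_iff.mp h₂).symm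

/-- admissible modules for the list `l` -/
def Adm (l : List A) (N : Type u) [AddCommGroup N] [Module A N] : Prop :=
  Module.Finite A N ∧ ∀ p : Ideal A, p.IsPrime → Module.annihilator A N ≤ p →
    (∀ g ∈ l, g ∈ p) → p.IsMaximal

theorem isFiniteLength_of_primes [IsNoetherianRing A] (Y : Type u) [AddCommGroup Y] [Module A Y]
    [Module.Finite A Y]
    (h : ∀ p : Ideal A, p.IsPrime → Module.annihilator A Y ≤ p → p.IsMaximal) :
    IsFiniteLength A Y := by
  rw [← Groth.Agent.S16234.result]
  intro p hp
  rw [Module.support_eq_zeroLocus, PrimeSpectrum.mem_zeroLocus] at hp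
  exact h p.asIdeal p.isPrime hp

theorem adm_of_isFiniteLength_quot [IsNoetherianRing A] [Module.Finite A N] (S : Set A)
    (hS : ∀ s ∈ S, s ∈ l)
    (h : IsFiniteLength A (N ⧸ (Ideal.span S • (⊤ : Submodule A N)))) : Adm l N := by
  refine ⟨inferInstance, ?_⟩
  intro p hp hann hl
  have h1 := (Groth.Agent.S16234.result A (N ⧸ (Ideal.span S • (⊤ : Submodule A N)))).mpr h
  have h2 : (⟨p, hp⟩ : PrimeSpectrum A) ∈
      Module.support A (N ⧸ (Ideal.span S • (⊤ : Submodule A N))) := by
    rw [Module.support_quotient]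
    refine ⟨?_, ?_⟩
    · rw [Module.support_eq_zeroLocus, PrimeSpectrum.mem_zeroLocus]
      exact hann
    · rw [PrimeSpectrum.mem_zeroLocus]
      show ((Ideal.span S : Ideal A) : Set A) ⊆ p
      intro s hs
      have : Ideal.span S ≤ p := Ideal.span_le.mpr fun s hs => hl s (hS s hs)
      exact this hs
  exact h1 _ h2

variable {l N}

theorem Adm.isFiniteLength_KH [IsNoetherianRing A] (h : Adm l N) (n : ℤ) :
    IsFiniteLength A (KH l N n) := by
  haveI := h.1
  haveI := KH_isNoetherian N l n
  apply isFiniteLength_of_primes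
  intro p hp hann
  apply h.2 p hp
  · intro a ha
    have h1 : a ^ (2 ^ l.length) ∈ Module.annihilator A (KH l N n) := by
      rw [Module.mem_annihilator]
      exact KH_pow_smul_of_ann N a (Module.mem_annihilator.mp ha) l n
    exact hp.mem_of_pow_mem _ (hann h1)
  · intro g hg
    have h1 : g ^ (2 ^ l.length) ∈ Module.annihilator A (KH l N n) := by
      rw [Module.mem_annihilator]
      exact KH_pow_smul_of_mem N g l hg n
    exact hp.mem_of_pow_mem _ (hann h1)

theorem Adm.of_injective [IsNoetherianRing A] {N' : Type u} [AddCommGroup N'] [Module A N']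
    (h : Adm l N) (f : N' →ₗ[A] N) (hf : Function.Injective f) : Adm l N' := by
  haveI := h.1
  haveI : IsNoetherian A N := inferInstance
  refine ⟨Module.Finite.of_injective f hf, ?_⟩
  intro p hp hann hl
  refine h.2 p hp (le_trans ?_ hann) hl
  intro a ha
  rw [Module.mem_annihilator] at ha ⊢
  intro m
  apply hf
  rw [map_smul, ha, map_zero]

theorem Adm.of_surjective {N' : Type u} [AddCommGroup N'] [Module A N']
    (h : Adm l N) (f : N →ₗ[A] N') (hf : Function.Surjective f) : Adm l N' := by
  haveI := h.1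
  refine ⟨Module.Finite.of_surjective f hf, ?_⟩
  intro p hp hann hl
  refine h.2 p hp (le_trans ?_ hann) hl
  intro a ha
  rw [Module.mem_annihilator] at ha ⊢
  intro m
  obtain ⟨m', rfl⟩ := hf m
  rw [← map_smul, ha, map_zero]

theorem Adm.tail_of_pow_smul {f : A} (h : Adm (f :: l) N) (k : ℕ) (hk : ∀ m : N, f ^ k • m = 0) :
    Adm l N := by
  refine ⟨h.1, ?_⟩
  intro p hp hann hl
  refine h.2 p hp hann ?_
  intro g hg
  rcases List.mem_cons.mp hg with rfl | hg
  · have : g ^ k ∈ Module.annihilator A N := Module.mem_annihilator.mpr hk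
    exact hp.mem_of_pow_mem _ (hann this)
  · exact hl g hg

end Groth.Agent.H19.Kos
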