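import Mathlib
import Groth.Agent.H19.KosLen

set_option autoImplicit false
universe u

namespace Groth.Agent.H19.Kos

variable {A : Type u} [CommRing A]

/-- the sign `(-1)^i` -/
def sgn (i : ℤ) : ℤ := ((i.negOnePow : ℤˣ) : ℤ)

theorem sgn_succ (i : ℤ) : sgn (i + 1) = - sgn i := by
  simp [sgn, Int.negOnePow_succ]

theorem sgn_pred (i : ℤ) : sgn (i - 1) = - sgn i := by
  have := sgn_succ (i - 1)
  rw [sub_add_cancel] at this
  rw [this, neg_neg]

theorem support_finite_of_bounds (u : ℤ → ℤ) (lo hi : ℤ) (h : ∀ n, n < lo ∨ hi < n → u n = 0) :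
    Function.HasFiniteSupport u := by
  show (Function.support u).Finite
  apply (Set.finite_Icc lo hi).subset
  intro n hn
  rw [Function.mem_support] at hn
  by_contra hcon
  apply hn
  apply h
  rw [Set.mem_Icc] at hcon
  omega

theorem finsum_shift (u : ℤ → ℤ) :
    ∑ᶠ i, sgn i * u (i + 1) = - ∑ᶠ i, sgn i * u i := by
  have h1 : ∑ᶠ i, sgn i * u (i + 1) = ∑ᶠ j, sgn (j - 1) * u j := by
    have := finsum_comp_equiv (Equiv.addRight (1 : ℤ)) (f := fun j => sgn (j - 1) * u j)
    rw [← this]
    apply finsum_congr
    intro i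
    simp
  rw [h1, ← finsum_neg_distrib]
  apply finsum_congr
  intro j
  rw [sgn_pred, neg_mul]

/-- integer-valued length -/
noncomputable def len (W : Type*) [AddCommGroup W] [Module A W] : ℤ :=
  ((Module.length A W).toNat : ℤ)

theorem len_of_subsingleton (W : Type*) [AddCommGroup W] [Module A W] [Subsingleton W] :
    len (A := A) W = 0 := by
  simp [len, Module.length_eq_zero]

theorem len_nonneg (W : Type*) [AddCommGroup W] [Module A W] : 0 ≤ len (A := A) W := by
  simp [len]

theorem len_congr {W : Type*} [AddCommGroup W] [Module A W] {P Q : Submodule A W} (h : P = Q) :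
    len (A := A) P = len (A := A) Q := by
  subst h; rfl

theorem len_eq_of_equiv {W W' : Type*} [AddCommGroup W] [Module A W] [AddCommGroup W']
    [Module A W'] (e : W ≃ₗ[A] W') : len (A := A) W = len (A := A) W' := by
  unfold len
  rw [e.length_eq]

theorem len_add_of_exact {N M P : Type*} [AddCommGroup N] [Module A N] [AddCommGroup M]
    [Module A M] [AddCommGroup P] [Module A P] (f : N →ₗ[A] M) (g : M →ₗ[A] P)
    (hf : Function.Injective f) (hg : Function.Surjective g) (h : Function.Exact f g)
    (hM : IsFiniteLength A M) : len (A := A) M = len (A := A) N + len (A := A) P := by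
  have h1 := Module.length_eq_add_of_exact f g hf hg h
  have h2 : Module.length A M ≠ ⊤ := Module.length_ne_top_iff.mpr hM
  have h3 : Module.length A N ≠ ⊤ := by
    intro h3; rw [h3, top_add] at h1; exact h2 h1
  have h4 : Module.length A P ≠ ⊤ := by
    intro h4; rw [h4, add_top] at h1; exact h2 h1
  unfold len
  rw [h1, ENat.toNat_add h3 h4]
  push_cast
  rfl

theorem length_ker_add_range {W W' : Type*} [AddCommGroup W] [Module A W] [AddCommGroup W']
    [Module A W'] (φ : W →ₗ[A] W') :
    Module.length A W = Module.length A (LinearMap.ker φ) + Module.length A (LinearMap.range φ) := by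
  apply Module.length_eq_add_of_exact (LinearMap.ker φ).subtype φ.rangeRestrict
    (Submodule.injective_subtype _) (LinearMap.surjective_rangeRestrict _)
  intro x
  constructor
  · intro hx
    have : φ x = 0 := by
      have := congrArg Subtype.val hx
      simpa using this
    exact ⟨⟨x, this⟩, rfl⟩
  · rintro ⟨⟨y, hy⟩, rfl⟩
    ext
    simpa using hy

theorem len_ker_add_range {W W' : Type*} [AddCommGroup W] [Module A W] [AddCommGroup W']
    [Module A W'] (φ : W →ₗ[A] W') (hW : IsFiniteLength A W) :
    len (A := A) W = len (A := A) (LinearMap.ker φ) + len (A := A) (LinearMap.range φ) := by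
  apply len_add_of_exact (LinearMap.ker φ).subtype φ.rangeRestrict
    (Submodule.injective_subtype _) (LinearMap.surjective_rangeRestrict _) _ hW
  intro x
  constructor
  · intro hx
    have : φ x = 0 := by
      have := congrArg Subtype.val hx
      simpa using this
    exact ⟨⟨x, this⟩, rfl⟩
  · rintro ⟨⟨y, hy⟩, rfl⟩
    ext
    simpa using hy

section Euler

variable {X Y Z : ℤ → Type u} [∀ n, AddCommGroup (X n)] [∀ n, Module A (X n)]
  [∀ n, AddCommGroup (Y n)] [∀ n, Module A (Y n)] [∀ n, AddCommGroup (Z n)] [∀ n, Module A (Z n)]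
  (a : ∀ n, X n →ₗ[A] Y n) (b : ∀ n, Y n →ₗ[A] Z n) (c : ∀ n, Z n →ₗ[A] X (n + 1))

theorem euler_les (hab : ∀ n, Function.Exact (a n) (b n)) (hbc : ∀ n, Function.Exact (b n) (c n))
    (hca : ∀ n, Function.Exact (c n) (a (n + 1)))
    (hX : ∀ n, IsFiniteLength A (X n)) (hY : ∀ n, IsFiniteLength A (Y n))
    (hZ : ∀ n, IsFiniteLength A (Z n)) (lo hi : ℤ)
    (hXs : ∀ n, n < lo ∨ hi < n → Subsingleton (X n))
    (hYs : ∀ n, n < lo ∨ hi < n → Subsingleton (Y n))
    (hZs : ∀ n, n < lo ∨ hi < n → Subsingleton (Z n)) :
    ∑ᶠ n, sgn n * len (A := A) (Y n) =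
      ∑ᶠ n, sgn n * len (A := A) (X n) + ∑ᶠ n, sgn n * len (A := A) (Z n) := by
  set ka : ℤ → ℤ := fun n => len (A := A) (LinearMap.ker (a n)) with hka
  have e1 : ∀ n, len (A := A) (X n) + len (A := A) (Z n) - len (A := A) (Y n) =
      ka n + ka (n + 1) := by
    intro n
    have h1 := len_ker_add_range (a n) (hX n)
    have h2 := len_ker_add_range (b n) (hY n)
    have h3 := len_ker_add_range (c n) (hZ n)
    have h4 : len (A := A) (LinearMap.range (a n)) = len (A := A) (LinearMap.ker (b n)) :=
      len_congr (LinearMap.exact_iff.mp (hab n)).symm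
    have h5 : len (A := A) (LinearMap.range (b n)) = len (A := A) (LinearMap.ker (c n)) :=
      len_congr (LinearMap.exact_iff.mp (hbc n)).symm
    have h6 : len (A := A) (LinearMap.range (c n)) = len (A := A) (LinearMap.ker (a (n + 1))) :=
      len_congr (LinearMap.exact_iff.mp (hca n)).symm
    simp only [hka]
    linarith
  have hka0 : ∀ n, n < lo ∨ hi < n → ka n = 0 := by
    intro n hn
    haveI := hXs n hn
    exact len_of_subsingleton _
  have sX : Function.HasFiniteSupport (fun n => sgn n * len (A := A) (X n)) :=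
    support_finite_of_bounds _ lo hi fun n hn => by
      haveI := hXs n hn
      rw [len_of_subsingleton, mul_zero]
  have sZ : Function.HasFiniteSupport (fun n => sgn n * len (A := A) (Z n)) :=
    support_finite_of_bounds _ lo hi fun n hn => by
      haveI := hZs n hn
      rw [len_of_subsingleton, mul_zero]
  have sk : Function.HasFiniteSupport (fun n => sgn n * ka n) :=
    support_finite_of_bounds _ lo hi fun n hn => by rw [hka0 n hn, mul_zero]
  have sk' : Function.HasFiniteSupport (fun n => sgn n * ka (n + 1)) :=
    support_finite_of_bounds _ (lo - 1) hi fun n hn => by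
      rw [hka0 (n + 1) (by omega), mul_zero]
  have e2 : ∀ n, sgn n * len (A := A) (Y n) =
      (sgn n * len (A := A) (X n) + sgn n * len (A := A) (Z n)) -
        (sgn n * ka n + sgn n * ka (n + 1)) := by
    intro n
    have := e1 n
    have h7 : len (A := A) (Y n) = len (A := A) (X n) + len (A := A) (Z n) - (ka n + ka (n + 1)) := by
      linarith
    rw [h7]; ring
  have sXZ : Function.HasFiniteSupport
      (fun n => sgn n * len (A := A) (X n) + sgn n * len (A := A) (Z n)) :=
    support_finite_of_bounds _ lo hi fun n hn => by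
      haveI := hXs n hn
      haveI := hZs n hn
      rw [len_of_subsingleton, len_of_subsingleton, mul_zero, add_zero]
  have skk : Function.HasFiniteSupport (fun n => sgn n * ka n + sgn n * ka (n + 1)) :=
    support_finite_of_bounds _ (lo - 1) hi fun n hn => by
      rw [hka0 (n + 1) (by omega), hka0 n (by omega), mul_zero, add_zero]
  rw [finsum_congr e2, finsum_sub_distrib sXZ skk, finsum_add_distrib sX sZ,
    finsum_add_distrib sk sk', finsum_shift ka]
  ring

end Euler

end Groth.Agent.H19.Kos
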