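import Mathlib
import Groth.Agent.H19.KosChi

set_option autoImplicit false
universe u

namespace Groth.Agent.H19.Kos

open scoped Pointwise

variable {A : Type u} [CommRing A]

/-- Koszul Euler characteristic -/
noncomputable def chi (l : List A) (M : Type u) [AddCommGroup M] [Module A M] : ℤ :=
  ∑ᶠ i : ℤ, sgn i * len (A := A) (KH l M i)

theorem chi_def (l : List A) (M : Type u) [AddCommGroup M] [Module A M] :
    chi l M = ∑ᶠ i : ℤ, ((i.negOnePow : ℤˣ) : ℤ) *
      ((Module.length A ((DRing.tensorCx (Koszul.koszul A l) (ModuleCat.of A M)).homology i)).toNat : ℤ) :=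
  rfl

theorem chi_add [IsNoetherianRing A] (l : List A) {M₁ M₂ M₃ : Type u} [AddCommGroup M₁] [Module A M₁]
    [AddCommGroup M₂] [Module A M₂] [AddCommGroup M₃] [Module A M₃]
    (f : M₁ →ₗ[A] M₂) (g : M₂ →ₗ[A] M₃) (hf : Function.Injective f) (hg : Function.Surjective g)
    (hfg : Function.Exact f g) (h₂ : Adm l M₂) :
    chi l M₂ = chi l M₁ + chi l M₃ := by
  obtain ⟨c, hab, hbc, hca⟩ := KH_ses_les l f g hf hg hfg
  have h₁ : Adm l M₁ := h₂.of_injective f hf
  have h₃ : Adm l M₃ := h₂.of_surjective g hg
  exact euler_les (X := fun n => KH l M₁ n) (Y := fun n => KH l M₂ n) (Z := fun n => KH l M₃ n)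
    (fun n => KHmap l f n) (fun n => KHmap l g n) c hab hbc hca
    (fun n => h₁.isFiniteLength_KH n) (fun n => h₂.isFiniteLength_KH n)
    (fun n => h₃.isFiniteLength_KH n) (-(l.length : ℤ)) 0
    (fun n hn => KH_subsingleton M₁ l n hn.symm) (fun n hn => KH_subsingleton M₂ l n hn.symm)
    (fun n hn => KH_subsingleton M₃ l n hn.symm)

theorem chi_of_subsingleton (l : List A) (M : Type u) [AddCommGroup M] [Module A M]
    [Subsingleton M] : chi l M = 0 := by
  unfold chi
  have : ∀ i, sgn i * len (A := A) (KH l M i) = 0 := by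
    intro i
    have h1 : ∀ y : KH l M i, y = 0 := by
      intro y
      have := KH_pow_smul_of_ann M (1 : A) (fun m => Subsingleton.elim _ _) l i y
      simpa using this
    haveI : Subsingleton (KH l M i) := ⟨fun a b => by rw [h1 a, h1 b]⟩
    rw [len_of_subsingleton, mul_zero]
  rw [finsum_congr this, finsum_zero]

theorem chi_congr (l : List A) {M N : Type u} [AddCommGroup M] [Module A M] [AddCommGroup N]
    [Module A N] (h : ∀ n, Module.length A (KH l M n) = Module.length A (KH l N n)) :
    chi l M = chi l N := by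
  unfold chi len
  apply finsum_congr
  intro i
  rw [h i]

section mid

variable {X Y X' : Type*} [AddCommGroup X] [Module A X] [AddCommGroup Y] [Module A Y]
  [AddCommGroup X'] [Module A X']

/-- length of the middle term of a five-term exact sequence -/
theorem length_mid (φ : X →ₗ[A] X) (α : X →ₗ[A] Y) (δ : Y →ₗ[A] X') (φ' : X' →ₗ[A] X')
    (h₁ : Function.Exact φ α) (h₂ : Function.Exact α δ) (h₃ : Function.Exact δ φ') :
    Module.length A Y = Module.length A (X ⧸ LinearMap.range φ) +
      Module.length A (LinearMap.ker φ') := by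
  rw [length_ker_add_range δ]
  have e1 : (X ⧸ LinearMap.range φ) ≃ₗ[A] LinearMap.ker δ := by
    have hk : LinearMap.ker α = LinearMap.range φ := LinearMap.exact_iff.mp h₁
    have hr : LinearMap.range α = LinearMap.ker δ := (LinearMap.exact_iff.mp h₂).symm
    exact (Submodule.quotEquivOfEq _ _ hk.symm).trans
      (α.quotKerEquivRange.trans (LinearEquiv.ofEq _ _ hr))
  have hr' : LinearMap.range δ = LinearMap.ker φ' := (LinearMap.exact_iff.mp h₃).symm
  rw [e1.length_eq, (LinearEquiv.ofEq _ _ hr').length_eq]

end mid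

/-- For an `M`-regular element `f`, `H(f :: l; M)` and `H(l; M/fM)` have the same lengths. -/
theorem length_KH_cons_of_regular (f : A) (l : List A) (M : Type u) [AddCommGroup M] [Module A M]
    (hreg : IsSMulRegular M f) (n : ℤ) :
    Module.length A (KH (f :: l) M n) = Module.length A (KH l (QuotSMulTop f M) n) := by
  obtain ⟨α, δ, h₁, h₂, h₃⟩ := KH_cons_les f l M n (n + 1) rfl
  rw [length_mid _ α δ _ h₁ h₂ h₃]
  have hinj : Function.Injective (LinearMap.lsmul A M f) := hreg
  have hsurj : Function.Surjective (Submodule.mkQ (f • (⊤ : Submodule A M))) :=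
    Submodule.mkQ_surjective _
  have hex : Function.Exact (LinearMap.lsmul A M f) (Submodule.mkQ (f • (⊤ : Submodule A M))) := by
    intro m
    rw [Submodule.mkQ_apply, Submodule.Quotient.mk_eq_zero,
      Submodule.mem_smul_pointwise_iff_exists]
    constructor
    · rintro ⟨y, -, hy⟩
      exact ⟨y, hy⟩
    · rintro ⟨y, hy⟩
      exact ⟨y, Submodule.mem_top, hy⟩
  obtain ⟨c, hab, hbc, hca⟩ := KH_ses_les l _ _ hinj hsurj hex
  have k₁ := hab n
  have k₂ := hbc n
  have k₃ := hca n
  rw [KHmap_lsmul] at k₁ k₃
  exact (length_mid _ _ _ _ k₁ k₂ k₃).symm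

theorem chi_cons_of_regular (f : A) (l : List A) (M : Type u) [AddCommGroup M] [Module A M]
    (hreg : IsSMulRegular M f) : chi (f :: l) M = chi l (QuotSMulTop f M) :=
  chi_congr' f l M hreg
where
  chi_congr' (f : A) (l : List A) (M : Type u) [AddCommGroup M] [Module A M]
      (hreg : IsSMulRegular M f) : chi (f :: l) M = chi l (QuotSMulTop f M) := by
    unfold chi len
    apply finsum_congr
    intro i
    rw [length_KH_cons_of_regular f l M hreg i]

/-- If `N` is admissible already for the tail, the Euler characteristic for `f :: l` vanishes. -/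
theorem chi_cons_of_adm_tail [IsNoetherianRing A] (f : A) (l : List A) (N : Type u)
    [AddCommGroup N] [Module A N] (h : Adm l N) : chi (f :: l) N = 0 := by
  set ka : ℤ → ℤ := fun n => len (A := A) (LinearMap.ker (LinearMap.lsmul A (KH l N n) f)) with hka
  have e1 : ∀ n, len (A := A) (KH (f :: l) N n) = ka n + ka (n + 1) := by
    intro n
    obtain ⟨α, δ, h₁, h₂, h₃⟩ := KH_cons_les f l N n (n + 1) rfl
    have hfl := h.isFiniteLength_KH n
    have h4 := length_mid _ α δ _ h₁ h₂ h₃
    have h5 := len_ker_add_range (LinearMap.lsmul A (KH l N n) f) hfl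
    have h6 : len (A := A) (KH l N n) =
        len (A := A) (LinearMap.range (LinearMap.lsmul A (KH l N n) f)) +
        len (A := A) (KH l N n ⧸ LinearMap.range (LinearMap.lsmul A (KH l N n) f)) :=
      len_add_of_exact (LinearMap.range (LinearMap.lsmul A (KH l N n) f)).subtype
        (Submodule.mkQ _) (Submodule.injective_subtype _) (Submodule.mkQ_surjective _)
        (LinearMap.exact_subtype_mkQ _) hfl
    have h7 : len (A := A) (KH (f :: l) N n) =
        len (A := A) (KH l N n ⧸ LinearMap.range (LinearMap.lsmul A (KH l N n) f)) + ka (n + 1) := by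
      have hne1 : Module.length A (KH l N n ⧸ LinearMap.range (LinearMap.lsmul A (KH l N n) f)) ≠ ⊤ :=
        Module.length_ne_top_iff.mpr (hfl.of_surjective (f := Submodule.mkQ _) (Submodule.mkQ_surjective _))
      have hne2 : Module.length A (LinearMap.ker (LinearMap.lsmul A (KH l N (n + 1)) f)) ≠ ⊤ :=
        Module.length_ne_top_iff.mpr ((h.isFiniteLength_KH (n + 1)).of_injective
          (f := Submodule.subtype _) (Submodule.injective_subtype _))
      simp only [hka]
      unfold len
      rw [h4, ENat.toNat_add hne1 hne2]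
      push_cast
      rfl
    simp only [hka] at h7 ⊢
    linarith
  have hka0 : ∀ n, (0 < n ∨ n < -(l.length : ℤ)) → ka n = 0 := by
    intro n hn
    haveI := KH_subsingleton N l n hn
    exact len_of_subsingleton _
  have sk : Function.HasFiniteSupport (fun n => sgn n * ka n) :=
    support_finite_of_bounds _ (-(l.length : ℤ)) 0 fun n hn => by
      rw [hka0 n hn.symm, mul_zero]
  have sk' : Function.HasFiniteSupport (fun n => sgn n * ka (n + 1)) :=
    support_finite_of_bounds _ (-(l.length : ℤ) - 1) 0 fun n hn => by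
      rw [hka0 (n + 1) (by omega), mul_zero]
  unfold chi
  have e2 : ∀ n, sgn n * len (A := A) (KH (f :: l) N n) = sgn n * ka n + sgn n * ka (n + 1) := by
    intro n; rw [e1 n]; ring
  rw [finsum_congr e2, finsum_add_distrib sk sk', finsum_shift ka]
  ring

theorem chi_cons_of_pow_smul [IsNoetherianRing A] (f : A) (l : List A) (N : Type u)
    [AddCommGroup N] [Module A N] (h : Adm (f :: l) N) (k : ℕ) (hk : ∀ m : N, f ^ k • m = 0) :
    chi (f :: l) N = 0 :=
  chi_cons_of_adm_tail f l N (h.tail_of_pow_smul k hk)

end Groth.Agent.H19.Kos
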