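import Mathlib
import Groth.Agent.H19.KosChi2

set_option autoImplicit false
universe u

namespace Groth.Agent.H19.Kos

open scoped Pointwise

variable {A : Type u} [CommRing A]

/-- the `f`-power torsion tower -/
def torsTower (f : A) (M : Type u) [AddCommGroup M] [Module A M] : ℕ →o Submodule A M where
  toFun k := Submodule.torsionBy A M (f ^ k)
  monotone' := by
    intro i j hij m hm
    rw [Submodule.mem_torsionBy_iff] at hm ⊢
    obtain ⟨d, rfl⟩ := Nat.exists_eq_add_of_le hij
    rw [pow_add, mul_comm, mul_smul, hm, smul_zero]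

theorem exists_torsion_stable [IsNoetherianRing A] (f : A) (M : Type u) [AddCommGroup M]
    [Module A M] [Module.Finite A M] :
    ∃ (N : Submodule A M) (k : ℕ), (∀ m ∈ N, f ^ k • m = 0) ∧ IsSMulRegular (M ⧸ N) f := by
  haveI : IsNoetherian A M := inferInstance
  obtain ⟨k, hk⟩ := monotone_stabilizes_iff_noetherian.mpr ‹IsNoetherian A M› (torsTower f M)
  refine ⟨torsTower f M k, k, ?_, ?_⟩
  · intro m hm
    exact (Submodule.mem_torsionBy_iff _ _).mp hm
  · rw [isSMulRegular_iff_right_eq_zero_of_smul]
    intro x hx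
    obtain ⟨m, rfl⟩ := Submodule.Quotient.mk_surjective _ x
    rw [← Submodule.Quotient.mk_smul, Submodule.Quotient.mk_eq_zero] at hx
    rw [Submodule.Quotient.mk_eq_zero]
    have h1 : m ∈ torsTower f M (k + 1) := by
      show m ∈ Submodule.torsionBy A M (f ^ (k + 1))
      rw [Submodule.mem_torsionBy_iff, pow_succ, mul_smul]
      exact (Submodule.mem_torsionBy_iff _ _).mp hx
    rw [hk (k + 1) (Nat.le_succ k)]
    exact h1

theorem exists_reduction [IsNoetherianRing A] (f : A) (l : List A) (M : Type u) [AddCommGroup M]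
    [Module A M] (h : Adm (f :: l) M) :
    ∃ (N : Submodule A M) (k : ℕ), (∀ m ∈ N, f ^ k • m = 0) ∧ IsSMulRegular (M ⧸ N) f ∧
      chi (f :: l) M = chi l (QuotSMulTop f (M ⧸ N)) := by
  haveI := h.1
  obtain ⟨N, k, hN, hreg⟩ := exists_torsion_stable f M
  refine ⟨N, k, hN, hreg, ?_⟩
  have h1 := chi_add (f :: l) N.subtype N.mkQ (Submodule.injective_subtype _)
    (Submodule.mkQ_surjective _) (LinearMap.exact_subtype_mkQ N) h
  have h2 : chi (f :: l) N = 0 :=
    chi_cons_of_pow_smul f l N (h.of_injective N.subtype (Submodule.injective_subtype _)) k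
      (fun m => by
        ext
        simpa using hN m.1 m.2)
  rw [h1, h2, zero_add, chi_cons_of_regular f l _ hreg]

end Groth.Agent.H19.Kos
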