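import Mathlib
import Groth.Agent.H19.KosRed
import Groth.Agent.H29.SemiSOP

set_option autoImplicit false
universe u

namespace Groth.Agent.H19.Kos

open scoped Pointwise

variable {A : Type u} [CommRing A]

theorem supportDim_le_max_of_exact {N M P : Type u} [AddCommGroup N] [Module A N]
    [AddCommGroup M] [Module A M] [AddCommGroup P] [Module A P] (f : N →ₗ[A] M) (g : M →ₗ[A] P)
    (hf : Function.Injective f) (hg : Function.Surjective g) (h : Function.Exact f g) :
    Module.supportDim A M ≤ max (Module.supportDim A N) (Module.supportDim A P) := by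
  have hsupp := Module.support_of_exact h hf hg
  show (⨆ (p : LTSeries ↥(Module.support A M)), (p.length : WithBot ℕ∞)) ≤ _
  refine iSup_le fun p => ?_
  have hhead : (p.head : PrimeSpectrum A) ∈ Module.support A N ∪ Module.support A P := by
    rw [← hsupp]; exact p.head.2
  have hmono : ∀ i, (p.head : PrimeSpectrum A) ≤ (p i : PrimeSpectrum A) := by
    intro i
    have : p.head ≤ p i := LTSeries.head_le p i
    exact this
  rcases hhead with hN | hP
  · refine le_trans ?_ (le_max_left _ _)
    let q : LTSeries ↥(Module.support A N) :=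
      { length := p.length
        toFun := fun i => ⟨(p i : PrimeSpectrum A), Module.mem_support_mono (hmono i) hN⟩
        step := fun i => by
          have := p.step i
          exact this }
    exact Order.LTSeries.length_le_krullDim q
  · refine le_trans ?_ (le_max_right _ _)
    let q : LTSeries ↥(Module.support A P) :=
      { length := p.length
        toFun := fun i => ⟨(p i : PrimeSpectrum A), Module.mem_support_mono (hmono i) hP⟩
        step := fun i => by
          have := p.step i
          exact this }
    exact Order.LTSeries.length_le_krullDim q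

variable {l : List A} {N : Type u} [AddCommGroup N] [Module A N]

theorem Adm.isFiniteLength_quot [IsNoetherianRing A] (h : Adm l N) :
    IsFiniteLength A (N ⧸ Ideal.ofList l • (⊤ : Submodule A N)) := by
  haveI := h.1
  apply isFiniteLength_of_primes
  intro p hp hann
  apply h.2 p hp
  · refine le_trans ?_ hann
    intro a ha
    rw [Module.mem_annihilator] at ha ⊢
    intro m
    obtain ⟨m, rfl⟩ := Submodule.Quotient.mk_surjective _ m
    rw [← Submodule.Quotient.mk_smul, ha, Submodule.Quotient.mk_zero]
  · intro g hg
    apply hann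
    rw [Module.mem_annihilator]
    intro m
    obtain ⟨m, rfl⟩ := Submodule.Quotient.mk_surjective _ m
    rw [← Submodule.Quotient.mk_smul, Submodule.Quotient.mk_eq_zero]
    exact Submodule.smul_mem_smul (Ideal.subset_span hg) Submodule.mem_top

theorem Adm.supportDim_le [IsNoetherianRing A] [IsLocalRing A] (h : Adm l N)
    (hl : ∀ g ∈ l, g ∈ IsLocalRing.maximalIdeal A) :
    Module.supportDim A N ≤ (l.length : WithBot ℕ∞) := by
  haveI := h.1
  have h1 := Groth.Agent.H29.supportDim_le_supportDim_quotient_add_length A l N hl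
  have h2 : Module.supportDim A (N ⧸ Ideal.ofList l • (⊤ : Submodule A N)) ≤ 0 :=
    (Groth.Agent.H29.SemiSOP.supportDim_le_zero_iff_isFiniteLength A _).mpr h.isFiniteLength_quot
  calc Module.supportDim A N ≤ _ := h1
    _ ≤ 0 + (l.length : WithBot ℕ∞) := add_le_add_left h2 _
    _ = _ := zero_add _

theorem Adm.quotSMulTop [IsNoetherianRing A] {f : A} (h : Adm (f :: l) N) :
    Adm l (QuotSMulTop f N) := by
  have h1 : Adm (f :: l) (QuotSMulTop f N) :=
    h.of_surjective (Submodule.mkQ _) (Submodule.mkQ_surjective _)
  apply h1.tail_of_pow_smul 1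
  intro m
  obtain ⟨m, rfl⟩ := Submodule.Quotient.mk_surjective _ m
  rw [pow_one, ← Submodule.Quotient.mk_smul, Submodule.Quotient.mk_eq_zero]
  exact Submodule.smul_mem_pointwise_smul m f ⊤ Submodule.mem_top

theorem chi_eq_zero_of_dim_lt [IsNoetherianRing A] [IsLocalRing A] :
    ∀ (l : List A), (∀ g ∈ l, g ∈ IsLocalRing.maximalIdeal A) →
    ∀ (M : Type u) [AddCommGroup M] [Module A M], Adm l M →
    Module.supportDim A M < (l.length : WithBot ℕ∞) → chi l M = 0 := by
  intro l
  induction l with
  | nil =>
    intro _ M _ _ hM hdim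
    have : Module.supportDim A M = ⊥ := by
      rw [List.length_nil, Nat.cast_zero] at hdim
      by_contra hne
      obtain ⟨n, hn⟩ := WithBot.ne_bot_iff_exists.mp hne
      rw [← hn] at hdim
      have : (n : WithBot ℕ∞) < ((0 : ℕ∞) : WithBot ℕ∞) := hdim
      rw [WithBot.coe_lt_coe] at this
      exact absurd this (not_lt.mpr zero_le)
    haveI : Subsingleton M := (Module.supportDim_eq_bot_iff_subsingleton A M).mp this
    exact chi_of_subsingleton _ M
  | cons f l ih =>
    intro hl M _ _ hM hdim
    haveI := hM.1
    obtain ⟨N, k, hN, hreg, hchi⟩ := exists_reduction f l M hM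
    rw [hchi]
    have hadm : Adm (f :: l) (M ⧸ N) := hM.of_surjective N.mkQ (Submodule.mkQ_surjective _)
    apply ih (fun g hg => hl g (List.mem_cons_of_mem _ hg)) _ hadm.quotSMulTop
    have h1 : Module.supportDim A (M ⧸ N) ≤ Module.supportDim A M :=
      Module.supportDim_le_of_surjective N.mkQ (Submodule.mkQ_surjective _)
    have h2 := Module.supportDim_quotSMulTop_succ_eq_supportDim hreg
      (hl f (List.mem_cons_self ..))
    have h3 : Module.supportDim A (QuotSMulTop f (M ⧸ N)) + 1 < (l.length : WithBot ℕ∞) + 1 := by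
      rw [h2]
      refine lt_of_le_of_lt h1 ?_
      rw [List.length_cons] at hdim
      exact_mod_cast hdim
    by_contra hcon
    rw [not_lt] at hcon
    exact absurd (add_le_add_left hcon 1) (not_le.mpr h3)

end Groth.Agent.H19.Kos

namespace Groth.Agent.H19.Kos

variable {A : Type u} [CommRing A]

theorem adm_ofFn [IsNoetherianRing A] {d : ℕ} (x : Fin d → A) (M : Type u) [AddCommGroup M]
    [Module A M] [Module.Finite A M]
    (hfl : IsFiniteLength A (M ⧸ (Ideal.span (Set.range x) • (⊤ : Submodule A M)))) :
    Adm (List.ofFn x) M :=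
  adm_of_isFiniteLength_quot _ _ (Set.range x)
    (fun s hs => by
      obtain ⟨j, rfl⟩ := hs
      exact (List.mem_ofFn' x (x j)).mpr ⟨j, rfl⟩) hfl

theorem main_S8153 (A : Type u) [CommRing A] [IsNoetherianRing A] [IsLocalRing A]
    (d : ℕ) (x : Fin d → A) (hx : ∀ j, x j ∈ IsLocalRing.maximalIdeal A) (M : Type u)
    [AddCommGroup M] [Module A M] [Module.Finite A M]
    (hfl : IsFiniteLength A (M ⧸ (Ideal.span (Set.range x) • (⊤ : Submodule A M))))
    (hdim : Module.supportDim A M < (d : WithBot ℕ∞)) :
    (∑ᶠ i : ℤ, ((i.negOnePow : ℤˣ) : ℤ) * ((Module.length A ((DRing.tensorCx (Koszul.koszul A (List.ofFn x)) (ModuleCat.of A M)).homology i)).toNat : ℤ)) = 0 := by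
  have h := chi_eq_zero_of_dim_lt (List.ofFn x)
    (fun g hg => by
      obtain ⟨j, rfl⟩ := (List.mem_ofFn' x g).mp hg
      exact hx j) M (adm_ofFn x M hfl) (by rwa [List.length_ofFn])
  exact h

end Groth.Agent.H19.Kos
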