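import Mathlib

set_option autoImplicit false

namespace Groth.Agent.H19.PolyDiff

open Polynomial

/-- The backward difference operator with step `d`. -/
noncomputable def bdiff (d : ℚ) (P : ℚ[X]) : ℚ[X] := P - taylor (-d) P

theorem bdiff_eval (d : ℚ) (P : ℚ[X]) (x : ℚ) : (bdiff d P).eval x = P.eval x - P.eval (x - d) := by
  rw [bdiff, eval_sub, taylor_eval, sub_eq_add_neg x d]

theorem coeff_bdiff_of_le (d : ℚ) (P : ℚ[X]) (j : ℕ) (hj : P.natDegree ≤ j) :
    (bdiff d P).coeff j = 0 := by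
  rw [bdiff, coeff_sub, taylor_coeff]
  rcases hj.eq_or_lt with h | h
  · have h1 : (hasseDeriv j P).natDegree ≤ 0 := by
      have := natDegree_hasseDeriv_le P j
      omega
    rw [eq_C_of_natDegree_le_zero h1, eval_C, hasseDeriv_coeff, zero_add, Nat.choose_self,
      Nat.cast_one, one_mul, sub_self]
  · have h0 : hasseDeriv j P = 0 := by
      ext n
      rw [hasseDeriv_coeff, coeff_zero, coeff_eq_zero_of_natDegree_lt (by omega), mul_zero]
    rw [h0, eval_zero, coeff_eq_zero_of_natDegree_lt h, sub_zero]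

theorem coeff_bdiff_pred (d : ℚ) (P : ℚ[X]) (t : ℕ) (ht : P.natDegree = t + 1) :
    (bdiff d P).coeff t = (t + 1) * d * P.leadingCoeff := by
  rw [bdiff, coeff_sub, taylor_coeff]
  have h1 : (hasseDeriv t P).natDegree ≤ 1 := by
    have := natDegree_hasseDeriv_le P t
    omega
  rw [eq_X_add_C_of_natDegree_le_one h1, eval_add, eval_mul, eval_C, eval_X, eval_C,
    hasseDeriv_coeff, hasseDeriv_coeff, zero_add, Nat.choose_self, Nat.cast_one, one_mul,
    add_comm 1 t, Nat.choose_succ_self_right, leadingCoeff, ht]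
  push_cast
  ring

theorem natDegree_bdiff (d : ℚ) (hd : d ≠ 0) (P : ℚ[X]) (t : ℕ) (ht : P.natDegree = t + 1) :
    (bdiff d P).natDegree = t ∧ (bdiff d P).leadingCoeff = (t + 1) * d * P.leadingCoeff := by
  have hP0 : P ≠ 0 := by
    rintro rfl
    simp at ht
  have hc := coeff_bdiff_pred d P t ht
  have hne : (bdiff d P).coeff t ≠ 0 := by
    rw [hc]
    have : ((t : ℚ) + 1) ≠ 0 := by positivity
    exact mul_ne_zero (mul_ne_zero this hd) (leadingCoeff_ne_zero.mpr hP0)
  have hle : (bdiff d P).natDegree ≤ t := by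
    rw [natDegree_le_iff_coeff_eq_zero]
    intro N hN
    exact coeff_bdiff_of_le d P N (by omega)
  have hdeg : (bdiff d P).natDegree = t := le_antisymm hle (le_natDegree_of_ne_zero hne)
  refine ⟨hdeg, ?_⟩
  rw [leadingCoeff, hdeg, hc]

/-- Two polynomials that agree at all large naturals are equal. -/
theorem eq_of_eventually_eq (P Q : ℚ[X]) (m₀ : ℕ)
    (h : ∀ m : ℕ, m₀ ≤ m → P.eval (m : ℚ) = Q.eval (m : ℚ)) : P = Q := by
  apply eq_of_infinite_eval_eq
  apply Set.infinite_of_injective_forall_mem (f := fun m : ℕ => ((m + m₀ : ℕ) : ℚ))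
  · intro a b hab
    have hab' : ((a + m₀ : ℕ) : ℚ) = ((b + m₀ : ℕ) : ℚ) := hab
    have : (a + m₀ : ℕ) = b + m₀ := by exact_mod_cast hab'
    omega
  · intro m
    exact h (m + m₀) (by omega)

end Groth.Agent.H19.PolyDiff
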