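import Mathlib
import Groth.Agent.H19.PolyDiff

set_option autoImplicit false

namespace Groth.Agent.H19.PolyDiff

open Polynomial

theorem bdiff_add (d : ℚ) (P Q : ℚ[X]) : bdiff d (P + Q) = bdiff d P + bdiff d Q := by
  unfold bdiff
  rw [map_add]
  ring

theorem bdiff_C (d c : ℚ) : bdiff d (C c) = 0 := by
  unfold bdiff
  rw [taylor_C, sub_self]

theorem coeff_bdiff_pred' (d : ℚ) (P : ℚ[X]) (t : ℕ) (ht : P.natDegree ≤ t + 1) :
    (bdiff d P).coeff t = (t + 1) * d * P.coeff (t + 1) := by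
  rw [bdiff, coeff_sub, taylor_coeff]
  have h1 : (hasseDeriv t P).natDegree ≤ 1 := by
    have := natDegree_hasseDeriv_le P t
    omega
  rw [eq_X_add_C_of_natDegree_le_one h1, eval_add, eval_mul, eval_C, eval_X, eval_C,
    hasseDeriv_coeff, hasseDeriv_coeff, zero_add, Nat.choose_self, Nat.cast_one, one_mul,
    add_comm 1 t, Nat.choose_succ_self_right]
  push_cast
  ring

theorem natDegree_C_mul_X_le' (a : ℚ) : (C a * X : ℚ[X]).natDegree ≤ 1 :=
  (natDegree_C_mul_le a X).trans natDegree_X_le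

theorem natDegree_bdiff_le (d : ℚ) (P : ℚ[X]) (t : ℕ) (ht : P.natDegree ≤ t + 1) :
    (bdiff d P).natDegree ≤ t := by
  rw [natDegree_le_iff_coeff_eq_zero]
  intro N hN
  exact coeff_bdiff_of_le d P N (by omega)

/-- Discrete antiderivative. -/
theorem exists_antidiff : ∀ (t : ℕ) (Q : ℚ[X]), Q.natDegree ≤ t →
    ∃ P : ℚ[X], bdiff 1 P = Q ∧ P.natDegree ≤ t + 1 ∧ P.coeff (t + 1) = Q.coeff t / (t + 1)
  | 0 => by
    intro Q hQ
    rw [eq_C_of_natDegree_le_zero hQ]
    refine ⟨C (Q.coeff 0) * X, ?_, ?_, ?_⟩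
    · ext j
      rcases Nat.eq_zero_or_pos j with rfl | hj
      · rw [coeff_bdiff_pred' 1 _ 0 (natDegree_C_mul_X_le' _)]
        simp
      · rw [coeff_bdiff_of_le 1 _ j ((natDegree_C_mul_X_le' _).trans hj), coeff_C,
          if_neg (by omega)]
    · exact natDegree_C_mul_X_le' _
    · simp
  | t + 1 => by
    intro Q hQ
    set a := Q.coeff (t + 1) with ha
    set P₁ : ℚ[X] := C (a / (t + 2)) * X ^ (t + 2) with hP₁
    have hP₁deg : P₁.natDegree ≤ t + 1 + 1 := natDegree_C_mul_X_pow_le _ _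
    have hcoeff : (bdiff 1 P₁).coeff (t + 1) = a := by
      rw [coeff_bdiff_pred' 1 P₁ (t + 1) hP₁deg, hP₁, coeff_C_mul_X_pow, if_pos rfl]
      push_cast
      field_simp
      ring
    have hQ'deg : (Q - bdiff 1 P₁).natDegree ≤ t := by
      rw [natDegree_le_iff_coeff_eq_zero]
      intro N hN
      rcases (show t + 1 ≤ N by omega).eq_or_lt with h | h
      · rw [← h, coeff_sub, hcoeff, sub_self]
      · rw [coeff_sub, coeff_eq_zero_of_natDegree_lt (by omega),
          coeff_bdiff_of_le 1 P₁ N (by omega), sub_zero]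
    obtain ⟨P₂, hP₂, hP₂deg, -⟩ := exists_antidiff t _ hQ'deg
    refine ⟨P₁ + P₂, ?_, ?_, ?_⟩
    · rw [bdiff_add, hP₂]
      ring
    · exact (natDegree_add_le _ _).trans (max_le hP₁deg (by omega))
    · rw [coeff_add, coeff_eq_zero_of_natDegree_lt (show P₂.natDegree < t + 1 + 1 by omega),
        add_zero, hP₁, coeff_C_mul_X_pow, if_pos rfl]
      push_cast
      ring

end Groth.Agent.H19.PolyDiff
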