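import Mathlib
import Groth.Agent.H19.PolyDiff2

set_option autoImplicit false

namespace Groth.Agent.H19.HilbDim

open Polynomial

section Graded

variable {k A : Type*} [Field k] [CommRing A] [Algebra k A] (𝒜 : ℕ → Submodule k A)
  [GradedAlgebra 𝒜]

theorem colon_isHomogeneous (I : Ideal A) (hI : I.IsHomogeneous 𝒜) (a : A) (d : ℕ)
    (ha : a ∈ 𝒜 d) : (I.colon {a}).IsHomogeneous 𝒜 := by
  intro j r hr
  rw [Submodule.mem_colon_singleton, smul_eq_mul] at hr ⊢
  have := hI (j + d) hr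
  rwa [DirectSum.coe_decompose_mul_add_of_right_mem 𝒜 ha] at this

end Graded

section Dim

variable {R : Type*} [CommRing R]

theorem krullDim_zeroLocus_mono {I J : Ideal R} (h : I ≤ J) :
    Order.krullDim (PrimeSpectrum.zeroLocus (J : Set R)) ≤
      Order.krullDim (PrimeSpectrum.zeroLocus (I : Set R)) := by
  have hsub : PrimeSpectrum.zeroLocus (J : Set R) ⊆ PrimeSpectrum.zeroLocus (I : Set R) :=
    PrimeSpectrum.zeroLocus_anti_mono h
  exact Order.krullDim_le_of_strictMono (Set.inclusion hsub) (fun a b hab => hab)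

theorem ringKrullDim_quotient_eq_max (I : Ideal R) (a : R) :
    ringKrullDim (R ⧸ I) =
      max (ringKrullDim (R ⧸ (I ⊔ Ideal.span {a}))) (ringKrullDim (R ⧸ I.colon {a})) := by
  rw [ringKrullDim_quotient, ringKrullDim_quotient, ringKrullDim_quotient]
  have hI1 : I ≤ I ⊔ Ideal.span {a} := le_sup_left
  have hI2 : I ≤ I.colon {a} := by
    intro r hr
    rw [Submodule.mem_colon_singleton, smul_eq_mul]
    exact I.mul_mem_right _ hr
  apply le_antisymm
  · unfold Order.krullDim
    apply iSup_le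
    intro l
    by_cases ha : a ∈ l.head.1.asIdeal
    · refine le_trans ?_ (le_max_left _ _)
      have hmem : ∀ i, (l i).1 ∈ PrimeSpectrum.zeroLocus ((I ⊔ Ideal.span {a} : Ideal R) : Set R) := by
        intro i
        rw [PrimeSpectrum.mem_zeroLocus, SetLike.coe_subset_coe]
        have hle : l.head.1.asIdeal ≤ (l i).1.asIdeal := l.head_le i
        apply sup_le
        · exact ((PrimeSpectrum.mem_zeroLocus _ _).mp (l i).2)
        · rw [Ideal.span_le, Set.singleton_subset_iff]
          exact hle ha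
      let l' : LTSeries (PrimeSpectrum.zeroLocus ((I ⊔ Ideal.span {a} : Ideal R) : Set R)) :=
        LTSeries.mk l.length (fun i => ⟨(l i).1, hmem i⟩) (fun i j hij => l.strictMono hij)
      exact le_iSup (fun p : LTSeries _ => (p.length : WithBot ℕ∞)) l'
    · refine le_trans ?_ (le_max_right _ _)
      have hmem : ∀ i, (l i).1 ∈ PrimeSpectrum.zeroLocus ((I.colon {a} : Ideal R) : Set R) := by
        intro i
        rw [PrimeSpectrum.mem_zeroLocus, SetLike.coe_subset_coe]
        have hle : l.head.1.asIdeal ≤ (l i).1.asIdeal := l.head_le i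
        intro r hr
        rw [Submodule.mem_colon_singleton, smul_eq_mul] at hr
        have hI : I ≤ l.head.1.asIdeal := (PrimeSpectrum.mem_zeroLocus _ _).mp l.head.2
        have := hI hr
        exact hle ((l.head.1.isPrime.mem_or_mem this).resolve_right ha)
      let l' : LTSeries (PrimeSpectrum.zeroLocus ((I.colon {a} : Ideal R) : Set R)) :=
        LTSeries.mk l.length (fun i => ⟨(l i).1, hmem i⟩) (fun i j hij => l.strictMono hij)
      exact le_iSup (fun p : LTSeries _ => (p.length : WithBot ℕ∞)) l'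
  · exact max_le (krullDim_zeroLocus_mono hI1) (krullDim_zeroLocus_mono hI2)

end Dim

section Good

theorem withBot_trichotomy (x : WithBot ℕ∞) (hx : x ≠ ⊤) :
    x ≤ 0 ∨ ∃ D : ℕ, x = (D : WithBot ℕ∞) + 1 := by
  induction x using WithBot.recBotCoe with
  | bot => exact Or.inl bot_le
  | coe n =>
    induction n using ENat.recTopCoe with
    | top => exact absurd rfl hx
    | coe n =>
      rcases Nat.eq_zero_or_pos n with rfl | hn
      · left; exact le_rfl
      · right
        refine ⟨n - 1, ?_⟩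
        have : n = (n - 1) + 1 := by omega
        conv_lhs => rw [this]
        rfl

/-- `Good P δ`: the polynomial `P` looks like the Hilbert polynomial of something of dimension `δ`. -/
def Good (P : ℚ[X]) (δ : WithBot ℕ∞) : Prop :=
  (δ ≤ 0 → P = 0) ∧ ∀ D : ℕ, δ = (D : WithBot ℕ∞) + 1 → P.natDegree = D ∧ 0 < P.leadingCoeff

theorem natCast_add_one_le {a b : ℕ} (h : (a : WithBot ℕ∞) + 1 ≤ (b : WithBot ℕ∞) + 1) : a ≤ b := by
  have : ((a + 1 : ℕ) : WithBot ℕ∞) ≤ ((b + 1 : ℕ) : WithBot ℕ∞) := by push_cast; exact h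
  have h2 : a + 1 ≤ b + 1 := by exact_mod_cast this
  omega

theorem not_natCast_add_one_le_zero (a : ℕ) : ¬ ((a : WithBot ℕ∞) + 1 ≤ 0) := by
  intro h
  have : ((a + 1 : ℕ) : WithBot ℕ∞) ≤ ((0 : ℕ) : WithBot ℕ∞) := by push_cast; exact h
  have h2 : a + 1 ≤ 0 := by exact_mod_cast this
  omega

theorem Good.aux {P : ℚ[X]} {δ : WithBot ℕ∞} (h : Good P δ) (hδ : δ ≠ ⊤) (D : ℕ)
    (hle : δ ≤ (D : WithBot ℕ∞) + 1) :
    P.natDegree ≤ D ∧ 0 ≤ P.coeff D ∧ (δ = (D : WithBot ℕ∞) + 1 → 0 < P.coeff D) := by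
  rcases withBot_trichotomy δ hδ with h0 | ⟨D', hD'⟩
  · have hP := h.1 h0
    subst hP
    refine ⟨by simp, by simp, fun he => ?_⟩
    rw [he] at h0
    exact absurd h0 (not_natCast_add_one_le_zero D)
  · obtain ⟨hdeg, hlc⟩ := h.2 D' hD'
    rw [hD'] at hle
    have hDD : D' ≤ D := natCast_add_one_le hle
    refine ⟨by omega, ?_, ?_⟩
    · rcases hDD.eq_or_lt with heq | hlt
      · subst heq
        rw [← hdeg]
        exact hlc.le
      · rw [coeff_eq_zero_of_natDegree_lt (by omega)]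
    · intro he
      rw [hD'] at he
      have h1 := natCast_add_one_le he.le
      have h2 := natCast_add_one_le he.ge
      have heq : D' = D := le_antisymm h1 h2
      subst heq
      rw [← hdeg]
      exact hlc

theorem Good.add {P₁ P₂ : ℚ[X]} {δ₁ δ₂ : WithBot ℕ∞} (h₁ : Good P₁ δ₁) (h₂ : Good P₂ δ₂)
    (hδ₁ : δ₁ ≠ ⊤) (hδ₂ : δ₂ ≠ ⊤) : Good (P₁ + P₂) (max δ₁ δ₂) := by
  constructor
  · intro h0
    rw [h₁.1 ((le_max_left _ _).trans h0), h₂.1 ((le_max_right _ _).trans h0), add_zero]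
  · intro D hD
    have hle₁ : δ₁ ≤ (D : WithBot ℕ∞) + 1 := hD ▸ le_max_left _ _
    have hle₂ : δ₂ ≤ (D : WithBot ℕ∞) + 1 := hD ▸ le_max_right _ _
    obtain ⟨hd₁, hc₁, hp₁⟩ := h₁.aux hδ₁ D hle₁
    obtain ⟨hd₂, hc₂, hp₂⟩ := h₂.aux hδ₂ D hle₂
    have hpos : 0 < (P₁ + P₂).coeff D := by
      rw [coeff_add]
      rcases max_choice δ₁ δ₂ with hm | hm
      · have := hp₁ (hm ▸ hD)
        linarith
      · have := hp₂ (hm ▸ hD)
        linarith
    have hle : (P₁ + P₂).natDegree ≤ D := (natDegree_add_le _ _).trans (max_le hd₁ hd₂)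
    have hdeg : (P₁ + P₂).natDegree = D :=
      le_antisymm hle (le_natDegree_of_ne_zero hpos.ne')
    refine ⟨hdeg, ?_⟩
    rw [leadingCoeff, hdeg]
    exact hpos

theorem Good.taylor {P : ℚ[X]} {δ : WithBot ℕ∞} (h : Good P δ) (r : ℚ) : Good (taylor r P) δ := by
  constructor
  · intro h0
    rw [h.1 h0, map_zero]
  · intro D hD
    rw [natDegree_taylor, leadingCoeff_taylor]
    exact h.2 D hD

end Good

end Groth.Agent.H19.HilbDim
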