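import Mathlib
import Groth.Agent.H19.HilbDim1
import Groth.Agent.Lib.Helper7.SatChain

set_option autoImplicit false
universe u

namespace Groth.Agent.H19.HilbDim

open Polynomial

theorem withBot_add_one_le_of_forall (a b : WithBot ℕ∞)
    (h : ∀ n : ℕ, (n : WithBot ℕ∞) ≤ a → ((n : WithBot ℕ∞) + 1) ≤ b) : a + 1 ≤ b := by
  induction a using WithBot.recBotCoe with
  | bot => simp
  | coe x =>
    induction x using ENat.recTopCoe with
    | top =>
      have hb : b = ⊤ := by
        induction b using WithBot.recBotCoe with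
        | bot =>
          have := h 0 (by exact_mod_cast le_top)
          simp at this
        | coe y =>
          have hy : y = ⊤ := by
            rw [ENat.eq_top_iff_forall_ge]
            intro n
            have h1 := h n (by exact_mod_cast le_top)
            have h2 : (((n + 1 : ℕ) : ℕ∞) : WithBot ℕ∞) ≤ (y : WithBot ℕ∞) := by
              push_cast
              exact h1
            rw [WithBot.coe_le_coe] at h2
            exact le_trans (by exact_mod_cast Nat.le_succ n) h2
          rw [hy]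
          rfl
      rw [hb]
      exact le_top
    | coe n => exact h n le_rfl

section Section

theorem dim_section_le (R : Type u) [CommRing R] (I : Ideal R) [I.IsPrime] (x : R) (hx : x ∉ I) :
    ringKrullDim (R ⧸ (I ⊔ Ideal.span {x})) + 1 ≤ ringKrullDim (R ⧸ I) := by
  rw [ringKrullDim_quotient, ringKrullDim_quotient]
  apply withBot_add_one_le_of_forall
  intro n hn
  obtain ⟨l, hl⟩ := Order.le_krullDim_iff.mp hn
  have hsub : PrimeSpectrum.zeroLocus ((I ⊔ Ideal.span {x} : Ideal R) : Set R) ⊆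
      PrimeSpectrum.zeroLocus (I : Set R) :=
    PrimeSpectrum.zeroLocus_anti_mono (SetLike.coe_subset_coe.mpr le_sup_left)
  let p' : PrimeSpectrum.zeroLocus (I : Set R) :=
    ⟨⟨I, inferInstance⟩, (PrimeSpectrum.mem_zeroLocus _ _).mpr le_rfl⟩
  have hlt : p' < (l.map (Set.inclusion hsub) (fun a b hab => hab)).head := by
    rw [LTSeries.head_map]
    have hI : (I ⊔ Ideal.span {x} : Ideal R) ≤ l.head.1.asIdeal :=
      (PrimeSpectrum.mem_zeroLocus _ _).mp l.head.2
    show I < l.head.1.asIdeal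
    refine lt_of_le_of_ne (le_sup_left.trans hI) (fun heq => hx ?_)
    rw [heq]
    exact hI (Ideal.mem_sup_right (Ideal.subset_span (Set.mem_singleton x)))
  have h2 := Order.LTSeries.length_le_krullDim
    ((l.map (Set.inclusion hsub) (fun a b hab => hab)).cons p' hlt)
  rw [RelSeries.cons_length, LTSeries.map_length, hl] at h2
  exact_mod_cast h2

theorem dim_section_ge (k : Type u) [Field k] (R : Type u) [CommRing R] [Algebra k R]
    [Algebra.FiniteType k R] (I : Ideal R) [I.IsPrime] (x : R) (hx : x ∉ I)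
    (hne : I ⊔ Ideal.span {x} ≠ ⊤) :
    ringKrullDim (R ⧸ I) ≤ ringKrullDim (R ⧸ (I ⊔ Ideal.span {x})) + 1 := by
  haveI : IsNoetherianRing (R ⧸ I) := Algebra.FiniteType.isNoetherianRing k (R ⧸ I)
  set xb : R ⧸ I := Ideal.Quotient.mk I x with hxb
  have hxb0 : xb ≠ 0 := fun h => hx (Ideal.Quotient.eq_zero_iff_mem.mp h)
  have hspan : Ideal.span {xb} ≠ ⊤ := by
    intro htop
    apply hne
    rw [Ideal.eq_top_iff_one] at htop ⊢
    obtain ⟨c, hc⟩ := Ideal.mem_span_singleton'.mp htop
    obtain ⟨c', rfl⟩ := Ideal.Quotient.mk_surjective c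
    rw [hxb, ← map_mul, ← map_one (Ideal.Quotient.mk I), Ideal.Quotient.eq] at hc
    have : (1 : R) = (c' * x) - (c' * x - 1) := by ring
    rw [this]
    exact Ideal.sub_mem _ (Ideal.mem_sup_right (Ideal.mul_mem_left _ _
      (Ideal.subset_span (Set.mem_singleton x)))) (Ideal.mem_sup_left hc)
  obtain ⟨q, hq⟩ := Ideal.nonempty_minimalPrimes hspan
  haveI hqp : q.IsPrime := hq.1.1
  have hxq : xb ∈ q := hq.1.2 (Ideal.subset_span (Set.mem_singleton xb))
  have hq0 : q ≠ ⊥ := fun h => hxb0 (by rw [h] at hxq; exact hxq)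
  have hht : q.height ≤ 1 :=
    Ideal.height_le_one_of_isPrincipal_of_mem_minimalPrimes (Ideal.span {xb}) q hq
  have hmin : ∀ Q : Ideal (R ⧸ I), Q.IsPrime → Q ≠ ⊥ → Q ≤ q → Q = q := by
    intro Q hQ hQ0 hQq
    by_contra hne'
    have hlt : Q < q := lt_of_le_of_ne hQq hne'
    haveI := hQ
    have h1 : Q.height < q.height := Ideal.height_strict_mono_of_isPrime_of_isPrime hlt
    have h2 : Q.height ≠ 0 := fun h => hQ0 (Ideal.height_eq_zero_iff_eq_bot.mp h)
    have h3 : 1 ≤ Q.height := Order.one_le_iff_pos.mpr (pos_iff_ne_zero.mpr h2)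
    exact absurd (lt_of_le_of_lt h3 h1) (not_lt.mpr hht)
  have hKL := Groth.Agent.Helper7.SatChain.KL k (R ⧸ I) q hq0 hmin
  rw [← hKL]
  gcongr
  let φ : R ⧸ (I ⊔ Ideal.span {x}) →+* (R ⧸ I) ⧸ q :=
    Ideal.Quotient.lift (I ⊔ Ideal.span {x}) ((Ideal.Quotient.mk q).comp (Ideal.Quotient.mk I)) (by
      intro a ha
      rw [RingHom.comp_apply, Ideal.Quotient.eq_zero_iff_mem]
      obtain ⟨i, hi, y, hy, rfl⟩ := Submodule.mem_sup.mp ha
      obtain ⟨c, rfl⟩ := Ideal.mem_span_singleton'.mp hy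
      rw [map_add, Ideal.Quotient.eq_zero_iff_mem.mpr hi, zero_add, map_mul]
      exact q.mul_mem_left _ hxq)
  apply ringKrullDim_le_of_surjective φ
  intro y
  obtain ⟨y', rfl⟩ := Ideal.Quotient.mk_surjective y
  obtain ⟨y'', rfl⟩ := Ideal.Quotient.mk_surjective y'
  exact ⟨Ideal.Quotient.mk _ y'', rfl⟩

theorem dim_section (k : Type u) [Field k] (R : Type u) [CommRing R] [Algebra k R]
    [Algebra.FiniteType k R] (I : Ideal R) [I.IsPrime] (x : R) (hx : x ∉ I)
    (hne : I ⊔ Ideal.span {x} ≠ ⊤) :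
    ringKrullDim (R ⧸ (I ⊔ Ideal.span {x})) + 1 = ringKrullDim (R ⧸ I) :=
  le_antisymm (dim_section_le R I x hx) (dim_section_ge k R I x hx hne)

end Section

end Groth.Agent.H19.HilbDim
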