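import Mathlib

set_option autoImplicit false

namespace Groth.Agent.H19.HilbSec

variable {k A : Type*} [Field k] [CommRing A] [Algebra k A] (𝒜 : ℕ → Submodule k A)
  [GradedAlgebra 𝒜]

/-- degree piece of an ideal -/
def piece (I : Ideal A) (m : ℕ) : Submodule k A := I.restrictScalars k ⊓ 𝒜 m

theorem mem_piece (I : Ideal A) (m : ℕ) (x : A) : x ∈ piece 𝒜 I m ↔ x ∈ I ∧ x ∈ 𝒜 m := by
  simp [piece]

theorem piece_sup_span (I : Ideal A) (hI : I.IsHomogeneous 𝒜) (f : A) (d : ℕ) (hf : f ∈ 𝒜 d)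
    (m : ℕ) (hm : d ≤ m) :
    piece 𝒜 (I ⊔ Ideal.span {f}) m =
      piece 𝒜 I m ⊔ (𝒜 (m - d)).map (LinearMap.mulLeft k f) := by
  apply le_antisymm
  · intro x hx
    rw [mem_piece] at hx
    obtain ⟨hxI, hxm⟩ := hx
    obtain ⟨i, hi, y, hy, rfl⟩ := Submodule.mem_sup.mp hxI
    obtain ⟨r, rfl⟩ := Ideal.mem_span_singleton'.mp hy
    have h1 : i + r * f = (DirectSum.decompose 𝒜 (i + r * f) m : A) :=
      (DirectSum.decompose_of_mem_same 𝒜 hxm).symm
    rw [DirectSum.decompose_add, DirectSum.add_apply, Submodule.coe_add, mul_comm r f,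
      DirectSum.coe_decompose_mul_of_left_mem_of_le 𝒜 hf hm] at h1
    rw [mul_comm r f, h1]
    apply Submodule.add_mem_sup
    · rw [mem_piece]
      exact ⟨hI m hi, SetLike.coe_mem _⟩
    · exact ⟨_, SetLike.coe_mem _, rfl⟩
  · apply sup_le
    · intro x hx
      rw [mem_piece] at hx ⊢
      exact ⟨Ideal.mem_sup_left hx.1, hx.2⟩
    · rintro _ ⟨r, hr, rfl⟩
      rw [mem_piece]
      refine ⟨Ideal.mem_sup_right (Ideal.mul_mem_right _ _ (Ideal.mem_span_singleton_self f)), ?_⟩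
      have : f * r ∈ 𝒜 (d + (m - d)) := SetLike.GradedMul.mul_mem hf hr
      rwa [Nat.add_sub_cancel' hm] at this

theorem piece_inf_map (I : Ideal A) (f : A) (d : ℕ) (hf : f ∈ 𝒜 d) (m : ℕ) (hm : d ≤ m) :
    piece 𝒜 I m ⊓ (𝒜 (m - d)).map (LinearMap.mulLeft k f) =
      (piece 𝒜 (I.colon {f}) (m - d)).map (LinearMap.mulLeft k f) := by
  apply le_antisymm
  · rintro x ⟨hx1, r, hr, rfl⟩
    rw [SetLike.mem_coe, mem_piece] at hx1
    refine ⟨r, ?_, rfl⟩
    rw [SetLike.mem_coe, mem_piece]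
    refine ⟨?_, hr⟩
    rw [Submodule.mem_colon_singleton, smul_eq_mul, mul_comm]
    exact hx1.1
  · rintro _ ⟨r, hr, rfl⟩
    rw [SetLike.mem_coe, mem_piece] at hr
    refine ⟨?_, r, hr.2, rfl⟩
    rw [SetLike.mem_coe, mem_piece]
    have h1 := hr.1
    rw [Submodule.mem_colon_singleton, smul_eq_mul, mul_comm] at h1
    refine ⟨h1, ?_⟩
    have : f * r ∈ 𝒜 (d + (m - d)) := SetLike.GradedMul.mul_mem hf hr.2
    rwa [Nat.add_sub_cancel' hm] at this

theorem finrank_formula [IsDomain A] [∀ m, Module.Finite k (𝒜 m)]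
    (I : Ideal A) (hI : I.IsHomogeneous 𝒜) (f : A) (hf0 : f ≠ 0)
    (d : ℕ) (hf : f ∈ 𝒜 d) (m : ℕ) (hm : d ≤ m) :
    Module.finrank k (piece 𝒜 (I ⊔ Ideal.span {f}) m) +
        Module.finrank k (piece 𝒜 (I.colon {f}) (m - d)) =
      Module.finrank k (piece 𝒜 I m) + Module.finrank k (𝒜 (m - d)) := by
  have hinj : Function.Injective (LinearMap.mulLeft k f) := fun a b hab =>
    mul_left_cancel₀ hf0 hab
  haveI : ∀ (J : Ideal A) (e : ℕ), Module.Finite k (piece 𝒜 J e) := fun J e =>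
    Submodule.finiteDimensional_of_le (inf_le_right : piece 𝒜 J e ≤ 𝒜 e)
  haveI : Module.Finite k ((𝒜 (m - d)).map (LinearMap.mulLeft k f)) := inferInstance
  have h1 := Submodule.finrank_sup_add_finrank_inf_eq (piece 𝒜 I m)
    ((𝒜 (m - d)).map (LinearMap.mulLeft k f))
  rw [← piece_sup_span 𝒜 I hI f d hf m hm, piece_inf_map 𝒜 I f d hf m hm] at h1
  rw [(Submodule.equivMapOfInjective _ hinj (𝒜 (m - d))).symm.finrank_eq,
    (Submodule.equivMapOfInjective _ hinj (piece 𝒜 (I.colon {f}) (m - d))).symm.finrank_eq] at h1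
  exact h1

end Groth.Agent.H19.HilbSec
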