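import Mathlib
import Groth.Prelude.Def_CohB1

set_option autoImplicit false
universe u

namespace Groth.Agent.H19.LinForms

open MvPolynomial

attribute [local instance] MvPolynomial.gradedAlgebra

variable {k : Type u} [Field k] {σ : Type} [Fintype σ]

/-- The irrelevant ideal. -/
noncomputable abbrev irrI (k : Type u) [Field k] (σ : Type) : Ideal (MvPolynomial σ k) :=
  Ideal.span (Set.range (X : σ → MvPolynomial σ k))

omit [Fintype σ] in
theorem irrI_eq_ker : irrI k σ = RingHom.ker (constantCoeff (R := k) (σ := σ)) := by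
  apply le_antisymm
  · rw [Ideal.span_le]
    rintro _ ⟨i, rfl⟩
    simp [RingHom.mem_ker]
  · intro p hp
    have hp' : p ∈ Ideal.span (X '' (Set.univ : Set σ) : Set (MvPolynomial σ k)) := by
      rw [mem_ideal_span_X_image]
      intro m hm
      have hm0 : m ≠ 0 := by
        rintro rfl
        rw [mem_support_iff] at hm
        apply hm
        have : constantCoeff p = 0 := hp
        rwa [constantCoeff_eq] at this
      obtain ⟨i, hi⟩ := Finsupp.ne_iff.mp hm0
      exact ⟨i, Set.mem_univ _, by simpa using hi⟩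
    rwa [Set.image_univ] at hp'

omit [Fintype σ] in
instance irrI_isMaximal : (irrI k σ).IsMaximal := by
  rw [irrI_eq_ker]
  exact RingHom.ker_isMaximal_of_surjective _ (fun c => ⟨C c, by simp⟩)

omit [Fintype σ] in
/-- A proper homogeneous ideal is contained in the irrelevant ideal. -/
theorem le_irrI_of_isHomogeneous {P : Ideal (MvPolynomial σ k)}
    (hP : P.IsHomogeneous (homogeneousSubmodule σ k)) (hne : P ≠ ⊤) : P ≤ irrI k σ := by
  intro f hf
  rw [irrI_eq_ker, RingHom.mem_ker, constantCoeff_eq]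
  by_contra h0
  apply hne
  have h1 : homogeneousComponent 0 f ∈ P := homogeneousComponent_mem_of_mem hP hf 0
  rw [homogeneousComponent_zero] at h1
  rw [Ideal.eq_top_iff_one]
  have : (1 : MvPolynomial σ k) = C (coeff 0 f)⁻¹ * C (coeff 0 f) := by
    rw [← C_mul, inv_mul_cancel₀ h0, C_1]
  rw [this]
  exact P.mul_mem_left _ h1

omit [Fintype σ] in
theorem isHomogeneous_of_mem_minimalPrimes {I p : Ideal (MvPolynomial σ k)}
    (hI : I.IsHomogeneous (homogeneousSubmodule σ k)) (hp : p ∈ I.minimalPrimes) :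
    p.IsHomogeneous (homogeneousSubmodule σ k) := by
  have hprime : p.IsPrime := hp.1.1
  have hcore : (p.homogeneousCore (homogeneousSubmodule σ k)).toIdeal.IsPrime :=
    hprime.homogeneousCore
  have hle : (p.homogeneousCore (homogeneousSubmodule σ k)).toIdeal ≤ p :=
    Ideal.toIdeal_homogeneousCore_le _ p
  have hI' : I ≤ (p.homogeneousCore (homogeneousSubmodule σ k)).toIdeal := by
    rw [← hI.toIdeal_homogeneousCore_eq_self]
    exact Ideal.homogeneousCore_mono _ hp.1.2
  have := hp.2 ⟨hcore, hI'⟩ hle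
  rw [Ideal.IsHomogeneous.iff_eq]
  exact le_antisymm hle this


omit [Fintype σ] in
theorem exists_linear_form [Infinite k] (S : Set (Ideal (MvPolynomial σ k))) (hS : S.Finite)
    (hS' : ∀ p ∈ S, ¬ irrI k σ ≤ p) :
    ∃ h : MvPolynomial σ k, h.IsHomogeneous 1 ∧ ∀ p ∈ S, h ∉ p := by
  haveI : Finite S := hS.to_subtype
  let V : Submodule k (MvPolynomial σ k) := homogeneousSubmodule σ k 1
  let W : S → Submodule k V := fun p => Submodule.comap V.subtype (p.1.restrictScalars k)
  have hW : ∀ p, W p ≠ ⊤ := by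
    intro p htop
    apply hS' p.1 p.2
    rw [Ideal.span_le]
    rintro _ ⟨i, rfl⟩
    have hX : (X i : MvPolynomial σ k) ∈ V := isHomogeneous_X k i
    have : (⟨X i, hX⟩ : V) ∈ W p := htop ▸ Submodule.mem_top
    exact this
  obtain ⟨x, hx⟩ := Submodule.exists_forall_notMem_of_forall_ne_top W hW
  exact ⟨x.1, x.2, fun p hp hmem => hx ⟨p, hp⟩ hmem⟩

omit [Fintype σ] in
theorem dim_step (I : Ideal (MvPolynomial σ k)) (h : MvPolynomial σ k) (e : ℕ)
    (hdim : ringKrullDim (MvPolynomial σ k ⧸ I) ≤ ((e + 1 : ℕ) : WithBot ℕ∞))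
    (hh : ∀ p ∈ I.minimalPrimes, ¬ irrI k σ ≤ p → h ∉ p) :
    ringKrullDim (MvPolynomial σ k ⧸ (I ⊔ Ideal.span {h})) ≤ (e : WithBot ℕ∞) := by
  rw [ringKrullDim_quotient] at hdim ⊢
  have hlt : Order.krullDim (PrimeSpectrum.zeroLocus (↑(I ⊔ Ideal.span {h}) : Set (MvPolynomial σ k))) <
      ((e + 1 : ℕ) : WithBot ℕ∞) := by
    rw [Order.krullDim_lt_coe_iff]
    intro l
    set Q0 := l.head with hQ0
    have hQ0mem : (↑(I ⊔ Ideal.span {h}) : Set (MvPolynomial σ k)) ⊆ Q0.1.asIdeal :=
      (PrimeSpectrum.mem_zeroLocus _ _).mp Q0.2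
    have hIQ0 : I ≤ Q0.1.asIdeal := fun x hx => hQ0mem (Ideal.mem_sup_left hx)
    have hhQ0 : h ∈ Q0.1.asIdeal :=
      hQ0mem (Ideal.mem_sup_right (Ideal.subset_span (Set.mem_singleton h)))
    by_cases hirr : irrI k σ ≤ Q0.1.asIdeal
    · -- Q0 is maximal, so the chain has length zero
      have hQ0eq : irrI k σ = Q0.1.asIdeal :=
        (irrI_isMaximal (k := k) (σ := σ)).eq_of_le Q0.1.isPrime.ne_top hirr
      have hlen : l.length = 0 := by
        by_contra hne
        have hpos : 0 < l.length := Nat.pos_of_ne_zero hne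
        have hlt' : l.head < l.last := l.strictMono (by
          rw [Fin.lt_def]; simpa using hpos)
        have hlt2 : Q0.1.asIdeal < l.last.1.asIdeal := hlt'
        rw [← hQ0eq] at hlt2
        have := (irrI_isMaximal (k := k) (σ := σ)).eq_of_le l.last.1.isPrime.ne_top hlt2.le
        exact hlt2.ne this
      rw [hlen]
      omega
    · obtain ⟨p, hp, hpQ⟩ := Ideal.exists_minimalPrimes_le hIQ0
      have hpirr : ¬ irrI k σ ≤ p := fun hle => hirr (hle.trans hpQ)
      have hhp : h ∉ p := hh p hp hpirr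
      haveI : p.IsPrime := hp.1.1
      let incl : PrimeSpectrum.zeroLocus (↑(I ⊔ Ideal.span {h}) : Set (MvPolynomial σ k)) →
          PrimeSpectrum.zeroLocus (↑I : Set (MvPolynomial σ k)) :=
        fun Q => ⟨Q.1, (PrimeSpectrum.mem_zeroLocus _ _).mpr
          (fun x hx => (PrimeSpectrum.mem_zeroLocus _ _).mp Q.2 (Ideal.mem_sup_left hx))⟩
      have hincl : StrictMono incl := fun a b hab => hab
      let p' : PrimeSpectrum.zeroLocus (↑I : Set (MvPolynomial σ k)) :=
        ⟨⟨p, inferInstance⟩, (PrimeSpectrum.mem_zeroLocus _ _).mpr hp.1.2⟩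
      have hlt' : p' < (l.map incl hincl).head := by
        rw [LTSeries.head_map]
        show p < Q0.1.asIdeal
        exact lt_of_le_of_ne hpQ (fun heq => hhp (heq ▸ hhQ0))
      have h2 := Order.LTSeries.length_le_krullDim ((l.map incl hincl).cons p' hlt')
      rw [RelSeries.cons_length, LTSeries.map_length] at h2
      have h3 := h2.trans hdim
      have h4 : l.length + 1 ≤ e + 1 := by exact_mod_cast h3
      omega
  rw [Nat.cast_add, Nat.cast_one] at hlt
  exact ENat.WithBot.lt_add_one_iff.mp hlt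


theorem exists_forms [Infinite k] : ∀ (e : ℕ) (I : Ideal (MvPolynomial σ k)),
    I.IsHomogeneous (homogeneousSubmodule σ k) →
    ringKrullDim (MvPolynomial σ k ⧸ I) ≤ (e : WithBot ℕ∞) →
    ∃ h : Fin e → MvPolynomial σ k, (∀ i, (h i).IsHomogeneous 1) ∧
      ∃ N : ℕ, irrI k σ ^ N ≤ I ⊔ Ideal.span (Set.range h)
  | 0 => by
    intro I hI hdim
    refine ⟨fun i => i.elim0, fun i => i.elim0, ?_⟩
    have hK : Ring.KrullDimLE 0 (MvPolynomial σ k ⧸ I) :=
      Ring.krullDimLE_iff.mpr (by simpa using hdim)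
    rw [Ideal.krullDimLE_zero_quotient_iff_forall_minimalPrimes_isMaximal] at hK
    have hrad : irrI k σ ≤ I.radical := by
      rw [← Ideal.sInf_minimalPrimes]
      apply le_sInf
      intro p hp
      have hpmax := hK p hp
      have hph := isHomogeneous_of_mem_minimalPrimes hI hp
      have hle := le_irrI_of_isHomogeneous hph hpmax.ne_top
      exact (hpmax.eq_of_le (irrI_isMaximal (k := k) (σ := σ)).ne_top hle).ge
    obtain ⟨N, hN⟩ := Ideal.exists_pow_le_of_le_radical_of_fg hrad
      (Submodule.fg_span (Set.finite_range _))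
    exact ⟨N, hN.trans le_sup_left⟩
  | e + 1 => by
    intro I hI hdim
    obtain ⟨h, hh1, hh2⟩ := exists_linear_form
      {p | p ∈ I.minimalPrimes ∧ ¬ irrI k σ ≤ p}
      ((Ideal.finite_minimalPrimes_of_isNoetherianRing _ I).subset (fun p hp => hp.1))
      (fun p hp => hp.2)
    have hI' : (I ⊔ Ideal.span {h}).IsHomogeneous (homogeneousSubmodule σ k) :=
      hI.sup (Ideal.homogeneous_span _ _ (by rintro _ rfl; exact ⟨1, hh1⟩))
    have hdim' := dim_step I h e (by exact_mod_cast hdim) (fun p hp hpi => hh2 p ⟨hp, hpi⟩)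
    obtain ⟨h', hh', N, hN⟩ := exists_forms e _ hI' hdim'
    refine ⟨Fin.cons h h', ?_, N, ?_⟩
    · intro i
      refine Fin.cases ?_ (fun j => ?_) i
      · simpa using hh1
      · simpa using hh' j
    · have : Ideal.span (Set.range (Fin.cons h h' : Fin (e + 1) → MvPolynomial σ k)) =
          Ideal.span {h} ⊔ Ideal.span (Set.range h') := by
        rw [Fin.range_cons, Ideal.span_insert]
      rw [this, ← sup_assoc]
      exact hN

theorem main (k : Type u) [Field k] [IsAlgClosed k]
    (n r : ℕ) (I : Ideal (MvPolynomial (Fin (n + 1)) k))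
    (hIh : I.IsHomogeneous (CohB1.polyGrading n k))
    (hdim : ringKrullDim (MvPolynomial (Fin (n + 1)) k ⧸ I) = (r : WithBot ℕ∞) + 1) :
    ∃ h : Fin (r + 1) → MvPolynomial (Fin (n + 1)) k, (∀ i, (h i).IsHomogeneous 1) ∧
      ∃ N : ℕ, (Ideal.span (Set.range (MvPolynomial.X : Fin (n + 1) →
        MvPolynomial (Fin (n + 1)) k))) ^ N ≤ I ⊔ Ideal.span (Set.range h) :=
  exists_forms (r + 1) I hIh (by rw [hdim]; push_cast; exact le_rfl)

end Groth.Agent.H19.LinForms
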