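import Mathlib
import Groth.Agent.H19.HilbDim2
import Groth.Agent.H19.HilbSec
import Groth.Agent.H19.LinForms

set_option autoImplicit false
universe u

namespace Groth.Agent.H19.HilbDim

open Polynomial MvPolynomial Groth.Agent.H19.HilbSec Groth.Agent.H19.PolyDiff
  Groth.Agent.H19.LinForms

attribute [local instance] MvPolynomial.gradedAlgebra

variable {k : Type u} [Field k] {σ : Type} [Fintype σ]

instance finite_homog (m : ℕ) : Module.Finite k (homogeneousSubmodule σ k m) :=
  Module.Finite.iff_fg.mpr (MvPolynomial.homogeneousSubmodule_fg _ _ m)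

/-- Hilbert function of `R/I`. -/
noncomputable def hf (I : Ideal (MvPolynomial σ k)) (m : ℕ) : ℚ :=
  (Module.finrank k (homogeneousSubmodule σ k m) : ℚ) -
    Module.finrank k (piece (homogeneousSubmodule σ k) I m)

/-- `P` is a Hilbert polynomial of `R/I`. -/
def HP (I : Ideal (MvPolynomial σ k)) (P : ℚ[X]) : Prop :=
  ∃ m₀ : ℕ, ∀ m : ℕ, m₀ ≤ m → P.eval (m : ℚ) = hf I m

theorem hf_sum (I : Ideal (MvPolynomial σ k)) (hI : I.IsHomogeneous (homogeneousSubmodule σ k))
    (a : MvPolynomial σ k) (ha0 : a ≠ 0) (d : ℕ) (ha : a ∈ homogeneousSubmodule σ k d) (m : ℕ)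
    (hm : d ≤ m) :
    hf I m = hf (I ⊔ Ideal.span {a}) m + hf (I.colon {a}) (m - d) := by
  have h1 := finrank_formula (homogeneousSubmodule σ k) I hI a ha0 d ha m hm
  have h1' : (Module.finrank k (piece (homogeneousSubmodule σ k) (I ⊔ Ideal.span {a}) m) : ℚ) +
      Module.finrank k (piece (homogeneousSubmodule σ k) (I.colon {a}) (m - d)) =
      Module.finrank k (piece (homogeneousSubmodule σ k) I m) +
        Module.finrank k (homogeneousSubmodule σ k (m - d)) := by exact_mod_cast h1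
  unfold hf
  linarith

theorem dim_ne_top (I : Ideal (MvPolynomial σ k)) : ringKrullDim (MvPolynomial σ k ⧸ I) ≠ ⊤ := by
  have h1 : ringKrullDim (MvPolynomial σ k ⧸ I) ≤ ringKrullDim (MvPolynomial σ k) :=
    ringKrullDim_quotient_le I
  rw [MvPolynomial.ringKrullDim_of_isNoetherianRing, ringKrullDim_eq_zero_of_field, zero_add] at h1
  intro htop
  rw [htop, top_le_iff] at h1
  have h2 : ((Nat.card σ : ℕ∞) : WithBot ℕ∞) = ((⊤ : ℕ∞) : WithBot ℕ∞) := h1
  rw [WithBot.coe_inj] at h2
  exact ENat.coe_ne_top _ h2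


theorem good_zero_of_le {δ : WithBot ℕ∞} (h : δ ≤ 0) : Good 0 δ := by
  refine ⟨fun _ => rfl, fun D hD => ?_⟩
  rw [hD] at h
  exact absurd h (not_natCast_add_one_le_zero D)

theorem claim_top : ∃ P : ℚ[X], HP (⊤ : Ideal (MvPolynomial σ k)) P ∧
    Good P (ringKrullDim (MvPolynomial σ k ⧸ (⊤ : Ideal (MvPolynomial σ k)))) := by
  refine ⟨0, ⟨0, fun m _ => ?_⟩, good_zero_of_le ?_⟩
  · rw [Polynomial.eval_zero]
    unfold hf piece
    rw [Submodule.restrictScalars_top, top_inf_eq, sub_self]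
  · haveI : Subsingleton (MvPolynomial σ k ⧸ (⊤ : Ideal (MvPolynomial σ k))) :=
      Ideal.Quotient.subsingleton_iff.mpr rfl
    rw [ringKrullDim_eq_bot_of_subsingleton]
    exact bot_le

theorem claim_irr : ∃ P : ℚ[X], HP (irrI k σ) P ∧
    Good P (ringKrullDim (MvPolynomial σ k ⧸ irrI k σ)) := by
  refine ⟨0, ⟨1, fun m hm => ?_⟩, good_zero_of_le ?_⟩
  · rw [Polynomial.eval_zero]
    unfold hf
    have : piece (homogeneousSubmodule σ k) (irrI k σ) m = homogeneousSubmodule σ k m := by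
      apply le_antisymm inf_le_right
      intro x hx
      refine (mem_piece (homogeneousSubmodule σ k) (irrI k σ) m x).mpr ⟨?_, hx⟩
      rw [irrI_eq_ker, RingHom.mem_ker, constantCoeff_eq]
      have hx' : x.IsHomogeneous m := hx
      apply hx'.coeff_eq_zero
      simp
      omega
    rw [this, sub_self]
  · have hF : IsField (MvPolynomial σ k ⧸ irrI k σ) :=
      (Ideal.Quotient.maximal_ideal_iff_isField_quotient _).mp (irrI_isMaximal (k := k) (σ := σ))
    rw [ringKrullDim_eq_zero_of_isField hF]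

theorem telescope (g : ℕ → ℚ) (M : ℕ) (h : ∀ m, M < m → g m = g (m - 1)) :
    ∀ m, M ≤ m → g m = g M := by
  intro m hm
  induction m, hm using Nat.le_induction with
  | base => rfl
  | succ m hm ih =>
    rw [h (m + 1) (by omega), Nat.add_sub_cancel, ih]


theorem claim_nonprime (I : Ideal (MvPolynomial σ k))
    (hI : I.IsHomogeneous (homogeneousSubmodule σ k)) (a : MvPolynomial σ k) (d : ℕ)
    (ha : a ∈ homogeneousSubmodule σ k d) (haI : a ∉ I) (P₁ P₂ : ℚ[X])
    (h₁ : HP (I ⊔ Ideal.span {a}) P₁ ∧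
      Good P₁ (ringKrullDim (MvPolynomial σ k ⧸ (I ⊔ Ideal.span {a}))))
    (h₂ : HP (I.colon {a}) P₂ ∧ Good P₂ (ringKrullDim (MvPolynomial σ k ⧸ I.colon {a}))) :
    ∃ P : ℚ[X], HP I P ∧ Good P (ringKrullDim (MvPolynomial σ k ⧸ I)) := by
  have ha0 : a ≠ 0 := fun h => haI (h ▸ I.zero_mem)
  obtain ⟨⟨m₁, hm₁⟩, hg₁⟩ := h₁
  obtain ⟨⟨m₂, hm₂⟩, hg₂⟩ := h₂
  refine ⟨P₁ + taylor (-(d : ℚ)) P₂, ⟨m₁ + m₂ + d, fun m hm => ?_⟩, ?_⟩
  · have hmd : d ≤ m := by omega
    rw [Polynomial.eval_add, taylor_eval, hm₁ m (by omega), hf_sum I hI a ha0 d ha m hmd]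
    congr 1
    have := hm₂ (m - d) (by omega)
    rw [Nat.cast_sub hmd] at this
    rw [← this, sub_eq_add_neg]
  · rw [ringKrullDim_quotient_eq_max I a]
    exact hg₁.add (hg₂.taylor _) (dim_ne_top _) (dim_ne_top _)

theorem colon_eq_of_prime {R : Type*} [CommRing R] (I : Ideal R) [I.IsPrime] (f : R) (hf : f ∉ I) :
    I.colon {f} = I := by
  ext r
  rw [Submodule.mem_colon_singleton, smul_eq_mul]
  constructor
  · intro h
    exact (Ideal.IsPrime.mem_or_mem ‹_› h).resolve_right hf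
  · intro h
    exact I.mul_mem_right _ h

theorem hf_pos_of_notMem (I : Ideal (MvPolynomial σ k)) (m : ℕ) (y : MvPolynomial σ k)
    (hy : y ∈ homogeneousSubmodule σ k m) (hyI : y ∉ I) : 0 < hf I m := by
  unfold hf
  have hlt : piece (homogeneousSubmodule σ k) I m < homogeneousSubmodule σ k m := by
    refine lt_of_le_of_ne inf_le_right (fun heq => hyI ?_)
    have : y ∈ piece (homogeneousSubmodule σ k) I m := heq ▸ hy
    exact ((mem_piece _ _ _ _).mp this).1
  have := Submodule.finrank_lt_finrank_of_lt hlt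
  have h2 : (Module.finrank k (piece (homogeneousSubmodule σ k) I m) : ℚ) <
      Module.finrank k (homogeneousSubmodule σ k m) := by exact_mod_cast this
  linarith


theorem natCast_add_one_inj {a b : ℕ} (h : (a : WithBot ℕ∞) + 1 = (b : WithBot ℕ∞) + 1) : a = b :=
  le_antisymm (natCast_add_one_le h.le) (natCast_add_one_le h.ge)

theorem claim_prime (I : Ideal (MvPolynomial σ k))
    (hI : I.IsHomogeneous (homogeneousSubmodule σ k)) [I.IsPrime] (i : σ)
    (hx : (X i : MvPolynomial σ k) ∉ I) (PJ : ℚ[X])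
    (hJ : HP (I ⊔ Ideal.span {(X i : MvPolynomial σ k)}) PJ ∧
      Good PJ (ringKrullDim (MvPolynomial σ k ⧸ (I ⊔ Ideal.span {(X i : MvPolynomial σ k)})))) :
    ∃ P : ℚ[X], HP I P ∧ Good P (ringKrullDim (MvPolynomial σ k ⧸ I)) := by
  set x : MvPolynomial σ k := X i with hxdef
  set J := I ⊔ Ideal.span {x} with hJdef
  have hxm : x ∈ homogeneousSubmodule σ k 1 := isHomogeneous_X k i
  have hx0 : x ≠ 0 := X_ne_zero i
  have hIle : I ≤ irrI k σ := le_irrI_of_isHomogeneous hI (Ideal.IsPrime.ne_top ‹_›)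
  have hJne : J ≠ ⊤ := by
    intro h
    have hle : J ≤ irrI k σ := sup_le hIle (by
      rw [Ideal.span_le, Set.singleton_subset_iff]
      exact Ideal.subset_span ⟨i, rfl⟩)
    exact (irrI_isMaximal (k := k) (σ := σ)).ne_top (top_le_iff.mp (h ▸ hle))
  have hdimeq := dim_section k (MvPolynomial σ k) I x hx hJne
  haveI : Nontrivial (MvPolynomial σ k ⧸ J) := Ideal.Quotient.nontrivial_iff.mpr hJne
  have hδJ0 : 0 ≤ ringKrullDim (MvPolynomial σ k ⧸ J) := ringKrullDim_nonneg_of_nontrivial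
  obtain ⟨⟨mJ, hmJ⟩, hgJ⟩ := hJ
  have hdiff : ∀ m, 1 ≤ m → hf I m = hf J m + hf I (m - 1) := by
    intro m hm
    have := hf_sum I hI x hx0 1 hxm m hm
    rwa [colon_eq_of_prime I x hx] at this
  rcases withBot_trichotomy _ (dim_ne_top J) with h0 | ⟨D', hD'⟩
  · have hPJ : PJ = 0 := hgJ.1 h0
    have hδJ : ringKrullDim (MvPolynomial σ k ⧸ J) = 0 := le_antisymm h0 hδJ0
    have hconst : ∀ m, mJ + 1 ≤ m → hf I m = hf I (mJ + 1) := by
      apply telescope
      intro m hm
      rw [hdiff m (by omega), ← hmJ m (by omega), hPJ, Polynomial.eval_zero, zero_add]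
    refine ⟨Polynomial.C (hf I (mJ + 1)), ⟨mJ + 1, fun m hm => by rw [Polynomial.eval_C, hconst m hm]⟩, ?_⟩
    have hpos : 0 < hf I (mJ + 1) := by
      apply hf_pos_of_notMem I (mJ + 1) (x ^ (mJ + 1))
      · have := SetLike.pow_mem_graded (mJ + 1) hxm
        simpa using this
      · exact fun h => hx (Ideal.IsPrime.mem_of_pow_mem ‹_› _ h)
    rw [← hdimeq, hδJ]
    constructor
    · intro h
      exfalso
      exact not_natCast_add_one_le_zero 0 (by simpa using h)
    · intro D hD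
      have hD0 : 0 = D := natCast_add_one_inj (by simpa using hD)
      subst hD0
      rw [Polynomial.natDegree_C, Polynomial.leadingCoeff_C]
      exact ⟨rfl, hpos⟩
  · obtain ⟨hdeg, hlc⟩ := hgJ.2 D' hD'
    obtain ⟨P₀, hP₀, hP₀deg, hP₀c⟩ := exists_antidiff D' PJ hdeg.le
    have hc : 0 < P₀.coeff (D' + 1) := by
      rw [hP₀c, ← hdeg]
      exact div_pos hlc (by positivity)
    let g : ℕ → ℚ := fun m => hf I m - P₀.eval (m : ℚ)
    have hg : ∀ m, mJ + 1 ≤ m → g m = g (mJ + 1) := by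
      apply telescope
      intro m hm
      simp only [g]
      have h1 := hdiff m (by omega)
      have h2 := hmJ m (by omega)
      have h3 := bdiff_eval 1 P₀ (m : ℚ)
      rw [hP₀, h2] at h3
      have h4 : ((m - 1 : ℕ) : ℚ) = (m : ℚ) - 1 := by
        rw [Nat.cast_sub (by omega)]
        simp
      rw [h4]
      linarith
    refine ⟨P₀ + Polynomial.C (g (mJ + 1)), ⟨mJ + 1, fun m hm => ?_⟩, ?_⟩
    · rw [Polynomial.eval_add, Polynomial.eval_C]
      have := hg m hm
      simp only [g] at this ⊢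
      linarith
    · have hcoeff : (P₀ + Polynomial.C (g (mJ + 1))).coeff (D' + 1) = P₀.coeff (D' + 1) := by
        rw [Polynomial.coeff_add, Polynomial.coeff_C, if_neg (by omega), add_zero]
      have hle : (P₀ + Polynomial.C (g (mJ + 1))).natDegree ≤ D' + 1 :=
        (natDegree_add_le _ _).trans (max_le hP₀deg (by simp))
      have hnd : (P₀ + Polynomial.C (g (mJ + 1))).natDegree = D' + 1 :=
        le_antisymm hle (le_natDegree_of_ne_zero (by rw [hcoeff]; exact hc.ne'))
      rw [← hdimeq, hD']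
      constructor
      · intro h
        exfalso
        exact not_natCast_add_one_le_zero (D' + 1) (by push_cast; exact h)
      · intro D hD
        have hDD : D' + 1 = D := natCast_add_one_inj (by push_cast; exact hD)
        subst hDD
        refine ⟨hnd, ?_⟩
        rw [leadingCoeff, hnd, hcoeff]
        exact hc


theorem claim : ∀ I : Ideal (MvPolynomial σ k), I.IsHomogeneous (homogeneousSubmodule σ k) →
    ∃ P : ℚ[X], HP I P ∧ Good P (ringKrullDim (MvPolynomial σ k ⧸ I)) := by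
  intro I
  refine IsNoetherian.induction (P := fun I : Ideal (MvPolynomial σ k) =>
    I.IsHomogeneous (homogeneousSubmodule σ k) →
      ∃ P : ℚ[X], HP I P ∧ Good P (ringKrullDim (MvPolynomial σ k ⧸ I))) ?_ I
  intro (I : Ideal (MvPolynomial σ k)) ih hI
  by_cases htop : I = ⊤
  · subst htop
    exact claim_top
  by_cases hprime : I.IsPrime
  · haveI := hprime
    by_cases hirr : ∀ i, (X i : MvPolynomial σ k) ∈ I
    · have hle : irrI k σ ≤ I := by
        rw [Ideal.span_le]
        rintro _ ⟨i, rfl⟩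
        exact hirr i
      have hIeq : irrI k σ = I := (irrI_isMaximal (k := k) (σ := σ)).eq_of_le htop hle
      rw [← hIeq]
      exact claim_irr
    · push Not at hirr
      obtain ⟨i, hi⟩ := hirr
      have hJ : I < I ⊔ Ideal.span {(X i : MvPolynomial σ k)} :=
        lt_of_le_of_ne le_sup_left (fun h => hi (by
          rw [h]
          exact Ideal.mem_sup_right (Ideal.subset_span (Set.mem_singleton _))))
      have hJh : (I ⊔ Ideal.span {(X i : MvPolynomial σ k)}).IsHomogeneous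
          (homogeneousSubmodule σ k) :=
        hI.sup (Ideal.homogeneous_span _ _ (by rintro _ rfl; exact ⟨1, isHomogeneous_X k i⟩))
      obtain ⟨PJ, hPJ⟩ := ih _ hJ hJh
      exact claim_prime I hI i hi PJ hPJ
  · have hnot : ¬ ∀ {x y : MvPolynomial σ k},
        SetLike.IsHomogeneousElem (homogeneousSubmodule σ k) x →
        SetLike.IsHomogeneousElem (homogeneousSubmodule σ k) y → x * y ∈ I → x ∈ I ∨ y ∈ I :=
      fun h => hprime (hI.isPrime_of_homogeneous_mem_or_mem htop h)
    push Not at hnot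
    obtain ⟨a, b, ⟨da, ha⟩, ⟨db, hb⟩, hab, haI, hbI⟩ := hnot
    have hJ₁ : I < I ⊔ Ideal.span {a} :=
      lt_of_le_of_ne le_sup_left (fun h => haI (by
        rw [h]
        exact Ideal.mem_sup_right (Ideal.subset_span (Set.mem_singleton _))))
    have hJ₂ : I < I.colon {a} := by
      refine lt_of_le_of_ne ?_ (fun h => hbI ?_)
      · intro r hr
        rw [Submodule.mem_colon_singleton, smul_eq_mul]
        exact I.mul_mem_right _ hr
      · rw [h, Submodule.mem_colon_singleton, smul_eq_mul, mul_comm]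
        exact hab
    have hJ₁h : (I ⊔ Ideal.span {a}).IsHomogeneous (homogeneousSubmodule σ k) :=
      hI.sup (Ideal.homogeneous_span _ _ (by rintro _ rfl; exact ⟨da, ha⟩))
    have hJ₂h : (I.colon {a}).IsHomogeneous (homogeneousSubmodule σ k) :=
      colon_isHomogeneous _ I hI a da ha
    obtain ⟨P₁, h₁⟩ := ih _ hJ₁ hJ₁h
    obtain ⟨P₂, h₂⟩ := ih _ hJ₂ hJ₂h
    exact claim_nonprime I hI a da ha haI P₁ P₂ h₁ h₂

theorem main (k : Type u) [Field k]
    (n : ℕ) (I : Ideal (MvPolynomial (Fin (n + 1)) k))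
    (hIh : I.IsHomogeneous (CohB1.polyGrading n k))
    (P : ℚ[X]) (hP0 : P ≠ 0)
    (hP : ∃ m₀ : ℕ, ∀ m : ℕ, m₀ ≤ m → P.eval (m : ℚ) =
      (Module.finrank k ↥(CohB1.polyGrading n k m) : ℚ) -
        Module.finrank k ↥(Submodule.restrictScalars k I ⊓ CohB1.polyGrading n k m)) :
    ringKrullDim (MvPolynomial (Fin (n + 1)) k ⧸ I) = (P.natDegree : WithBot ℕ∞) + 1 := by
  obtain ⟨P', ⟨m', hm'⟩, hgood⟩ := claim I hIh
  obtain ⟨m₀, hm₀⟩ := hP
  have hPP : P = P' := by
    apply eq_of_eventually_eq P P' (m₀ + m')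
    intro m hm
    rw [hm₀ m (by omega), hm' m (by omega)]
    rfl
  subst hPP
  rcases withBot_trichotomy _ (dim_ne_top I) with h0 | ⟨D, hD⟩
  · exact absurd (hgood.1 h0) hP0
  · rw [hD, (hgood.2 D hD).1]

end Groth.Agent.H19.HilbDim
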