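import Mathlib

set_option autoImplicit false

namespace Groth.Agent.H19.LocLen

variable {R : Type*} [CommRing R]

/-- local length of `R/I` at the prime `p`. -/
noncomputable def len (p : Ideal R) [p.IsPrime] (I : Ideal R) : ℕ∞ :=
  Module.length (Localization.AtPrime p) (LocalizedModule p.primeCompl (R ⧸ I))

theorem len_eq_zero_of_not_le (p : Ideal R) [p.IsPrime] (I : Ideal R) (h : ¬ I ≤ p) :
    len p I = 0 := by
  unfold len
  rw [Module.length_eq_zero_iff, LocalizedModule.subsingleton_iff]
  obtain ⟨s, hsI, hsp⟩ := SetLike.not_le_iff_exists.mp h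
  intro m
  refine ⟨s, hsp, ?_⟩
  obtain ⟨r, rfl⟩ := Ideal.Quotient.mk_surjective m
  rw [← Ideal.Quotient.mk_eq_mk, ← Submodule.Quotient.mk_smul, Submodule.Quotient.mk_eq_zero,
    smul_eq_mul]
  exact I.mul_mem_right _ hsI

/-- the maps of the colon exact sequence -/
noncomputable def colonMap (I : Ideal R) (a : R) : (R ⧸ I.colon {a}) →ₗ[R] (R ⧸ I) :=
  Submodule.liftQ (I.colon {a}) ((Submodule.mkQ I).comp (LinearMap.mulLeft R a)) (by
    intro r hr
    rw [LinearMap.mem_ker, LinearMap.comp_apply, LinearMap.mulLeft_apply, Submodule.mkQ_apply,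
      Submodule.Quotient.mk_eq_zero, mul_comm]
    exact Submodule.mem_colon_singleton.mp hr)

noncomputable def supMap (I : Ideal R) (a : R) : (R ⧸ I) →ₗ[R] (R ⧸ (I ⊔ Ideal.span {a})) :=
  Submodule.mapQ I (I ⊔ Ideal.span {a}) LinearMap.id (by
    intro r hr
    exact Ideal.mem_sup_left hr)

theorem colonMap_mk (I : Ideal R) (a r : R) :
    colonMap I a (Submodule.Quotient.mk r) = Submodule.Quotient.mk (a * r) := rfl

theorem supMap_mk (I : Ideal R) (a r : R) :
    supMap I a (Submodule.Quotient.mk r) = Submodule.Quotient.mk r := rfl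

theorem colonMap_injective (I : Ideal R) (a : R) : Function.Injective (colonMap I a) := by
  rw [← LinearMap.ker_eq_bot, LinearMap.ker_eq_bot']
  intro m hm
  obtain ⟨r, rfl⟩ := Submodule.Quotient.mk_surjective _ m
  rw [colonMap_mk, Submodule.Quotient.mk_eq_zero] at hm
  rw [Submodule.Quotient.mk_eq_zero, Submodule.mem_colon_singleton, smul_eq_mul, mul_comm]
  exact hm

theorem supMap_surjective (I : Ideal R) (a : R) : Function.Surjective (supMap I a) := by
  intro m
  obtain ⟨r, rfl⟩ := Submodule.Quotient.mk_surjective _ m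
  exact ⟨Submodule.Quotient.mk r, rfl⟩

theorem exact_colon_sup (I : Ideal R) (a : R) : Function.Exact (colonMap I a) (supMap I a) := by
  intro m
  obtain ⟨r, rfl⟩ := Submodule.Quotient.mk_surjective _ m
  rw [supMap_mk, Submodule.Quotient.mk_eq_zero]
  constructor
  · intro hr
    obtain ⟨i, hi, y, hy, rfl⟩ := Submodule.mem_sup.mp hr
    obtain ⟨c, rfl⟩ := Ideal.mem_span_singleton'.mp hy
    refine ⟨Submodule.Quotient.mk c, ?_⟩
    rw [colonMap_mk, Submodule.Quotient.eq]
    have : a * c - (i + c * a) = -i := by ring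
    rw [this]
    exact I.neg_mem hi
  · rintro ⟨m', hm'⟩
    obtain ⟨c, rfl⟩ := Submodule.Quotient.mk_surjective _ m'
    rw [colonMap_mk, Submodule.Quotient.eq] at hm'
    have : r = (a * c) - (a * c - r) := by ring
    rw [this]
    exact Ideal.sub_mem _ (Ideal.mem_sup_right (Ideal.mul_mem_right _ _
      (Ideal.mem_span_singleton_self a))) (Ideal.mem_sup_left hm')

theorem len_add (p : Ideal R) [p.IsPrime] (I : Ideal R) (a : R) :
    len p I = len p (I.colon {a}) + len p (I ⊔ Ideal.span {a}) := by
  unfold len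
  apply Module.length_eq_add_of_exact
    (LocalizedModule.map p.primeCompl (colonMap I a))
    (LocalizedModule.map p.primeCompl (supMap I a))
    (LocalizedModule.map_injective _ _ (colonMap_injective I a))
    (LocalizedModule.map_surjective _ _ (supMap_surjective I a))
  exact LocalizedModule.map_exact p.primeCompl _ _ (exact_colon_sup I a)


theorem len_self (p : Ideal R) [p.IsPrime] : len p p = 1 := by
  unfold len
  rw [Module.length_eq_one_iff, isSimpleModule_iff_toSpanSingleton_surjective]
  constructor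
  · refine ⟨⟨LocalizedModule.mk (Submodule.Quotient.mk 1) 1, 0, ?_⟩⟩
    intro h
    rw [← LocalizedModule.zero_mk 1, LocalizedModule.mk_eq] at h
    obtain ⟨u, hu⟩ := h
    rw [smul_zero, smul_zero, one_smul, Submonoid.smul_def, ← Submodule.Quotient.mk_smul,
      Submodule.Quotient.mk_eq_zero, smul_eq_mul, mul_one] at hu
    exact u.2 hu
  · intro x hx y
    induction x using LocalizedModule.induction_on with
    | h m s =>
    induction y using LocalizedModule.induction_on with
    | h m' s' =>
    obtain ⟨r, rfl⟩ := Submodule.Quotient.mk_surjective _ m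
    obtain ⟨r', rfl⟩ := Submodule.Quotient.mk_surjective _ m'
    have hr : r ∉ p := by
      intro hr
      apply hx
      rw [(Submodule.Quotient.mk_eq_zero _).mpr hr, LocalizedModule.zero_mk]
    refine ⟨Localization.mk (r' * s) (s' * ⟨r, hr⟩), ?_⟩
    rw [LinearMap.toSpanSingleton_apply, LocalizedModule.mk_smul_mk, LocalizedModule.mk_eq]
    refine ⟨1, ?_⟩
    simp only [one_smul, Submonoid.smul_def, ← Submodule.Quotient.mk_smul, smul_eq_mul,
      Submonoid.coe_mul]
    congr 1
    ring

end Groth.Agent.H19.LocLen
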