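import Mathlib
import Groth.Agent.H19.HilbDim3
import Groth.Agent.H19.LocLen
import Groth.Prelude.Def_CohB1

set_option autoImplicit false
universe u

namespace Groth.Agent.H19.HilbDim

open Polynomial MvPolynomial Groth.Agent.H19.HilbSec Groth.Agent.H19.PolyDiff
  Groth.Agent.H19.LinForms Groth.Agent.H19.LocLen

attribute [local instance] MvPolynomial.gradedAlgebra

variable {k : Type u} [Field k] {σ : Type} [Fintype σ]

open Classical in
/-- chosen Hilbert polynomial -/
noncomputable def hilbPoly (I : Ideal (MvPolynomial σ k)) : ℚ[X] :=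
  if h : I.IsHomogeneous (homogeneousSubmodule σ k) then Classical.choose (claim I h) else 0

theorem hilbPoly_spec (I : Ideal (MvPolynomial σ k))
    (h : I.IsHomogeneous (homogeneousSubmodule σ k)) :
    HP I (hilbPoly I) ∧ Good (hilbPoly I) (ringKrullDim (MvPolynomial σ k ⧸ I)) := by
  unfold hilbPoly
  rw [dif_pos h]
  exact Classical.choose_spec (claim I h)

theorem HP_unique {I : Ideal (MvPolynomial σ k)} {P Q : ℚ[X]} (hP : HP I P) (hQ : HP I Q) :
    P = Q := by
  obtain ⟨m₁, h₁⟩ := hP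
  obtain ⟨m₂, h₂⟩ := hQ
  apply eq_of_eventually_eq P Q (m₁ + m₂)
  intro m hm
  rw [h₁ m (by omega), h₂ m (by omega)]

theorem HP_add (I : Ideal (MvPolynomial σ k))
    (hI : I.IsHomogeneous (homogeneousSubmodule σ k)) (a : MvPolynomial σ k) (d : ℕ)
    (ha : a ∈ homogeneousSubmodule σ k d) (ha0 : a ≠ 0) (P₁ P₂ : ℚ[X])
    (h₁ : HP (I ⊔ Ideal.span {a}) P₁) (h₂ : HP (I.colon {a}) P₂) :
    HP I (P₁ + taylor (-(d : ℚ)) P₂) := by
  obtain ⟨m₁, hm₁⟩ := h₁
  obtain ⟨m₂, hm₂⟩ := h₂
  refine ⟨m₁ + m₂ + d, fun m hm => ?_⟩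
  have hmd : d ≤ m := by omega
  rw [Polynomial.eval_add, taylor_eval, hm₁ m (by omega), hf_sum I hI a ha0 d ha m hmd]
  congr 1
  have := hm₂ (m - d) (by omega)
  rw [Nat.cast_sub hmd] at this
  rw [← this, sub_eq_add_neg]

/-- normalized degree-`t` coefficient -/
noncomputable def ecoef (t : ℕ) (P : ℚ[X]) : ℚ := (t.factorial : ℚ) * P.coeff t

theorem coeff_taylor_of_le (r : ℚ) (P : ℚ[X]) (j : ℕ) (h : P.natDegree ≤ j) :
    (taylor r P).coeff j = P.coeff j := by
  have := coeff_bdiff_of_le (-r) P j h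
  rw [bdiff, neg_neg, Polynomial.coeff_sub, sub_eq_zero] at this
  exact this.symm

theorem ecoef_add_taylor (t : ℕ) (P₁ P₂ : ℚ[X]) (r : ℚ) (h : P₂.natDegree ≤ t) :
    ecoef t (P₁ + taylor r P₂) = ecoef t P₁ + ecoef t P₂ := by
  unfold ecoef
  rw [Polynomial.coeff_add, coeff_taylor_of_le r P₂ t h]
  ring

theorem dim_succ_le_of_lt {R : Type u} [CommRing R] (I q : Ideal R) [I.IsPrime] (h : I < q) :
    ringKrullDim (R ⧸ q) + 1 ≤ ringKrullDim (R ⧸ I) := by
  obtain ⟨x, hxq, hxI⟩ := SetLike.exists_of_lt h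
  have h1 := dim_section_le R I x hxI
  have hle : I ⊔ Ideal.span {x} ≤ q :=
    sup_le h.le (by rw [Ideal.span_le, Set.singleton_subset_iff]; exact hxq)
  have h2 : ringKrullDim (R ⧸ q) ≤ ringKrullDim (R ⧸ (I ⊔ Ideal.span {x})) := by
    rw [ringKrullDim_quotient, ringKrullDim_quotient]
    exact krullDim_zeroLocus_mono hle
  exact (add_le_add_left h2 1).trans h1

theorem dim_mono {R : Type u} [CommRing R] {I J : Ideal R} (h : I ≤ J) :
    ringKrullDim (R ⧸ J) ≤ ringKrullDim (R ⧸ I) := by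
  rw [ringKrullDim_quotient, ringKrullDim_quotient]
  exact krullDim_zeroLocus_mono h


theorem hilbPoly_top : hilbPoly (⊤ : Ideal (MvPolynomial σ k)) = 0 := by
  refine HP_unique (hilbPoly_spec ⊤ (Ideal.IsHomogeneous.top _)).1 ⟨0, fun m _ => ?_⟩
  rw [Polynomial.eval_zero]
  unfold hf piece
  rw [Submodule.restrictScalars_top, top_inf_eq, sub_self]

theorem coeff_hilbPoly_eq_zero (I : Ideal (MvPolynomial σ k))
    (hI : I.IsHomogeneous (homogeneousSubmodule σ k)) (t : ℕ)
    (hle : ringKrullDim (MvPolynomial σ k ⧸ I) ≤ (t : WithBot ℕ∞) + 1)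
    (hne : ringKrullDim (MvPolynomial σ k ⧸ I) ≠ (t : WithBot ℕ∞) + 1) :
    (hilbPoly I).coeff t = 0 := by
  have hgood := (hilbPoly_spec I hI).2
  rcases withBot_trichotomy _ (dim_ne_top I) with h0 | ⟨D, hD⟩
  · rw [hgood.1 h0, Polynomial.coeff_zero]
  · obtain ⟨hdeg, -⟩ := hgood.2 D hD
    rw [hD] at hle hne
    have h1 : D ≤ t := natCast_add_one_le hle
    have h2 : D ≠ t := fun h => hne (by rw [h])
    exact Polynomial.coeff_eq_zero_of_natDegree_lt (by omega)

theorem degsum (t : ℕ) (r : ℕ) (p : Fin r → Ideal (MvPolynomial σ k)) [hp : ∀ i, (p i).IsPrime]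
    (hpinj : Function.Injective p) :
    ∀ I : Ideal (MvPolynomial σ k), I.IsHomogeneous (homogeneousSubmodule σ k) →
      ringKrullDim (MvPolynomial σ k ⧸ I) ≤ (t : WithBot ℕ∞) + 1 →
      (∀ q : Ideal (MvPolynomial σ k), q.IsPrime → I ≤ q →
        ringKrullDim (MvPolynomial σ k ⧸ q) = (t : WithBot ℕ∞) + 1 → ∃ i, q = p i) →
      (∀ i, ringKrullDim (MvPolynomial σ k ⧸ p i) = (t : WithBot ℕ∞) + 1 → len (p i) I ≠ ⊤) ∧
      ecoef t (hilbPoly I) =
        ∑ i, if ringKrullDim (MvPolynomial σ k ⧸ p i) = (t : WithBot ℕ∞) + 1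
          then ((len (p i) I).toNat : ℚ) * ecoef t (hilbPoly (p i)) else 0 := by
  intro I
  refine IsNoetherian.induction (P := fun I : Ideal (MvPolynomial σ k) =>
    I.IsHomogeneous (homogeneousSubmodule σ k) →
      ringKrullDim (MvPolynomial σ k ⧸ I) ≤ (t : WithBot ℕ∞) + 1 →
      (∀ q : Ideal (MvPolynomial σ k), q.IsPrime → I ≤ q →
        ringKrullDim (MvPolynomial σ k ⧸ q) = (t : WithBot ℕ∞) + 1 → ∃ i, q = p i) →
      (∀ i, ringKrullDim (MvPolynomial σ k ⧸ p i) = (t : WithBot ℕ∞) + 1 → len (p i) I ≠ ⊤) ∧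
      ecoef t (hilbPoly I) =
        ∑ i, if ringKrullDim (MvPolynomial σ k ⧸ p i) = (t : WithBot ℕ∞) + 1
          then ((len (p i) I).toNat : ℚ) * ecoef t (hilbPoly (p i)) else 0) ?_ I
  intro (I : Ideal (MvPolynomial σ k)) ih hI hdim hS
  by_cases htop : I = ⊤
  · subst htop
    have hlen : ∀ i, len (p i) (⊤ : Ideal (MvPolynomial σ k)) = 0 := fun i =>
      len_eq_zero_of_not_le _ _ (fun h => (hp i).ne_top (top_le_iff.mp h))
    refine ⟨fun i _ => by rw [hlen i]; exact ENat.zero_ne_top, ?_⟩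
    rw [hilbPoly_top]
    simp [ecoef, hlen]
  by_cases hprime : I.IsPrime
  · haveI := hprime
    have hkey : ∀ i, ringKrullDim (MvPolynomial σ k ⧸ p i) = (t : WithBot ℕ∞) + 1 → p i ≠ I →
        len (p i) I = 0 := by
      intro i hi hne
      apply len_eq_zero_of_not_le
      intro hle
      have hlt : I < p i := lt_of_le_of_ne hle (Ne.symm hne)
      have h1 := dim_succ_le_of_lt I (p i) hlt
      rw [hi] at h1
      have h2 := h1.trans hdim
      have h3 : t + 1 ≤ t := natCast_add_one_le (a := t + 1) (b := t) (by push_cast; exact h2)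
      omega
    refine ⟨fun i hi => ?_, ?_⟩
    · by_cases hpi : p i = I
      · have h1 : len (p i) I = 1 := by rw [← hpi]; exact len_self (p i)
        rw [h1]
        exact ENat.one_ne_top
      · rw [hkey i hi hpi]
        exact ENat.zero_ne_top
    · by_cases hdimI : ringKrullDim (MvPolynomial σ k ⧸ I) = (t : WithBot ℕ∞) + 1
      · obtain ⟨i₀, hi₀⟩ := hS I hprime le_rfl hdimI
        rw [Finset.sum_eq_single i₀]
        · have h1 : len (p i₀) I = 1 := by rw [hi₀]; exact len_self (p i₀)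
          rw [if_pos (hi₀ ▸ hdimI), h1, ← hi₀]
          simp
        · intro j _ hj
          split_ifs with h
          · rw [hkey j h (fun e => hj (hpinj (e.trans hi₀)))]
            simp
          · rfl
        · intro h
          exact absurd (Finset.mem_univ _) h
      · rw [ecoef, coeff_hilbPoly_eq_zero I hI t hdim hdimI, mul_zero]
        symm
        apply Finset.sum_eq_zero
        intro j _
        split_ifs with h
        · rw [hkey j h (fun e => hdimI (e ▸ h))]
          simp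
        · rfl
  · have hnot : ¬ ∀ {x y : MvPolynomial σ k},
        SetLike.IsHomogeneousElem (homogeneousSubmodule σ k) x →
        SetLike.IsHomogeneousElem (homogeneousSubmodule σ k) y → x * y ∈ I → x ∈ I ∨ y ∈ I :=
      fun h => hprime (hI.isPrime_of_homogeneous_mem_or_mem htop h)
    push Not at hnot
    obtain ⟨a, b, ⟨da, ha⟩, ⟨db, hb⟩, hab, haI, hbI⟩ := hnot
    have ha0 : a ≠ 0 := fun h => haI (h ▸ I.zero_mem)
    have hJ₁ : I < I ⊔ Ideal.span {a} :=
      lt_of_le_of_ne le_sup_left (fun h => haI (by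
        rw [h]
        exact Ideal.mem_sup_right (Ideal.subset_span (Set.mem_singleton _))))
    have hIle : I ≤ I.colon {a} := by
      intro r hr
      rw [Submodule.mem_colon_singleton, smul_eq_mul]
      exact I.mul_mem_right _ hr
    have hJ₂ : I < I.colon {a} := by
      refine lt_of_le_of_ne hIle (fun h => hbI ?_)
      rw [h, Submodule.mem_colon_singleton, smul_eq_mul, mul_comm]
      exact hab
    have hJ₁h : (I ⊔ Ideal.span {a}).IsHomogeneous (homogeneousSubmodule σ k) :=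
      hI.sup (Ideal.homogeneous_span _ _ (by rintro _ rfl; exact ⟨da, ha⟩))
    have hJ₂h : (I.colon {a}).IsHomogeneous (homogeneousSubmodule σ k) :=
      colon_isHomogeneous _ I hI a da ha
    obtain ⟨hfin₁, hsum₁⟩ := ih _ hJ₁ hJ₁h ((dim_mono le_sup_left).trans hdim)
      (fun q hq hle => hS q hq (le_sup_left.trans hle))
    obtain ⟨hfin₂, hsum₂⟩ := ih _ hJ₂ hJ₂h ((dim_mono hIle).trans hdim)
      (fun q hq hle => hS q hq (hIle.trans hle))
    have hlen : ∀ i, len (p i) I = len (p i) (I.colon {a}) + len (p i) (I ⊔ Ideal.span {a}) :=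
      fun i => len_add (p i) I a
    have hP : hilbPoly I = hilbPoly (I ⊔ Ideal.span {a}) +
        taylor (-(da : ℚ)) (hilbPoly (I.colon {a})) :=
      HP_unique (hilbPoly_spec I hI).1 (HP_add I hI a da ha ha0 _ _
        (hilbPoly_spec _ hJ₁h).1 (hilbPoly_spec _ hJ₂h).1)
    have hdeg₂ : (hilbPoly (I.colon {a})).natDegree ≤ t :=
      ((hilbPoly_spec _ hJ₂h).2.aux (dim_ne_top _) t ((dim_mono hIle).trans hdim)).1
    refine ⟨fun i hi => ?_, ?_⟩
    · rw [hlen i]
      exact fun h => (ENat.add_eq_top.mp h).elim (hfin₂ i hi) (hfin₁ i hi)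
    · rw [hP, ecoef_add_taylor t _ _ _ hdeg₂, hsum₁, hsum₂, ← Finset.sum_add_distrib]
      apply Finset.sum_congr rfl
      intro i _
      split_ifs with hi
      · rw [hlen i, ENat.toNat_add (hfin₂ i hi) (hfin₁ i hi)]
        push_cast
        ring
      · simp


theorem main_degsum (k : Type u) [Field k] (n : ℕ)
    (I : Ideal (MvPolynomial (Fin (n + 1)) k)) (hIh : I.IsHomogeneous (CohB1.polyGrading n k))
    (P : ℚ[X])
    (hP : ∃ m₀ : ℕ, ∀ m : ℕ, m₀ ≤ m → P.eval (m : ℚ) =
      (Module.finrank k ↥(CohB1.polyGrading n k m) : ℚ) -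
        Module.finrank k ↥(Submodule.restrictScalars k I ⊓ CohB1.polyGrading n k m))
    (r : ℕ) (p : Fin r → Ideal (MvPolynomial (Fin (n + 1)) k)) [hp : ∀ i, (p i).IsPrime]
    (hpinj : Function.Injective p)
    (hpmin : ∀ q : Ideal (MvPolynomial (Fin (n + 1)) k), q ∈ I.minimalPrimes ↔ ∃ i, q = p i)
    (Qp : Fin r → ℚ[X])
    (hQp : ∀ i, ∃ m₀ : ℕ, ∀ m : ℕ, m₀ ≤ m → (Qp i).eval (m : ℚ) =
      (Module.finrank k ↥(CohB1.polyGrading n k m) : ℚ) -
        Module.finrank k ↥(Submodule.restrictScalars k (p i) ⊓ CohB1.polyGrading n k m)) :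
    (P.natDegree.factorial : ℚ) * P.leadingCoeff =
      ∑ i : Fin r, if (Qp i).natDegree = P.natDegree then
        ((Qp i).natDegree.factorial : ℚ) * (Qp i).leadingCoeff *
          (Module.length (Localization.AtPrime (p i))
            (LocalizedModule (p i).primeCompl (MvPolynomial (Fin (n + 1)) k ⧸ I))).toNat
      else 0 := by
  have hP' : HP I P := hP
  have hPeq : P = hilbPoly I := HP_unique hP' (hilbPoly_spec I hIh).1
  have hpmem : ∀ i, p i ∈ I.minimalPrimes := fun i => (hpmin _).mpr ⟨i, rfl⟩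
  have hph : ∀ i, (p i).IsHomogeneous (homogeneousSubmodule (Fin (n + 1)) k) := fun i =>
    isHomogeneous_of_mem_minimalPrimes hIh (hpmem i)
  have hQeq : ∀ i, Qp i = hilbPoly (p i) := fun i =>
    HP_unique (hQp i) (hilbPoly_spec (p i) (hph i)).1
  have hple : ∀ i, I ≤ p i := fun i => (hpmem i).1.2
  have hgood := (hilbPoly_spec I hIh).2
  have hgoodi := fun i => (hilbPoly_spec (p i) (hph i)).2
  rw [← hPeq] at hgood
  rcases withBot_trichotomy _ (dim_ne_top I) with h0 | ⟨t, hD⟩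
  · have hP0 : P = 0 := hgood.1 h0
    rw [hP0, Polynomial.leadingCoeff_zero, mul_zero]
    symm
    apply Finset.sum_eq_zero
    intro i _
    have hQ0 : Qp i = 0 := by
      rw [hQeq i]
      exact (hgoodi i).1 ((dim_mono (hple i)).trans h0)
    rw [hQ0, Polynomial.leadingCoeff_zero]
    simp
  · obtain ⟨hdeg, hlc⟩ := hgood.2 t hD
    have hS : ∀ q : Ideal (MvPolynomial (Fin (n + 1)) k), q.IsPrime → I ≤ q →
        ringKrullDim (MvPolynomial (Fin (n + 1)) k ⧸ q) = (t : WithBot ℕ∞) + 1 → ∃ i, q = p i := by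
      intro q hq hIq hdq
      haveI := hq
      obtain ⟨q', hq', hq'q⟩ := Ideal.exists_minimalPrimes_le hIq
      rw [← hpmin]
      by_cases hne : q' = q
      · exact hne ▸ hq'
      · exfalso
        haveI : q'.IsPrime := hq'.1.1
        have h1 := dim_succ_le_of_lt q' q (lt_of_le_of_ne hq'q hne)
        have h2 : ringKrullDim (MvPolynomial (Fin (n + 1)) k ⧸ q') ≤ (t : WithBot ℕ∞) + 1 :=
          hD ▸ dim_mono hq'.1.2
        rw [hdq] at h1
        have h3 : t + 1 ≤ t := natCast_add_one_le (a := t + 1) (b := t) (by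
          push_cast; exact h1.trans h2)
        omega
    obtain ⟨-, hsum⟩ := degsum t r p hpinj I hIh hD.le hS
    rw [← hPeq] at hsum
    have hL : (P.natDegree.factorial : ℚ) * P.leadingCoeff = ecoef t P := by
      rw [ecoef, Polynomial.leadingCoeff, hdeg]
    rw [hL, hsum, hdeg]
    apply Finset.sum_congr rfl
    intro i _
    have hdi : ringKrullDim (MvPolynomial (Fin (n + 1)) k ⧸ p i) ≤ (t : WithBot ℕ∞) + 1 :=
      hD ▸ dim_mono (hple i)
    by_cases hi : ringKrullDim (MvPolynomial (Fin (n + 1)) k ⧸ p i) = (t : WithBot ℕ∞) + 1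
    · obtain ⟨hdegi, -⟩ := (hgoodi i).2 t hi
      rw [if_pos hi, hQeq i, if_pos hdegi, ecoef, Polynomial.leadingCoeff, hdegi]
      unfold len
      ring
    · rw [if_neg hi, hQeq i]
      rcases withBot_trichotomy _ (dim_ne_top (p i)) with h0 | ⟨Di, hDi⟩
      · rw [(hgoodi i).1 h0, Polynomial.leadingCoeff_zero]
        simp
      · obtain ⟨hdegi, -⟩ := (hgoodi i).2 Di hDi
        rw [if_neg]
        rw [hdegi]
        intro h
        apply hi
        rw [hDi, h]

end Groth.Agent.H19.HilbDim
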