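import Mathlib
import Groth.Prelude.Def_CohB1
import Groth.Agent.H19.HilbSec
import Groth.Agent.H19.PolyDiff

set_option autoImplicit false
universe u

namespace Groth.Agent.H19.HypSec

open Polynomial Groth.Agent.H19.HilbSec Groth.Agent.H19.PolyDiff

instance finite_polyGrading (k : Type u) [Field k] (n m : ℕ) :
    Module.Finite k (CohB1.polyGrading n k m) :=
  Module.Finite.iff_fg.mpr (MvPolynomial.homogeneousSubmodule_fg _ _ m)

theorem colon_eq_of_prime {R : Type*} [CommRing R] (I : Ideal R) [I.IsPrime] (f : R) (hf : f ∉ I) :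
    I.colon {f} = I := by
  ext r
  rw [Submodule.mem_colon_singleton, smul_eq_mul]
  constructor
  · intro h
    exact (Ideal.IsPrime.mem_or_mem ‹_› h).resolve_right hf
  · intro h
    exact I.mul_mem_right _ h

theorem main (k : Type u) [Field k] (n : ℕ)
    (I : Ideal (MvPolynomial (Fin (n + 1)) k)) (hIh : I.IsHomogeneous (CohB1.polyGrading n k))
    [I.IsPrime]
    (f : MvPolynomial (Fin (n + 1)) k) (d : ℕ) (hd : 0 < d) (hf : f.IsHomogeneous d) (hfI : f ∉ I)
    (P Q : ℚ[X])
    (hP : ∃ m₀ : ℕ, ∀ m : ℕ, m₀ ≤ m → P.eval (m : ℚ) =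
      (Module.finrank k ↥(CohB1.polyGrading n k m) : ℚ) -
        Module.finrank k ↥(Submodule.restrictScalars k I ⊓ CohB1.polyGrading n k m))
    (hQ : ∃ m₀ : ℕ, ∀ m : ℕ, m₀ ≤ m → Q.eval (m : ℚ) =
      (Module.finrank k ↥(CohB1.polyGrading n k m) : ℚ) -
        Module.finrank k ↥(Submodule.restrictScalars k (I ⊔ Ideal.span {f}) ⊓
          CohB1.polyGrading n k m))
    (hdim : 1 ≤ P.natDegree) :
    Q.natDegree + 1 = P.natDegree ∧
      (Q.natDegree.factorial : ℚ) * Q.leadingCoeff =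
        d * ((P.natDegree.factorial : ℚ) * P.leadingCoeff) := by
  obtain ⟨mP, hP⟩ := hP
  obtain ⟨mQ, hQ⟩ := hQ
  have hf0 : f ≠ 0 := fun h => hfI (h ▸ I.zero_mem)
  have hQeq : Q = bdiff (d : ℚ) P := by
    apply eq_of_eventually_eq Q (bdiff (d : ℚ) P) (mP + mQ + d)
    intro m hm
    have hmd : d ≤ m := by omega
    have h1 := finrank_formula (CohB1.polyGrading n k) I hIh f hf0 d hf m hmd
    rw [colon_eq_of_prime I f hfI] at h1
    rw [bdiff_eval, hQ m (by omega), hP m (by omega)]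
    have h2 := hP (m - d) (by omega)
    rw [Nat.cast_sub hmd] at h2
    rw [h2]
    have h1' : (Module.finrank k (piece (CohB1.polyGrading n k) (I ⊔ Ideal.span {f}) m) : ℚ) +
        Module.finrank k (piece (CohB1.polyGrading n k) I (m - d)) =
        Module.finrank k (piece (CohB1.polyGrading n k) I m) +
          Module.finrank k (CohB1.polyGrading n k (m - d)) := by exact_mod_cast h1
    unfold piece at h1'
    linarith
  obtain ⟨t, ht⟩ : ∃ t, P.natDegree = t + 1 := ⟨P.natDegree - 1, by omega⟩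
  have hd0 : (d : ℚ) ≠ 0 := by positivity
  obtain ⟨h1, h2⟩ := natDegree_bdiff (d : ℚ) hd0 P t ht
  rw [hQeq, h1, h2, ht]
  refine ⟨rfl, ?_⟩
  rw [Nat.factorial_succ]
  push_cast
  ring

end Groth.Agent.H19.HypSec
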