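import Mathlib
import Groth.Agent.H19.DegSum
import Groth.Agent.H19.HypSec

set_option autoImplicit false
universe u

namespace Groth.Agent.H19.HilbDim

open Polynomial MvPolynomial Groth.Agent.H19.HilbSec Groth.Agent.H19.PolyDiff
  Groth.Agent.H19.LinForms Groth.Agent.H19.LocLen

attribute [local instance] MvPolynomial.gradedAlgebra

theorem dim_minPrime_section (k : Type u) [Field k] (R : Type u) [CommRing R] [Algebra k R]
    [Algebra.FiniteType k R] (I : Ideal R) [I.IsPrime] (x : R) (hx : x ∉ I)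
    (q : Ideal R) (hq : q ∈ (I ⊔ Ideal.span {x}).minimalPrimes) :
    ringKrullDim (R ⧸ q) + 1 = ringKrullDim (R ⧸ I) := by
  haveI hqp : q.IsPrime := hq.1.1
  have hIq : I ⊔ Ideal.span {x} ≤ q := hq.1.2
  have hxq : x ∈ q := hIq (Ideal.mem_sup_right (Ideal.subset_span (Set.mem_singleton x)))
  have hlt : I < q := lt_of_le_of_ne (le_sup_left.trans hIq) (fun h => hx (h ▸ hxq))
  apply le_antisymm (dim_succ_le_of_lt I q hlt)
  haveI : IsNoetherianRing (R ⧸ I) := Algebra.FiniteType.isNoetherianRing k (R ⧸ I)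
  set xb : R ⧸ I := Ideal.Quotient.mk I x with hxb
  have hxb0 : xb ≠ 0 := fun h => hx (Ideal.Quotient.eq_zero_iff_mem.mp h)
  have hcomap : (Ideal.span {xb}).comap (Ideal.Quotient.mk I) = I ⊔ Ideal.span {x} := by
    rw [hxb, ← Set.image_singleton, ← Ideal.map_span,
      Ideal.comap_map_of_surjective _ Ideal.Quotient.mk_surjective, ← RingHom.ker_eq_comap_bot,
      Ideal.mk_ker, sup_comm]
  rw [← hcomap, Ideal.comap_minimalPrimes_eq_of_surjective Ideal.Quotient.mk_surjective] at hq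
  obtain ⟨qb, hqb, rfl⟩ := hq
  haveI hqbp : qb.IsPrime := hqb.1.1
  have hxqb : xb ∈ qb := hqb.1.2 (Ideal.subset_span (Set.mem_singleton xb))
  have hqb0 : qb ≠ ⊥ := fun h => hxb0 (by rw [h] at hxqb; exact hxqb)
  have hht : qb.height ≤ 1 :=
    Ideal.height_le_one_of_isPrincipal_of_mem_minimalPrimes (Ideal.span {xb}) qb hqb
  have hmin : ∀ Q : Ideal (R ⧸ I), Q.IsPrime → Q ≠ ⊥ → Q ≤ qb → Q = qb := by
    intro Q hQ hQ0 hQq
    by_contra hne'
    have hlt : Q < qb := lt_of_le_of_ne hQq hne'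
    haveI := hQ
    have h1 : Q.height < qb.height := Ideal.height_strict_mono_of_isPrime_of_isPrime hlt
    have h2 : Q.height ≠ 0 := fun h => hQ0 (Ideal.height_eq_zero_iff_eq_bot.mp h)
    have h3 : 1 ≤ Q.height := Order.one_le_iff_pos.mpr (pos_iff_ne_zero.mpr h2)
    exact absurd (lt_of_le_of_lt h3 h1) (not_lt.mpr hht)
  have hKL := Groth.Agent.Helper7.SatChain.KL k (R ⧸ I) qb hqb0 hmin
  rw [← hKL]
  gcongr
  let φ : R ⧸ (qb.comap (Ideal.Quotient.mk I)) →+* (R ⧸ I) ⧸ qb :=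
    Ideal.Quotient.lift _ ((Ideal.Quotient.mk qb).comp (Ideal.Quotient.mk I)) (by
      intro a ha
      rw [RingHom.comp_apply, Ideal.Quotient.eq_zero_iff_mem]
      exact ha)
  apply ringKrullDim_le_of_surjective φ
  intro y
  obtain ⟨y', rfl⟩ := Ideal.Quotient.mk_surjective y
  obtain ⟨y'', rfl⟩ := Ideal.Quotient.mk_surjective y'
  exact ⟨Ideal.Quotient.mk _ y'', rfl⟩


theorem main_bezout (k : Type u) [Field k] (n : ℕ)
    (I : Ideal (MvPolynomial (Fin (n + 1)) k)) (hIh : I.IsHomogeneous (CohB1.polyGrading n k))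
    [I.IsPrime]
    (f : MvPolynomial (Fin (n + 1)) k) (d : ℕ) (hd : 0 < d) (hfh : f.IsHomogeneous d) (hfI : f ∉ I)
    (P : ℚ[X])
    (hP : ∃ m₀ : ℕ, ∀ m : ℕ, m₀ ≤ m → P.eval (m : ℚ) =
      (Module.finrank k ↥(CohB1.polyGrading n k m) : ℚ) -
        Module.finrank k ↥(Submodule.restrictScalars k I ⊓ CohB1.polyGrading n k m))
    (hdim : 1 ≤ P.natDegree)
    (r : ℕ) (p : Fin r → Ideal (MvPolynomial (Fin (n + 1)) k)) [hp : ∀ i, (p i).IsPrime]
    (hpinj : Function.Injective p)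
    (hpmin : ∀ q : Ideal (MvPolynomial (Fin (n + 1)) k),
      q ∈ (I ⊔ Ideal.span {f}).minimalPrimes ↔ ∃ i, q = p i)
    (Qp : Fin r → ℚ[X])
    (hQp : ∀ i, ∃ m₀ : ℕ, ∀ m : ℕ, m₀ ≤ m → (Qp i).eval (m : ℚ) =
      (Module.finrank k ↥(CohB1.polyGrading n k m) : ℚ) -
        Module.finrank k ↥(Submodule.restrictScalars k (p i) ⊓ CohB1.polyGrading n k m)) :
    (d : ℚ) * ((P.natDegree.factorial : ℚ) * P.leadingCoeff) =
      ∑ i : Fin r, ((Qp i).natDegree.factorial : ℚ) * (Qp i).leadingCoeff *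
        (Module.length (Localization.AtPrime (p i))
          (LocalizedModule (p i).primeCompl
            (MvPolynomial (Fin (n + 1)) k ⧸ (I ⊔ Ideal.span {f})))).toNat := by
  have hP' : HP I P := hP
  have hPeq : P = hilbPoly I := HP_unique hP' (hilbPoly_spec I hIh).1
  have hgood := (hilbPoly_spec I hIh).2
  rw [← hPeq] at hgood
  have hf0 : f ≠ 0 := fun h => hfI (h ▸ I.zero_mem)
  have hI'h : (I ⊔ Ideal.span {f}).IsHomogeneous (homogeneousSubmodule (Fin (n + 1)) k) :=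
    hIh.sup (Ideal.homogeneous_span _ _ (by rintro _ rfl; exact ⟨d, hfh⟩))
  -- Hilbert polynomial of the section
  obtain ⟨m₀, hm₀⟩ := hP
  have hQ' : HP (I ⊔ Ideal.span {f}) (bdiff (d : ℚ) P) := by
    refine ⟨m₀ + d, fun m hm => ?_⟩
    have hmd : d ≤ m := by omega
    have h1 := hf_sum I hIh f hf0 d hfh m hmd
    rw [colon_eq_of_prime I f hfI] at h1
    rw [bdiff_eval]
    have h2 : P.eval (m : ℚ) = hf I m := hm₀ m (by omega)
    have h3 : P.eval ((m - d : ℕ) : ℚ) = hf I (m - d) := hm₀ (m - d) (by omega)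
    rw [Nat.cast_sub hmd] at h3
    rw [h2, h3]
    linarith
  -- dimension of R/I
  have hP0 : P ≠ 0 := by
    rintro rfl
    simp at hdim
  rcases withBot_trichotomy _ (dim_ne_top I) with h0 | ⟨t, hD⟩
  · exact absurd (hgood.1 h0) hP0
  obtain ⟨hdeg, hlc⟩ := hgood.2 t hD
  obtain ⟨t', ht'⟩ : ∃ t', t = t' + 1 := ⟨t - 1, by omega⟩
  subst ht'
  have hd0 : (d : ℚ) ≠ 0 := by positivity
  obtain ⟨hQdeg, hQlc⟩ := natDegree_bdiff (d : ℚ) hd0 P t' hdeg
  have hmain := main_degsum k n (I ⊔ Ideal.span {f}) hI'h (bdiff (d : ℚ) P) hQ' r p hpinj hpmin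
    Qp hQp
  rw [hQdeg, hQlc] at hmain
  have hL : (d : ℚ) * ((P.natDegree.factorial : ℚ) * P.leadingCoeff) =
      (t'.factorial : ℚ) * ((t' + 1 : ℚ) * d * P.leadingCoeff) := by
    rw [hdeg, Nat.factorial_succ]
    push_cast
    ring
  rw [hL, hmain]
  apply Finset.sum_congr rfl
  intro i _
  have hpmem : p i ∈ (I ⊔ Ideal.span {f}).minimalPrimes := (hpmin _).mpr ⟨i, rfl⟩
  have hph : (p i).IsHomogeneous (homogeneousSubmodule (Fin (n + 1)) k) :=
    isHomogeneous_of_mem_minimalPrimes hI'h hpmem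
  have hQeq : Qp i = hilbPoly (p i) := HP_unique (hQp i) (hilbPoly_spec (p i) hph).1
  have hdimi := dim_minPrime_section k (MvPolynomial (Fin (n + 1)) k) I f hfI (p i) hpmem
  rw [hD] at hdimi
  have hdimi' : ringKrullDim (MvPolynomial (Fin (n + 1)) k ⧸ p i) = (t' : WithBot ℕ∞) + 1 := by
    rcases withBot_trichotomy _ (dim_ne_top (p i)) with h0 | ⟨Di, hDi⟩
    · exfalso
      have h1 : ringKrullDim (MvPolynomial (Fin (n + 1)) k ⧸ p i) + 1 ≤ 0 + 1 :=
        add_le_add_left h0 1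
      rw [hdimi] at h1
      have h2 : t' + 1 ≤ 0 := natCast_add_one_le (a := t' + 1) (b := 0) (by
        push_cast; exact h1)
      omega
    · rw [hDi] at hdimi ⊢
      have h1 : Di + 1 = t' + 1 := natCast_add_one_inj (a := Di + 1) (b := t' + 1) (by
        push_cast; exact hdimi)
      have h2 : Di = t' := by omega
      rw [h2]
  obtain ⟨hdegi, -⟩ := (hilbPoly_spec (p i) hph).2.2 t' hdimi'
  rw [if_pos (by rw [hQeq, hdegi])]

end Groth.Agent.H19.HilbDim
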