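import Mathlib
import Groth.Agent.H19.Bezout

set_option autoImplicit false
universe u

namespace Groth.Agent.H19.HilbDim

open Polynomial MvPolynomial Groth.Agent.H19.HilbSec Groth.Agent.H19.PolyDiff
  Groth.Agent.H19.LinForms

attribute [local instance] MvPolynomial.gradedAlgebra

variable {k : Type u} [Field k] {σ : Type} [Fintype σ]

theorem hf_anti {I J : Ideal (MvPolynomial σ k)} (h : I ≤ J) (m : ℕ) : hf J m ≤ hf I m := by
  unfold hf
  have hle : piece (homogeneousSubmodule σ k) I m ≤ piece (homogeneousSubmodule σ k) J m := by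
    intro x hx
    rw [mem_piece] at hx ⊢
    exact ⟨h hx.1, hx.2⟩
  have hJle : piece (homogeneousSubmodule σ k) J m ≤ homogeneousSubmodule σ k m := inf_le_right
  haveI : Module.Finite k (piece (homogeneousSubmodule σ k) J m) :=
    Module.Finite.of_injective (Submodule.inclusion hJle) (Submodule.inclusion_injective hJle)
  have := Submodule.finrank_mono hle
  have h2 : (Module.finrank k (piece (homogeneousSubmodule σ k) I m) : ℚ) ≤
      Module.finrank k (piece (homogeneousSubmodule σ k) J m) := by exact_mod_cast this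
  linarith

theorem one_le_hf_of_notMem (I : Ideal (MvPolynomial σ k)) (m : ℕ) (y : MvPolynomial σ k)
    (hy : y ∈ homogeneousSubmodule σ k m) (hyI : y ∉ I) : 1 ≤ hf I m := by
  unfold hf
  have hlt : piece (homogeneousSubmodule σ k) I m < homogeneousSubmodule σ k m := by
    refine lt_of_le_of_ne inf_le_right (fun heq => hyI ?_)
    have : y ∈ piece (homogeneousSubmodule σ k) I m := heq ▸ hy
    exact ((mem_piece _ _ _ _).mp this).1
  have := Submodule.finrank_lt_finrank_of_lt hlt
  have h2 : (Module.finrank k (piece (homogeneousSubmodule σ k) I m) : ℚ) + 1 ≤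
      Module.finrank k (homogeneousSubmodule σ k m) := by exact_mod_cast this
  linarith

theorem withBot_add_one_cancel {x : WithBot ℕ∞} {a : ℕ}
    (h : x + 1 = ((a + 1 : ℕ) : WithBot ℕ∞)) : x = (a : WithBot ℕ∞) := by
  induction x using WithBot.recBotCoe with
  | bot =>
    rw [WithBot.bot_add] at h
    exact absurd h.symm (WithBot.natCast_ne_bot _)
  | coe y =>
    induction y using ENat.recTopCoe with
    | top =>
      exfalso
      have h' : (((⊤ : ℕ∞) + 1 : ℕ∞) : WithBot ℕ∞) = (((a + 1 : ℕ) : ℕ∞) : WithBot ℕ∞) := h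
      have h'' := WithBot.coe_inj.mp h'
      rw [top_add] at h''
      exact absurd h''.symm (ENat.coe_ne_top _)
    | coe y =>
      have h' : y + 1 = a + 1 := by exact_mod_cast h
      have : y = a := by omega
      subst this
      rfl

theorem exists_X_notMem (P : Ideal (MvPolynomial σ k)) [P.IsPrime] (δ : ℕ)
    (hdim : ringKrullDim (MvPolynomial σ k ⧸ P) = ((δ + 1 : ℕ) : WithBot ℕ∞)) :
    ∃ i, (X i : MvPolynomial σ k) ∉ P := by
  by_contra hcon
  push Not at hcon
  have hle : irrI k σ ≤ P := by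
    rw [irrI, Ideal.span_le]
    rintro _ ⟨i, rfl⟩
    exact hcon i
  have hPeq : irrI k σ = P :=
    (irrI_isMaximal (k := k) (σ := σ)).eq_of_le (Ideal.IsPrime.ne_top ‹_›) hle
  haveI : P.IsMaximal := hPeq ▸ irrI_isMaximal
  letI := Ideal.Quotient.field P
  rw [ringKrullDim_eq_zero_of_field] at hdim
  have : ((0 : ℕ) : WithBot ℕ∞) = ((δ + 1 : ℕ) : WithBot ℕ∞) := by exact_mod_cast hdim
  have h2 : (0 : ℕ) = δ + 1 := by exact_mod_cast this
  omega

theorem hf_lower : ∀ (δ : ℕ) (P : Ideal (MvPolynomial σ k)) [P.IsPrime],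
    P.IsHomogeneous (homogeneousSubmodule σ k) →
    ringKrullDim (MvPolynomial σ k ⧸ P) = ((δ + 1 : ℕ) : WithBot ℕ∞) →
    ∀ e : ℕ, (Nat.choose (δ + e) e : ℚ) ≤ hf P e := by
  intro δ
  induction δ with
  | zero =>
    intro P _ hP hdim e
    obtain ⟨i, hi⟩ := exists_X_notMem P 0 hdim
    rw [zero_add, Nat.choose_self, Nat.cast_one]
    apply one_le_hf_of_notMem P e (X i ^ e)
    · have := SetLike.pow_mem_graded e (show (X i : MvPolynomial σ k) ∈
        homogeneousSubmodule σ k 1 from isHomogeneous_X k i)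
      simpa using this
    · exact fun h => hi (Ideal.IsPrime.mem_of_pow_mem ‹_› _ h)
  | succ δ ih =>
    intro P _ hP hdim e
    obtain ⟨i, hi⟩ := exists_X_notMem P (δ + 1) hdim
    set x : MvPolynomial σ k := X i with hxdef
    have hxm : x ∈ homogeneousSubmodule σ k 1 := isHomogeneous_X k i
    have hx0 : x ≠ 0 := X_ne_zero i
    have hPle : P ≤ irrI k σ := le_irrI_of_isHomogeneous hP (Ideal.IsPrime.ne_top ‹_›)
    have hJle : P ⊔ Ideal.span {x} ≤ irrI k σ := sup_le hPle (by
      rw [Ideal.span_le, Set.singleton_subset_iff]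
      exact Ideal.subset_span ⟨i, rfl⟩)
    have hJh : (P ⊔ Ideal.span {x}).IsHomogeneous (homogeneousSubmodule σ k) :=
      hP.sup (Ideal.homogeneous_span _ _ (by rintro _ rfl; exact ⟨1, isHomogeneous_X k i⟩))
    obtain ⟨Q, hQ, hQle⟩ := Ideal.exists_minimalPrimes_le hJle
    haveI : Q.IsPrime := hQ.1.1
    have hQh := isHomogeneous_of_mem_minimalPrimes hJh hQ
    have hdimQ := dim_minPrime_section k (MvPolynomial σ k) P x hi Q hQ
    rw [hdim] at hdimQ
    have hdimQ' : ringKrullDim (MvPolynomial σ k ⧸ Q) = ((δ + 1 : ℕ) : WithBot ℕ∞) :=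
      withBot_add_one_cancel hdimQ
    have ihQ := ih Q hQh hdimQ'
    have hdiff : ∀ m, 1 ≤ m → hf P m = hf (P ⊔ Ideal.span {x}) m + hf P (m - 1) := by
      intro m hm
      have := hf_sum P hP x hx0 1 hxm m hm
      rwa [colon_eq_of_prime P x hi] at this
    induction e with
    | zero =>
      rw [Nat.choose_zero_right, Nat.cast_one]
      apply one_le_hf_of_notMem P 0 1
      · exact (isHomogeneous_one σ k)
      · exact fun h => (Ideal.IsPrime.ne_top ‹_›) ((Ideal.eq_top_iff_one _).mpr h)
    | succ e ihe =>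
      rw [hdiff (e + 1) (by omega), Nat.add_sub_cancel]
      have h1 : (Nat.choose (δ + (e + 1)) (e + 1) : ℚ) ≤ hf (P ⊔ Ideal.span {x}) (e + 1) :=
        (ihQ (e + 1)).trans (hf_anti hQ.1.2 (e + 1))
      have h2 : Nat.choose (δ + 1 + (e + 1)) (e + 1) =
          Nat.choose (δ + 1 + e) e + Nat.choose (δ + (e + 1)) (e + 1) := by
        rw [show δ + 1 + (e + 1) = (δ + 1 + e) + 1 by ring, Nat.choose_succ_succ,
          show δ + 1 + e = δ + (e + 1) by ring]
      rw [h2]
      push_cast
      linarith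

end Groth.Agent.H19.HilbDim
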