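import Mathlib
import Groth.Agent.H19.KosDim
import Groth.Agent.H19.HilbLower

set_option autoImplicit false
universe u

namespace Groth.Agent.H19.Kos

open scoped Pointwise

variable {A : Type u} [CommRing A]

theorem chi_nil (M : Type u) [AddCommGroup M] [Module A M] :
    chi ([] : List A) M = len (A := A) M := by
  unfold chi
  rw [finsum_eq_single _ (0 : ℤ)]
  · have : sgn 0 = 1 := by simp [sgn]
    rw [this, one_mul]
    exact len_eq_of_equiv (KH_nil_zero (A := A) M)
  · intro i hi
    haveI := KH_nil_subsingleton (A := A) M i hi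
    rw [len_of_subsingleton, mul_zero]

theorem len_pos (M : Type u) [AddCommGroup M] [Module A M] [Nontrivial M]
    (h : IsFiniteLength A M) : 0 < len (A := A) M := by
  unfold len
  have h1 : Module.length A M ≠ ⊤ := Module.length_ne_top_iff.mpr h
  have h2 : 0 < Module.length A M := Module.length_pos
  obtain ⟨n, hn⟩ := ENat.ne_top_iff_exists.mp h1
  rw [← hn] at h2 ⊢
  simp only [ENat.toNat_coe]
  exact_mod_cast h2

theorem chi_pos_of_dim_eq [IsNoetherianRing A] [IsLocalRing A] :
    ∀ (l : List A), (∀ g ∈ l, g ∈ IsLocalRing.maximalIdeal A) →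
    ∀ (M : Type u) [AddCommGroup M] [Module A M], Adm l M →
    Module.supportDim A M = (l.length : WithBot ℕ∞) → 0 < chi l M := by
  intro l
  induction l with
  | nil =>
    intro _ M _ _ hM hdim
    rw [chi_nil]
    haveI : Nontrivial M := by
      rw [← Module.supportDim_ne_bot_iff_nontrivial A M, hdim]
      exact WithBot.natCast_ne_bot _
    apply len_pos
    have h1 := hM.isFiniteLength_KH (0 : ℤ)
    exact h1.of_surjective (f := (KH_nil_zero (A := A) M).toLinearMap) (KH_nil_zero (A := A) M).surjective
  | cons f l ih =>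
    intro hl M _ _ hM hdim
    haveI := hM.1
    obtain ⟨N, k, hN, hreg, hchi⟩ := exists_reduction f l M hM
    rw [hchi]
    have hadm : Adm (f :: l) (M ⧸ N) := hM.of_surjective N.mkQ (Submodule.mkQ_surjective _)
    have hl' : ∀ g ∈ l, g ∈ IsLocalRing.maximalIdeal A := fun g hg => hl g (List.mem_cons_of_mem _ hg)
    apply ih hl' _ hadm.quotSMulTop
    have hNadm : Adm l N :=
      (hM.of_injective N.subtype (Submodule.injective_subtype _)).tail_of_pow_smul k
        (fun m => by
          ext
          simpa using hN m.1 m.2)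
    have h0 : Module.supportDim A N ≤ (l.length : WithBot ℕ∞) := hNadm.supportDim_le hl'
    have h1 : Module.supportDim A (M ⧸ N) ≤ Module.supportDim A M :=
      Module.supportDim_le_of_surjective N.mkQ (Submodule.mkQ_surjective _)
    have h2 := supportDim_le_max_of_exact N.subtype N.mkQ (Submodule.injective_subtype _)
      (Submodule.mkQ_surjective _) (LinearMap.exact_subtype_mkQ N)
    have h3 : Module.supportDim A (M ⧸ N) = ((l.length + 1 : ℕ) : WithBot ℕ∞) := by
      rw [List.length_cons] at hdim
      apply le_antisymm (hdim ▸ h1)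
      rw [hdim] at h2
      rcases le_max_iff.mp h2 with h4 | h4
      · exfalso
        have := h4.trans h0
        have h5 : (l.length + 1 : ℕ) ≤ l.length := by exact_mod_cast this
        omega
      · exact h4
    have h4 := Module.supportDim_quotSMulTop_succ_eq_supportDim hreg (hl f (List.mem_cons_self ..))
    rw [h3] at h4
    exact Groth.Agent.H19.HilbDim.withBot_add_one_cancel h4

theorem main_S8154 (A : Type u) [CommRing A] [IsNoetherianRing A] [IsLocalRing A]
    (d : ℕ) (x : Fin d → A) (hx : ∀ j, x j ∈ IsLocalRing.maximalIdeal A) (M : Type u)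
    [AddCommGroup M] [Module A M] [Module.Finite A M]
    (hfl : IsFiniteLength A (M ⧸ (Ideal.span (Set.range x) • (⊤ : Submodule A M))))
    (hdim : Module.supportDim A M = (d : WithBot ℕ∞)) :
    0 < (∑ᶠ i : ℤ, ((i.negOnePow : ℤˣ) : ℤ) * ((Module.length A ((DRing.tensorCx (Koszul.koszul A (List.ofFn x)) (ModuleCat.of A M)).homology i)).toNat : ℤ)) := by
  have h := chi_pos_of_dim_eq (List.ofFn x)
    (fun g hg => by
      obtain ⟨j, rfl⟩ := (List.mem_ofFn' x g).mp hg
      exact hx j) M (adm_ofFn x M hfl) (by rwa [List.length_ofFn])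
  exact h

end Groth.Agent.H19.Kos
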