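import Mathlib
import Groth.Agent.H19.KosPos

set_option autoImplicit false
universe u

namespace Groth.Agent.H19.Kos

open scoped Pointwise

variable {A : Type u} [CommRing A]

theorem chi_cons_eq_of_torsion [IsNoetherianRing A] (f : A) (l : List A) (M : Type u)
    [AddCommGroup M] [Module A M] (h : Adm (f :: l) M) (N : Submodule A M) (k : ℕ)
    (hN : ∀ m ∈ N, f ^ k • m = 0) (hreg : IsSMulRegular (M ⧸ N) f) :
    chi (f :: l) M = chi l (QuotSMulTop f (M ⧸ N)) := by
  have h1 := chi_add (f :: l) N.subtype N.mkQ (Submodule.injective_subtype _)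
    (Submodule.mkQ_surjective _) (LinearMap.exact_subtype_mkQ N) h
  have h2 : chi (f :: l) N = 0 :=
    chi_cons_of_pow_smul f l N (h.of_injective N.subtype (Submodule.injective_subtype _)) k
      (fun m => by
        ext
        simpa using hN m.1 m.2)
  rw [h1, h2, zero_add, chi_cons_of_regular f l _ hreg]

theorem Adm.of_forall_mem {l l' : List A} {M : Type u} [AddCommGroup M] [Module A M]
    (h : Adm l M)
    (hll : ∀ p : Ideal A, p.IsPrime → (∀ g' ∈ l', g' ∈ p) → ∀ g ∈ l, g ∈ p) : Adm l' M :=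
  ⟨h.1, fun p hp hann hl' => h.2 p hp hann (hll p hp hl')⟩

theorem Adm.mul_head {x y : A} {l : List A} {M : Type u} [AddCommGroup M] [Module A M]
    (hx : Adm (x :: l) M) (hy : Adm (y :: l) M) : Adm ((x * y) :: l) M := by
  refine ⟨hx.1, fun p hp hann hl => ?_⟩
  have hxy : x * y ∈ p := hl _ (List.mem_cons_self ..)
  rcases hp.mem_or_mem hxy with h | h
  · refine hx.2 p hp hann ?_
    intro g hg
    rcases List.mem_cons.mp hg with rfl | hg
    · exact h
    · exact hl g (List.mem_cons_of_mem _ hg)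
  · refine hy.2 p hp hann ?_
    intro g hg
    rcases List.mem_cons.mp hg with rfl | hg
    · exact h
    · exact hl g (List.mem_cons_of_mem _ hg)

/-- vanishing on modules killed by a power of `x * y` -/
theorem chi_cons_eq_zero_of_mul_pow [IsNoetherianRing A] (x y : A) (l : List A) (N : Type u)
    [AddCommGroup N] [Module A N] (hNx : Adm (x :: l) N) (hNy : Adm (y :: l) N) (k : ℕ)
    (hk : ∀ n : N, (x * y) ^ k • n = 0) : chi (x :: l) N = 0 := by
  haveI := hNx.1
  obtain ⟨N', j, hN', hreg⟩ := exists_torsion_stable x N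
  rw [chi_cons_eq_of_torsion x l N hNx N' j hN' hreg, ← chi_cons_of_regular x l _ hreg]
  apply chi_cons_of_adm_tail
  have h1 : Adm (y :: l) (N ⧸ N') := hNy.of_surjective N'.mkQ (Submodule.mkQ_surjective _)
  apply h1.tail_of_pow_smul k
  intro m
  obtain ⟨m, rfl⟩ := Submodule.Quotient.mk_surjective _ m
  have h2 : x ^ k • (y ^ k • (Submodule.Quotient.mk m : N ⧸ N')) = 0 := by
    rw [← mul_smul, ← mul_pow, ← Submodule.Quotient.mk_smul, hk, Submodule.Quotient.mk_zero]
  exact (hreg.pow k).right_eq_zero_of_smul h2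

theorem chi_mul_head [IsNoetherianRing A] (x y : A) (l : List A) (M : Type u) [AddCommGroup M]
    [Module A M] (hx : Adm (x :: l) M) (hy : Adm (y :: l) M) :
    chi ((x * y) :: l) M = chi (x :: l) M + chi (y :: l) M := by
  haveI := hx.1
  have hz : Adm ((x * y) :: l) M := hx.mul_head hy
  obtain ⟨N, k, hN, hreg⟩ := exists_torsion_stable (x * y) M
  have hNk : ∀ n : N, (x * y) ^ k • n = 0 := fun m => by
    ext
    simpa using hN m.1 m.2
  have hNk' : ∀ n : N, (y * x) ^ k • n = 0 := fun m => by rw [mul_comm]; exact hNk m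
  have hinj := Submodule.injective_subtype N
  have hsurj := Submodule.mkQ_surjective N
  have hex := LinearMap.exact_subtype_mkQ N
  have a1 := chi_add ((x * y) :: l) N.subtype N.mkQ hinj hsurj hex hz
  have a2 := chi_add (x :: l) N.subtype N.mkQ hinj hsurj hex hx
  have a3 := chi_add (y :: l) N.subtype N.mkQ hinj hsurj hex hy
  have b1 : chi ((x * y) :: l) N = 0 :=
    chi_cons_of_pow_smul _ l N (hz.of_injective N.subtype hinj) k hNk
  have b2 : chi (x :: l) N = 0 :=
    chi_cons_eq_zero_of_mul_pow x y l N (hx.of_injective N.subtype hinj)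
      (hy.of_injective N.subtype hinj) k hNk
  have b3 : chi (y :: l) N = 0 :=
    chi_cons_eq_zero_of_mul_pow y x l N (hy.of_injective N.subtype hinj)
      (hx.of_injective N.subtype hinj) k hNk'
  -- regularity of x and y on the quotient
  have hregx : IsSMulRegular (M ⧸ N) x := by
    rw [isSMulRegular_iff_right_eq_zero_of_smul]
    intro m hm
    apply hreg.right_eq_zero_of_smul
    rw [mul_comm, mul_smul, hm, smul_zero]
  have hregy : IsSMulRegular (M ⧸ N) y := by
    rw [isSMulRegular_iff_right_eq_zero_of_smul]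
    intro m hm
    apply hreg.right_eq_zero_of_smul
    rw [mul_smul, hm, smul_zero]
  have c1 := chi_cons_of_regular (x * y) l _ hreg
  have c2 := chi_cons_of_regular x l _ hregx
  have c3 := chi_cons_of_regular y l _ hregy
  -- the short exact sequence of quotients
  let Mb := M ⧸ N
  have hle1 : (y • (⊤ : Submodule A Mb)) ≤
      ((x * y) • (⊤ : Submodule A Mb)).comap (LinearMap.lsmul A Mb x) := by
    intro m hm
    obtain ⟨m', -, rfl⟩ := (Submodule.mem_smul_pointwise_iff_exists _ _ _).mp hm
    rw [Submodule.mem_comap]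
    show x • (y • m') ∈ _
    rw [← mul_smul]
    exact Submodule.smul_mem_pointwise_smul m' _ ⊤ Submodule.mem_top
  have hle2 : ((x * y) • (⊤ : Submodule A Mb)) ≤
      (x • (⊤ : Submodule A Mb)).comap (LinearMap.id) := by
    intro m hm
    obtain ⟨m', -, rfl⟩ := (Submodule.mem_smul_pointwise_iff_exists _ _ _).mp hm
    rw [Submodule.mem_comap]
    show (x * y) • m' ∈ _
    rw [mul_smul]
    exact Submodule.smul_mem_pointwise_smul _ _ ⊤ Submodule.mem_top
  let φ : QuotSMulTop y Mb →ₗ[A] QuotSMulTop (x * y) Mb :=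
    Submodule.mapQ _ _ (LinearMap.lsmul A Mb x) hle1
  let ψ : QuotSMulTop (x * y) Mb →ₗ[A] QuotSMulTop x Mb :=
    Submodule.mapQ _ _ LinearMap.id hle2
  have hφ : Function.Injective φ := by
    rw [← LinearMap.ker_eq_bot, LinearMap.ker_eq_bot']
    intro m hm
    obtain ⟨m, rfl⟩ := Submodule.Quotient.mk_surjective _ m
    have h1 : x • m ∈ (x * y) • (⊤ : Submodule A Mb) := by
      have : φ (Submodule.Quotient.mk m) = Submodule.Quotient.mk (x • m) := rfl
      rw [this, Submodule.Quotient.mk_eq_zero] at hm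
      exact hm
    obtain ⟨m', -, hm'⟩ := (Submodule.mem_smul_pointwise_iff_exists _ _ _).mp h1
    rw [mul_smul] at hm'
    have h2 : y • m' = m := hregx hm'
    rw [Submodule.Quotient.mk_eq_zero, ← h2]
    exact Submodule.smul_mem_pointwise_smul _ _ ⊤ Submodule.mem_top
  have hψ : Function.Surjective ψ := by
    intro m
    obtain ⟨m, rfl⟩ := Submodule.Quotient.mk_surjective _ m
    exact ⟨Submodule.Quotient.mk m, rfl⟩
  have hφψ : Function.Exact φ ψ := by
    intro m
    obtain ⟨m, rfl⟩ := Submodule.Quotient.mk_surjective _ m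
    have e1 : ψ (Submodule.Quotient.mk m) = Submodule.Quotient.mk m := rfl
    rw [e1, Submodule.Quotient.mk_eq_zero]
    constructor
    · intro hm
      obtain ⟨m', -, rfl⟩ := (Submodule.mem_smul_pointwise_iff_exists _ _ _).mp hm
      exact ⟨Submodule.Quotient.mk m', rfl⟩
    · rintro ⟨m', hm'⟩
      obtain ⟨m', rfl⟩ := Submodule.Quotient.mk_surjective _ m'
      have e2 : φ (Submodule.Quotient.mk m') = Submodule.Quotient.mk (x • m') := rfl
      rw [e2, Submodule.Quotient.eq] at hm'
      have h3 : x • m' - m ∈ x • (⊤ : Submodule A Mb) := hle2 hm'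
      have h4 : x • m' ∈ x • (⊤ : Submodule A Mb) :=
        Submodule.smul_mem_pointwise_smul _ _ ⊤ Submodule.mem_top
      have := Submodule.sub_mem _ h4 h3
      simpa using this
  have hQ : Adm l (QuotSMulTop (x * y) Mb) :=
    (hz.of_surjective N.mkQ hsurj).quotSMulTop
  have d := chi_add l φ ψ hφ hψ hφψ hQ
  rw [a1, a2, a3, b1, b2, b3, c1, c2, c3, d]
  ring

end Groth.Agent.H19.Kos

namespace Groth.Agent.H19.Kos

variable {A : Type u} [CommRing A]

theorem adm_cons_of_hyp [IsNoetherianRing A] (x : A) (l : List A) (M : Type u) [AddCommGroup M]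
    [Module A M] [Module.Finite A M]
    (hx : IsFiniteLength A (M ⧸ (Ideal.span ({x} ∪ {a : A | a ∈ l}) • (⊤ : Submodule A M)))) :
    Adm (x :: l) M :=
  adm_of_isFiniteLength_quot _ _ ({x} ∪ {a : A | a ∈ l})
    (fun s hs => by
      rcases hs with hs | hs
      · rw [Set.mem_singleton_iff] at hs
        subst hs
        exact List.mem_cons_self ..
      · exact List.mem_cons_of_mem _ hs) hx

theorem main_S8151 (A : Type u) [CommRing A] [IsNoetherianRing A] [IsLocalRing A]
    (x y : A) (l : List A) (M : Type u) [AddCommGroup M] [Module A M] [Module.Finite A M]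
    (hx : IsFiniteLength A (M ⧸ (Ideal.span ({x} ∪ {a : A | a ∈ l}) • (⊤ : Submodule A M))))
    (hy : IsFiniteLength A (M ⧸ (Ideal.span ({y} ∪ {a : A | a ∈ l}) • (⊤ : Submodule A M)))) :
    (∑ᶠ i : ℤ, ((i.negOnePow : ℤˣ) : ℤ) * ((Module.length A ((DRing.tensorCx (Koszul.koszul A ((x * y) :: l)) (ModuleCat.of A M)).homology i)).toNat : ℤ)) =
      (∑ᶠ i : ℤ, ((i.negOnePow : ℤˣ) : ℤ) * ((Module.length A ((DRing.tensorCx (Koszul.koszul A (x :: l)) (ModuleCat.of A M)).homology i)).toNat : ℤ)) +
      (∑ᶠ i : ℤ, ((i.negOnePow : ℤˣ) : ℤ) * ((Module.length A ((DRing.tensorCx (Koszul.koszul A (y :: l)) (ModuleCat.of A M)).homology i)).toNat : ℤ)) :=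
  chi_mul_head x y l M (adm_cons_of_hyp x l M hx) (adm_cons_of_hyp y l M hy)

end Groth.Agent.H19.Kos
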