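import Mathlib
import Groth.Agent.H19.KosMul

set_option autoImplicit false
universe u

namespace Groth.Agent.H19.Kos

open scoped Pointwise

variable {A : Type u} [CommRing A]

theorem chi_cons_one (L : List A) (M : Type u) [AddCommGroup M] [Module A M] :
    chi ((1 : A) :: L) M = 0 := by
  have hreg : IsSMulRegular M (1 : A) := by
    rw [isSMulRegular_iff_right_eq_zero_of_smul]
    intro m hm
    rwa [one_smul] at hm
  rw [chi_cons_of_regular 1 L M hreg]
  haveI : Subsingleton (QuotSMulTop (1 : A) M) := by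
    refine ⟨fun a b => ?_⟩
    obtain ⟨a, rfl⟩ := Submodule.Quotient.mk_surjective _ a
    obtain ⟨b, rfl⟩ := Submodule.Quotient.mk_surjective _ b
    rw [Submodule.Quotient.eq]
    have : a - b = (1 : A) • (a - b) := (one_smul _ _).symm
    rw [this]
    exact Submodule.smul_mem_pointwise_smul _ _ ⊤ Submodule.mem_top
  exact chi_of_subsingleton _ _

theorem Adm.pow_head {a : A} {L : List A} {M : Type u} [AddCommGroup M] [Module A M]
    (h : Adm (a :: L) M) (m : ℕ) : Adm (a ^ m :: L) M := by
  apply h.of_forall_mem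
  intro p hp hl g hg
  rcases List.mem_cons.mp hg with rfl | hg
  · exact hp.mem_of_pow_mem m (hl _ (List.mem_cons_self ..))
  · exact hl g (List.mem_cons_of_mem _ hg)

theorem chi_pow_head [IsNoetherianRing A] (a : A) (L : List A) (M : Type u) [AddCommGroup M]
    [Module A M] (h : Adm (a :: L) M) (m : ℕ) :
    chi (a ^ m :: L) M = (m : ℤ) * chi (a :: L) M := by
  induction m with
  | zero => rw [pow_zero, chi_cons_one, Nat.cast_zero, zero_mul]
  | succ m ih =>
    rw [pow_succ, chi_mul_head (a ^ m) a L M (h.pow_head m) h, ih]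
    push_cast
    ring

theorem chi_pow_list [IsNoetherianRing A] : ∀ (l : List (A × ℕ)) (M : Type u) [AddCommGroup M]
    [Module A M], Adm (l.map Prod.fst) M →
    chi (l.map fun p => p.1 ^ p.2) M =
      ((l.map fun p => (p.2 : ℤ)).prod) * chi (l.map Prod.fst) M := by
  intro l
  induction l with
  | nil =>
    intro M _ _ _
    simp
  | cons q l ih =>
    intro M _ _ hM
    obtain ⟨a, m⟩ := q
    simp only [List.map_cons, List.prod_cons]
    haveI := hM.1
    have hM' : Adm (a :: l.map Prod.fst) M := hM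
    have hMp : Adm (a :: l.map fun p => p.1 ^ p.2) M := by
      apply hM'.of_forall_mem
      intro p hp hl g hg
      rcases List.mem_cons.mp hg with rfl | hg
      · exact hl _ (List.mem_cons_self ..)
      · obtain ⟨q, hq, rfl⟩ := List.mem_map.mp hg
        have : q.1 ^ q.2 ∈ p := hl _ (List.mem_cons_of_mem _ (List.mem_map.mpr ⟨q, hq, rfl⟩))
        exact hp.mem_of_pow_mem _ this
    obtain ⟨N, k, hN, hreg⟩ := exists_torsion_stable a M
    rw [chi_pow_head a _ M hMp m, chi_cons_eq_of_torsion a _ M hMp N k hN hreg,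
      chi_cons_eq_of_torsion a _ M hM' N k hN hreg,
      ih _ (hM'.of_surjective N.mkQ (Submodule.mkQ_surjective _)).quotSMulTop]
    ring

theorem main_S8152 (A : Type u) [CommRing A] [IsNoetherianRing A] [IsLocalRing A]
    (k : ℕ) (x : Fin k → A) (m : Fin k → ℕ) (M : Type u) [AddCommGroup M] [Module A M]
    [Module.Finite A M]
    (hfl : IsFiniteLength A (M ⧸ (Ideal.span (Set.range x) • (⊤ : Submodule A M)))) :
    (∑ᶠ i : ℤ, ((i.negOnePow : ℤˣ) : ℤ) * ((Module.length A ((DRing.tensorCx (Koszul.koszul A (List.ofFn fun j => x j ^ m j)) (ModuleCat.of A M)).homology i)).toNat : ℤ)) =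
      (∏ j, (m j : ℤ)) * (∑ᶠ i : ℤ, ((i.negOnePow : ℤˣ) : ℤ) * ((Module.length A ((DRing.tensorCx (Koszul.koszul A (List.ofFn x)) (ModuleCat.of A M)).homology i)).toNat : ℤ)) := by
  have hadm := adm_ofFn x M hfl
  have e1 : (List.ofFn fun j => (x j, m j)).map Prod.fst = List.ofFn x := by
    rw [List.map_ofFn]; rfl
  have e2 : ((List.ofFn fun j => (x j, m j)).map fun p => p.1 ^ p.2) =
      List.ofFn fun j => x j ^ m j := by
    rw [List.map_ofFn]; rfl
  have e3 : ((List.ofFn fun j => (x j, m j)).map fun p => (p.2 : ℤ)).prod = ∏ j, (m j : ℤ) := by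
    rw [List.map_ofFn, List.prod_ofFn]; rfl
  have h := chi_pow_list (List.ofFn fun j => (x j, m j)) M (by rw [e1]; exact hadm)
  rw [e1, e2, e3] at h
  exact h

end Groth.Agent.H19.Kos
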