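import Mathlib
import Groth.Agent.H19.KosPow

set_option autoImplicit false
universe u

namespace Groth.Agent.H19.Kos

open scoped Pointwise TensorProduct

variable {A : Type u} [CommRing A]

theorem chi_equiv [IsNoetherianRing A] (l : List A) {M N : Type u} [AddCommGroup M] [Module A M]
    [AddCommGroup N] [Module A N] (e : M ≃ₗ[A] N) (h : Adm l N) : chi l M = chi l N := by
  have h1 := chi_add l e.toLinearMap (0 : N →ₗ[A] PUnit.{u+1}) e.injective
    (Function.surjective_to_subsingleton _)
    ((e.exact_zero_iff_surjective _).2 e.surjective) h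
  rw [h1, chi_of_subsingleton l PUnit, add_zero]

/-- every finite module is admissible for a system of parameters -/
theorem adm_of_sop [IsNoetherianRing A] (l : List A) (S : Set A) (hS : ∀ s ∈ S, s ∈ l)
    (hsop : IsFiniteLength A (A ⧸ Ideal.span S)) (M : Type u) [AddCommGroup M] [Module A M]
    [Module.Finite A M] : Adm l M := by
  refine ⟨inferInstance, ?_⟩
  intro p hp _ hl
  have h1 := (Groth.Agent.S16234.result A (A ⧸ Ideal.span S)).mpr hsop
  have h2 : (⟨p, hp⟩ : PrimeSpectrum A) ∈ Module.support A (A ⧸ Ideal.span S) := by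
    rw [Module.support_eq_zeroLocus, PrimeSpectrum.mem_zeroLocus, Ideal.annihilator_quotient]
    show ((Ideal.span S : Ideal A) : Set A) ⊆ p
    intro s hs
    have : Ideal.span S ≤ p := Ideal.span_le.mpr fun s hs => hl s (hS s hs)
    exact this hs
  exact h1 _ h2

section rank

variable [IsDomain A]

theorem finrank_frac_of_subsingleton (N : Type u) [AddCommGroup N] [Module A N] [Subsingleton N] :
    Module.finrank (FractionRing A) (FractionRing A ⊗[A] N) = 0 := by
  haveI : Subsingleton (FractionRing A ⊗[A] N) := by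
    refine ⟨fun a b => ?_⟩
    have h0 : ∀ z : FractionRing A ⊗[A] N, z = 0 := by
      intro z
      induction z using TensorProduct.induction_on with
      | zero => rfl
      | tmul k n => rw [Subsingleton.elim n 0, TensorProduct.tmul_zero]
      | add a b ha hb => rw [ha, hb, add_zero]
    rw [h0 a, h0 b]
  exact Module.finrank_zero_of_subsingleton

theorem finrank_frac_quot_of_ne_bot (p : Ideal A) (hp : p ≠ ⊥) :
    Module.finrank (FractionRing A) (FractionRing A ⊗[A] (A ⧸ p)) = 0 := by
  obtain ⟨a, hap, ha0⟩ := Submodule.exists_mem_ne_zero_of_ne_bot hp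
  haveI : Subsingleton (FractionRing A ⊗[A] (A ⧸ p)) := by
    refine ⟨fun u v => ?_⟩
    have h0 : ∀ z : FractionRing A ⊗[A] (A ⧸ p), z = 0 := by
      intro z
      induction z using TensorProduct.induction_on with
      | zero => rfl
      | tmul k n =>
        have hu : IsUnit (algebraMap A (FractionRing A) a) :=
          (IsFractionRing.to_map_ne_zero_of_mem_nonZeroDivisors
            (mem_nonZeroDivisors_of_ne_zero ha0)).isUnit
        obtain ⟨b, hb⟩ := hu.exists_right_inv
        have h1 : k = (k * b) * algebraMap A (FractionRing A) a := by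
          rw [mul_assoc, mul_comm b, hb, mul_one]
        have h2 : a • n = 0 := by
          obtain ⟨n, rfl⟩ := Ideal.Quotient.mk_surjective n
          rw [← Ideal.Quotient.mk_eq_mk, Algebra.smul_def] 
          show Ideal.Quotient.mk p a * Ideal.Quotient.mk p n = 0
          rw [Ideal.Quotient.eq_zero_iff_mem.mpr hap, zero_mul]
        calc k ⊗ₜ[A] n = ((k * b) * algebraMap A (FractionRing A) a) ⊗ₜ[A] n := by rw [← h1]
          _ = (a • (k * b)) ⊗ₜ[A] n := by rw [Algebra.smul_def, mul_comm]
          _ = (k * b) ⊗ₜ[A] (a • n) := by rw [TensorProduct.smul_tmul]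
          _ = 0 := by rw [h2, TensorProduct.tmul_zero]
      | add a b ha hb => rw [ha, hb, add_zero]
    rw [h0 u, h0 v]
  exact Module.finrank_zero_of_subsingleton

theorem finrank_frac_add {N₁ N₂ N₃ : Type u} [AddCommGroup N₁] [Module A N₁] [AddCommGroup N₂]
    [Module A N₂] [AddCommGroup N₃] [Module A N₃] [Module.Finite A N₂]
    (f : N₁ →ₗ[A] N₂) (g : N₂ →ₗ[A] N₃) (hf : Function.Injective f) (hg : Function.Surjective g)
    (hfg : Function.Exact f g) :
    Module.finrank (FractionRing A) (FractionRing A ⊗[A] N₂) =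
      Module.finrank (FractionRing A) (FractionRing A ⊗[A] N₁) +
        Module.finrank (FractionRing A) (FractionRing A ⊗[A] N₃) := by
  let K := FractionRing A
  let F : K ⊗[A] N₁ →ₗ[K] K ⊗[A] N₂ := f.baseChange K
  let G : K ⊗[A] N₂ →ₗ[K] K ⊗[A] N₃ := g.baseChange K
  have hF : Function.Injective F := by
    show Function.Injective (f.baseChange K)
    have := Module.Flat.lTensor_preserves_injective_linearMap (M := K) f hf
    exact this
  have hG : Function.Surjective G := by
    show Function.Surjective (g.baseChange K)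
    have := LinearMap.lTensor_surjective K hg
    exact this
  have hFG : Function.Exact F G := by
    have := lTensor_exact K hfg hg
    exact this
  have h1 := G.finrank_range_add_finrank_ker
  have h2 : LinearMap.ker G = LinearMap.range F := LinearMap.exact_iff.mp hFG
  have h3 : Module.finrank K (LinearMap.range G) = Module.finrank K (K ⊗[A] N₃) := by
    rw [LinearMap.range_eq_top.mpr hG, finrank_top]
  have h4 : Module.finrank K (LinearMap.ker G) = Module.finrank K (K ⊗[A] N₁) := by
    rw [h2, LinearMap.finrank_range_of_inj hF]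
  rw [h3, h4] at h1
  rw [← h1, add_comm]

end rank

end Groth.Agent.H19.Kos

namespace Groth.Agent.H19.Kos

open scoped Pointwise TensorProduct

variable {A : Type u} [CommRing A]

theorem lt_of_add_one_le_natCast {y : WithBot ℕ∞} {d : ℕ} (h : y + 1 ≤ (d : WithBot ℕ∞)) :
    y < (d : WithBot ℕ∞) := by
  induction y using WithBot.recBotCoe with
  | bot => exact WithBot.bot_lt_coe _
  | coe n =>
    induction n using ENat.recTopCoe with
    | top =>
      exfalso
      have h' : (((⊤ : ℕ∞) + 1 : ℕ∞) : WithBot ℕ∞) ≤ ((d : ℕ∞) : WithBot ℕ∞) := h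
      rw [WithBot.coe_le_coe, top_add] at h'
      exact absurd h' (not_le.mpr (ENat.coe_lt_top d))
    | coe n =>
      have h' : (((n : ℕ∞) + 1 : ℕ∞) : WithBot ℕ∞) ≤ ((d : ℕ∞) : WithBot ℕ∞) := h
      rw [WithBot.coe_le_coe] at h'
      have h'' : n + 1 ≤ d := by exact_mod_cast h'
      show ((n : ℕ∞) : WithBot ℕ∞) < ((d : ℕ∞) : WithBot ℕ∞)
      rw [WithBot.coe_lt_coe]
      exact_mod_cast h''

theorem ringKrullDim_quotient_lt [IsDomain A] (d : ℕ) (hd : ringKrullDim A = d) (p : Ideal A)
    (hp : p ≠ ⊥) : ringKrullDim (A ⧸ p) < (d : WithBot ℕ∞) := by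
  obtain ⟨a, hap, ha0⟩ := Submodule.exists_mem_ne_zero_of_ne_bot hp
  have h1 := ringKrullDim_quotient_succ_le_of_nonZeroDivisor (mem_nonZeroDivisors_of_ne_zero ha0)
  have hle : Ideal.span {a} ≤ p := (Ideal.span_singleton_le_iff_mem p).mpr hap
  have h2 : ringKrullDim (A ⧸ p) ≤ ringKrullDim (A ⧸ Ideal.span {a}) :=
    ringKrullDim_le_of_surjective (Ideal.Quotient.factor hle) (Ideal.Quotient.factor_surjective hle)
  apply lt_of_add_one_le_natCast
  rw [← hd]
  exact (add_le_add_left h2 1).trans h1

theorem chi_eq_rank_mul [IsNoetherianRing A] [IsLocalRing A] [IsDomain A]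
    (d : ℕ) (hd : ringKrullDim A = d) (x : Fin d → A)
    (hx : ∀ j, x j ∈ IsLocalRing.maximalIdeal A)
    (hsop : IsFiniteLength A (A ⧸ Ideal.span (Set.range x))) (M : Type u) [AddCommGroup M]
    [Module A M] [Module.Finite A M] :
    chi (List.ofFn x) M =
      (Module.finrank (FractionRing A) (FractionRing A ⊗[A] M) : ℤ) * chi (List.ofFn x) A := by
  have hadm : ∀ (N : Type u) [AddCommGroup N] [Module A N] [Module.Finite A N],
      Adm (List.ofFn x) N := fun N _ _ _ =>
    adm_of_sop (List.ofFn x) (Set.range x) (fun s hs => by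
      obtain ⟨j, rfl⟩ := hs
      exact (List.mem_ofFn' x (x j)).mpr ⟨j, rfl⟩) hsop N
  have hmem : ∀ g ∈ List.ofFn x, g ∈ IsLocalRing.maximalIdeal A := fun g hg => by
    obtain ⟨j, rfl⟩ := (List.mem_ofFn' x g).mp hg
    exact hx j
  refine IsNoetherianRing.induction_on_isQuotientEquivQuotientPrime A ‹Module.Finite A M›
    (motive := fun N _ _ _ => chi (List.ofFn x) N =
      (Module.finrank (FractionRing A) (FractionRing A ⊗[A] N) : ℤ) * chi (List.ofFn x) A)
    ?_ ?_ ?_
  · intro N _ _ _ _
    rw [chi_of_subsingleton, finrank_frac_of_subsingleton, Nat.cast_zero, zero_mul]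
  · intro N _ _ _ p e
    have hr : Module.finrank (FractionRing A) (FractionRing A ⊗[A] N) =
        Module.finrank (FractionRing A) (FractionRing A ⊗[A] (A ⧸ p.1)) :=
      LinearEquiv.finrank_eq (LinearEquiv.baseChange A (FractionRing A) _ _ e)
    rw [chi_equiv _ e (hadm _), hr]
    by_cases hp : p.asIdeal = ⊥
    · have e' : (A ⧸ p.1) ≃ₗ[A] A := Submodule.quotEquivOfEqBot _ hp
      have hr' : Module.finrank (FractionRing A) (FractionRing A ⊗[A] (A ⧸ p.1)) = 1 := by
        rw [LinearEquiv.finrank_eq (LinearEquiv.baseChange A (FractionRing A) _ _ e'),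
          LinearEquiv.finrank_eq (TensorProduct.AlgebraTensorModule.rid A (FractionRing A)
            (FractionRing A)), Module.finrank_self]
      rw [hr', chi_equiv _ e' (hadm _), Nat.cast_one, one_mul]
    · rw [finrank_frac_quot_of_ne_bot _ hp, Nat.cast_zero, zero_mul]
      apply chi_eq_zero_of_dim_lt _ hmem _ (hadm _)
      rw [List.length_ofFn, Module.supportDim_quotient_eq_ringKrullDim]
      exact ringKrullDim_quotient_lt d hd _ hp
  · intro N₁ _ _ _ N₂ _ _ _ N₃ _ _ _ f g hf hg hfg h1 h3
    rw [chi_add _ f g hf hg hfg (hadm _), h1, h3, finrank_frac_add f g hf hg hfg]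
    push_cast
    ring

theorem main_S8155 (A : Type u) [CommRing A] [IsNoetherianRing A] [IsLocalRing A] [IsDomain A]
    (d : ℕ) (hd : ringKrullDim A = d) (x : Fin d → A) (hx : ∀ j, x j ∈ IsLocalRing.maximalIdeal A)
    (hsop : IsFiniteLength A (A ⧸ Ideal.span (Set.range x))) (M : Type u) [AddCommGroup M] [Module A M] [Module.Finite A M] :
    (∑ᶠ i : ℤ, ((i.negOnePow : ℤˣ) : ℤ) * ((Module.length A ((DRing.tensorCx (Koszul.koszul A (List.ofFn x)) (ModuleCat.of A M)).homology i)).toNat : ℤ)) =
      (Module.finrank (FractionRing A) (FractionRing A ⊗[A] M) : ℤ) *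
        (∑ᶠ i : ℤ, ((i.negOnePow : ℤˣ) : ℤ) * ((Module.length A ((DRing.tensorCx (Koszul.koszul A (List.ofFn x)) (ModuleCat.of A A)).homology i)).toNat : ℤ)) :=
  chi_eq_rank_mul d hd x hx hsop M

end Groth.Agent.H19.Kos
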