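import Mathlib

set_option autoImplicit false
universe u

namespace Groth.Agent.H19.LocLenP

variable {A : Type u} [CommRing A] (p : Ideal A) [p.IsPrime]

/-- length of the localization at `p` -/
noncomputable abbrev lam (N : Type u) [AddCommGroup N] [Module A N] : ℕ∞ :=
  Module.length (Localization.AtPrime p) (LocalizedModule p.primeCompl N)

variable {N₁ N₂ N₃ : Type u} [AddCommGroup N₁] [Module A N₁] [AddCommGroup N₂] [Module A N₂]
  [AddCommGroup N₃] [Module A N₃]

theorem lam_add (f : N₁ →ₗ[A] N₂) (g : N₂ →ₗ[A] N₃) (hf : Function.Injective f)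
    (hg : Function.Surjective g) (hfg : Function.Exact f g) :
    lam p N₂ = lam p N₁ + lam p N₃ := by
  apply Module.length_eq_add_of_exact (LocalizedModule.map p.primeCompl f)
    (LocalizedModule.map p.primeCompl g)
  · exact LocalizedModule.map_injective _ f hf
  · exact LocalizedModule.map_surjective _ g hg
  · exact LocalizedModule.map_exact p.primeCompl f g hfg

theorem lam_equiv (e : N₁ ≃ₗ[A] N₂) : lam p N₁ = lam p N₂ := by
  have h := lam_add p e.toLinearMap (0 : N₂ →ₗ[A] PUnit.{u+1}) e.injective
    (Function.surjective_to_subsingleton _) ((e.exact_zero_iff_surjective _).2 e.surjective)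
  rw [h]
  have : lam p PUnit.{u+1} = 0 := by
    unfold lam
    rw [Module.length_eq_zero_iff]
    infer_instance
  rw [this, add_zero]

theorem lam_of_subsingleton (N : Type u) [AddCommGroup N] [Module A N] [Subsingleton N] :
    lam p N = 0 := by
  unfold lam
  rw [Module.length_eq_zero_iff]
  infer_instance

theorem lam_eq_zero_of_not_le (q : Ideal A) (h : ¬ q ≤ p) : lam p (A ⧸ q) = 0 := by
  unfold lam
  rw [Module.length_eq_zero_iff, LocalizedModule.subsingleton_iff]
  obtain ⟨s, hsq, hsp⟩ := Set.not_subset.mp h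
  intro m
  refine ⟨s, hsp, ?_⟩
  obtain ⟨x, rfl⟩ := Ideal.Quotient.mk_surjective m
  rw [Algebra.smul_def]
  show Ideal.Quotient.mk q s * Ideal.Quotient.mk q x = 0
  rw [Ideal.Quotient.eq_zero_iff_mem.mpr hsq, zero_mul]

end Groth.Agent.H19.LocLenP

namespace Groth.Agent.H19.LocLenP

variable {A : Type u} [CommRing A] (p : Ideal A) [p.IsPrime]

theorem lam_self : lam p (A ⧸ p) = 1 := by
  unfold lam
  rw [Module.length_eq_one_iff]
  set L := LocalizedModule p.primeCompl (A ⧸ p) with hL
  set e : L := LocalizedModule.mk (1 : A ⧸ p) 1 with he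
  have hgen : ∀ x : L, ∃ r : Localization.AtPrime p, x = r • e := by
    intro x
    induction x using LocalizedModule.induction_on with
    | h m s =>
      obtain ⟨b, rfl⟩ := Ideal.Quotient.mk_surjective m
      refine ⟨Localization.mk b s, ?_⟩
      rw [he, LocalizedModule.mk_smul_mk, mul_one]
      congr 1
      rw [Algebra.smul_def, mul_one]
      rfl
  have hne : e ≠ 0 := by
    intro h0
    rw [he, ← LocalizedModule.zero_mk 1, LocalizedModule.mk_eq] at h0
    obtain ⟨u, hu⟩ := h0
    simp only [one_smul, smul_zero] at hu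
    have h1 : (u : A) • (1 : A ⧸ p) = 0 := hu
    rw [Algebra.smul_def, mul_one] at h1
    have h2 : (u : A) ∈ p := Ideal.Quotient.eq_zero_iff_mem.mp h1
    exact u.2 h2
  rw [isSimpleModule_iff_toSpanSingleton_surjective]
  refine ⟨⟨e, 0, hne⟩, ?_⟩
  intro x hx0 y
  have hemem : ∃ c : Localization.AtPrime p, c • x = e := by
    induction x using LocalizedModule.induction_on with
    | h m s =>
      obtain ⟨a, rfl⟩ := Ideal.Quotient.mk_surjective m
      have hap : a ∉ p := by
        intro hap
        apply hx0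
        rw [Ideal.Quotient.eq_zero_iff_mem.mpr hap]
        exact LocalizedModule.zero_mk s
      refine ⟨Localization.mk (s : A) ⟨a, hap⟩, ?_⟩
      rw [LocalizedModule.mk_smul_mk, he, LocalizedModule.mk_eq]
      refine ⟨1, ?_⟩
      simp only [one_smul]
      show (s : A) • Ideal.Quotient.mk p a = ((a * (s : A)) : A) • (1 : A ⧸ p)
      rw [Algebra.smul_def, Algebra.smul_def, mul_one]
      show Ideal.Quotient.mk p (s : A) * Ideal.Quotient.mk p a = Ideal.Quotient.mk p (a * (s : A))
      rw [← map_mul, mul_comm]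
  obtain ⟨c, hc⟩ := hemem
  obtain ⟨r, rfl⟩ := hgen y
  refine ⟨r * c, ?_⟩
  rw [LinearMap.toSpanSingleton_apply, mul_smul, hc]

end Groth.Agent.H19.LocLenP
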