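import Mathlib

set_option autoImplicit false
universe u

namespace Groth.Agent.H19.Reduction

variable {A : Type u} [CommRing A]

theorem term_le (c X T : Ideal A) (m j : ℕ) : c ^ m * X ^ j * T ≤ c ^ m * X ^ j :=
  Ideal.mul_le_left

theorem step (b c X : Ideal A) (k n : ℕ) (hn : 0 < n) (hk : c ^ (k + 1) ≤ b * c ^ k)
    (hX : X ^ n ≤ b * (c ⊔ X) ^ (n - 1)) :
    (c ⊔ X) ^ (k + n) ≤ b * (c ⊔ X) ^ (k + n - 1) := by
  set c' := c ⊔ X with hc'
  have hc : c ≤ c' := le_sup_left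
  have hx : X ≤ c' := le_sup_right
  have h1 : (c + X) ^ (k + n) = ∑ m ∈ Finset.range (k + n + 1),
      c ^ m * X ^ (k + n - m) * ((k + n).choose m : Ideal A) := add_pow c X (k + n)
  rw [hc', ← Ideal.add_eq_sup, h1, Ideal.sum_eq_sup, Finset.sup_le_iff]
  intro m hm
  rw [Finset.mem_range] at hm
  refine le_trans Ideal.mul_le_left ?_
  rw [Ideal.add_eq_sup, ← hc']
  by_cases hmk : k + 1 ≤ m
  · obtain ⟨m', rfl⟩ := Nat.exists_eq_add_of_le hmk
    calc c ^ (k + 1 + m') * X ^ (k + n - (k + 1 + m'))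
        = c ^ (k + 1) * (c ^ m' * X ^ (k + n - (k + 1 + m'))) := by rw [pow_add, mul_assoc]
      _ ≤ (b * c ^ k) * (c ^ m' * X ^ (k + n - (k + 1 + m'))) := Ideal.mul_mono_left hk
      _ = b * (c ^ (k + m') * X ^ (k + n - (k + 1 + m'))) := by rw [pow_add]; ring
      _ ≤ b * (c' ^ (k + m') * c' ^ (k + n - (k + 1 + m'))) :=
          Ideal.mul_mono_right (Ideal.mul_mono (Ideal.pow_right_mono hc _)
            (Ideal.pow_right_mono hx _))
      _ = b * c' ^ (k + n - 1) := by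
          rw [← pow_add]
          congr 2
          omega
  · push Not at hmk
    have hj : k + n - m = n + (k - m) := by omega
    calc c ^ m * X ^ (k + n - m) = X ^ n * (c ^ m * X ^ (k - m)) := by rw [hj, pow_add]; ring
      _ ≤ (b * c' ^ (n - 1)) * (c ^ m * X ^ (k - m)) := Ideal.mul_mono_left hX
      _ = b * (c' ^ (n - 1) * (c ^ m * X ^ (k - m))) := by ring
      _ ≤ b * (c' ^ (n - 1) * (c' ^ m * c' ^ (k - m))) :=
          Ideal.mul_mono_right (Ideal.mul_mono_right (Ideal.mul_mono (Ideal.pow_right_mono hc _)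
            (Ideal.pow_right_mono hx _)))
      _ = b * c' ^ (k + n - 1) := by
          rw [← pow_add, ← pow_add]
          congr 2
          omega

/-- the integral equation gives `(x)^n ≤ b c'^(n-1)` -/
theorem span_pow_le_of_integral (b c' : Ideal A) (hb : b ≤ c') (x : A) (hx : x ∈ c') (n : ℕ)
    (hn : 0 < n) (c : Fin n → A) (hc : ∀ i : Fin n, c i ∈ b ^ ((i : ℕ) + 1))
    (heq : x ^ n + ∑ i : Fin n, c i * x ^ (n - 1 - (i : ℕ)) = 0) :
    (Ideal.span {x}) ^ n ≤ b * c' ^ (n - 1) := by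
  rw [Ideal.span_singleton_pow, Ideal.span_singleton_le_iff_mem]
  have h1 : x ^ n = - ∑ i : Fin n, c i * x ^ (n - 1 - (i : ℕ)) := eq_neg_of_add_eq_zero_left heq
  rw [h1]
  apply Ideal.neg_mem_iff _ |>.mpr
  apply Ideal.sum_mem
  intro i _
  have h2 : c i * x ^ (n - 1 - (i : ℕ)) ∈ b ^ ((i : ℕ) + 1) * c' ^ (n - 1 - (i : ℕ)) :=
    Ideal.mul_mem_mul (hc i) (Ideal.pow_mem_pow hx _)
  have h3 : b ^ ((i : ℕ) + 1) * c' ^ (n - 1 - (i : ℕ)) ≤ b * c' ^ (n - 1) := by
    calc b ^ ((i : ℕ) + 1) * c' ^ (n - 1 - (i : ℕ))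
        = b * (b ^ (i : ℕ) * c' ^ (n - 1 - (i : ℕ))) := by rw [pow_succ]; ring
      _ ≤ b * (c' ^ (i : ℕ) * c' ^ (n - 1 - (i : ℕ))) :=
          Ideal.mul_mono_right (Ideal.mul_mono_left (Ideal.pow_right_mono hb _))
      _ = b * c' ^ (n - 1) := by
          rw [← pow_add]
          congr 2
          have := i.2
          omega
  exact h3 h2

theorem exists_reduction_finset (a b : Ideal A) (hba : b ≤ a)
    (hint : ∀ x ∈ a, ∃ n : ℕ, 0 < n ∧ ∃ c : Fin n → A,
      (∀ i : Fin n, c i ∈ b ^ ((i : ℕ) + 1)) ∧ x ^ n + ∑ i : Fin n, c i * x ^ (n - 1 - (i : ℕ)) = 0)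
    (s : Finset A) (hs : ∀ x ∈ s, x ∈ a) :
    ∃ k : ℕ, (b ⊔ Ideal.span (s : Set A)) ^ (k + 1) ≤ b * (b ⊔ Ideal.span (s : Set A)) ^ k := by
  classical
  induction s using Finset.induction_on with
  | empty =>
    refine ⟨0, ?_⟩
    simp
  | insert x s hxs ih =>
    obtain ⟨k, hk⟩ := ih (fun y hy => hs y (Finset.mem_insert_of_mem hy))
    obtain ⟨n, hn, c, hc, heq⟩ := hint x (hs x (Finset.mem_insert_self x s))
    have e : b ⊔ Ideal.span ((insert x s : Finset A) : Set A) =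
        (b ⊔ Ideal.span (s : Set A)) ⊔ Ideal.span {x} := by
      rw [Finset.coe_insert, Ideal.span_insert, sup_comm (Ideal.span {x}), sup_assoc]
    rw [e]
    set c₀ := b ⊔ Ideal.span (s : Set A)
    have hX := span_pow_le_of_integral b (c₀ ⊔ Ideal.span {x}) (le_sup_left.trans le_sup_left) x
      (le_sup_right (a := c₀) (Ideal.subset_span (Set.mem_singleton x))) n hn c hc heq
    have := step b c₀ (Ideal.span {x}) k n hn hk hX
    refine ⟨k + n - 1, ?_⟩
    have h1 : k + n - 1 + 1 = k + n := by omega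
    rw [h1]
    exact this

theorem exists_reduction [IsNoetherianRing A] (a b : Ideal A) (hba : b ≤ a)
    (hint : ∀ x ∈ a, ∃ n : ℕ, 0 < n ∧ ∃ c : Fin n → A,
      (∀ i : Fin n, c i ∈ b ^ ((i : ℕ) + 1)) ∧ x ^ n + ∑ i : Fin n, c i * x ^ (n - 1 - (i : ℕ)) = 0) :
    ∃ k : ℕ, ∀ m : ℕ, a ^ (m + k) ≤ b ^ m := by
  obtain ⟨s, hs⟩ := (IsNoetherian.noetherian a : a.FG)
  have hsa : ∀ x ∈ s, x ∈ a := fun x hx => by
    rw [← hs]; exact Ideal.subset_span hx
  obtain ⟨k, hk⟩ := exists_reduction_finset a b hba hint s hsa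
  have e : b ⊔ Ideal.span (s : Set A) = a := by
    have : Ideal.span (s : Set A) = a := hs
    rw [this]
    exact sup_eq_right.mpr hba
  rw [e] at hk
  refine ⟨k, fun m => ?_⟩
  have key : ∀ m : ℕ, a ^ (m + k) ≤ b ^ m * a ^ k := by
    intro m
    induction m with
    | zero => simp
    | succ m ih =>
      calc a ^ (m + 1 + k) = a ^ m * a ^ (k + 1) := by rw [← pow_add]; congr 1; omega
        _ ≤ a ^ m * (b * a ^ k) := Ideal.mul_mono_right hk
        _ = b * a ^ (m + k) := by rw [pow_add]; ring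
        _ ≤ b * (b ^ m * a ^ k) := Ideal.mul_mono_right ih
        _ = b ^ (m + 1) * a ^ k := by rw [pow_succ]; ring
  exact (key m).trans Ideal.mul_le_left

end Groth.Agent.H19.Reduction
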