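import Mathlib

set_option autoImplicit false

namespace Groth.Agent.H19.NumPoly

variable {G : Type*} [AddCommGroup G]

/-- forward difference -/
def fdiff (f : ℕ → G) : ℕ → G := fun i => f (i + 1) - f i

/-- `IsNP r f`: `f` is eventually a numerical polynomial of degree `< r`. -/
def IsNP : ℕ → (ℕ → G) → Prop
  | 0, f => ∃ N, ∀ i, N ≤ i → f i = 0
  | r + 1, f => IsNP r (fdiff f)

theorem isNP_zero_iff (f : ℕ → G) : IsNP 0 f ↔ ∃ N, ∀ i, N ≤ i → f i = 0 := Iff.rfl

theorem isNP_succ_iff (r : ℕ) (f : ℕ → G) : IsNP (r + 1) f ↔ IsNP r (fdiff f) := Iff.rfl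

theorem IsNP.congr : ∀ (r : ℕ) {f g : ℕ → G} (N : ℕ), (∀ i, N ≤ i → f i = g i) → IsNP r f → IsNP r g
  | 0, f, g, N, h, ⟨N', h'⟩ => ⟨max N N', fun i hi => by
      rw [← h i (le_trans (le_max_left _ _) hi)]
      exact h' i (le_trans (le_max_right _ _) hi)⟩
  | r + 1, f, g, N, h, hf => by
      rw [isNP_succ_iff] at hf ⊢
      refine IsNP.congr r N (fun i hi => ?_) hf
      unfold fdiff
      rw [h i hi, h (i + 1) (by omega)]

theorem IsNP.add : ∀ (r : ℕ) {f g : ℕ → G}, IsNP r f → IsNP r g → IsNP r (fun i => f i + g i)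
  | 0, f, g, ⟨N, h⟩, ⟨N', h'⟩ => ⟨max N N', fun i hi => by
      show f i + g i = 0
      rw [h i (le_trans (le_max_left _ _) hi), h' i (le_trans (le_max_right _ _) hi), add_zero]⟩
  | r + 1, f, g, hf, hg => by
      rw [isNP_succ_iff] at hf hg ⊢
      refine IsNP.congr r 0 (fun i _ => ?_) (IsNP.add r hf hg)
      simp only [fdiff]
      abel

theorem IsNP.neg : ∀ (r : ℕ) {f : ℕ → G}, IsNP r f → IsNP r (fun i => - f i)
  | 0, f, ⟨N, h⟩ => ⟨N, fun i hi => by show - f i = 0; rw [h i hi, neg_zero]⟩
  | r + 1, f, hf => by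
      rw [isNP_succ_iff] at hf ⊢
      refine IsNP.congr r 0 (fun i _ => ?_) (IsNP.neg r hf)
      simp only [fdiff]
      abel

theorem IsNP.succ : ∀ (r : ℕ) {f : ℕ → G}, IsNP r f → IsNP (r + 1) f
  | 0, f, ⟨N, h⟩ => by
      rw [isNP_succ_iff]
      exact ⟨N, fun i hi => by unfold fdiff; rw [h i hi, h (i + 1) (by omega), sub_zero]⟩
  | r + 1, f, hf => by
      rw [isNP_succ_iff] at hf ⊢
      exact IsNP.succ r hf

theorem IsNP.mono {r r' : ℕ} (h : r ≤ r') {f : ℕ → G} (hf : IsNP r f) : IsNP r' f := by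
  induction h with
  | refl => exact hf
  | step _ ih => exact IsNP.succ _ ih

theorem IsNP.of_eventually_zero (r : ℕ) {f : ℕ → G} (N : ℕ) (h : ∀ i, N ≤ i → f i = 0) :
    IsNP r f :=
  IsNP.mono (Nat.zero_le r) ⟨N, h⟩

theorem isNP_shift_iff : ∀ (r : ℕ) (f : ℕ → G), IsNP r (fun i => f (i + 1)) ↔ IsNP r f
  | 0, f => by
      constructor
      · rintro ⟨N, h⟩
        refine ⟨N + 1, fun i hi => ?_⟩
        obtain ⟨j, rfl⟩ : ∃ j, i = j + 1 := ⟨i - 1, by omega⟩
        exact h j (by omega)
      · rintro ⟨N, h⟩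
        exact ⟨N, fun i hi => h (i + 1) (by omega)⟩
  | r + 1, f => by
      rw [isNP_succ_iff, isNP_succ_iff, ← isNP_shift_iff r (fdiff f)]
      rfl

/-- antidifference -/
theorem IsNP.of_fdiff {r : ℕ} {f g : ℕ → G} (N : ℕ) (h : ∀ i, N ≤ i → f (i + 1) - f i = g i)
    (hg : IsNP r g) : IsNP (r + 1) f := by
  rw [isNP_succ_iff]
  exact IsNP.congr r N (fun i hi => (h i hi).symm) hg

/-- explicit form in the basis `choose (i + k) k` -/
theorem IsNP.exists_choose_add : ∀ (r : ℕ) {f : ℕ → G}, IsNP r f →
    ∃ (c : ℕ → G) (N : ℕ), ∀ i, N ≤ i → f i = ∑ k ∈ Finset.range r, (Nat.choose (i + k) k) • c k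
  | 0, f, ⟨N, h⟩ => ⟨fun _ => 0, N, fun i hi => by simp [h i hi]⟩
  | r + 1, f, hf => by
      rw [isNP_succ_iff] at hf
      -- backward difference g (i+1) = f (i+1) - f i
      have hg : IsNP r (fun i => fdiff f (i - 1)) := by
        rw [← isNP_shift_iff]
        exact hf
      obtain ⟨c, N, hc⟩ := IsNP.exists_choose_add r hg
      let c0 : G := f N - ∑ k ∈ Finset.range r, (Nat.choose (N + k + 1) (k + 1)) • c k
      refine ⟨fun k => if k = 0 then c0 else c (k - 1), N, ?_⟩
      have key : ∀ j, f (N + j) = c0 + ∑ k ∈ Finset.range r,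
          (Nat.choose (N + j + k + 1) (k + 1)) • c k := by
        intro j
        induction j with
        | zero => simp [c0]
        | succ j ih =>
          have h1 : f (N + (j + 1)) = f (N + j) + fdiff f (N + j) := by
            unfold fdiff
            rw [← add_assoc]
            abel
          have h2 := hc (N + j + 1) (by omega)
          simp only [Nat.add_sub_cancel] at h2
          rw [h1, ih, h2, add_assoc, ← Finset.sum_add_distrib]
          congr 1
          apply Finset.sum_congr rfl
          intro k _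
          rw [← add_smul]
          congr 1
          rw [show N + (j + 1) + k + 1 = (N + j + k + 1) + 1 by ring,
            Nat.choose_succ_succ' (N + j + k + 1) k, add_comm,
            show N + j + 1 + k = N + j + k + 1 by ring]
      intro i hi
      obtain ⟨j, rfl⟩ : ∃ j, i = N + j := ⟨i - N, by omega⟩
      rw [key j, Finset.sum_range_succ']
      simp only [Nat.add_eq_zero_iff, one_ne_zero, and_false, if_false, Nat.add_sub_cancel,
        if_true, add_zero, Nat.choose_zero_right, one_smul]
      rw [add_comm]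
      congr 1

/-- explicit form in the basis `choose i k` -/
theorem IsNP.exists_choose : ∀ (r : ℕ) {f : ℕ → G}, IsNP r f →
    ∃ (c : ℕ → G) (N : ℕ), ∀ i, N ≤ i → f i = ∑ k ∈ Finset.range r, (Nat.choose i k) • c k
  | 0, f, ⟨N, h⟩ => ⟨fun _ => 0, N, fun i hi => by simp [h i hi]⟩
  | r + 1, f, hf => by
      rw [isNP_succ_iff] at hf
      obtain ⟨c, N, hc⟩ := IsNP.exists_choose r hf
      let c0 : G := f N - ∑ k ∈ Finset.range r, (Nat.choose N (k + 1)) • c k
      refine ⟨fun k => if k = 0 then c0 else c (k - 1), N, ?_⟩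
      have key : ∀ j, f (N + j) = c0 + ∑ k ∈ Finset.range r,
          (Nat.choose (N + j) (k + 1)) • c k := by
        intro j
        induction j with
        | zero => simp [c0]
        | succ j ih =>
          have h1 : f (N + (j + 1)) = f (N + j) + fdiff f (N + j) := by
            unfold fdiff
            rw [← add_assoc]
            abel
          have h2 := hc (N + j) (by omega)
          rw [h1, ih, h2, add_assoc, ← Finset.sum_add_distrib]
          congr 1
          apply Finset.sum_congr rfl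
          intro k _
          rw [← add_smul]
          congr 1
          rw [show N + (j + 1) = (N + j) + 1 by ring, Nat.choose_succ_succ' (N + j) k, add_comm]
      intro i hi
      obtain ⟨j, rfl⟩ : ∃ j, i = N + j := ⟨i - N, by omega⟩
      rw [key j, Finset.sum_range_succ']
      simp only [Nat.add_eq_zero_iff, one_ne_zero, and_false, if_false, Nat.add_sub_cancel,
        if_true, Nat.choose_zero_right, one_smul]
      rw [add_comm]

end Groth.Agent.H19.NumPoly
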