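import Mathlib
import Groth.Agent.H19.NumPoly

set_option autoImplicit false
universe u v

namespace Groth.Agent.H19.HilbSerre

open Groth.Agent.H19.NumPoly

/-- An additive function on (admissible) `A`-modules with values in an abelian group. -/
structure AddFun (A : Type u) [CommRing A] (G : Type*) [AddCommGroup G] where
  adm : ∀ (Y : Type u) [AddCommGroup Y] [Module A Y], Prop
  val : ∀ (Y : Type u) [AddCommGroup Y] [Module A Y], G
  adm_of_surj : ∀ {Y Z : Type u} [AddCommGroup Y] [Module A Y] [AddCommGroup Z] [Module A Z]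
    (f : Y →ₗ[A] Z), Function.Surjective f → adm Y → adm Z
  val_exact : ∀ {Y₁ Y₂ Y₃ : Type u} [AddCommGroup Y₁] [Module A Y₁] [AddCommGroup Y₂]
    [Module A Y₂] [AddCommGroup Y₃] [Module A Y₃] (f : Y₁ →ₗ[A] Y₂) (g : Y₂ →ₗ[A] Y₃),
    Function.Injective f → Function.Surjective g → Function.Exact f g →
    adm Y₁ → adm Y₂ → adm Y₃ → val Y₂ = val Y₁ + val Y₃

theorem AddFun.val_of_subsingleton {A : Type u} [CommRing A] {G : Type*} [AddCommGroup G]
    (lam : AddFun A G) (Y : Type u) [AddCommGroup Y] [Module A Y] [Subsingleton Y]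
    (h : lam.adm Y) : lam.val Y = 0 := by
  have := lam.val_exact (0 : Y →ₗ[A] Y) (0 : Y →ₗ[A] Y)
    (fun a b _ => Subsingleton.elim a b) (fun b => ⟨0, Subsingleton.elim _ _⟩)
    (fun y => ⟨fun _ => ⟨0, Subsingleton.elim _ _⟩, fun _ => rfl⟩) h h h
  have h2 : lam.val Y + 0 = lam.val Y + lam.val Y := by rw [add_zero]; exact this
  exact (add_left_cancel h2).symm

section Setting

variable {A : Type u} [CommRing A] {T : Type v} [CommRing T] [Algebra A T]
  {N : Type u} [AddCommGroup N] [Module A N] [Module T N] [IsScalarTower A T N]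
  (ℳ : ℕ → Submodule A N) (π : ℕ → N →ₗ[A] N) (X : Finset T)

/-- graded data: pieces `ℳ i`, projections `π i`, degree-one generators `X`. -/
structure IsGr : Prop where
  π_mem : ∀ i n, π i n ∈ ℳ i
  π_same : ∀ i n, n ∈ ℳ i → π i n = n
  π_fin : ∀ n, ∃ D, ∀ i, D < i → π i n = 0
  π_smul : ∀ x ∈ X, ∀ i n, π (i + 1) (x • n) = x • π i n
  π_smul0 : ∀ x ∈ X, ∀ n, π 0 (x • n) = 0
  gen : Algebra.adjoin A (X : Set T) = ⊤

/-- homogeneous submodules -/
def IsHomog (P : Submodule T N) : Prop := ∀ n ∈ P, ∀ i, π i n ∈ P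

/-- degree `i` piece of `N ⧸ P` -/
abbrev Q (P : Submodule T N) (i : ℕ) : Type u :=
  ↥(ℳ i) ⧸ Submodule.comap (ℳ i).subtype (P.restrictScalars A)

def colon (P : Submodule T N) (x : T) : Submodule T N := P.comap (LinearMap.lsmul T N x)

def supx (P : Submodule T N) (x : T) : Submodule T N := P ⊔ LinearMap.range (LinearMap.lsmul T N x)

omit [Algebra A T] [Module A N] [IsScalarTower A T N] in
theorem mem_colon (P : Submodule T N) (x : T) (n : N) : n ∈ colon P x ↔ x • n ∈ P := by
  simp [colon]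

omit [Algebra A T] [Module A N] [IsScalarTower A T N] in
theorem le_colon (P : Submodule T N) (x : T) : P ≤ colon P x := fun n hn => by
  rw [mem_colon]; exact P.smul_mem x hn

omit [Algebra A T] [Module A N] [IsScalarTower A T N] in
theorem le_supx (P : Submodule T N) (x : T) : P ≤ supx P x := le_sup_left

omit [Algebra A T] [Module A N] [IsScalarTower A T N] in
theorem mem_supx (P : Submodule T N) (x : T) (n : N) :
    n ∈ supx P x ↔ ∃ p ∈ P, ∃ m : N, p + x • m = n := by
  rw [supx, Submodule.mem_sup]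
  constructor
  · rintro ⟨p, hp, y, ⟨m, rfl⟩, rfl⟩
    exact ⟨p, hp, m, rfl⟩
  · rintro ⟨p, hp, m, rfl⟩
    exact ⟨p, hp, x • m, ⟨m, rfl⟩, rfl⟩

omit [Algebra A T] [Module A N] [IsScalarTower A T N] in
theorem smul_mem_supx (P : Submodule T N) (x : T) (m : N) : x • m ∈ supx P x :=
  (mem_supx P x _).mpr ⟨0, P.zero_mem, m, by rw [zero_add]⟩

variable {ℳ π X}

theorem IsGr.smul_mem (hgr : IsGr ℳ π X) {x : T} (hx : x ∈ X) {i : ℕ} {n : N} (hn : n ∈ ℳ i) :
    x • n ∈ ℳ (i + 1) := by
  have := hgr.π_smul x hx i n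
  rw [hgr.π_same i n hn] at this
  rw [← this]
  exact hgr.π_mem _ _

theorem IsGr.homog_colon (hgr : IsGr ℳ π X) {x : T} (hx : x ∈ X) {P : Submodule T N}
    (hP : IsHomog π P) : IsHomog π (colon P x) := by
  intro n hn i
  rw [mem_colon] at hn ⊢
  rw [← hgr.π_smul x hx i n]
  exact hP _ hn _

theorem IsGr.homog_supx (hgr : IsGr ℳ π X) {x : T} (hx : x ∈ X) {P : Submodule T N}
    (hP : IsHomog π P) : IsHomog π (supx P x) := by
  intro n hn i
  rw [mem_supx] at hn
  obtain ⟨p, hp, m, rfl⟩ := hn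
  rw [map_add]
  refine (supx P x).add_mem (le_supx P x (hP p hp i)) ?_
  cases i with
  | zero =>
    rw [hgr.π_smul0 x hx]
    exact Submodule.zero_mem _
  | succ i =>
    rw [hgr.π_smul x hx]
    exact smul_mem_supx P x _

end Setting

end Groth.Agent.H19.HilbSerre
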