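import Mathlib
import Groth.Agent.H19.HilbSerre1

set_option autoImplicit false
universe u v

namespace Groth.Agent.H19.HilbSerre

open Groth.Agent.H19.NumPoly

section Setting

variable {A : Type u} [CommRing A] {T : Type v} [CommRing T] [Algebra A T]
  {N : Type u} [AddCommGroup N] [Module A N] [Module T N] [IsScalarTower A T N]
  {ℳ : ℕ → Submodule A N} {π : ℕ → N →ₗ[A] N} {X : Finset T}

/-- multiplication by `x` from degree `i` to degree `i + 1` -/
def mulx (hgr : IsGr ℳ π X) (x : T) (hx : x ∈ X) (i : ℕ) : ↥(ℳ i) →ₗ[A] ↥(ℳ (i + 1)) where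
  toFun n := ⟨x • n.1, hgr.smul_mem hx n.2⟩
  map_add' a b := by
    apply Subtype.ext
    simp [smul_add]
  map_smul' a b := by
    apply Subtype.ext
    simp only [Submodule.coe_smul, RingHom.id_apply]
    rw [smul_comm]

/-- the map `Q (P : x) i → Q P (i+1)` -/
def phi (hgr : IsGr ℳ π X) (x : T) (hx : x ∈ X) (P : Submodule T N) (i : ℕ) :
    Q ℳ (colon P x) i →ₗ[A] Q ℳ P (i + 1) :=
  Submodule.mapQ _ _ (mulx hgr x hx i) (by
    intro n hn
    simp only [Submodule.mem_comap, Submodule.subtype_apply, Submodule.restrictScalars_mem,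
      mem_colon] at hn ⊢
    exact hn)

/-- the map `Q P i → Q P' i` for `P ≤ P'` -/
def psi {P P' : Submodule T N} (h : P ≤ P') (i : ℕ) : Q ℳ P i →ₗ[A] Q ℳ P' i :=
  Submodule.mapQ _ _ LinearMap.id (by
    intro n hn
    simp only [Submodule.mem_comap, Submodule.subtype_apply, Submodule.restrictScalars_mem,
      LinearMap.id_coe, id_eq] at hn ⊢
    exact h hn)

theorem psi_surjective {P P' : Submodule T N} (h : P ≤ P') (i : ℕ) :
    Function.Surjective (psi (ℳ := ℳ) h i) := by
  intro z
  obtain ⟨n, rfl⟩ := Submodule.Quotient.mk_surjective _ z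
  exact ⟨Submodule.Quotient.mk n, rfl⟩

theorem phi_injective (hgr : IsGr ℳ π X) (x : T) (hx : x ∈ X) (P : Submodule T N) (i : ℕ) :
    Function.Injective (phi hgr x hx P i) := by
  rw [← LinearMap.ker_eq_bot, LinearMap.ker_eq_bot']
  intro z hz
  obtain ⟨n, rfl⟩ := Submodule.Quotient.mk_surjective _ z
  have h1 : phi hgr x hx P i (Submodule.Quotient.mk n) =
      Submodule.Quotient.mk (mulx hgr x hx i n) := rfl
  rw [h1, Submodule.Quotient.mk_eq_zero] at hz
  rw [Submodule.Quotient.mk_eq_zero]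
  simp only [Submodule.mem_comap, Submodule.subtype_apply, Submodule.restrictScalars_mem,
    mem_colon] at hz ⊢
  exact hz

theorem exact_phi_psi (hgr : IsGr ℳ π X) (x : T) (hx : x ∈ X) (P : Submodule T N)
    (hP : IsHomog π P) (i : ℕ) :
    Function.Exact (phi hgr x hx P i) (psi (ℳ := ℳ) (le_supx P x) (i + 1)) := by
  intro z
  obtain ⟨n, rfl⟩ := Submodule.Quotient.mk_surjective _ z
  have h1 : psi (ℳ := ℳ) (le_supx P x) (i + 1) (Submodule.Quotient.mk n) =
      Submodule.Quotient.mk n := rfl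
  rw [h1, Submodule.Quotient.mk_eq_zero]
  simp only [Submodule.mem_comap, Submodule.subtype_apply, Submodule.restrictScalars_mem]
  constructor
  · intro hn
    rw [mem_supx] at hn
    obtain ⟨p, hp, m, hpm⟩ := hn
    have h2 : (n : N) = π (i + 1) p + x • π i m := by
      rw [← hgr.π_smul x hx, ← map_add, hpm, hgr.π_same _ _ n.2]
    refine ⟨Submodule.Quotient.mk ⟨π i m, hgr.π_mem i m⟩, ?_⟩
    have h3 : phi hgr x hx P i (Submodule.Quotient.mk ⟨π i m, hgr.π_mem i m⟩) =
        Submodule.Quotient.mk (mulx hgr x hx i ⟨π i m, hgr.π_mem i m⟩) := rfl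
    rw [h3, Submodule.Quotient.eq]
    simp only [Submodule.mem_comap, Submodule.subtype_apply, Submodule.restrictScalars_mem]
    have h4 : ((mulx hgr x hx i ⟨π i m, hgr.π_mem i m⟩ - n : ↥(ℳ (i + 1))) : N) =
        - π (i + 1) p := by
      show x • π i m - (n : N) = _
      rw [h2]
      abel
    rw [h4]
    exact P.neg_mem (hP p hp _)
  · rintro ⟨w, hw⟩
    obtain ⟨m, rfl⟩ := Submodule.Quotient.mk_surjective _ w
    have h3 : phi hgr x hx P i (Submodule.Quotient.mk m) =
        Submodule.Quotient.mk (mulx hgr x hx i m) := rfl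
    rw [h3, Submodule.Quotient.eq] at hw
    simp only [Submodule.mem_comap, Submodule.subtype_apply, Submodule.restrictScalars_mem] at hw
    have h5 : (n : N) = x • (m : N) - ((mulx hgr x hx i m - n : ↥(ℳ (i + 1))) : N) := by
      show (n : N) = x • (m : N) - (x • (m : N) - (n : N))
      abel
    rw [h5]
    exact (supx P x).sub_mem (smul_mem_supx P x _) (le_supx P x hw)

variable {G : Type*} [AddCommGroup G]

/-- Hilbert function of `N ⧸ P` with respect to `lam` -/
def H (ℳ : ℕ → Submodule A N) (lam : AddFun A G) (P : Submodule T N) (i : ℕ) : G :=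
  lam.val (Q ℳ P i)

theorem adm_of_le (lam : AddFun A G) {P P' : Submodule T N} (h : P ≤ P')
    (hadm : ∀ i, lam.adm (Q ℳ P i)) (i : ℕ) : lam.adm (Q ℳ P' i) :=
  lam.adm_of_surj (psi h i) (psi_surjective h i) (hadm i)

theorem H_succ (hgr : IsGr ℳ π X) (lam : AddFun A G) (x : T) (hx : x ∈ X) (P : Submodule T N)
    (hP : IsHomog π P) (hadm : ∀ i, lam.adm (Q ℳ P i)) (i : ℕ) :
    H ℳ lam P (i + 1) = H ℳ lam (colon P x) i + H ℳ lam (supx P x) (i + 1) :=
  lam.val_exact (phi hgr x hx P i) (psi (le_supx P x) (i + 1)) (phi_injective hgr x hx P i)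
    (psi_surjective _ _) (exact_phi_psi hgr x hx P hP i)
    (adm_of_le lam (le_colon P x) hadm i) (hadm (i + 1)) (adm_of_le lam (le_supx P x) hadm (i + 1))

end Setting

end Groth.Agent.H19.HilbSerre
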