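import Mathlib
import Groth.Agent.H19.HilbSerre2

set_option autoImplicit false
universe u v

namespace Groth.Agent.H19.HilbSerre

open Groth.Agent.H19.NumPoly

section Setting

variable {A : Type u} [CommRing A] {T : Type v} [CommRing T] [Algebra A T]
  {N : Type u} [AddCommGroup N] [Module A N] [Module T N] [IsScalarTower A T N]
  {ℳ : ℕ → Submodule A N} {π : ℕ → N →ₗ[A] N} {X : Finset T}

theorem exists_bound_finset (hgr : IsGr ℳ π X) (S : Finset N) :
    ∃ D : ℕ, ∀ g ∈ S, ∀ i, D < i → π i g = 0 := by
  classical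
  induction S using Finset.induction_on with
  | empty => exact ⟨0, fun g hg => absurd hg (Finset.notMem_empty g)⟩
  | insert b S _ ih2 =>
    obtain ⟨D1, h1⟩ := ih2
    obtain ⟨D2, h2⟩ := hgr.π_fin b
    refine ⟨max D1 D2, fun g hg i hi => ?_⟩
    rcases Finset.mem_insert.mp hg with rfl | hg
    · exact h2 i (lt_of_le_of_lt (le_max_right _ _) hi)
    · exact h1 g hg i (lt_of_le_of_lt (le_max_left _ _) hi)

/-- If every `x ∈ X` maps `N` into `P`, then `N ⧸ P` vanishes in high degrees. -/
theorem exists_bound (hgr : IsGr ℳ π X) [Module.Finite T N] (P : Submodule T N)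
    (hP : IsHomog π P) (hX : ∀ x ∈ X, ∀ n : N, x • n ∈ P) :
    ∃ D : ℕ, ∀ i, D < i → ∀ n ∈ ℳ i, n ∈ P := by
  classical
  obtain ⟨S, hS⟩ := (Module.Finite.fg_top : (⊤ : Submodule T N).FG)
  -- a bound for the degrees of the generators
  have hD : ∃ D : ℕ, ∀ g ∈ S, ∀ i, D < i → π i g = 0 := exists_bound_finset hgr S
  obtain ⟨D, hD⟩ := hD
  refine ⟨D, ?_⟩
  -- the `A`-submodule `U + P`
  let U : Submodule A N :=
    { carrier := {n | ∀ i, D < i → π i n = 0}
      add_mem' := fun {a b} ha hb i hi => by rw [map_add, ha i hi, hb i hi, add_zero]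
      zero_mem' := fun i _ => map_zero _
      smul_mem' := fun c n hn i hi => by rw [map_smul, hn i hi, smul_zero] }
  let W : Submodule A N := U ⊔ P.restrictScalars A
  have hW : ∀ t : T, ∀ w ∈ W, t • w ∈ W := by
    intro t
    have ht : t ∈ Algebra.adjoin A (X : Set T) := by rw [hgr.gen]; exact Algebra.mem_top
    induction ht using Algebra.adjoin_induction with
    | mem x hx =>
      intro w _
      exact Submodule.mem_sup_right (hX x hx w)
    | algebraMap a =>
      intro w hw
      rw [algebraMap_smul]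
      exact W.smul_mem a hw
    | add s t _ _ hs ht =>
      intro w hw
      rw [add_smul]
      exact W.add_mem (hs w hw) (ht w hw)
    | mul s t _ _ hs ht =>
      intro w hw
      rw [mul_smul]
      exact hs _ (ht w hw)
  let W' : Submodule T N :=
    { carrier := W
      add_mem' := W.add_mem
      zero_mem' := W.zero_mem
      smul_mem' := fun t w hw => hW t w hw }
  have hW' : W' = ⊤ := by
    rw [eq_top_iff, ← hS, Submodule.span_le]
    intro g hg
    exact Submodule.mem_sup_left (hD g hg)
  intro i hi n hn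
  have hnW : n ∈ W := by
    have : n ∈ W' := hW' ▸ Submodule.mem_top
    exact this
  obtain ⟨u, hu, p, hp, rfl⟩ := Submodule.mem_sup.mp hnW
  have h1 : π i (u + p) = u + p := hgr.π_same i _ hn
  rw [map_add, hu i hi, zero_add] at h1
  rw [← h1]
  exact hP p hp i

variable {G : Type*} [AddCommGroup G]

open Classical in
/-- number of generators not killing `N ⧸ P` -/
noncomputable def ecount (X : Finset T) (P : Submodule T N) : ℕ :=
  (X.filter (fun x => ¬ ∀ n : N, x • n ∈ P)).card

omit [Algebra A T] [Module A N] [IsScalarTower A T N] in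
theorem ecount_le_of_le {P P' : Submodule T N} (h : P ≤ P') : ecount X P' ≤ ecount X P := by
  classical
  unfold ecount
  apply Finset.card_le_card
  intro x hx
  rw [Finset.mem_filter] at hx ⊢
  exact ⟨hx.1, fun hn => hx.2 (fun n => h (hn n))⟩

omit [Algebra A T] [Module A N] [IsScalarTower A T N] in
theorem ecount_supx_lt {P : Submodule T N} {x : T} (hx : x ∈ X) (hxP : ¬ ∀ n : N, x • n ∈ P) :
    ecount X (supx P x) < ecount X P := by
  classical
  unfold ecount
  apply Finset.card_lt_card
  rw [Finset.ssubset_iff_of_subset]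
  · refine ⟨x, ?_, ?_⟩
    · rw [Finset.mem_filter]
      exact ⟨hx, hxP⟩
    · rw [Finset.mem_filter]
      intro h
      exact h.2 (fun n => smul_mem_supx P x n)
  · intro y hy
    rw [Finset.mem_filter] at hy ⊢
    exact ⟨hy.1, fun hn => hy.2 (fun n => le_supx P x (hn n))⟩

omit [Algebra A T] [Module A N] [IsScalarTower A T N] in
theorem ecount_le_card (P : Submodule T N) : ecount X P ≤ X.card := by
  classical
  unfold ecount
  exact Finset.card_filter_le _ _

/-- **Hilbert–Serre**: the Hilbert function of `N ⧸ P` is eventually a numerical polynomial. -/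
theorem isNP_H_aux (hgr : IsGr ℳ π X) [IsNoetherian T N] (lam : AddFun A G)
    (P₀ : Submodule T N) (hadm : ∀ i, lam.adm (Q ℳ P₀ i)) :
    ∀ P : Submodule T N, P₀ ≤ P → IsHomog π P → IsNP (ecount X P) (H ℳ lam P) := by
  intro P
  refine IsNoetherian.induction (P := fun P : Submodule T N =>
    P₀ ≤ P → IsHomog π P → IsNP (ecount X P) (H ℳ lam P)) ?_ P
  intro (P : Submodule T N) ih hP₀ hP
  have hadmP : ∀ i, lam.adm (Q ℳ P i) := adm_of_le lam hP₀ hadm
  by_cases hall : ∀ x ∈ X, ∀ n : N, x • n ∈ P
  · obtain ⟨D, hD⟩ := exists_bound hgr P hP hall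
    apply IsNP.of_eventually_zero _ (D + 1)
    intro i hi
    haveI : Subsingleton (Q ℳ P i) := by
      rw [Submodule.Quotient.subsingleton_iff, eq_top_iff]
      intro n _
      simp only [Submodule.mem_comap, Submodule.subtype_apply, Submodule.restrictScalars_mem]
      exact hD i (by omega) n.1 n.2
    exact lam.val_of_subsingleton _ (hadmP i)
  · push Not at hall
    obtain ⟨x, hx, n₀, hn₀⟩ := hall
    have hxP : ¬ ∀ n : N, x • n ∈ P := fun h => hn₀ (h n₀)
    have hlt2 : P < supx P x := lt_of_le_of_ne (le_supx P x) (fun h => hn₀ (by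
      rw [h]; exact smul_mem_supx P x n₀))
    have ih2 := ih (supx P x) hlt2 (hP₀.trans (le_supx P x)) (hgr.homog_supx hx hP)
    have hcount := ecount_supx_lt hx hxP
    have hsucc := H_succ hgr lam x hx P hP hadmP
    by_cases hcol : colon P x = P
    · -- `x` is a nonzerodivisor on `N ⧸ P`
      have h1 : IsNP (ecount X (supx P x) + 1) (H ℳ lam P) := by
        apply IsNP.of_fdiff (g := fun i => H ℳ lam (supx P x) (i + 1)) 0
        · intro i _
          rw [hsucc i, hcol]
          abel
        · exact (isNP_shift_iff _ _).mpr ih2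
      exact h1.mono hcount
    · have hlt1 : P < colon P x := lt_of_le_of_ne (le_colon P x) (Ne.symm hcol)
      have ih1 := ih (colon P x) hlt1 (hP₀.trans (le_colon P x)) (hgr.homog_colon hx hP)
      have h1 : IsNP (ecount X P) (H ℳ lam (colon P x)) :=
        ih1.mono (ecount_le_of_le (le_colon P x))
      have h2 : IsNP (ecount X P) (fun i => H ℳ lam (supx P x) (i + 1)) :=
        (isNP_shift_iff _ _).mpr (ih2.mono hcount.le)
      rw [← isNP_shift_iff]
      refine IsNP.congr _ 0 (fun i _ => ?_) (h1.add _ h2)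
      exact (hsucc i).symm

theorem isNP_H (hgr : IsGr ℳ π X) [IsNoetherian T N] (lam : AddFun A G)
    (P₀ : Submodule T N) (hP₀ : IsHomog π P₀) (hadm : ∀ i, lam.adm (Q ℳ P₀ i)) :
    IsNP X.card (H ℳ lam P₀) :=
  (isNP_H_aux hgr lam P₀ hadm P₀ le_rfl hP₀).mono (ecount_le_card P₀)

end Setting

end Groth.Agent.H19.HilbSerre
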