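import Mathlib
import Groth.Agent.H19.HilbSerre3

set_option autoImplicit false
universe u v

namespace Groth.Agent.H19.HilbSerre

open Groth.Agent.H19.NumPoly

/-- the length function as an additive function -/
noncomputable def lengthFun (A : Type u) [CommRing A] : AddFun A ℤ where
  adm Y _ _ := IsFiniteLength A Y
  val Y _ _ := ((Module.length A Y).toNat : ℤ)
  adm_of_surj f hf h := h.of_surjective hf
  val_exact f g hf hg hfg h1 h2 h3 := by
    have h := Module.length_eq_add_of_exact f g hf hg hfg
    rw [← Module.length_ne_top_iff] at h1 h2 h3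
    rw [h, ENat.toNat_add h1 h3]
    push_cast
    rfl

section Dec

variable {A : Type u} [CommRing A] {T : Type v} [CommRing T] [Algebra A T]
  {N : Type u} [AddCommGroup N] [Module A N] [Module T N] [IsScalarTower A T N]
  (𝒜 : ℕ → Submodule A T)
  (ℳ : ℕ → Submodule A N) [DirectSum.Decomposition ℳ] [SetLike.GradedSMul 𝒜 ℳ]

/-- projection onto the degree `i` piece -/
noncomputable def proj (i : ℕ) : N →ₗ[A] N :=
  (ℳ i).subtype ∘ₗ (DirectSum.component A ℕ (fun i => ℳ i) i) ∘ₗ
    (DirectSum.decomposeLinearEquiv ℳ).toLinearMap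

theorem proj_apply (i : ℕ) (n : N) : proj ℳ i n = (DirectSum.decompose ℳ n i : N) := rfl

theorem coe_decompose_smul_succ {s : T} (hs : s ∈ 𝒜 1) (n : N) (i : ℕ) :
    (DirectSum.decompose ℳ (s • n) (i + 1) : N) = s • (DirectSum.decompose ℳ n i : N) := by
  classical
  conv_lhs => rw [← DirectSum.sum_support_decompose ℳ n, Finset.smul_sum, DirectSum.decompose_sum]
  rw [DFinsupp.finsetSum_apply, AddSubmonoidClass.coe_finsetSum]
  have hmem : ∀ j : ℕ, (s • (DirectSum.decompose ℳ n j : N)) ∈ ℳ (j + 1) := fun j => by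
    have := SetLike.GradedSMul.smul_mem (A := 𝒜) (B := ℳ) hs
      (SetLike.coe_mem (DirectSum.decompose ℳ n j))
    rwa [vadd_eq_add, add_comm] at this
  rw [Finset.sum_eq_single i]
  · exact DirectSum.decompose_of_mem_same ℳ (hmem i)
  · intro j _ hji
    exact DirectSum.decompose_of_mem_ne ℳ (hmem j) (by omega)
  · intro hi
    rw [DFinsupp.notMem_support_iff] at hi
    rw [hi, ZeroMemClass.coe_zero, smul_zero, DirectSum.decompose_zero]
    rfl

theorem coe_decompose_smul_zero {s : T} (hs : s ∈ 𝒜 1) (n : N) :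
    (DirectSum.decompose ℳ (s • n) 0 : N) = 0 := by
  classical
  conv_lhs => rw [← DirectSum.sum_support_decompose ℳ n, Finset.smul_sum, DirectSum.decompose_sum]
  rw [DFinsupp.finsetSum_apply, AddSubmonoidClass.coe_finsetSum]
  have hmem : ∀ j : ℕ, (s • (DirectSum.decompose ℳ n j : N)) ∈ ℳ (j + 1) := fun j => by
    have := SetLike.GradedSMul.smul_mem (A := 𝒜) (B := ℳ) hs
      (SetLike.coe_mem (DirectSum.decompose ℳ n j))
    rwa [vadd_eq_add, add_comm] at this
  apply Finset.sum_eq_zero
  intro j _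
  exact DirectSum.decompose_of_mem_ne ℳ (hmem j) (by omega)

theorem isGr_of_decomposition (X : Finset T) (hX : ∀ x ∈ X, x ∈ 𝒜 1)
    (hgen : Algebra.adjoin A (X : Set T) = ⊤) : IsGr ℳ (proj ℳ) X where
  π_mem i n := SetLike.coe_mem _
  π_same i n hn := DirectSum.decompose_of_mem_same ℳ hn
  π_fin n := by
    classical
    refine ⟨(DirectSum.decompose ℳ n).support.sup id, fun i hi => ?_⟩
    have : i ∉ (DirectSum.decompose ℳ n).support := fun h => by
      have := Finset.le_sup (f := id) h
      simp only [id_eq] at this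
      omega
    rw [DFinsupp.notMem_support_iff] at this
    rw [proj_apply, this]
    rfl
  π_smul x hx i n := coe_decompose_smul_succ 𝒜 ℳ (hX x hx) n i
  π_smul0 x hx n := coe_decompose_smul_zero 𝒜 ℳ (hX x hx) n
  gen := hgen

end Dec

end Groth.Agent.H19.HilbSerre
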