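import Mathlib
import Groth.Agent.H19.HilbSerre4

set_option autoImplicit false
universe u v

namespace Groth.Agent.H19.HilbSerre

open Groth.Agent.H19.NumPoly

section Setting

variable {A : Type u} [CommRing A] {T : Type v} [CommRing T] [Algebra A T]
  {N : Type u} [AddCommGroup N] [Module A N] [Module T N] [IsScalarTower A T N]
  {ℳ : ℕ → Submodule A N} {π : ℕ → N →ₗ[A] N} {X : Finset T}

omit [Algebra A T] [Module T N] [IsScalarTower A T N] in
theorem fg_of_le_fg [IsNoetherianRing A] {P W : Submodule A N} (h : P ≤ W) (hW : W.FG) : P.FG := by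
  haveI : IsNoetherian A W := isNoetherian_of_fg_of_noetherian W hW
  have h1 : (P.comap W.subtype).FG := IsNoetherian.noetherian _
  have h2 : (P.comap W.subtype).map W.subtype = P := by
    rw [Submodule.map_comap_eq, Submodule.range_subtype]
    exact inf_eq_right.mpr h
  rw [← h2]
  exact h1.map _

/-- a `T`-stable `A`-submodule containing generators is everything -/
theorem eq_top_of_stable (hgr : IsGr ℳ π X) (S : Finset N) (hS : Submodule.span T (S : Set N) = ⊤)
    (Z : Submodule A N) (hZS : ∀ g ∈ S, g ∈ Z) (hZX : ∀ x ∈ X, ∀ n ∈ Z, x • n ∈ Z) :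
    ∀ n : N, n ∈ Z := by
  have hW : ∀ t : T, ∀ w ∈ Z, t • w ∈ Z := by
    intro t
    have ht : t ∈ Algebra.adjoin A (X : Set T) := by rw [hgr.gen]; exact Algebra.mem_top
    induction ht using Algebra.adjoin_induction with
    | mem x hx => exact fun w hw => hZX x hx w hw
    | algebraMap a =>
      intro w hw
      rw [algebraMap_smul]
      exact Z.smul_mem a hw
    | add s t _ _ hs ht =>
      intro w hw
      rw [add_smul]
      exact Z.add_mem (hs w hw) (ht w hw)
    | mul s t _ _ hs ht =>
      intro w hw
      rw [mul_smul]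
      exact hs _ (ht w hw)
  let Z' : Submodule T N :=
    { carrier := Z
      add_mem' := Z.add_mem
      zero_mem' := Z.zero_mem
      smul_mem' := fun t w hw => hW t w hw }
  have hZ' : Z' = ⊤ := by
    rw [eq_top_iff, ← hS, Submodule.span_le]
    exact fun g hg => hZS g hg
  intro n
  have : n ∈ Z' := hZ' ▸ Submodule.mem_top
  exact this

/-- the graded pieces of a finite graded module are finitely generated over a Noetherian base -/
theorem fg_piece (hgr : IsGr ℳ π X) [IsNoetherianRing A] [Module.Finite T N] :
    ∀ i, (ℳ i).FG := by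
  classical
  obtain ⟨S, hS⟩ := (Module.Finite.fg_top : (⊤ : Submodule T N).FG)
  intro i
  induction i with
  | zero =>
    let W : Submodule A N := Submodule.span A ((fun g => π 0 g) '' (S : Set N))
    have hWfg : W.FG := Submodule.fg_span (Set.Finite.image _ S.finite_toSet)
    let Z : Submodule A N := W.comap (π 0)
    have hZ := eq_top_of_stable hgr S hS Z
      (fun g hg => Submodule.subset_span ⟨g, hg, rfl⟩)
      (fun x hx n _ => by
        show π 0 (x • n) ∈ W
        rw [hgr.π_smul0 x hx]
        exact W.zero_mem)
    have hle : ℳ 0 ≤ W := fun n hn => by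
      have := hZ n
      rwa [Submodule.mem_comap, hgr.π_same 0 n hn] at this
    exact fg_of_le_fg hle hWfg
  | succ i ih =>
    let W₁ : Submodule A N := Submodule.span A ((fun g => π (i + 1) g) '' (S : Set N))
    let W₂ : Submodule A N := ⨆ x ∈ X, (ℳ i).map
      ((LinearMap.lsmul T N x).restrictScalars A)
    let W : Submodule A N := W₁ ⊔ W₂
    have hW₁fg : W₁.FG := Submodule.fg_span (Set.Finite.image _ S.finite_toSet)
    have hW₂fg : W₂.FG := by
      apply Submodule.fg_biSup
      intro x _
      exact ih.map _
    have hWfg : W.FG := hW₁fg.sup hW₂fg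
    let Z : Submodule A N := W.comap (π (i + 1))
    have hZ := eq_top_of_stable hgr S hS Z
      (fun g hg => Submodule.mem_sup_left (Submodule.subset_span ⟨g, hg, rfl⟩))
      (fun x hx n _ => by
        show π (i + 1) (x • n) ∈ W
        rw [hgr.π_smul x hx]
        apply Submodule.mem_sup_right
        apply Submodule.mem_iSup_of_mem x
        apply Submodule.mem_iSup_of_mem hx
        exact ⟨π i n, hgr.π_mem i n, rfl⟩)
    have hle : ℳ (i + 1) ≤ W := fun n hn => by
      have := hZ n
      rwa [Submodule.mem_comap, hgr.π_same (i + 1) n hn] at this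
    exact fg_of_le_fg hle hWfg

end Setting

end Groth.Agent.H19.HilbSerre
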