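import Mathlib
import Groth.Agent.H19.HilbSerre5

set_option autoImplicit false
universe u v

namespace Groth.Agent.H19.HilbSerre

open Groth.Agent.H19.NumPoly

theorem AddFun.val_congr {A : Type u} [CommRing A] {G : Type*} [AddCommGroup G]
    (lam : AddFun A G) {Y Z : Type u} [AddCommGroup Y] [Module A Y] [AddCommGroup Z] [Module A Z]
    (e : Y ≃ₗ[A] Z) (hY : lam.adm Y) : lam.val Y = lam.val Z := by
  have hZ : lam.adm Z := lam.adm_of_surj e.toLinearMap e.surjective hY
  have hP : lam.adm PUnit.{u + 1} :=
    lam.adm_of_surj (0 : Y →ₗ[A] PUnit.{u + 1}) (fun _ => ⟨0, Subsingleton.elim _ _⟩) hY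
  have := lam.val_exact e.toLinearMap (0 : Z →ₗ[A] PUnit.{u + 1}) e.injective
    (fun _ => ⟨0, Subsingleton.elim _ _⟩)
    (fun z => ⟨fun _ => ⟨e.symm z, e.apply_symm_apply z⟩, fun _ => rfl⟩) hY hZ hP
  rw [this, lam.val_of_subsingleton PUnit.{u + 1} hP, add_zero]

section Setting

variable {A : Type u} [CommRing A] {T : Type v} [CommRing T] [Algebra A T]
  {N : Type u} [AddCommGroup N] [Module A N] [Module T N] [IsScalarTower A T N]
  {ℳ : ℕ → Submodule A N} {π : ℕ → N →ₗ[A] N} {X : Finset T}

/-- the graded pieces of a finite graded module are finitely generated over the base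
(no Noetherian hypothesis on the base). -/
theorem fg_piece' (hgr : IsGr ℳ π X) [Module.Finite T N] :
    ∀ i, (ℳ i).FG := by
  classical
  obtain ⟨S, hS⟩ := (Module.Finite.fg_top : (⊤ : Submodule T N).FG)
  intro i
  induction i with
  | zero =>
    let W : Submodule A N := Submodule.span A ((fun g => π 0 g) '' (S : Set N))
    have hWfg : W.FG := Submodule.fg_span (Set.Finite.image _ S.finite_toSet)
    let Z : Submodule A N := W.comap (π 0)
    have hZ := eq_top_of_stable hgr S hS Z
      (fun g hg => Submodule.subset_span ⟨g, hg, rfl⟩)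
      (fun x hx n _ => by
        show π 0 (x • n) ∈ W
        rw [hgr.π_smul0 x hx]
        exact W.zero_mem)
    have hle : ℳ 0 ≤ W := fun n hn => by
      have := hZ n
      rwa [Submodule.mem_comap, hgr.π_same 0 n hn] at this
    have hge : W ≤ ℳ 0 := by
      rw [Submodule.span_le]
      rintro _ ⟨g, -, rfl⟩
      exact hgr.π_mem 0 g
    rw [le_antisymm hle hge]
    exact hWfg
  | succ i ih =>
    let W₁ : Submodule A N := Submodule.span A ((fun g => π (i + 1) g) '' (S : Set N))
    let W₂ : Submodule A N := ⨆ x ∈ X, (ℳ i).map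
      ((LinearMap.lsmul T N x).restrictScalars A)
    let W : Submodule A N := W₁ ⊔ W₂
    have hW₁fg : W₁.FG := Submodule.fg_span (Set.Finite.image _ S.finite_toSet)
    have hW₂fg : W₂.FG := by
      apply Submodule.fg_biSup
      intro x _
      exact ih.map _
    have hWfg : W.FG := hW₁fg.sup hW₂fg
    let Z : Submodule A N := W.comap (π (i + 1))
    have hZ := eq_top_of_stable hgr S hS Z
      (fun g hg => Submodule.mem_sup_left (Submodule.subset_span ⟨g, hg, rfl⟩))
      (fun x hx n _ => by
        show π (i + 1) (x • n) ∈ W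
        rw [hgr.π_smul x hx]
        apply Submodule.mem_sup_right
        apply Submodule.mem_iSup_of_mem x
        apply Submodule.mem_iSup_of_mem hx
        exact ⟨π i n, hgr.π_mem i n, rfl⟩)
    have hle : ℳ (i + 1) ≤ W := fun n hn => by
      have := hZ n
      rwa [Submodule.mem_comap, hgr.π_same (i + 1) n hn] at this
    have hge : W ≤ ℳ (i + 1) := by
      apply sup_le
      · rw [Submodule.span_le]
        rintro _ ⟨g, -, rfl⟩
        exact hgr.π_mem (i + 1) g
      · apply iSup₂_le
        intro x hx
        rintro _ ⟨n, hn, rfl⟩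
        exact hgr.smul_mem hx hn
    rw [le_antisymm hle hge]
    exact hWfg

end Setting

end Groth.Agent.H19.HilbSerre
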