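import Mathlib
import Groth.Agent.H19.HilbSerre7
import Groth.Agent.H19.HilbSerre4

set_option autoImplicit false
universe u

namespace Groth.Agent.H19.Samuel

open Groth.Agent.H19.HilbSerre Groth.Agent.H19.NumPoly Polynomial

variable {A : Type u} [CommRing A] (I : Ideal A) (M : Type u) [AddCommGroup M] [Module A M]

/-- the `I`-adic filtration -/
abbrev Fil : I.Filtration M := I.stableFiltration (⊤ : Submodule A M)

/-- the shifted `I`-adic filtration -/
def Fil' : I.Filtration M where
  N n := I ^ (n + 1) • (⊤ : Submodule A M)
  mono n := by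
    rw [pow_succ' I (n + 1), mul_smul]
    exact Submodule.smul_le_right
  smul_le n := by
    rw [← mul_smul, ← pow_succ']

/-- the Rees algebra as a type -/
def RT : Type u := ↥(reesAlgebra I)

noncomputable instance : CommRing (RT I) := inferInstanceAs (CommRing ↥(reesAlgebra I))
noncomputable instance : Algebra A (RT I) := inferInstanceAs (Algebra A ↥(reesAlgebra I))
instance [IsNoetherianRing A] : IsNoetherianRing (RT I) :=
  inferInstanceAs (IsNoetherianRing ↥(reesAlgebra I))

/-- the Rees module as a type -/
def RM : Type u := ↥(Fil I M).submodule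

noncomputable instance : AddCommGroup (RM I M) :=
  inferInstanceAs (AddCommGroup ↥(Fil I M).submodule)
noncomputable instance : Module A (RM I M) := inferInstanceAs (Module A ↥(Fil I M).submodule)
noncomputable instance : Module (RT I) (RM I M) :=
  inferInstanceAs (Module ↥(reesAlgebra I) ↥(Fil I M).submodule)
instance : IsScalarTower A (RT I) (RM I M) :=
  inferInstanceAs (IsScalarTower A ↥(reesAlgebra I) ↥(Fil I M).submodule)

variable {I M}

/-- underlying polynomial of an element of the Rees algebra -/
def RT.poly (t : RT I) : A[X] := (t : ↥(reesAlgebra I)).1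

/-- underlying polynomial-module element -/
def RM.poly (f : RM I M) : PolynomialModule A M := (f : ↥(Fil I M).submodule).1

theorem RM.poly_mem (f : RM I M) : f.poly ∈ (Fil I M).submodule := (f : ↥(Fil I M).submodule).2

/-- constructor -/
def RM.mk (g : PolynomialModule A M) (hg : g ∈ (Fil I M).submodule) : RM I M :=
  (⟨g, hg⟩ : ↥(Fil I M).submodule)

@[simp] theorem RM.poly_mk (g : PolynomialModule A M) (hg : g ∈ (Fil I M).submodule) :
    (RM.mk g hg).poly = g := rfl

theorem RM.ext {f g : RM I M} (h : f.poly = g.poly) : f = g :=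
  Subtype.ext (a1 := (f : ↥(Fil I M).submodule)) (a2 := (g : ↥(Fil I M).submodule)) h

theorem RM.poly_add (f g : RM I M) : (f + g).poly = f.poly + g.poly := rfl

theorem RM.poly_zero : (0 : RM I M).poly = 0 := rfl

theorem RM.poly_smul (a : A) (f : RM I M) : (a • f).poly = a • f.poly := rfl

theorem RM.poly_tsmul (t : RT I) (f : RM I M) : (t • f).poly = t.poly • f.poly := rfl

theorem coeff_smul' (a : A) (g : PolynomialModule A M) (n : ℕ) :
    (a • g).coeff n = a • g.coeff n := by
  have := (PolynomialModule.coeffLinearEquiv A A).map_smul a g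
  simp only [PolynomialModule.coeffLinearEquiv_apply] at this
  rw [this]
  rfl

theorem coeff_add' (g h : PolynomialModule A M) (n : ℕ) :
    (g + h).coeff n = g.coeff n + h.coeff n := by
  rw [PolynomialModule.coeff_add]
  rfl

theorem single_mem (n : ℕ) (m : M) (hm : m ∈ I ^ n • (⊤ : Submodule A M)) :
    PolynomialModule.single A n m ∈ (Fil I M).submodule := by
  intro j
  rw [PolynomialModule.coeff_single, Finsupp.single_apply]
  split_ifs with h
  · subst h; exact hm
  · exact Submodule.zero_mem _

theorem coeff_mem (f : RM I M) (n : ℕ) : f.poly.coeff n ∈ I ^ n • (⊤ : Submodule A M) :=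
  f.poly_mem n

variable (I M)

/-- projection to degree `n` -/
noncomputable def piR (n : ℕ) : RM I M →ₗ[A] RM I M where
  toFun f := RM.mk (PolynomialModule.single A n (f.poly.coeff n)) (single_mem n _ (coeff_mem f n))
  map_add' f g := by
    apply RM.ext
    show PolynomialModule.single A n ((f + g).poly.coeff n) =
      PolynomialModule.single A n (f.poly.coeff n) + PolynomialModule.single A n (g.poly.coeff n)
    rw [RM.poly_add, coeff_add', PolynomialModule.single_add]
  map_smul' a f := by
    apply RM.ext
    show PolynomialModule.single A n ((a • f).poly.coeff n) =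
      a • PolynomialModule.single A n (f.poly.coeff n)
    rw [RM.poly_smul, coeff_smul', PolynomialModule.single_smul]

/-- homogeneous pieces of the Rees module -/
def pieceR (n : ℕ) : Submodule A (RM I M) where
  carrier := {f | ∀ j, j ≠ n → f.poly.coeff j = 0}
  add_mem' {f g} hf hg j hj := by
    rw [RM.poly_add, coeff_add', hf j hj, hg j hj, add_zero]
  zero_mem' j _ := rfl
  smul_mem' a f hf j hj := by
    rw [RM.poly_smul, coeff_smul', hf j hj, smul_zero]

variable {I M}

theorem mem_pieceR (n : ℕ) (f : RM I M) :
    f ∈ pieceR I M n ↔ ∀ j, j ≠ n → f.poly.coeff j = 0 := Iff.rfl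

theorem piR_poly (n : ℕ) (f : RM I M) :
    (piR I M n f).poly = PolynomialModule.single A n (f.poly.coeff n) := rfl

open Classical in
/-- the element `a t` of the Rees algebra -/
noncomputable def gen' (I : Ideal A) (a : A) : ↥(reesAlgebra I) :=
  if h : a ∈ I then
    (⟨monomial 1 a, reesAlgebra.monomial_mem.mpr (by simpa using h)⟩ : ↥(reesAlgebra I))
  else 0

theorem gen'_coe {a : A} (h : a ∈ I) : (gen' I a : A[X]) = monomial 1 a := by
  classical
  rw [gen', dif_pos h]

/-- the element `a t` of the Rees algebra -/
noncomputable def gen (I : Ideal A) (a : A) : RT I := gen' I a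

theorem gen_poly {a : A} (h : a ∈ I) : (gen I a).poly = monomial 1 a := gen'_coe h

theorem adjoin_gen' (s : Finset A) (hs : Ideal.span (s : Set A) = I) :
    Algebra.adjoin A ((gen' I) '' (s : Set A)) = ⊤ := by
  classical
  apply Subalgebra.map_injective (f := (reesAlgebra I).val) Subtype.val_injective
  rw [AlgHom.map_adjoin, Algebra.map_top, Subalgebra.range_val]
  have hsI : ∀ a ∈ s, a ∈ I := fun a ha => hs ▸ Ideal.subset_span ha
  apply le_antisymm
  · apply Algebra.adjoin_le
    rintro _ ⟨t, -, rfl⟩
    exact t.2
  · intro p hp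
    rw [← adjoin_monomial_eq_reesAlgebra] at hp
    refine (Algebra.adjoin_le ?_) hp
    have h1 : (Submodule.map (monomial 1 : A →ₗ[A] A[X]) I : Set A[X]) ⊆
        Submodule.span A ((monomial 1 : A →ₗ[A] A[X]) '' (s : Set A)) := by
      rw [← hs, Ideal.span, Submodule.map_span]
    intro q hq
    have hq2 : q ∈ Algebra.adjoin A ((monomial 1 : A →ₗ[A] A[X]) '' (s : Set A)) :=
      Algebra.span_le_adjoin A _ (h1 hq)
    refine Algebra.adjoin_mono ?_ hq2
    rintro _ ⟨a, ha, rfl⟩
    exact ⟨gen' I a, ⟨a, ha, rfl⟩, gen'_coe (hsI a ha)⟩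

open Classical in
theorem adjoin_gen (s : Finset A) (hs : Ideal.span (s : Set A) = I) :
    Algebra.adjoin A ((s.image (gen I) : Finset (RT I)) : Set (RT I)) = ⊤ := by
  rw [Finset.coe_image]
  exact adjoin_gen' s hs

open Classical in
theorem isGr_rees (s : Finset A) (hs : Ideal.span (s : Set A) = I) :
    IsGr (pieceR I M) (piR I M) (s.image (gen I)) where
  π_mem n f := by
    intro j hj
    rw [piR_poly, PolynomialModule.coeff_single, Finsupp.single_apply, if_neg (Ne.symm hj)]
  π_same n f hf := by
    apply RM.ext
    rw [piR_poly]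
    apply PolynomialModule.ext
    ext j
    rw [PolynomialModule.coeff_single, Finsupp.single_apply]
    split_ifs with h
    · subst h; rfl
    · exact (hf j (Ne.symm h)).symm
  π_fin f := by
    classical
    refine ⟨f.poly.coeff.support.sup id, fun i hi => ?_⟩
    have : i ∉ f.poly.coeff.support := fun h => by
      have := Finset.le_sup (f := id) h
      simp only [id_eq] at this
      omega
    rw [Finsupp.notMem_support_iff] at this
    apply RM.ext
    rw [piR_poly, this, PolynomialModule.single_zero]
    rfl
  π_smul x hx i f := by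
    classical
    obtain ⟨a, ha, rfl⟩ := Finset.mem_image.mp hx
    have haI : a ∈ I := hs ▸ Ideal.subset_span ha
    apply RM.ext
    rw [piR_poly, RM.poly_tsmul, RM.poly_tsmul, piR_poly, gen_poly haI,
      PolynomialModule.monomial_smul_apply,
      if_pos (by omega), Nat.add_sub_cancel, PolynomialModule.monomial_smul_single, add_comm]
  π_smul0 x hx f := by
    classical
    obtain ⟨a, ha, rfl⟩ := Finset.mem_image.mp hx
    have haI : a ∈ I := hs ▸ Ideal.subset_span ha
    apply RM.ext
    rw [piR_poly, RM.poly_tsmul, gen_poly haI, PolynomialModule.monomial_smul_apply,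
      if_neg (by omega), PolynomialModule.single_zero]
    rfl
  gen := adjoin_gen s hs

end Groth.Agent.H19.Samuel
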