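import Mathlib
import Groth.Agent.H19.Samuel1

set_option autoImplicit false
universe u

namespace Groth.Agent.H19.Samuel

open Groth.Agent.H19.HilbSerre Groth.Agent.H19.NumPoly Polynomial

variable {A : Type u} [CommRing A] (I : Ideal A) (M : Type u) [AddCommGroup M] [Module A M]

/-- the submodule of the Rees module with quotient the associated graded module -/
noncomputable def P₀ : Submodule (RT I) (RM I M) where
  carrier := {f | ∀ i, f.poly.coeff i ∈ I ^ (i + 1) • (⊤ : Submodule A M)}
  add_mem' {f g} hf hg := by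
    have : (f + g).poly ∈ (Fil' I M).submodule :=
      (Fil' I M).submodule.add_mem (show f.poly ∈ (Fil' I M).submodule from hf)
        (show g.poly ∈ (Fil' I M).submodule from hg)
    exact this
  zero_mem' i := Submodule.zero_mem _
  smul_mem' t f hf := by
    have : (t • f).poly ∈ (Fil' I M).submodule :=
      (Fil' I M).submodule.smul_mem (t : ↥(reesAlgebra I))
        (show f.poly ∈ (Fil' I M).submodule from hf)
    exact this

variable {I M}

theorem mem_P₀ (f : RM I M) :
    f ∈ P₀ I M ↔ ∀ i, f.poly.coeff i ∈ I ^ (i + 1) • (⊤ : Submodule A M) :=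
  Iff.rfl

theorem homog_P₀ : IsHomog (piR I M) (P₀ I M) := by
  intro f hf n
  rw [mem_P₀] at hf ⊢
  intro j
  rw [piR_poly, PolynomialModule.coeff_single, Finsupp.single_apply]
  split_ifs with h
  · subst h; exact hf n
  · exact Submodule.zero_mem _

variable (I M)

/-- the map `R(M)_n → M ⧸ I^(n+1) M` -/
noncomputable def theta (n : ℕ) :
    ↥(pieceR I M n) →ₗ[A] M ⧸ (I ^ (n + 1) • (⊤ : Submodule A M)) where
  toFun f := Submodule.Quotient.mk (f.1.poly.coeff n)
  map_add' f g := by
    show Submodule.Quotient.mk ((f.1 + g.1).poly.coeff n) = _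
    rw [RM.poly_add, coeff_add', Submodule.Quotient.mk_add]
  map_smul' a f := by
    show Submodule.Quotient.mk ((a • f.1).poly.coeff n) = _
    rw [RM.poly_smul, coeff_smul', Submodule.Quotient.mk_smul]
    rfl

theorem ker_theta (n : ℕ) : LinearMap.ker (theta I M n) =
    Submodule.comap (pieceR I M n).subtype ((P₀ I M).restrictScalars A) := by
  ext f
  rw [LinearMap.mem_ker]
  show Submodule.Quotient.mk (f.1.poly.coeff n) = 0 ↔ _
  rw [Submodule.Quotient.mk_eq_zero]
  simp only [Submodule.mem_comap, Submodule.subtype_apply, Submodule.restrictScalars_mem, mem_P₀]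
  constructor
  · intro h i
    by_cases hi : i = n
    · subst hi; exact h
    · rw [f.2 i hi]; exact Submodule.zero_mem _
  · intro h
    exact h n

/-- the induced injection `gr_n → M ⧸ I^(n+1) M` -/
noncomputable def thetaBar (n : ℕ) :
    Q (pieceR I M) (P₀ I M) n →ₗ[A] M ⧸ (I ^ (n + 1) • (⊤ : Submodule A M)) :=
  Submodule.liftQ _ (theta I M n) (ker_theta I M n).ge

theorem thetaBar_injective (n : ℕ) : Function.Injective (thetaBar I M n) := by
  rw [← LinearMap.ker_eq_bot]
  exact Submodule.ker_liftQ_eq_bot _ _ _ (ker_theta I M n).le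

/-- the projection `M ⧸ I^(n+1) M → M ⧸ I^n M` -/
noncomputable def rho (n : ℕ) :
    (M ⧸ (I ^ (n + 1) • (⊤ : Submodule A M))) →ₗ[A] M ⧸ (I ^ n • (⊤ : Submodule A M)) :=
  Submodule.mapQ _ _ LinearMap.id (by
    rw [Submodule.comap_id, pow_succ', mul_smul]
    exact Submodule.smul_le_right)

theorem rho_surjective (n : ℕ) : Function.Surjective (rho I M n) := by
  intro z
  obtain ⟨m, rfl⟩ := Submodule.Quotient.mk_surjective _ z
  exact ⟨Submodule.Quotient.mk m, rfl⟩

theorem exact_thetaBar_rho (n : ℕ) : Function.Exact (thetaBar I M n) (rho I M n) := by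
  intro z
  obtain ⟨m, rfl⟩ := Submodule.Quotient.mk_surjective _ z
  have h1 : rho I M n (Submodule.Quotient.mk m) = Submodule.Quotient.mk m := rfl
  rw [h1, Submodule.Quotient.mk_eq_zero]
  constructor
  · intro hm
    let f : RM I M := RM.mk (PolynomialModule.single A n m) (single_mem n m hm)
    have hf : f ∈ pieceR I M n := by
      intro j hj
      show (PolynomialModule.single A n m).coeff j = 0
      rw [PolynomialModule.coeff_single, Finsupp.single_apply, if_neg (Ne.symm hj)]
    refine ⟨Submodule.Quotient.mk ⟨f, hf⟩, ?_⟩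
    show Submodule.Quotient.mk ((PolynomialModule.single A n m).coeff n) = _
    rw [PolynomialModule.coeff_single, Finsupp.single_eq_same]
  · rintro ⟨w, hw⟩
    obtain ⟨f, rfl⟩ := Submodule.Quotient.mk_surjective _ w
    have h2 : thetaBar I M n (Submodule.Quotient.mk f) =
        Submodule.Quotient.mk (f.1.poly.coeff n) := rfl
    rw [h2, Submodule.Quotient.eq] at hw
    have h3 : f.1.poly.coeff n ∈ I ^ n • (⊤ : Submodule A M) := coeff_mem f.1 n
    have h4 : I ^ (n + 1) • (⊤ : Submodule A M) ≤ I ^ n • (⊤ : Submodule A M) := by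
      rw [pow_succ', mul_smul]
      exact Submodule.smul_le_right
    have h5 : m = f.1.poly.coeff n - (f.1.poly.coeff n - m) := by abel
    rw [h5]
    exact Submodule.sub_mem _ h3 (h4 hw)

/-- the Samuel function -/
noncomputable def samuel (n : ℕ) : ℤ :=
  ((Module.length A (M ⧸ (I ^ n • (⊤ : Submodule A M)))).toNat : ℤ)

theorem samuel_succ (hfl : ∀ n, IsFiniteLength A (M ⧸ (I ^ n • (⊤ : Submodule A M)))) (n : ℕ) :
    samuel I M (n + 1) = H (pieceR I M) (lengthFun A) (P₀ I M) n + samuel I M n :=
  (lengthFun A).val_exact (thetaBar I M n) (rho I M n) (thetaBar_injective I M n)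
    (rho_surjective I M n) (exact_thetaBar_rho I M n)
    ((hfl (n + 1)).of_injective (thetaBar_injective I M n)) (hfl (n + 1)) (hfl n)

theorem adm_Q (hfl : ∀ n, IsFiniteLength A (M ⧸ (I ^ n • (⊤ : Submodule A M)))) (n : ℕ) :
    (lengthFun A).adm (Q (pieceR I M) (P₀ I M) n) :=
  (hfl (n + 1)).of_injective (thetaBar_injective I M n)

end Groth.Agent.H19.Samuel
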