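import Mathlib
import Groth.Agent.H19.Samuel2

set_option autoImplicit false
universe u

namespace Groth.Agent.H19.Samuel

open Groth.Agent.H19.HilbSerre Groth.Agent.H19.NumPoly Polynomial

theorem exists_poly_of_isNP {r : ℕ} {f : ℕ → ℤ} (hf : IsNP r f) :
    ∃ (P : ℚ[X]) (N : ℕ), ∀ n, N ≤ n → P.eval (n : ℚ) = (f n : ℚ) := by
  obtain ⟨c, N, hc⟩ := hf.exists_choose_add
  refine ⟨∑ k ∈ Finset.range r, Polynomial.C (c k : ℚ) * Polynomial.preHilbertPoly ℚ k 0, N,
    fun n hn => ?_⟩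
  rw [hc n hn, Polynomial.eval_finsetSum]
  push_cast
  apply Finset.sum_congr rfl
  intro k _
  rw [Polynomial.eval_mul, Polynomial.eval_C,
    Polynomial.preHilbertPoly_eq_choose_sub_add ℚ k (Nat.zero_le n), Nat.sub_zero, nsmul_eq_mul,
    mul_comm]
  push_cast
  rfl

variable {A : Type u} [CommRing A] [IsNoetherianRing A] (I : Ideal A)
  (M : Type u) [AddCommGroup M] [Module A M] [Module.Finite A M]

instance : Module.Finite (RT I) (RM I M) := by
  have h : (Fil I M).submodule.FG :=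
    (Ideal.Filtration.submodule_fg_iff_stable (Fil I M)
      (fun i => IsNoetherian.noetherian _)).mpr (Ideal.stableFiltration_stable I ⊤)
  have : Module.Finite ↥(reesAlgebra I) ↥(Fil I M).submodule := Module.Finite.iff_fg.mpr h
  exact this

theorem samuel_isNP (hfl : ∀ n, IsFiniteLength A (M ⧸ (I ^ n • (⊤ : Submodule A M)))) :
    ∃ r, IsNP r (samuel I M) := by
  classical
  obtain ⟨s, hs⟩ := (IsNoetherian.noetherian I : I.FG)
  haveI : IsNoetherian (RT I) (RM I M) := isNoetherian_of_isNoetherianRing_of_finite _ _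
  have h1 := isNP_H (isGr_rees (M := M) s hs) (lengthFun A) (P₀ I M) homog_P₀ (adm_Q I M hfl)
  refine ⟨_, IsNP.of_fdiff 0 (fun n _ => ?_) h1⟩
  rw [samuel_succ I M hfl n]
  abel

theorem exists_samuel_poly (hfl : ∀ n, IsFiniteLength A (M ⧸ (I ^ n • (⊤ : Submodule A M)))) :
    ∃ (P : ℚ[X]) (N : ℕ), ∀ n, N ≤ n → P.eval (n : ℚ) = (samuel I M n : ℚ) := by
  obtain ⟨r, hr⟩ := samuel_isNP I M hfl
  exact exists_poly_of_isNP hr

end Groth.Agent.H19.Samuel
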