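import Mathlib
import Groth.Agent.H19.Samuel3
import Groth.Agent.H29.SemiSOP

set_option autoImplicit false
universe u

namespace Groth.Agent.H19.Samuel

open Groth.Agent.H19.HilbSerre Groth.Agent.H19.NumPoly Polynomial
open scoped Pointwise

variable {A : Type u} [CommRing A]

/-- ideals such that every prime containing them is maximal -/
def IsDefIdeal (I : Ideal A) : Prop := ∀ p : Ideal A, p.IsPrime → I ≤ p → p.IsMaximal

theorem toNat_length_le_of_surjective {Y Z : Type u} [AddCommGroup Y] [Module A Y]
    [AddCommGroup Z] [Module A Z] (f : Y →ₗ[A] Z) (hf : Function.Surjective f)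
    (hY : IsFiniteLength A Y) :
    ((Module.length A Z).toNat : ℤ) ≤ ((Module.length A Y).toNat : ℤ) := by
  have h := Module.length_le_of_surjective f hf
  have hY' := Module.length_ne_top_iff.mpr hY
  exact_mod_cast ENat.toNat_le_toNat h hY'

theorem toNat_length_le_of_injective {Y Z : Type u} [AddCommGroup Y] [Module A Y]
    [AddCommGroup Z] [Module A Z] (f : Y →ₗ[A] Z) (hf : Function.Injective f)
    (hZ : IsFiniteLength A Z) :
    ((Module.length A Y).toNat : ℤ) ≤ ((Module.length A Z).toNat : ℤ) := by
  have h := Module.length_le_of_injective f hf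
  have hZ' := Module.length_ne_top_iff.mpr hZ
  exact_mod_cast ENat.toNat_le_toNat h hZ'

variable [IsNoetherianRing A]

theorem isFiniteLength_quot {I : Ideal A} (hI : IsDefIdeal I) (M : Type u) [AddCommGroup M]
    [Module A M] [Module.Finite A M] (n : ℕ) (hn : n ≠ 0) :
    IsFiniteLength A (M ⧸ (I ^ n • (⊤ : Submodule A M))) := by
  rw [← Groth.Agent.S16234.result]
  intro p hp
  rw [Module.support_quotient] at hp
  have hle : I ^ n ≤ p.asIdeal := fun a ha => (PrimeSpectrum.mem_zeroLocus _ _).mp hp.2 ha
  exact hI p.asIdeal p.2 (Ideal.IsPrime.le_of_pow_le hle)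

theorem isFiniteLength_quot' {I : Ideal A} (hI : IsDefIdeal I) (M : Type u) [AddCommGroup M]
    [Module A M] [Module.Finite A M] (n : ℕ) :
    IsFiniteLength A (M ⧸ (I ^ n • (⊤ : Submodule A M))) := by
  rcases Nat.eq_zero_or_pos n with rfl | hn
  · have : (I ^ 0 • (⊤ : Submodule A M)) = ⊤ := by rw [pow_zero, Ideal.one_eq_top, Submodule.top_smul]
    rw [this]
    haveI : Subsingleton (M ⧸ (⊤ : Submodule A M)) := Submodule.Quotient.subsingleton_iff.mpr rfl
    exact IsFiniteLength.of_subsingleton
  · exact isFiniteLength_quot hI M n (by omega)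

section Maps

variable (I : Ideal A) {M M' : Type u} [AddCommGroup M] [Module A M] [AddCommGroup M']
  [Module A M']

/-- the map `M ⧸ I^n M → M' ⧸ I^n M'` induced by `g : M → M'` -/
noncomputable def quotMap (g : M →ₗ[A] M') (n : ℕ) :
    (M ⧸ (I ^ n • (⊤ : Submodule A M))) →ₗ[A] M' ⧸ (I ^ n • (⊤ : Submodule A M')) :=
  Submodule.mapQ _ _ g (by
    rw [← Submodule.map_le_iff_le_comap, Submodule.map_smul'']
    exact Submodule.smul_mono le_rfl le_top)

theorem quotMap_surjective (g : M →ₗ[A] M') (hg : Function.Surjective g) (n : ℕ) :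
    Function.Surjective (quotMap I g n) := by
  intro z
  obtain ⟨m, rfl⟩ := Submodule.Quotient.mk_surjective _ z
  obtain ⟨m', rfl⟩ := hg m
  exact ⟨Submodule.Quotient.mk m', rfl⟩

theorem samuel_le_of_surjective (hI : IsDefIdeal I) [Module.Finite A M] (g : M →ₗ[A] M')
    (hg : Function.Surjective g) (n : ℕ) : samuel I M' n ≤ samuel I M n :=
  toNat_length_le_of_surjective (quotMap I g n) (quotMap_surjective I g hg n)
    (isFiniteLength_quot' hI M n)

end Maps

end Groth.Agent.H19.Samuel
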