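import Mathlib
import Groth.Agent.H19.Samuel4

set_option autoImplicit false
universe u

namespace Groth.Agent.H19.Samuel

open Groth.Agent.H19.HilbSerre Groth.Agent.H19.NumPoly Polynomial
open scoped Pointwise

variable {A : Type u} [CommRing A] [IsNoetherianRing A]

section Sub

variable (I : Ideal A) {M M' : Type u} [AddCommGroup M] [Module A M] [AddCommGroup M']
  [Module A M'] [Module.Finite A M] [Module.Finite A M']

/-- Artin–Rees comparison for a submodule. -/
theorem samuel_le_of_injective (hI : IsDefIdeal I) (f : M' →ₗ[A] M) (hf : Function.Injective f) :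
    ∃ c : ℕ, ∀ n, c ≤ n → samuel I M' (n - c) ≤ samuel I M n := by
  obtain ⟨c, hc⟩ := Ideal.exists_pow_inf_eq_pow_smul I (LinearMap.range f)
  refine ⟨c, fun n hn => ?_⟩
  -- the submodule `K = f⁻¹(I^n M)`
  set K : Submodule A M' := (I ^ n • (⊤ : Submodule A M)).comap f with hK
  have hKle : K ≤ I ^ (n - c) • (⊤ : Submodule A M') := by
    intro y hy
    have h1 : f y ∈ I ^ n • (⊤ : Submodule A M) ⊓ LinearMap.range f := ⟨hy, ⟨y, rfl⟩⟩
    rw [hc n hn] at h1
    have h2 : I ^ (n - c) • (I ^ c • (⊤ : Submodule A M) ⊓ LinearMap.range f) ≤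
        I ^ (n - c) • LinearMap.range f := Submodule.smul_mono le_rfl inf_le_right
    have h3 := h2 h1
    rw [LinearMap.range_eq_map, ← Submodule.map_smul''] at h3
    obtain ⟨y', hy', hyy'⟩ := h3
    rw [hf hyy'] at hy'
    exact hy'
  -- `M' ⧸ K ↪ M ⧸ I^n M`
  let φ : (M' ⧸ K) →ₗ[A] M ⧸ (I ^ n • (⊤ : Submodule A M)) := Submodule.mapQ _ _ f le_rfl
  have hφ : Function.Injective φ := by
    rw [← LinearMap.ker_eq_bot, LinearMap.ker_eq_bot']
    intro z hz
    obtain ⟨y, rfl⟩ := Submodule.Quotient.mk_surjective _ z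
    have h1 : φ (Submodule.Quotient.mk y) = Submodule.Quotient.mk (f y) := rfl
    rw [h1, Submodule.Quotient.mk_eq_zero] at hz
    rw [Submodule.Quotient.mk_eq_zero]
    exact hz
  -- `M' ⧸ K ↠ M' ⧸ I^(n-c) M'`
  let ψ : (M' ⧸ K) →ₗ[A] M' ⧸ (I ^ (n - c) • (⊤ : Submodule A M')) :=
    Submodule.mapQ _ _ LinearMap.id (by rw [Submodule.comap_id]; exact hKle)
  have hψ : Function.Surjective ψ := by
    intro z
    obtain ⟨y, rfl⟩ := Submodule.Quotient.mk_surjective _ z
    exact ⟨Submodule.Quotient.mk y, rfl⟩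
  have hflK : IsFiniteLength A (M' ⧸ K) := (isFiniteLength_quot' hI M n).of_injective hφ
  exact (toNat_length_le_of_surjective ψ hψ hflK).trans
    (toNat_length_le_of_injective φ hφ (isFiniteLength_quot' hI M n))

end Sub

section Elem

variable (I : Ideal A) (M : Type u) [AddCommGroup M] [Module A M] [Module.Finite A M] (x : A)

/-- the colon submodule `(I^n M : x)` -/
def Kx (n : ℕ) : Submodule A M := (I ^ n • (⊤ : Submodule A M)).comap (LinearMap.lsmul A M x)

/-- multiplication by `x` : `M ⧸ (I^n M : x) → M ⧸ I^n M` -/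
noncomputable def phiX (n : ℕ) : (M ⧸ Kx I M x n) →ₗ[A] M ⧸ (I ^ n • (⊤ : Submodule A M)) :=
  Submodule.mapQ _ _ (LinearMap.lsmul A M x) le_rfl

theorem phiX_injective (n : ℕ) : Function.Injective (phiX I M x n) := by
  rw [← LinearMap.ker_eq_bot, LinearMap.ker_eq_bot']
  intro z hz
  obtain ⟨y, rfl⟩ := Submodule.Quotient.mk_surjective _ z
  have h1 : phiX I M x n (Submodule.Quotient.mk y) = Submodule.Quotient.mk (x • y) := rfl
  rw [h1, Submodule.Quotient.mk_eq_zero] at hz
  rw [Submodule.Quotient.mk_eq_zero]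
  exact hz

/-- the projection `M ⧸ I^n M → (M/xM) ⧸ I^n (M/xM)` -/
noncomputable def psiX (n : ℕ) : (M ⧸ (I ^ n • (⊤ : Submodule A M))) →ₗ[A]
    QuotSMulTop x M ⧸ (I ^ n • (⊤ : Submodule A (QuotSMulTop x M))) :=
  quotMap I (Submodule.mkQ (x • (⊤ : Submodule A M))) n

theorem psiX_surjective (n : ℕ) : Function.Surjective (psiX I M x n) :=
  quotMap_surjective I _ (Submodule.mkQ_surjective _) n

theorem exact_phiX_psiX (n : ℕ) : Function.Exact (phiX I M x n) (psiX I M x n) := by
  intro z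
  obtain ⟨m, rfl⟩ := Submodule.Quotient.mk_surjective _ z
  have h1 : psiX I M x n (Submodule.Quotient.mk m) =
      Submodule.Quotient.mk (Submodule.mkQ (x • (⊤ : Submodule A M)) m) := rfl
  rw [h1, Submodule.Quotient.mk_eq_zero]
  have htop : I ^ n • (⊤ : Submodule A (QuotSMulTop x M)) =
      (I ^ n • (⊤ : Submodule A M)).map (Submodule.mkQ (x • (⊤ : Submodule A M))) := by
    rw [Submodule.map_smul'', Submodule.map_top, Submodule.range_mkQ]
  rw [htop]
  constructor
  · rintro ⟨m', hm', hmm'⟩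
    have h2 : m' - m ∈ x • (⊤ : Submodule A M) := by
      rw [← Submodule.Quotient.mk_eq_zero, Submodule.Quotient.mk_sub]
      exact sub_eq_zero.mpr hmm'
    obtain ⟨y, -, hy⟩ := (Submodule.mem_smul_pointwise_iff_exists _ _ _).mp h2
    refine ⟨Submodule.Quotient.mk (-y), ?_⟩
    have h3 : phiX I M x n (Submodule.Quotient.mk (-y)) = Submodule.Quotient.mk (x • (-y)) := rfl
    rw [h3, Submodule.Quotient.eq]
    have h4 : x • (-y) - m = - m' := by
      rw [smul_neg, hy]; abel
    rw [h4]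
    exact Submodule.neg_mem _ hm'
  · rintro ⟨w, hw⟩
    obtain ⟨y, rfl⟩ := Submodule.Quotient.mk_surjective _ w
    have h3 : phiX I M x n (Submodule.Quotient.mk y) = Submodule.Quotient.mk (x • y) := rfl
    rw [h3, Submodule.Quotient.eq] at hw
    refine ⟨m - x • y, ?_, ?_⟩
    · have : m - x • y = -(x • y - m) := by abel
      rw [this]
      exact Submodule.neg_mem _ hw
    · rw [map_sub, sub_eq_self]
      exact (Submodule.Quotient.mk_eq_zero _).mpr
        ((Submodule.mem_smul_pointwise_iff_exists _ _ _).mpr ⟨y, Submodule.mem_top, rfl⟩)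

theorem samuel_eq_add (hI : IsDefIdeal I) (n : ℕ) :
    samuel I M n = ((Module.length A (M ⧸ Kx I M x n)).toNat : ℤ) +
      samuel I (QuotSMulTop x M) n :=
  (lengthFun A).val_exact (phiX I M x n) (psiX I M x n) (phiX_injective I M x n)
    (psiX_surjective I M x n) (exact_phiX_psiX I M x n)
    ((isFiniteLength_quot' hI M n).of_injective (phiX_injective I M x n))
    (isFiniteLength_quot' hI M n) (isFiniteLength_quot' hI (QuotSMulTop x M) n)

/-- for `x ∈ I`: `χ_M(n+1) - χ_M(n) ≤ χ_{M/xM}(n+1)` -/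
theorem samuel_succ_sub_le (hI : IsDefIdeal I) (hx : x ∈ I) (n : ℕ) :
    samuel I M (n + 1) - samuel I M n ≤ samuel I (QuotSMulTop x M) (n + 1) := by
  rw [samuel_eq_add I M x hI (n + 1)]
  have hle : I ^ n • (⊤ : Submodule A M) ≤ Kx I M x (n + 1) := by
    intro m hm
    show x • m ∈ I ^ (n + 1) • (⊤ : Submodule A M)
    rw [pow_succ', mul_smul]
    exact Submodule.smul_mem_smul hx hm
  let ψ : (M ⧸ (I ^ n • (⊤ : Submodule A M))) →ₗ[A] M ⧸ Kx I M x (n + 1) :=
    Submodule.mapQ _ _ LinearMap.id (by rw [Submodule.comap_id]; exact hle)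
  have hψ : Function.Surjective ψ := by
    intro z
    obtain ⟨y, rfl⟩ := Submodule.Quotient.mk_surjective _ z
    exact ⟨Submodule.Quotient.mk y, rfl⟩
  have := toNat_length_le_of_surjective ψ hψ (isFiniteLength_quot' hI M n)
  unfold samuel at this ⊢
  linarith

/-- for `x` regular on `M`: `χ_{M/xM}(n) ≤ χ_M(n) - χ_M(n-c)` -/
theorem samuel_quot_le (hI : IsDefIdeal I) (hx : IsSMulRegular M x) :
    ∃ c : ℕ, ∀ n, c ≤ n →
      samuel I (QuotSMulTop x M) n ≤ samuel I M n - samuel I M (n - c) := by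
  obtain ⟨c, hc⟩ := Ideal.exists_pow_inf_eq_pow_smul I (LinearMap.range (LinearMap.lsmul A M x))
  refine ⟨c, fun n hn => ?_⟩
  rw [samuel_eq_add I M x hI n]
  have hKle : Kx I M x n ≤ I ^ (n - c) • (⊤ : Submodule A M) := by
    intro y hy
    have h1 : x • y ∈ I ^ n • (⊤ : Submodule A M) ⊓ LinearMap.range (LinearMap.lsmul A M x) :=
      ⟨hy, ⟨y, rfl⟩⟩
    rw [hc n hn] at h1
    have h2 : I ^ (n - c) • (I ^ c • (⊤ : Submodule A M) ⊓
        LinearMap.range (LinearMap.lsmul A M x)) ≤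
        I ^ (n - c) • LinearMap.range (LinearMap.lsmul A M x) :=
      Submodule.smul_mono le_rfl inf_le_right
    have h3 := h2 h1
    rw [LinearMap.range_eq_map, ← Submodule.map_smul''] at h3
    obtain ⟨y', hy', hyy'⟩ := h3
    have : y' = y := hx hyy'
    rw [this] at hy'
    exact hy'
  let ψ : (M ⧸ Kx I M x n) →ₗ[A] M ⧸ (I ^ (n - c) • (⊤ : Submodule A M)) :=
    Submodule.mapQ _ _ LinearMap.id (by rw [Submodule.comap_id]; exact hKle)
  have hψ : Function.Surjective ψ := by
    intro z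
    obtain ⟨y, rfl⟩ := Submodule.Quotient.mk_surjective _ z
    exact ⟨Submodule.Quotient.mk y, rfl⟩
  have hflK : IsFiniteLength A (M ⧸ Kx I M x n) :=
    (isFiniteLength_quot' hI M n).of_injective (phiX_injective I M x n)
  have := toNat_length_le_of_surjective ψ hψ hflK
  unfold samuel at this ⊢
  linarith

end Elem

end Groth.Agent.H19.Samuel
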