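import Mathlib
import Groth.Agent.H19.Samuel5

set_option autoImplicit false
universe u

namespace Groth.Agent.H19.Samuel

open Groth.Agent.H19.HilbSerre Groth.Agent.H19.NumPoly Polynomial
open scoped Pointwise

variable {A : Type u} [CommRing A] [IsNoetherianRing A]
  (I : Ideal A) (M : Type u) [AddCommGroup M] [Module A M] [Module.Finite A M]

/-- powers of `I ⊆ rad A` eventually kill a module of finite length -/
theorem exists_pow_smul_eq_bot (hIJ : I ≤ Ring.jacobson A) (hM : IsFiniteLength A M) :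
    ∃ n₀ : ℕ, ∀ n, n₀ ≤ n → I ^ n • (⊤ : Submodule A M) = ⊥ := by
  haveI : IsArtinian A M := (isFiniteLength_iff_isNoetherian_isArtinian.mp hM).2
  let f : ℕ →o (Submodule A M)ᵒᵈ :=
    ⟨fun n => OrderDual.toDual (I ^ n • (⊤ : Submodule A M)), fun a b hab => by
      show I ^ b • (⊤ : Submodule A M) ≤ I ^ a • (⊤ : Submodule A M)
      obtain ⟨k, rfl⟩ := Nat.exists_eq_add_of_le hab
      rw [pow_add, mul_comm, mul_smul]
      exact Submodule.smul_le_right⟩
  obtain ⟨n₀, hn₀⟩ := IsArtinian.monotone_stabilizes f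
  have hstab : ∀ n, n₀ ≤ n → I ^ n • (⊤ : Submodule A M) = I ^ n₀ • (⊤ : Submodule A M) :=
    fun n hn => (congrArg OrderDual.ofDual (hn₀ n hn)).symm
  have hbot : I ^ n₀ • (⊤ : Submodule A M) = ⊥ := by
    apply Submodule.eq_bot_of_le_smul_of_le_jacobson_bot I _ (IsNoetherian.noetherian _)
    · rw [← mul_smul, ← pow_succ', hstab (n₀ + 1) (by omega)]
    · rw [Ideal.jacobson_bot]; exact hIJ
  exact ⟨n₀, fun n hn => (hstab n hn).trans hbot⟩

theorem samuel_eventually_const (hIJ : I ≤ Ring.jacobson A) (hM : IsFiniteLength A M) :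
    ∃ n₀ : ℕ, ∀ n, n₀ ≤ n → samuel I M n = ((Module.length A M).toNat : ℤ) := by
  obtain ⟨n₀, hn₀⟩ := exists_pow_smul_eq_bot I M hIJ hM
  refine ⟨n₀, fun n hn => ?_⟩
  unfold samuel
  rw [(Submodule.quotEquivOfEqBot _ (hn₀ n hn)).length_eq]

theorem one_le_samuel (hI : IsDefIdeal I) (hIJ : I ≤ Ring.jacobson A) [Nontrivial M] (n : ℕ)
    (hn : 1 ≤ n) : 1 ≤ samuel I M n := by
  have hne : I ^ n • (⊤ : Submodule A M) ≠ ⊤ := by
    intro h
    have h1 : (⊤ : Submodule A M) ≤ I • (⊤ : Submodule A M) := by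
      obtain ⟨k, rfl⟩ : ∃ k, n = k + 1 := ⟨n - 1, by omega⟩
      calc (⊤ : Submodule A M) = I ^ (k + 1) • (⊤ : Submodule A M) := h.symm
        _ = I • (I ^ k • (⊤ : Submodule A M)) := by rw [pow_succ', mul_smul]
        _ ≤ I • (⊤ : Submodule A M) := Submodule.smul_mono le_rfl le_top
    have h2 := Submodule.eq_bot_of_le_smul_of_le_jacobson_bot I (⊤ : Submodule A M)
      Module.Finite.fg_top h1 (by rw [Ideal.jacobson_bot]; exact hIJ)
    exact top_ne_bot h2
  haveI : Nontrivial (M ⧸ (I ^ n • (⊤ : Submodule A M))) :=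
    Submodule.Quotient.nontrivial_iff.mpr hne
  have hpos : 0 < Module.length A (M ⧸ (I ^ n • (⊤ : Submodule A M))) := Module.length_pos
  have hfin := Module.length_ne_top_iff.mpr (isFiniteLength_quot' hI M n)
  unfold samuel
  have : 0 < (Module.length A (M ⧸ (I ^ n • (⊤ : Submodule A M)))).toNat := by
    rw [Nat.pos_iff_ne_zero]
    intro h0
    rcases (ENat.toNat_eq_zero.mp h0) with h | h
    · exact hpos.ne' h
    · exact hfin h
  exact_mod_cast this

end Groth.Agent.H19.Samuel
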