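import Mathlib
import Groth.Agent.H19.Samuel6
import Groth.Agent.H19.PolyDiff2

set_option autoImplicit false
universe u

namespace Groth.Agent.H19.Samuel

open Groth.Agent.H19.HilbSerre Groth.Agent.H19.NumPoly Polynomial Filter
  Groth.Agent.H19.PolyDiff

theorem natDegree_le_of_eventually_le (P Q : ℚ[X]) (N : ℕ)
    (h : ∀ n : ℕ, N ≤ n → P.eval (n : ℚ) ≤ Q.eval (n : ℚ)) (hP : 0 < P.leadingCoeff) :
    P.natDegree ≤ Q.natDegree := by
  by_contra hcon
  push Not at hcon
  have hdeg : Q.degree < P.degree := Polynomial.degree_lt_degree hcon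
  have hR : (P - Q).leadingCoeff = P.leadingCoeff := Polynomial.leadingCoeff_sub_of_degree_lt hdeg
  have hRdeg : (P - Q).degree = P.degree := Polynomial.degree_sub_eq_left_of_degree_lt hdeg
  have hpos : 0 < (P - Q).degree := by
    rw [hRdeg]
    have : 0 < P.natDegree := by omega
    exact Polynomial.natDegree_pos_iff_degree_pos.mp this
  have ht := Polynomial.tendsto_atTop_of_leadingCoeff_nonneg (P - Q) hpos (by rw [hR]; exact hP.le)
  have ht' : Tendsto (fun n : ℕ => (P - Q).eval (n : ℚ)) atTop atTop :=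
    ht.comp tendsto_natCast_atTop_atTop
  have h1 := ht'.eventually_gt_atTop 0
  have h2 : ∀ᶠ n : ℕ in atTop, (P - Q).eval (n : ℚ) ≤ 0 := by
    filter_upwards [eventually_ge_atTop N] with n hn
    rw [Polynomial.eval_sub]
    linarith [h n hn]
  obtain ⟨n, hn1, hn2⟩ := (h1.and h2).exists
  linarith

theorem leadingCoeff_pos_of_eventually_one_le (P : ℚ[X]) (N : ℕ)
    (h : ∀ n : ℕ, N ≤ n → 1 ≤ P.eval (n : ℚ)) : 0 < P.leadingCoeff := by
  by_contra hcon
  push Not at hcon
  rcases Nat.eq_zero_or_pos P.natDegree with h0 | hpos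
  · rw [Polynomial.eq_C_of_natDegree_eq_zero h0] at h
    have := h N le_rfl
    rw [Polynomial.eval_C] at this
    rw [Polynomial.leadingCoeff, h0] at hcon
    linarith
  · have hdeg : 0 < P.degree := Polynomial.natDegree_pos_iff_degree_pos.mp hpos
    have ht := Polynomial.tendsto_atBot_of_leadingCoeff_nonpos P hdeg hcon
    have ht' : Tendsto (fun n : ℕ => P.eval (n : ℚ)) atTop atBot :=
      ht.comp tendsto_natCast_atTop_atTop
    have h1 := ht'.eventually_lt_atBot 1
    have h2 : ∀ᶠ n : ℕ in atTop, 1 ≤ P.eval (n : ℚ) := by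
      filter_upwards [eventually_ge_atTop N] with n hn
      exact h n hn
    obtain ⟨n, hn1, hn2⟩ := (h1.and h2).exists
    linarith

variable {A : Type u} [CommRing A] [IsNoetherianRing A]
  (I : Ideal A) (M : Type u) [AddCommGroup M] [Module A M] [Module.Finite A M]

/-- the Hilbert–Samuel polynomial -/
noncomputable def spoly (hI : IsDefIdeal I) : ℚ[X] :=
  Classical.choose (exists_samuel_poly I M (isFiniteLength_quot' hI M))

theorem spoly_spec (hI : IsDefIdeal I) :
    ∃ N : ℕ, ∀ n, N ≤ n → (spoly I M hI).eval (n : ℚ) = (samuel I M n : ℚ) :=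
  Classical.choose_spec (exists_samuel_poly I M (isFiniteLength_quot' hI M))

theorem spoly_leadingCoeff_pos (hI : IsDefIdeal I) (hIJ : I ≤ Ring.jacobson A) [Nontrivial M] :
    0 < (spoly I M hI).leadingCoeff := by
  obtain ⟨N, hN⟩ := spoly_spec I M hI
  apply leadingCoeff_pos_of_eventually_one_le _ (N + 1)
  intro n hn
  rw [hN n (by omega)]
  exact_mod_cast one_le_samuel I M hI hIJ n (by omega)

end Groth.Agent.H19.Samuel
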