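import Mathlib
import Groth.Agent.H19.Samuel7

set_option autoImplicit false
universe u

namespace Groth.Agent.H19.Samuel

open Groth.Agent.H19.HilbSerre Groth.Agent.H19.NumPoly Polynomial Filter
  Groth.Agent.H19.PolyDiff

variable {A : Type u} [CommRing A] [IsNoetherianRing A]
  (I : Ideal A) (hI : IsDefIdeal I) (hIJ : I ≤ Ring.jacobson A)

section

variable {M M' : Type u} [AddCommGroup M] [Module A M] [Module.Finite A M]
  [AddCommGroup M'] [Module A M'] [Module.Finite A M']

include hIJ in
theorem natDegree_spoly_le_of_surjective (g : M →ₗ[A] M') (hg : Function.Surjective g)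
    [Nontrivial M'] : (spoly I M' hI).natDegree ≤ (spoly I M hI).natDegree := by
  obtain ⟨N, hN⟩ := spoly_spec I M hI
  obtain ⟨N', hN'⟩ := spoly_spec I M' hI
  apply natDegree_le_of_eventually_le _ _ (N + N') _ (spoly_leadingCoeff_pos I M' hI hIJ)
  intro n hn
  rw [hN n (by omega), hN' n (by omega)]
  exact_mod_cast samuel_le_of_surjective I hI g hg n

include hIJ in
theorem natDegree_spoly_le_of_injective (f : M' →ₗ[A] M) (hf : Function.Injective f)
    [Nontrivial M'] : (spoly I M' hI).natDegree ≤ (spoly I M hI).natDegree := by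
  obtain ⟨N, hN⟩ := spoly_spec I M hI
  obtain ⟨N', hN'⟩ := spoly_spec I M' hI
  obtain ⟨c, hc⟩ := samuel_le_of_injective I hI f hf
  rw [← Polynomial.natDegree_taylor (spoly I M' hI) (-(c : ℚ))]
  apply natDegree_le_of_eventually_le _ _ (N + N' + c)
  · intro n hn
    rw [Polynomial.taylor_eval, hN n (by omega)]
    have h1 : ((n : ℚ) + -(c : ℚ)) = ((n - c : ℕ) : ℚ) := by
      rw [Nat.cast_sub (by omega)]; ring
    rw [h1, hN' (n - c) (by omega)]
    exact_mod_cast hc n (by omega)
  · rw [Polynomial.leadingCoeff_taylor]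
    exact spoly_leadingCoeff_pos I M' hI hIJ

end

section

variable (M : Type u) [AddCommGroup M] [Module A M] [Module.Finite A M]

theorem spoly_eq_zero_of_subsingleton [Subsingleton M] : spoly I M hI = 0 := by
  obtain ⟨N, hN⟩ := spoly_spec I M hI
  apply eq_of_eventually_eq _ _ N
  intro n hn
  rw [hN n hn, Polynomial.eval_zero]
  unfold samuel
  rw [Module.length_eq_zero]
  simp

include hIJ in
theorem natDegree_spoly_of_isFiniteLength (hM : IsFiniteLength A M) :
    (spoly I M hI).natDegree = 0 := by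
  obtain ⟨N, hN⟩ := spoly_spec I M hI
  obtain ⟨n₀, hn₀⟩ := samuel_eventually_const I M hIJ hM
  have : spoly I M hI = Polynomial.C (((Module.length A M).toNat : ℤ) : ℚ) := by
    apply eq_of_eventually_eq _ _ (N + n₀)
    intro n hn
    rw [hN n (by omega), hn₀ n (by omega), Polynomial.eval_C]
  rw [this, Polynomial.natDegree_C]

include hIJ in
theorem natDegree_spoly_le_succ (x : A) (hx : x ∈ I) :
    (spoly I M hI).natDegree ≤ (spoly I (QuotSMulTop x M) hI).natDegree + 1 := by
  rcases Nat.eq_zero_or_pos (spoly I M hI).natDegree with h0 | hpos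
  · omega
  obtain ⟨t, ht⟩ : ∃ t, (spoly I M hI).natDegree = t + 1 := ⟨(spoly I M hI).natDegree - 1, by omega⟩
  haveI : Nontrivial M := by
    by_contra hnt
    rw [not_nontrivial_iff_subsingleton] at hnt
    rw [spoly_eq_zero_of_subsingleton I hI M, Polynomial.natDegree_zero] at hpos
    exact lt_irrefl _ hpos
  obtain ⟨hnd, hlc⟩ := natDegree_bdiff 1 one_ne_zero (spoly I M hI) t ht
  obtain ⟨N, hN⟩ := spoly_spec I M hI
  obtain ⟨N', hN'⟩ := spoly_spec I (QuotSMulTop x M) hI
  have hle : (bdiff 1 (spoly I M hI)).natDegree ≤ (spoly I (QuotSMulTop x M) hI).natDegree := by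
    apply natDegree_le_of_eventually_le _ _ (N + N' + 1)
    · intro n hn
      obtain ⟨k, rfl⟩ : ∃ k, n = k + 1 := ⟨n - 1, by omega⟩
      rw [bdiff_eval, hN' (k + 1) (by omega), hN (k + 1) (by omega)]
      have h1 : (((k + 1 : ℕ) : ℚ) - 1) = ((k : ℕ) : ℚ) := by push_cast; ring
      rw [h1, hN k (by omega)]
      exact_mod_cast samuel_succ_sub_le I M x hI hx k
    · rw [hlc]
      have := spoly_leadingCoeff_pos I M hI hIJ
      positivity
  omega

include hIJ in
theorem natDegree_spoly_quot_succ_le (x : A) (hx : IsSMulRegular M x)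
    [Nontrivial (QuotSMulTop x M)] :
    (spoly I (QuotSMulTop x M) hI).natDegree + 1 ≤ (spoly I M hI).natDegree := by
  obtain ⟨c, hc⟩ := samuel_quot_le I M x hI hx
  obtain ⟨N, hN⟩ := spoly_spec I M hI
  obtain ⟨N', hN'⟩ := spoly_spec I (QuotSMulTop x M) hI
  have hev : ∀ n : ℕ, N + N' + c ≤ n → (spoly I (QuotSMulTop x M) hI).eval (n : ℚ) ≤
      (bdiff (c : ℚ) (spoly I M hI)).eval (n : ℚ) := by
    intro n hn
    rw [bdiff_eval, hN' n (by omega), hN n (by omega)]
    have h1 : ((n : ℚ) - (c : ℚ)) = ((n - c : ℕ) : ℚ) := by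
      rw [Nat.cast_sub (by omega)]
    rw [h1, hN (n - c) (by omega)]
    exact_mod_cast hc n (by omega)
  have hle := natDegree_le_of_eventually_le _ _ _ hev
    (spoly_leadingCoeff_pos I (QuotSMulTop x M) hI hIJ)
  rcases Nat.eq_zero_or_pos (spoly I M hI).natDegree with h0 | hpos
  · exfalso
    rw [Polynomial.eq_C_of_natDegree_eq_zero h0, bdiff_C] at hev
    have h2 := hev (N + N' + c + 1) (by omega)
    rw [Polynomial.eval_zero, hN' _ (by omega)] at h2
    have h3 := one_le_samuel I (QuotSMulTop x M) hI hIJ (N + N' + c + 1) (by omega)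
    have h4 : (1 : ℚ) ≤ (samuel I (QuotSMulTop x M) (N + N' + c + 1) : ℚ) := by exact_mod_cast h3
    linarith
  · obtain ⟨t, ht⟩ : ∃ t, (spoly I M hI).natDegree = t + 1 := ⟨(spoly I M hI).natDegree - 1, by omega⟩
    have := natDegree_bdiff_le (c : ℚ) (spoly I M hI) t ht.le
    omega

end

end Groth.Agent.H19.Samuel
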