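import Mathlib
import Groth.Agent.H19.Samuel8

set_option autoImplicit false
universe u

namespace Groth.Agent.H19.Samuel

open Groth.Agent.H19.HilbSerre Groth.Agent.H19.NumPoly Polynomial Filter
  Groth.Agent.H19.PolyDiff Groth.Agent.H29 Groth.Agent.H29.SemiSOP

variable {A : Type u} [CommRing A]

theorem exists_primes_of_le_dim (J : Ideal A) (e : ℕ)
    (h : ((e + 1 : ℕ) : WithBot ℕ∞) ≤ ringKrullDim (A ⧸ J)) :
    ∃ p₀ p₁ : Ideal A, p₀.IsPrime ∧ p₁.IsPrime ∧ J ≤ p₀ ∧ p₀ < p₁ ∧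
      (e : WithBot ℕ∞) ≤ ringKrullDim (A ⧸ p₁) := by
  rw [ringKrullDim_quotient, Order.le_krullDim_iff] at h
  obtain ⟨l, hl⟩ := h
  have h0 : (0 : ℕ) < l.length + 1 := by omega
  have h1 : (1 : ℕ) < l.length + 1 := by omega
  set a₀ := l ⟨0, h0⟩ with ha₀
  set a₁ := l ⟨1, h1⟩ with ha₁
  have hlt : a₀ < a₁ := l.strictMono (Fin.mk_lt_mk.mpr (by omega))
  refine ⟨a₀.1.asIdeal, a₁.1.asIdeal, a₀.1.2, a₁.1.2, ?_, ?_, ?_⟩
  · exact (PrimeSpectrum.mem_zeroLocus _ _).mp a₀.2
  · exact hlt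
  · rw [ringKrullDim_quotient, Order.le_krullDim_iff]
    have hmem : ∀ i : Fin (e + 1), (l ⟨i.1 + 1, by omega⟩).1 ∈
        PrimeSpectrum.zeroLocus ((a₁.1.asIdeal : Ideal A) : Set A) := by
      intro i
      rw [PrimeSpectrum.mem_zeroLocus, SetLike.coe_subset_coe]
      have : a₁ ≤ l ⟨i.1 + 1, by omega⟩ := l.strictMono.monotone (Fin.mk_le_mk.mpr (by omega))
      exact this
    refine ⟨LTSeries.mk e (fun i => ⟨(l ⟨i.1 + 1, by omega⟩).1, hmem i⟩) ?_, rfl⟩
    intro i j hij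
    have : l ⟨i.1 + 1, by omega⟩ < l ⟨j.1 + 1, by omega⟩ :=
      l.strictMono (Fin.mk_lt_mk.mpr (by have := Fin.lt_def.mp hij; omega))
    exact this

variable [IsNoetherianRing A] [Finite (MaximalSpectrum A)]

theorem isDefIdeal_jacobson : IsDefIdeal (Ring.jacobson A) := fun p hp h =>
  @isMaximal_of_jacobson_le A _ _ p hp h

/-- upper bound: `deg ≤ dim` -/
theorem natDegree_spoly_le_of_supportDim_le : ∀ (d : ℕ) (M : Type u) [AddCommGroup M] [Module A M]
    [Module.Finite A M], Module.supportDim A M ≤ d →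
    (spoly (Ring.jacobson A) M isDefIdeal_jacobson).natDegree ≤ d := by
  intro d
  induction d with
  | zero =>
    intro M _ _ _ h
    have hfl : IsFiniteLength A M :=
      (supportDim_le_zero_iff_isFiniteLength A M).mp (by simpa using h)
    rw [natDegree_spoly_of_isFiniteLength _ isDefIdeal_jacobson le_rfl M hfl]
  | succ d ih =>
    intro M _ _ _ h
    obtain ⟨x, hx, hdim⟩ := exists_mem_jacobson_supportDim_quotSMulTop_le A M d
      (by simpa using h)
    have h1 := ih (QuotSMulTop x M) hdim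
    have h2 := natDegree_spoly_le_succ (Ring.jacobson A) isDefIdeal_jacobson le_rfl M x hx
    omega

end Groth.Agent.H19.Samuel
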