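import Mathlib
import Groth.Agent.H19.Samuel9

set_option autoImplicit false
universe u

namespace Groth.Agent.H19.Samuel

open Groth.Agent.H19.HilbSerre Groth.Agent.H19.NumPoly Polynomial Filter
  Groth.Agent.H19.PolyDiff Groth.Agent.H29 Groth.Agent.H29.SemiSOP
open scoped Pointwise

variable {A : Type u} [CommRing A]

theorem dim_quot_mono {I J : Ideal A} (h : I ≤ J) :
    ringKrullDim (A ⧸ J) ≤ ringKrullDim (A ⧸ I) :=
  ringKrullDim_le_of_surjective (Ideal.Quotient.factor h) (Ideal.Quotient.factor_surjective h)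

theorem isSMulRegular_quot_prime (p : Ideal A) [p.IsPrime] (x : A) (hx : x ∉ p) :
    IsSMulRegular (A ⧸ p) x := by
  intro b c hbc
  obtain ⟨b, rfl⟩ := Ideal.Quotient.mk_surjective b
  obtain ⟨c, rfl⟩ := Ideal.Quotient.mk_surjective c
  have h1 : Ideal.Quotient.mk p (x * b) = Ideal.Quotient.mk p (x * c) := hbc
  rw [Ideal.Quotient.eq, ← mul_sub] at h1
  rw [Ideal.Quotient.eq]
  exact (Ideal.IsPrime.mem_or_mem ‹_› h1).resolve_left hx

variable [IsNoetherianRing A] [Finite (MaximalSpectrum A)]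

/-- lower bound for cyclic modules -/
theorem le_natDegree_spoly_quot : ∀ (e : ℕ) (J : Ideal A), J ≠ ⊤ →
    (e : WithBot ℕ∞) ≤ ringKrullDim (A ⧸ J) →
    e ≤ (spoly (Ring.jacobson A) (A ⧸ J) isDefIdeal_jacobson).natDegree := by
  intro e
  induction e with
  | zero => intro J _ _; exact Nat.zero_le _
  | succ e ih =>
    intro J hJ h
    obtain ⟨p₀, p₁, hp₀, hp₁, hJp, hlt, hdim⟩ := exists_primes_of_le_dim J e h
    haveI := hp₀
    haveI := hp₁
    obtain ⟨x, hx₁, hx₀⟩ := SetLike.exists_of_lt hlt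
    set J' : Ideal A := p₀ ⊔ Ideal.span {x} with hJ'
    have hJ'le : J' ≤ p₁ := sup_le hlt.le (by
      rw [Ideal.span_le, Set.singleton_subset_iff]; exact hx₁)
    have hJ'ne : J' ≠ ⊤ := fun h => hp₁.ne_top (top_le_iff.mp (h ▸ hJ'le))
    have hxJ' : x ∈ J' := Ideal.mem_sup_right (Ideal.subset_span (Set.mem_singleton x))
    have ih' := ih J' hJ'ne (hdim.trans (dim_quot_mono hJ'le))
    haveI : Nontrivial (A ⧸ J') := Ideal.Quotient.nontrivial_iff.mpr hJ'ne
    haveI : Nontrivial (A ⧸ p₀) := Ideal.Quotient.nontrivial_iff.mpr hp₀.ne_top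
    -- the surjection `(A/p₀)/x(A/p₀) → A/J'`
    let g₀ : (A ⧸ p₀) →ₗ[A] (A ⧸ J') := Submodule.mapQ p₀ J' LinearMap.id (by
      rw [Submodule.comap_id]; exact le_sup_left)
    have hg₀ : Function.Surjective g₀ := by
      intro z
      obtain ⟨a, rfl⟩ := Submodule.Quotient.mk_surjective _ z
      exact ⟨Submodule.Quotient.mk a, rfl⟩
    let g : QuotSMulTop x (A ⧸ p₀) →ₗ[A] (A ⧸ J') :=
      Submodule.liftQ _ g₀ (by
        intro b hb
        obtain ⟨b', -, rfl⟩ := (Submodule.mem_smul_pointwise_iff_exists _ _ _).mp hb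
        rw [LinearMap.mem_ker, map_smul]
        obtain ⟨a, ha⟩ := Submodule.Quotient.mk_surjective _ (g₀ b')
        rw [← ha, ← Submodule.Quotient.mk_smul, Submodule.Quotient.mk_eq_zero, smul_eq_mul]
        exact J'.mul_mem_right a hxJ')
    have hg : Function.Surjective g := by
      intro z
      obtain ⟨b, rfl⟩ := hg₀ z
      exact ⟨Submodule.Quotient.mk b, rfl⟩
    haveI : Nontrivial (QuotSMulTop x (A ⧸ p₀)) := hg.nontrivial
    have h1 := natDegree_spoly_le_of_surjective (Ring.jacobson A) isDefIdeal_jacobson le_rfl g hg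
    have h2 := natDegree_spoly_quot_succ_le (Ring.jacobson A) isDefIdeal_jacobson le_rfl
      (A ⧸ p₀) x (isSMulRegular_quot_prime p₀ x hx₀)
    -- `A/J → A/p₀`
    let g₁ : (A ⧸ J) →ₗ[A] (A ⧸ p₀) := Submodule.mapQ J p₀ LinearMap.id (by
      rw [Submodule.comap_id]; exact hJp)
    have hg₁ : Function.Surjective g₁ := by
      intro z
      obtain ⟨a, rfl⟩ := Submodule.Quotient.mk_surjective _ z
      exact ⟨Submodule.Quotient.mk a, rfl⟩
    have h3 := natDegree_spoly_le_of_surjective (Ring.jacobson A) isDefIdeal_jacobson le_rfl g₁ hg₁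
    omega

end Groth.Agent.H19.Samuel
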