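import Mathlib
import Groth.Agent.H19.Samuel10

set_option autoImplicit false
universe u

namespace Groth.Agent.H19.Samuel

open Groth.Agent.H19.HilbSerre Groth.Agent.H19.NumPoly Polynomial Filter
  Groth.Agent.H19.PolyDiff Groth.Agent.H29 Groth.Agent.H29.SemiSOP
open scoped Pointwise

variable {A : Type u} [CommRing A] [IsNoetherianRing A] [Finite (MaximalSpectrum A)]

/-- lower bound: `dim ≤ deg` -/
theorem le_natDegree_spoly (M : Type u) [AddCommGroup M] [Module A M] [Module.Finite A M]
    (d : ℕ) (h : (d : WithBot ℕ∞) ≤ Module.supportDim A M) :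
    d ≤ (spoly (Ring.jacobson A) M isDefIdeal_jacobson).natDegree := by
  rw [Module.supportDim_eq_ringKrullDim_quotient_annihilator, ringKrullDim_quotient,
    Order.le_krullDim_iff] at h
  obtain ⟨l, hl⟩ := h
  have hp : Module.annihilator A M ≤ (l 0).1.asIdeal := (PrimeSpectrum.mem_zeroLocus _ _).mp (l 0).2
  obtain ⟨q, hq, hqp⟩ := Ideal.exists_minimalPrimes_le hp
  haveI : q.IsPrime := hq.1.1
  have hdim : (d : WithBot ℕ∞) ≤ ringKrullDim (A ⧸ q) := by
    rw [ringKrullDim_quotient, Order.le_krullDim_iff]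
    have hmem : ∀ i, (l i).1 ∈ PrimeSpectrum.zeroLocus ((q : Ideal A) : Set A) := by
      intro i
      rw [PrimeSpectrum.mem_zeroLocus, SetLike.coe_subset_coe]
      have : l 0 ≤ l i := l.strictMono.monotone (Fin.zero_le _)
      exact hqp.trans this
    refine ⟨LTSeries.mk l.length (fun i => ⟨(l i).1, hmem i⟩) ?_, hl⟩
    intro i j hij
    exact l.strictMono hij
  have h1 := le_natDegree_spoly_quot d q (Ideal.IsPrime.ne_top ‹_›) hdim
  have hass : IsAssociatedPrime q M :=
    Module.associatedPrimes.minimalPrimes_annihilator_subset_associatedPrimes A M hq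
  obtain ⟨-, f, hf⟩ := (isAssociatedPrime_iff_exists_injective_linearMap q M).mp hass
  haveI : Nontrivial (A ⧸ q) := Ideal.Quotient.nontrivial_iff.mpr (Ideal.IsPrime.ne_top ‹_›)
  have h2 := natDegree_spoly_le_of_injective (Ring.jacobson A) isDefIdeal_jacobson le_rfl f hf
  omega

theorem main_samuel (A : Type u) [CommRing A] [IsNoetherianRing A]
    [Finite (MaximalSpectrum A)] (M : Type u) [AddCommGroup M] [Module A M] [Module.Finite A M]
    [Nontrivial M] :
    ∃ P : Polynomial ℚ,
      (∃ N : ℕ, ∀ n : ℕ, N ≤ n →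
        ∃ ℓ : ℕ, Module.length A (M ⧸ (Ring.jacobson A ^ n • (⊤ : Submodule A M))) = ℓ ∧
          (ℓ : ℚ) = P.eval (n : ℚ)) ∧
      (P.natDegree : WithBot ℕ∞) = Module.supportDim A M := by
  refine ⟨spoly (Ring.jacobson A) M isDefIdeal_jacobson, ?_, ?_⟩
  · obtain ⟨N, hN⟩ := spoly_spec (Ring.jacobson A) M isDefIdeal_jacobson
    refine ⟨N, fun n hn => ⟨(Module.length A
      (M ⧸ (Ring.jacobson A ^ n • (⊤ : Submodule A M)))).toNat, ?_, ?_⟩⟩
    · rw [ENat.coe_toNat]
      exact Module.length_ne_top_iff.mpr (isFiniteLength_quot' isDefIdeal_jacobson M n)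
    · rw [hN n hn]
      unfold samuel
      push_cast
      rfl
  · obtain ⟨d, hd⟩ := exists_natCast_supportDim A M
    rw [hd]
    have h1 := natDegree_spoly_le_of_supportDim_le d M hd.le
    have h2 := le_natDegree_spoly M d hd.ge
    have : (spoly (Ring.jacobson A) M isDefIdeal_jacobson).natDegree = d := le_antisymm h1 h2
    rw [this]

end Groth.Agent.H19.Samuel
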