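import Mathlib
import Groth.Agent.H19.Samuel11
import Groth.Agent.H19.Reduction1

set_option autoImplicit false
universe u

namespace Groth.Agent.H19.Reduction

open Groth.Agent.H19.Samuel Polynomial Filter Topology

variable {A : Type u} [CommRing A]

/-- length of `A ⧸ J` as an integer -/
noncomputable def lenQ (J : Ideal A) : ℤ := ((Module.length A (A ⧸ J)).toNat : ℤ)

theorem lenQ_pow_eq_samuel (I : Ideal A) (m : ℕ) : lenQ (I ^ m) = samuel I A m := by
  unfold lenQ samuel
  have h : (I ^ m : Submodule A A) = I ^ m • (⊤ : Submodule A A) := by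
    rw [Ideal.smul_top_eq_map]
    simp
  rw [(Submodule.quotEquivOfEq _ _ h).length_eq]

theorem lenQ_anti {J J' : Ideal A} (h : J ≤ J') (hfl : IsFiniteLength A (A ⧸ J)) :
    lenQ J' ≤ lenQ J :=
  toNat_length_le_of_surjective (Submodule.mapQ J J' LinearMap.id h)
    (fun x => by
      obtain ⟨x, rfl⟩ := Submodule.Quotient.mk_surjective _ x
      exact ⟨Submodule.Quotient.mk x, rfl⟩) hfl

end Groth.Agent.H19.Reduction

namespace Groth.Agent.H19.Reduction

open Groth.Agent.H19.Samuel Polynomial Filter Topology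

variable {A : Type u} [CommRing A]

theorem degree_shift_sub_lt (P : ℚ[X]) (k : ℕ) (d : ℕ) (hP : P.natDegree ≤ d) :
    (P.comp (X + C (k : ℚ)) - P).degree < (d : WithBot ℕ) := by
  rw [Polynomial.degree_lt_iff_coeff_zero]
  intro m hm
  rw [Polynomial.coeff_sub]
  have hdeg : (P.comp (X + C (k : ℚ))).natDegree ≤ d := by
    rw [Polynomial.natDegree_comp]
    have : (X + C (k : ℚ) : ℚ[X]).natDegree = 1 := Polynomial.natDegree_X_add_C _
    rw [this, mul_one]
    exact hP
  rcases lt_or_eq_of_le hm with h | h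
  · rw [Polynomial.coeff_eq_zero_of_natDegree_lt (lt_of_le_of_lt hdeg h),
      Polynomial.coeff_eq_zero_of_natDegree_lt (lt_of_le_of_lt hP h), sub_zero]
  · subst h
    rcases lt_or_eq_of_le hP with h' | h'
    · have h1 : (P.comp (X + C (k : ℚ))).natDegree < d := by
        rw [Polynomial.natDegree_comp, Polynomial.natDegree_X_add_C, mul_one]
        exact h'
      rw [Polynomial.coeff_eq_zero_of_natDegree_lt h1,
        Polynomial.coeff_eq_zero_of_natDegree_lt h', sub_zero]
    · have h2 : (P.comp (X + C (k : ℚ))).natDegree = d := by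
        rw [Polynomial.natDegree_comp, Polynomial.natDegree_X_add_C, mul_one]
        exact h'
      have h3 : (P.comp (X + C (k : ℚ))).leadingCoeff = P.leadingCoeff := by
        rw [Polynomial.leadingCoeff_comp (by rw [Polynomial.natDegree_X_add_C]; norm_num),
          Polynomial.leadingCoeff_X_add_C, one_pow, mul_one]
      rw [Polynomial.leadingCoeff, h2] at h3
      rw [Polynomial.leadingCoeff, h'] at h3
      rw [h3, sub_self]

theorem tendsto_poly_div_pow (R : ℚ[X]) (d : ℕ) (hR : R.degree < (d : WithBot ℕ)) :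
    Tendsto (fun m : ℕ => ((R.eval (m : ℚ) : ℚ) : ℝ) / (m : ℝ) ^ d) atTop (𝓝 0) := by
  have h1 : (R.map (algebraMap ℚ ℝ)).degree < ((X : ℝ[X]) ^ d).degree := by
    rw [Polynomial.degree_X_pow]
    exact lt_of_le_of_lt Polynomial.degree_map_le hR
  have h2 := Polynomial.div_tendsto_atTop_zero_of_degree_lt _ _ h1
  have h3 := h2.comp (tendsto_natCast_atTop_atTop (R := ℝ))
  refine h3.congr ?_
  intro m
  simp only [Function.comp_apply, Polynomial.eval_pow, Polynomial.eval_X]
  congr 1
  rw [Polynomial.eval_map]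
  have : ((m : ℕ) : ℝ) = algebraMap ℚ ℝ (m : ℚ) := by simp
  rw [this, Polynomial.eval₂_at_apply]
  rfl

end Groth.Agent.H19.Reduction

namespace Groth.Agent.H19.Reduction

open Groth.Agent.H19.Samuel Polynomial Filter Topology

variable {A : Type u} [CommRing A]

theorem main_S8162 (A : Type u) [CommRing A] [IsNoetherianRing A] [IsLocalRing A]
    (d : ℕ) (hd : ringKrullDim A = d) (a b : Ideal A) (hba : b ≤ a)
    (ha : a ≤ IsLocalRing.maximalIdeal A) (hb : ∃ N : ℕ, IsLocalRing.maximalIdeal A ^ N ≤ b)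
    (hint : ∀ x ∈ a, ∃ n : ℕ, 0 < n ∧ ∃ c : Fin n → A,
      (∀ i : Fin n, c i ∈ b ^ ((i : ℕ) + 1)) ∧ x ^ n + ∑ i : Fin n, c i * x ^ (n - 1 - (i : ℕ)) = 0) :
    Tendsto (fun m : ℕ => (((Module.length A (A ⧸ b ^ m)).toNat : ℝ) -
        ((Module.length A (A ⧸ a ^ m)).toNat : ℝ)) / (m : ℝ) ^ d) atTop (𝓝 0) := by
  obtain ⟨N, hN⟩ := hb
  have hJ : Ring.jacobson A = IsLocalRing.maximalIdeal A := IsLocalRing.ringJacobson_eq_maximalIdeal A
  -- `a` is an ideal of definition
  have hdefa : IsDefIdeal a := by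
    intro p hp hap
    have h1 : IsLocalRing.maximalIdeal A ^ N ≤ p := hN.trans (hba.trans hap)
    have h2 : IsLocalRing.maximalIdeal A ≤ p := Ideal.IsPrime.le_of_pow_le h1
    have h3 : p = IsLocalRing.maximalIdeal A :=
      le_antisymm (IsLocalRing.le_maximalIdeal hp.ne_top) h2
    rw [h3]; infer_instance
  have haJ : a ≤ Ring.jacobson A := hJ ▸ ha
  set Pa := spoly a A hdefa with hPa
  set P₀ := spoly (Ring.jacobson A) A isDefIdeal_jacobson with hP₀
  obtain ⟨Na, hNa⟩ := spoly_spec a A hdefa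
  obtain ⟨N₀, hN₀⟩ := spoly_spec (Ring.jacobson A) A isDefIdeal_jacobson
  -- degree bound
  have hdeg₀ : P₀.natDegree ≤ d :=
    natDegree_spoly_le_of_supportDim_le d A (by
      rw [Module.supportDim_self_eq_ringKrullDim, hd])
  have hfl : ∀ m, IsFiniteLength A (A ⧸ a ^ m) := by
    intro m
    have h : (a ^ m : Submodule A A) = a ^ m • (⊤ : Submodule A A) := by
      rw [Ideal.smul_top_eq_map]; simp
    exact (isFiniteLength_quot' hdefa A m).of_surjective
      (f := (Submodule.quotEquivOfEq _ _ h).symm.toLinearMap)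
      (Submodule.quotEquivOfEq _ _ h).symm.surjective
  have hflJ : ∀ m, IsFiniteLength A (A ⧸ (Ring.jacobson A) ^ m) := by
    intro m
    have h : ((Ring.jacobson A) ^ m : Submodule A A) =
        (Ring.jacobson A) ^ m • (⊤ : Submodule A A) := by
      rw [Ideal.smul_top_eq_map]; simp
    exact (isFiniteLength_quot' isDefIdeal_jacobson A m).of_surjective
      (f := (Submodule.quotEquivOfEq _ _ h).symm.toLinearMap)
      (Submodule.quotEquivOfEq _ _ h).symm.surjective
  have hdega : Pa.natDegree ≤ d := by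
    refine le_trans ?_ hdeg₀
    have hle : Pa.natDegree ≤ (P₀.comp (C ((N + 1 : ℕ) : ℚ) * X)).natDegree := by
      apply natDegree_le_of_eventually_le _ _ (Na + N₀) _
        (spoly_leadingCoeff_pos a A hdefa haJ)
      intro m hm
      rw [hNa m (by omega), Polynomial.eval_comp, Polynomial.eval_mul, Polynomial.eval_C,
        Polynomial.eval_X]
      have h1 : (((N + 1 : ℕ) : ℚ) * (m : ℚ)) = (((N + 1) * m : ℕ) : ℚ) := by push_cast; ring
      rw [h1, hN₀ ((N + 1) * m) (by nlinarith)]
      have h2 : (Ring.jacobson A) ^ ((N + 1) * m) ≤ a ^ m := by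
        rw [pow_mul]
        apply Ideal.pow_right_mono
        rw [hJ]
        exact (Ideal.pow_le_pow_right (Nat.le_succ N)).trans (hN.trans hba)
      have h3 := lenQ_anti h2 (hflJ _)
      rw [lenQ_pow_eq_samuel, lenQ_pow_eq_samuel] at h3
      exact_mod_cast h3
    refine hle.trans ?_
    calc (P₀.comp (C ((N + 1 : ℕ) : ℚ) * X)).natDegree
        ≤ P₀.natDegree * (C ((N + 1 : ℕ) : ℚ) * X).natDegree := Polynomial.natDegree_comp_le
      _ ≤ P₀.natDegree * 1 := Nat.mul_le_mul_left _ ((Polynomial.natDegree_C_mul_le _ _).trans Polynomial.natDegree_X_le)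
      _ = P₀.natDegree := mul_one _
  -- reduction
  obtain ⟨k, hk⟩ := exists_reduction a b hba hint
  have hlow : ∀ m, lenQ (a ^ m) ≤ lenQ (b ^ m) := by
    intro m
    have hflb : IsFiniteLength A (A ⧸ b ^ m) :=
      (hfl (m + k)).of_surjective (f := Submodule.mapQ (a ^ (m + k)) (b ^ m) LinearMap.id (hk m))
        (fun x => by
          obtain ⟨x, rfl⟩ := Submodule.Quotient.mk_surjective _ x
          exact ⟨Submodule.Quotient.mk x, rfl⟩)
    exact lenQ_anti (Ideal.pow_right_mono hba m) hflb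
  have hup : ∀ m, lenQ (b ^ m) ≤ lenQ (a ^ (m + k)) := fun m => lenQ_anti (hk m) (hfl _)
  -- the limit
  set R := Pa.comp (X + C (k : ℚ)) - Pa with hR
  have hRdeg := degree_shift_sub_lt Pa k d hdega
  have hlim := tendsto_poly_div_pow R d hRdeg
  refine squeeze_zero' (Eventually.of_forall fun m => ?_) ?_ hlim
  · apply div_nonneg _ (pow_nonneg (Nat.cast_nonneg m) d)
    have := hlow m
    unfold lenQ at this
    have h' : ((Module.length A (A ⧸ a ^ m)).toNat : ℝ) ≤ ((Module.length A (A ⧸ b ^ m)).toNat : ℝ) := by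
      exact_mod_cast this
    linarith
  · filter_upwards [eventually_ge_atTop Na] with m hm
    apply div_le_div_of_nonneg_right _ (pow_nonneg (Nat.cast_nonneg m) d)
    have h1 := hup m
    rw [lenQ_pow_eq_samuel a (m + k)] at h1
    have h2 : (R.eval (m : ℚ)) = (samuel a A (m + k) : ℚ) - (samuel a A m : ℚ) := by
      rw [hR, Polynomial.eval_sub, Polynomial.eval_comp, Polynomial.eval_add, Polynomial.eval_X,
        Polynomial.eval_C, hNa m hm]
      have : ((m : ℚ) + (k : ℚ)) = ((m + k : ℕ) : ℚ) := by push_cast; ring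
      rw [this, hNa (m + k) (by omega)]
    rw [h2]
    have h3 : lenQ (a ^ m) = samuel a A m := lenQ_pow_eq_samuel a m
    have h4 : ((Module.length A (A ⧸ a ^ m)).toNat : ℝ) = ((samuel a A m : ℤ) : ℝ) := by
      rw [← h3]; unfold lenQ; push_cast; rfl
    have h5 : ((Module.length A (A ⧸ b ^ m)).toNat : ℝ) ≤ ((samuel a A (m + k) : ℤ) : ℝ) := by
      have : (lenQ (b ^ m) : ℝ) ≤ ((samuel a A (m + k) : ℤ) : ℝ) := by exact_mod_cast h1
      unfold lenQ at this
      exact_mod_cast this
    rw [h4]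
    push_cast
    linarith

end Groth.Agent.H19.Reduction
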