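import Mathlib
import Groth.Agent.H19.Reduction2
import Groth.Agent.H19.KosChi

set_option autoImplicit false
universe u

namespace Groth.Agent.H19.Samuel

open Filter Topology
open scoped Pointwise

variable {A : Type u} [CommRing A] [IsNoetherianRing A]

section SES

variable (I : Ideal A) {M' M M'' : Type u} [AddCommGroup M'] [Module A M'] [AddCommGroup M]
  [Module A M] [AddCommGroup M''] [Module A M''] [Module.Finite A M'] [Module.Finite A M]
  [Module.Finite A M'']
  (f : M' →ₗ[A] M) (g : M →ₗ[A] M'')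

/-- `K_t = f⁻¹(I^t M)` -/
def Kt (t : ℕ) : Submodule A M' := (I ^ t • (⊤ : Submodule A M)).comap f

noncomputable def fbar (t : ℕ) : (M' ⧸ Kt I f t) →ₗ[A] M ⧸ (I ^ t • (⊤ : Submodule A M)) :=
  Submodule.mapQ _ _ f le_rfl

theorem fbar_injective (t : ℕ) : Function.Injective (fbar I f t) := by
  rw [← LinearMap.ker_eq_bot, LinearMap.ker_eq_bot']
  intro z hz
  obtain ⟨y, rfl⟩ := Submodule.Quotient.mk_surjective _ z
  have h1 : fbar I f t (Submodule.Quotient.mk y) = Submodule.Quotient.mk (f y) := rfl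
  rw [h1, Submodule.Quotient.mk_eq_zero] at hz
  rw [Submodule.Quotient.mk_eq_zero]
  exact hz

theorem exact_fbar_quotMap (hg : Function.Surjective g) (hfg : LinearMap.range f = LinearMap.ker g)
    (t : ℕ) : Function.Exact (fbar I f t) (quotMap I g t) := by
  intro z
  obtain ⟨m, rfl⟩ := Submodule.Quotient.mk_surjective _ z
  have e1 : quotMap I g t (Submodule.Quotient.mk m) = Submodule.Quotient.mk (g m) := rfl
  rw [e1, Submodule.Quotient.mk_eq_zero]
  constructor
  · intro hm
    have h1 : I ^ t • (⊤ : Submodule A M'') = (I ^ t • (⊤ : Submodule A M)).map g := by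
      rw [Submodule.map_smul'', Submodule.map_top, LinearMap.range_eq_top.mpr hg]
    rw [h1] at hm
    obtain ⟨m₀, hm₀, hm₀'⟩ := hm
    have h2 : m - m₀ ∈ LinearMap.ker g := by
      rw [LinearMap.mem_ker, map_sub, hm₀', sub_self]
    rw [← hfg] at h2
    obtain ⟨y, hy⟩ := h2
    refine ⟨Submodule.Quotient.mk y, ?_⟩
    show Submodule.Quotient.mk (f y) = Submodule.Quotient.mk m
    rw [hy, Submodule.Quotient.eq]
    have : m - m₀ - m = -m₀ := by abel
    rw [this]
    exact Submodule.neg_mem _ hm₀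
  · rintro ⟨y, hy⟩
    obtain ⟨y, rfl⟩ := Submodule.Quotient.mk_surjective _ y
    have e2 : fbar I f t (Submodule.Quotient.mk y) = Submodule.Quotient.mk (f y) := rfl
    rw [e2, Submodule.Quotient.eq] at hy
    have h3 : g (f y - m) ∈ I ^ t • (⊤ : Submodule A M'') := by
      have h1 : (I ^ t • (⊤ : Submodule A M)).map g ≤ I ^ t • (⊤ : Submodule A M'') := by
        rw [Submodule.map_smul'']
        exact Submodule.smul_mono le_rfl le_top
      exact h1 ⟨_, hy, rfl⟩
    have h4 : g (f y) = 0 := by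
      have : f y ∈ LinearMap.ker g := hfg ▸ ⟨y, rfl⟩
      exact this
    rw [map_sub, h4, zero_sub] at h3
    simpa using Submodule.neg_mem _ h3

theorem samuel_eq_add_Kt (hI : IsDefIdeal I) (hg : Function.Surjective g)
    (hfg : LinearMap.range f = LinearMap.ker g) (t : ℕ) :
    samuel I M t = ((Module.length A (M' ⧸ Kt I f t)).toNat : ℤ) + samuel I M'' t := by
  have := Groth.Agent.H19.Kos.len_add_of_exact (fbar I f t) (quotMap I g t) (fbar_injective I f t)
    (quotMap_surjective I g hg t) (exact_fbar_quotMap I f g hg hfg t) (isFiniteLength_quot' hI M t)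
  exact this

theorem Kt_bounds (hI : IsDefIdeal I) (hf : Function.Injective f) :
    (∀ t, ((Module.length A (M' ⧸ Kt I f t)).toNat : ℤ) ≤ samuel I M' t) ∧
    ∃ c : ℕ, ∀ t, c ≤ t → samuel I M' (t - c) ≤ ((Module.length A (M' ⧸ Kt I f t)).toNat : ℤ) := by
  constructor
  · intro t
    have hle : I ^ t • (⊤ : Submodule A M') ≤ Kt I f t := by
      unfold Kt
      rw [← Submodule.map_le_iff_le_comap, Submodule.map_smul'']
      exact Submodule.smul_mono le_rfl le_top
    exact toNat_length_le_of_surjective (Submodule.mapQ _ _ LinearMap.id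
      (by rw [Submodule.comap_id]; exact hle))
      (fun z => by
        obtain ⟨y, rfl⟩ := Submodule.Quotient.mk_surjective _ z
        exact ⟨Submodule.Quotient.mk y, rfl⟩) (isFiniteLength_quot' hI M' t)
  · obtain ⟨c, hc⟩ := Ideal.exists_pow_inf_eq_pow_smul I (LinearMap.range f)
    refine ⟨c, fun t ht => ?_⟩
    have hKle : Kt I f t ≤ I ^ (t - c) • (⊤ : Submodule A M') := by
      intro y hy
      have h1 : f y ∈ I ^ t • (⊤ : Submodule A M) ⊓ LinearMap.range f := ⟨hy, ⟨y, rfl⟩⟩
      rw [hc t ht] at h1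
      have h2 : I ^ (t - c) • (I ^ c • (⊤ : Submodule A M) ⊓ LinearMap.range f) ≤
          I ^ (t - c) • LinearMap.range f := Submodule.smul_mono le_rfl inf_le_right
      have h3 := h2 h1
      rw [LinearMap.range_eq_map, ← Submodule.map_smul''] at h3
      obtain ⟨y', hy', hyy'⟩ := h3
      rw [hf hyy'] at hy'
      exact hy'
    have hflK : IsFiniteLength A (M' ⧸ Kt I f t) :=
      (isFiniteLength_quot' hI M t).of_injective (fbar_injective I f t)
    exact toNat_length_le_of_surjective (Submodule.mapQ _ _ LinearMap.id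
      (by rw [Submodule.comap_id]; exact hKle))
      (fun z => by
        obtain ⟨y, rfl⟩ := Submodule.Quotient.mk_surjective _ z
        exact ⟨Submodule.Quotient.mk y, rfl⟩) hflK

end SES

end Groth.Agent.H19.Samuel

namespace Groth.Agent.H19.Samuel

open Filter Topology

theorem tendsto_shift (u : ℕ → ℝ) (e : ℝ) (d c : ℕ) (F : ℝ)
    (h : Tendsto (fun t : ℕ => F * u t / (t : ℝ) ^ d) atTop (nhds e)) :
    Tendsto (fun t : ℕ => F * u (t - c) / (t : ℝ) ^ d) atTop (nhds e) := by
  have h1 : Tendsto (fun t : ℕ => F * u (t - c) / ((t - c : ℕ) : ℝ) ^ d) atTop (nhds e) :=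
    h.comp (tendsto_sub_atTop_nat c)
  have h2 : Tendsto (fun t : ℕ => (((t - c : ℕ) : ℝ) / (t : ℝ)) ^ d) atTop (nhds 1) := by
    have h3 : Tendsto (fun t : ℕ => ((t - c : ℕ) : ℝ) / (t : ℝ)) atTop (nhds 1) := by
      have h4 : Tendsto (fun t : ℕ => (1 : ℝ) - (c : ℝ) / (t : ℝ)) atTop (nhds (1 - 0)) :=
        tendsto_const_nhds.sub (tendsto_const_div_atTop_nhds_zero_nat (c : ℝ))
      rw [sub_zero] at h4
      refine h4.congr' ?_
      filter_upwards [eventually_gt_atTop c] with t ht
      have ht0 : (t : ℝ) ≠ 0 := by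
        have : 0 < t := by omega
        exact_mod_cast this.ne'
      rw [Nat.cast_sub ht.le]
      field_simp
    have := h3.pow d
    simpa using this
  have h5 := h1.mul h2
  rw [mul_one] at h5
  refine h5.congr' ?_
  filter_upwards [eventually_gt_atTop c] with t ht
  have ht0 : (t : ℝ) ≠ 0 := by
    have : 0 < t := by omega
    exact_mod_cast this.ne'
  have htc : ((t - c : ℕ) : ℝ) ≠ 0 := by
    have : 0 < t - c := by omega
    exact_mod_cast this.ne'
  rw [div_pow]
  field_simp

theorem tendsto_of_squeeze_add (u' u u'' : ℕ → ℝ) (e' e'' : ℝ) (d c : ℕ) (F : ℝ) (hF : 0 ≤ F)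
    (hup : ∀ t, u t ≤ u'' t + u' t) (hlow : ∀ t, c ≤ t → u'' t + u' (t - c) ≤ u t)
    (h' : Tendsto (fun t : ℕ => F * u' t / (t : ℝ) ^ d) atTop (nhds e'))
    (h'' : Tendsto (fun t : ℕ => F * u'' t / (t : ℝ) ^ d) atTop (nhds e'')) :
    Tendsto (fun t : ℕ => F * u t / (t : ℝ) ^ d) atTop (nhds (e' + e'')) := by
  have hs := tendsto_shift u' e' d c F h'
  have hA : Tendsto (fun t : ℕ => F * u'' t / (t : ℝ) ^ d + F * u' (t - c) / (t : ℝ) ^ d) atTop
      (nhds (e' + e'')) := by
    rw [add_comm e' e'']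
    exact h''.add hs
  have hB : Tendsto (fun t : ℕ => F * u'' t / (t : ℝ) ^ d + F * u' t / (t : ℝ) ^ d) atTop
      (nhds (e' + e'')) := by
    rw [add_comm e' e'']
    exact h''.add h'
  refine tendsto_of_tendsto_of_tendsto_of_le_of_le' hA hB ?_ ?_
  · filter_upwards [eventually_ge_atTop c] with t ht
    rw [← add_div, ← mul_add]
    apply div_le_div_of_nonneg_right _ (pow_nonneg (Nat.cast_nonneg t) d)
    exact mul_le_mul_of_nonneg_left (hlow t ht) hF
  · filter_upwards with t
    rw [← add_div, ← mul_add]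
    apply div_le_div_of_nonneg_right _ (pow_nonneg (Nat.cast_nonneg t) d)
    exact mul_le_mul_of_nonneg_left (hup t) hF

theorem isDefIdeal_of_primary {A : Type u} [CommRing A] [IsLocalRing A] (I : Ideal A)
    (hI : I ≤ IsLocalRing.maximalIdeal A ∧ ∃ n : ℕ, IsLocalRing.maximalIdeal A ^ n ≤ I) :
    IsDefIdeal I := by
  obtain ⟨-, N, hN⟩ := hI
  intro p hp hap
  have h1 : IsLocalRing.maximalIdeal A ^ N ≤ p := hN.trans hap
  have h2 : IsLocalRing.maximalIdeal A ≤ p := Ideal.IsPrime.le_of_pow_le h1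
  have h3 : p = IsLocalRing.maximalIdeal A :=
    le_antisymm (IsLocalRing.le_maximalIdeal hp.ne_top) h2
  rw [h3]; infer_instance

theorem main_S12211 (A : Type u) [CommRing A] [IsNoetherianRing A] [IsLocalRing A]
    (I : Ideal A) (hI : I ≤ IsLocalRing.maximalIdeal A ∧ ∃ n : ℕ, IsLocalRing.maximalIdeal A ^ n ≤ I)
    {M' M M'' : Type u} [AddCommGroup M'] [Module A M'] [AddCommGroup M] [Module A M]
    [AddCommGroup M''] [Module A M''] [Module.Finite A M'] [Module.Finite A M] [Module.Finite A M'']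
    (f : M' →ₗ[A] M) (g : M →ₗ[A] M'') (hf : Function.Injective f) (hg : Function.Surjective g)
    (hfg : LinearMap.range f = LinearMap.ker g)
    (d : ℕ) (e' e'' : ℝ)
    (h' : Filter.Tendsto (fun t : ℕ => (d.factorial : ℝ) * ((Module.length A (M' ⧸ (I ^ t • (⊤ : Submodule A M')))).toNat : ℝ) / (t : ℝ) ^ d) Filter.atTop (nhds e'))
    (h'' : Filter.Tendsto (fun t : ℕ => (d.factorial : ℝ) * ((Module.length A (M'' ⧸ (I ^ t • (⊤ : Submodule A M'')))).toNat : ℝ) / (t : ℝ) ^ d) Filter.atTop (nhds e'')) :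
    Filter.Tendsto (fun t : ℕ => (d.factorial : ℝ) * ((Module.length A (M ⧸ (I ^ t • (⊤ : Submodule A M)))).toNat : ℝ) / (t : ℝ) ^ d) Filter.atTop (nhds (e' + e'')) := by
  have hdef := isDefIdeal_of_primary I hI
  obtain ⟨hK1, c, hK2⟩ := Kt_bounds I f hdef hf
  have hadd := samuel_eq_add_Kt I f g hdef hg hfg
  refine tendsto_of_squeeze_add
    (fun t => ((Module.length A (M' ⧸ (I ^ t • (⊤ : Submodule A M')))).toNat : ℝ))
    (fun t => ((Module.length A (M ⧸ (I ^ t • (⊤ : Submodule A M)))).toNat : ℝ))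
    (fun t => ((Module.length A (M'' ⧸ (I ^ t • (⊤ : Submodule A M'')))).toNat : ℝ))
    e' e'' d c _ (Nat.cast_nonneg _) ?_ ?_ h' h''
  · intro t
    have h1 := hadd t
    have h2 := hK1 t
    unfold samuel at h1 h2
    have h3 : ((Module.length A (M ⧸ (I ^ t • (⊤ : Submodule A M)))).toNat : ℤ) ≤
        ((Module.length A (M'' ⧸ (I ^ t • (⊤ : Submodule A M'')))).toNat : ℤ) +
        ((Module.length A (M' ⧸ (I ^ t • (⊤ : Submodule A M')))).toNat : ℤ) := by linarith
    exact_mod_cast h3
  · intro t ht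
    have h1 := hadd t
    have h2 := hK2 t ht
    unfold samuel at h1 h2
    have h3 : ((Module.length A (M'' ⧸ (I ^ t • (⊤ : Submodule A M'')))).toNat : ℤ) +
        ((Module.length A (M' ⧸ (I ^ (t - c) • (⊤ : Submodule A M')))).toNat : ℤ) ≤
        ((Module.length A (M ⧸ (I ^ t • (⊤ : Submodule A M)))).toNat : ℤ) := by linarith
    exact_mod_cast h3

end Groth.Agent.H19.Samuel
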