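import Mathlib
import Groth.Agent.H19.SamuelAdd

set_option autoImplicit false
universe u

namespace Groth.Agent.H19.Samuel

open Filter Topology Polynomial Groth.Agent.H19.Reduction

theorem le_pred_of_lt_natCast {y : WithBot ℕ∞} {d : ℕ} (h : y < (d : WithBot ℕ∞)) :
    y ≤ ((d - 1 : ℕ) : WithBot ℕ∞) := by
  induction y using WithBot.recBotCoe with
  | bot => exact bot_le
  | coe n =>
    induction n using ENat.recTopCoe with
    | top =>
      exfalso
      have h' : ((⊤ : ℕ∞) : WithBot ℕ∞) < ((d : ℕ∞) : WithBot ℕ∞) := h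
      rw [WithBot.coe_lt_coe] at h'
      exact absurd h' (not_lt.mpr le_top)
    | coe n =>
      have h' : ((n : ℕ∞) : WithBot ℕ∞) < ((d : ℕ∞) : WithBot ℕ∞) := h
      rw [WithBot.coe_lt_coe] at h'
      have h'' : n < d := by exact_mod_cast h'
      show ((n : ℕ∞) : WithBot ℕ∞) ≤ (((d - 1 : ℕ) : ℕ∞) : WithBot ℕ∞)
      rw [WithBot.coe_le_coe]
      have : n ≤ d - 1 := by omega
      exact_mod_cast this

theorem tendsto_zero_of_supportDim_lt (A : Type u) [CommRing A] [IsNoetherianRing A] [IsLocalRing A]
    (I : Ideal A) (hI : I ≤ IsLocalRing.maximalIdeal A ∧ ∃ n : ℕ, IsLocalRing.maximalIdeal A ^ n ≤ I)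
    (N : Type u) [AddCommGroup N] [Module A N] [Module.Finite A N] (d : ℕ)
    (h : Module.supportDim A N < d) :
    Tendsto (fun t : ℕ => (d.factorial : ℝ) *
      ((Module.length A (N ⧸ (I ^ t • (⊤ : Submodule A N)))).toNat : ℝ) / (t : ℝ) ^ d) atTop (𝓝 0) := by
  rcases subsingleton_or_nontrivial N with hN | hN
  · have : ∀ t : ℕ, (d.factorial : ℝ) *
        ((Module.length A (N ⧸ (I ^ t • (⊤ : Submodule A N)))).toNat : ℝ) / (t : ℝ) ^ d = 0 := by
      intro t
      have h0 : Module.length A (N ⧸ (I ^ t • (⊤ : Submodule A N))) = 0 := by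
        rw [Module.length_eq_zero_iff]; infer_instance
      rw [h0]; simp
    simp only [this]
    exact tendsto_const_nhds
  · obtain ⟨-, n, hn⟩ := hI
    have hJ : Ring.jacobson A = IsLocalRing.maximalIdeal A :=
      IsLocalRing.ringJacobson_eq_maximalIdeal A
    have h0 : (0 : WithBot ℕ∞) ≤ Module.supportDim A N := by
      by_contra hcon
      push Not at hcon
      have : Module.supportDim A N = ⊥ := by
        rcases hs : Module.supportDim A N with _ | x
        · rfl
        · rw [hs] at hcon
          exact absurd hcon (not_lt.mpr (WithBot.coe_le_coe.mpr (zero_le)))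
      rw [Module.supportDim_eq_bot_iff_subsingleton A N] at this
      exact not_subsingleton N this
    have hd1 : 1 ≤ d := by
      by_contra hcon
      have : d = 0 := by omega
      subst this
      exact absurd (lt_of_le_of_lt h0 h) (lt_irrefl _)
    have hle : Module.supportDim A N ≤ ((d - 1 : ℕ) : WithBot ℕ∞) := le_pred_of_lt_natCast h
    set P₀ := spoly (Ring.jacobson A) N isDefIdeal_jacobson with hP₀
    obtain ⟨N₀, hN₀⟩ := spoly_spec (Ring.jacobson A) N isDefIdeal_jacobson
    have hdeg₀ : P₀.natDegree ≤ d - 1 := natDegree_spoly_le_of_supportDim_le (d - 1) N hle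
    set R : ℚ[X] := C (d.factorial : ℚ) * P₀.comp (C ((n + 1 : ℕ) : ℚ) * X) with hR
    have hRdeg : R.degree < (d : WithBot ℕ) := by
      have h1 : R.natDegree ≤ d - 1 := by
        calc R.natDegree ≤ (P₀.comp (C ((n + 1 : ℕ) : ℚ) * X)).natDegree :=
              Polynomial.natDegree_C_mul_le _ _
          _ ≤ P₀.natDegree * (C ((n + 1 : ℕ) : ℚ) * X).natDegree := Polynomial.natDegree_comp_le
          _ ≤ P₀.natDegree * 1 := Nat.mul_le_mul_left _
              ((Polynomial.natDegree_C_mul_le _ _).trans Polynomial.natDegree_X_le)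
          _ = P₀.natDegree := mul_one _
          _ ≤ d - 1 := hdeg₀
      refine lt_of_le_of_lt Polynomial.degree_le_natDegree ?_
      have : R.natDegree < d := by omega
      exact_mod_cast this
    have hlim := tendsto_poly_div_pow R d hRdeg
    refine squeeze_zero' (Eventually.of_forall fun t => ?_) ?_ hlim
    · apply div_nonneg _ (pow_nonneg (Nat.cast_nonneg t) d)
      positivity
    · filter_upwards [eventually_ge_atTop (N₀ + 1)] with t ht
      apply div_le_div_of_nonneg_right _ (pow_nonneg (Nat.cast_nonneg t) d)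
      have h2 : (Ring.jacobson A) ^ ((n + 1) * t) ≤ I ^ t := by
        rw [pow_mul]
        apply Ideal.pow_right_mono
        rw [hJ]
        exact (Ideal.pow_le_pow_right (Nat.le_succ n)).trans hn
      have h3 : ((Module.length A (N ⧸ (I ^ t • (⊤ : Submodule A N)))).toNat : ℤ) ≤
          samuel (Ring.jacobson A) N ((n + 1) * t) := by
        unfold samuel
        exact toNat_length_le_of_surjective (Submodule.mapQ _ _ LinearMap.id
          (by rw [Submodule.comap_id]; exact Submodule.smul_mono h2 le_rfl))
          (fun z => by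
            obtain ⟨y, rfl⟩ := Submodule.Quotient.mk_surjective _ z
            exact ⟨Submodule.Quotient.mk y, rfl⟩)
          (isFiniteLength_quot' isDefIdeal_jacobson N _)
      have h4 : R.eval (t : ℚ) = (d.factorial : ℚ) * (samuel (Ring.jacobson A) N ((n + 1) * t) : ℚ) := by
        rw [hR, Polynomial.eval_mul, Polynomial.eval_C, Polynomial.eval_comp, Polynomial.eval_mul,
          Polynomial.eval_C, Polynomial.eval_X]
        have h1 : (((n + 1 : ℕ) : ℚ) * (t : ℚ)) = (((n + 1) * t : ℕ) : ℚ) := by push_cast; ring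
        rw [h1, hN₀ ((n + 1) * t) (by nlinarith)]
      rw [h4]
      push_cast
      apply mul_le_mul_of_nonneg_left _ (by positivity)
      exact_mod_cast h3

end Groth.Agent.H19.Samuel
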