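import Mathlib
import Groth.Agent.H19.SamuelVanish
import Groth.Agent.H19.LocLenP
import Groth.Agent.H19.KosRank

set_option autoImplicit false
universe u

namespace Groth.Agent.H19.Samuel

open Filter Topology Groth.Agent.H19.LocLenP

theorem exists_nat_of_le_natCast {y : WithBot ℕ∞} {d : ℕ} (h : y ≤ (d : WithBot ℕ∞)) (hne : y ≠ ⊥) :
    ∃ d' : ℕ, y = (d' : WithBot ℕ∞) ∧ d' ≤ d := by
  induction y using WithBot.recBotCoe with
  | bot => exact absurd rfl hne
  | coe n =>
    induction n using ENat.recTopCoe with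
    | top =>
      exfalso
      have h' : ((⊤ : ℕ∞) : WithBot ℕ∞) ≤ ((d : ℕ∞) : WithBot ℕ∞) := h
      rw [WithBot.coe_le_coe] at h'
      exact absurd h' (not_le.mpr (ENat.coe_lt_top d))
    | coe n =>
      have h' : ((n : ℕ∞) : WithBot ℕ∞) ≤ ((d : ℕ∞) : WithBot ℕ∞) := h
      rw [WithBot.coe_le_coe] at h'
      exact ⟨n, rfl, by exact_mod_cast h'⟩

theorem false_of_lt_of_dim {A : Type u} [CommRing A] (q p : Ideal A) [q.IsPrime] [p.IsPrime] (d : ℕ)
    (hqp : q < p) (hq : ringKrullDim (A ⧸ q) ≤ d) (hp : ringKrullDim (A ⧸ p) = d) : False := by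
  have hne : ringKrullDim (A ⧸ q) ≠ ⊥ := by
    intro h
    have h0 : (0 : WithBot ℕ∞) ≤ ringKrullDim (A ⧸ q) := ringKrullDim_nonneg_of_nontrivial
    rw [h] at h0
    exact absurd h0 (by simp)
  obtain ⟨d', hd', hd'd⟩ := exists_nat_of_le_natCast hq hne
  have hp' : p.map (Ideal.Quotient.mk q) ≠ ⊥ := by
    obtain ⟨x, hxp, hxq⟩ := SetLike.exists_of_lt hqp
    intro h
    have : Ideal.Quotient.mk q x ∈ p.map (Ideal.Quotient.mk q) := Ideal.mem_map_of_mem _ hxp
    rw [h, Ideal.mem_bot, Ideal.Quotient.eq_zero_iff_mem] at this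
    exact hxq this
  have h1 := Groth.Agent.H19.Kos.ringKrullDim_quotient_lt d' hd' _ hp'
  rw [ringKrullDim_eq_of_ringEquiv (DoubleQuot.quotQuotEquivQuotOfLE hqp.le), hp] at h1
  have : (d : WithBot ℕ∞) < d := lt_of_lt_of_le h1 (by exact_mod_cast hd'd)
  exact lt_irrefl _ this

theorem length_quot_smul_equiv {A : Type u} [CommRing A] (J : Ideal A) {N N' : Type u}
    [AddCommGroup N] [Module A N] [AddCommGroup N'] [Module A N'] (f : N ≃ₗ[A] N') :
    Module.length A (N ⧸ (J • (⊤ : Submodule A N))) =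
      Module.length A (N' ⧸ (J • (⊤ : Submodule A N'))) := by
  apply LinearEquiv.length_eq
  apply Submodule.Quotient.equiv _ _ f
  rw [Submodule.map_smul'', Submodule.map_top]
  congr 1
  exact LinearEquiv.range f

section

variable {A : Type u} [CommRing A] (d : ℕ) (e : PrimeSpectrum A → ℝ)

/-- the summand -/
noncomputable def term (N : Type u) [AddCommGroup N] [Module A N] (p : PrimeSpectrum A) : ℝ :=
  ∑ᶠ (_ : ringKrullDim (A ⧸ p.asIdeal) = d), ((lam p.asIdeal N).toNat : ℝ) * e p

theorem term_of_dim (N : Type u) [AddCommGroup N] [Module A N] (p : PrimeSpectrum A)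
    (h : ringKrullDim (A ⧸ p.asIdeal) = d) :
    term d e N p = ((lam p.asIdeal N).toNat : ℝ) * e p := by
  classical
  unfold term
  rw [finsum_eq_if, if_pos h]

theorem term_of_not_dim (N : Type u) [AddCommGroup N] [Module A N] (p : PrimeSpectrum A)
    (h : ¬ ringKrullDim (A ⧸ p.asIdeal) = d) :
    term d e N p = 0 := by
  classical
  unfold term
  rw [finsum_eq_if, if_neg h]

theorem term_of_lam_zero (N : Type u) [AddCommGroup N] [Module A N] (p : PrimeSpectrum A)
    (h : lam p.asIdeal N = 0) :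
    term d e N p = 0 := by
  by_cases hd : ringKrullDim (A ⧸ p.asIdeal) = d
  · rw [term_of_dim d e N p hd, h]; simp
  · exact term_of_not_dim d e N p hd

structure Good (I : Ideal A) (N : Type u) [AddCommGroup N] [Module A N] : Prop where
  fin : {p : PrimeSpectrum A | ringKrullDim (A ⧸ p.asIdeal) = d ∧ lam p.asIdeal N ≠ 0}.Finite
  ne_top : ∀ p : PrimeSpectrum A, ringKrullDim (A ⧸ p.asIdeal) = d → lam p.asIdeal N ≠ ⊤
  lim : Tendsto (fun t : ℕ => (d.factorial : ℝ) *
    ((Module.length A (N ⧸ (I ^ t • (⊤ : Submodule A N)))).toNat : ℝ) / (t : ℝ) ^ d) atTop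
    (𝓝 (∑ᶠ p, term d e N p))

theorem Good.hasFiniteSupport {I : Ideal A} {N : Type u} [AddCommGroup N] [Module A N]
    (h : Good d e I N) : Function.HasFiniteSupport (term d e N) := by
  apply h.fin.subset
  intro p hp
  rw [Function.mem_support] at hp
  constructor
  · by_contra hd
    exact hp (term_of_not_dim d e N p hd)
  · intro h0
    exact hp (term_of_lam_zero d e N p h0)

end

section Main

variable (A : Type u) [CommRing A] [IsNoetherianRing A] [IsLocalRing A]
    (I : Ideal A) (hI : I ≤ IsLocalRing.maximalIdeal A ∧ ∃ n : ℕ, IsLocalRing.maximalIdeal A ^ n ≤ I)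
    (d : ℕ) (e : PrimeSpectrum A → ℝ)
    (he : ∀ p : PrimeSpectrum A, ringKrullDim (A ⧸ p.asIdeal) = d →
      Filter.Tendsto (fun t : ℕ => (d.factorial : ℝ) *
        ((Module.length A ((A ⧸ p.asIdeal) ⧸ (I ^ t • (⊤ : Submodule A (A ⧸ p.asIdeal))))).toNat : ℝ) / (t : ℝ) ^ d)
        Filter.atTop (nhds (e p)))

include hI in
theorem good_of_subsingleton (N : Type u) [AddCommGroup N] [Module A N] [Module.Finite A N]
    [Subsingleton N] : Good d e I N := by
  have hlam : ∀ p : PrimeSpectrum A, lam p.asIdeal N = 0 := fun p => lam_of_subsingleton _ N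
  refine ⟨?_, ?_, ?_⟩
  · refine Set.Finite.subset Set.finite_empty ?_
    intro p hp
    exact (hp.2 (hlam p)).elim
  · intro p _
    rw [hlam p]; exact ENat.zero_ne_top
  · have h0 : ∑ᶠ p, term d e N p = 0 := by
      rw [finsum_congr (fun p => term_of_lam_zero d e N p (hlam p))]
      exact finsum_zero
    rw [h0]
    apply tendsto_zero_of_supportDim_lt A I hI N d
    rw [Module.supportDim_eq_bot_of_subsingleton]
    exact WithBot.bot_lt_coe _

include hI he in
theorem good_of_quotient (N : Type u) [AddCommGroup N] [Module A N] [Module.Finite A N]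
    (q : PrimeSpectrum A) (f : N ≃ₗ[A] A ⧸ q.asIdeal) (hN : Module.supportDim A N ≤ d) :
    Good d e I N := by
  have hq : ringKrullDim (A ⧸ q.asIdeal) ≤ d := by
    rw [← Module.supportDim_quotient_eq_ringKrullDim, ← Module.supportDim_eq_of_equiv f]
    exact hN
  have hlamq : lam q.asIdeal N = 1 := by
    rw [lam_equiv _ f]; exact lam_self _
  have hlam : ∀ p : PrimeSpectrum A, ringKrullDim (A ⧸ p.asIdeal) = d → p ≠ q →
      lam p.asIdeal N = 0 := by
    intro p hp hpq
    rw [lam_equiv _ f]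
    apply lam_eq_zero_of_not_le
    intro hle
    have hlt : q.asIdeal < p.asIdeal := lt_of_le_of_ne hle (fun h => hpq (PrimeSpectrum.ext h.symm))
    exact false_of_lt_of_dim q.asIdeal p.asIdeal d hlt hq hp
  have hterm : ∀ p : PrimeSpectrum A, p ≠ q → term d e N p = 0 := by
    intro p hpq
    by_cases hd : ringKrullDim (A ⧸ p.asIdeal) = d
    · exact term_of_lam_zero d e N p (hlam p hd hpq)
    · exact term_of_not_dim d e N p hd
  refine ⟨?_, ?_, ?_⟩
  · refine Set.Finite.subset (Set.finite_singleton q) ?_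
    intro p hp
    by_contra hpq
    exact hp.2 (hlam p hp.1 hpq)
  · intro p hp
    by_cases hpq : p = q
    · rw [hpq, hlamq]; exact ENat.one_ne_top
    · rw [hlam p hp hpq]; exact ENat.zero_ne_top
  · rw [finsum_eq_single _ q hterm]
    by_cases hd : ringKrullDim (A ⧸ q.asIdeal) = d
    · rw [term_of_dim d e N q hd, hlamq]
      have := he q hd
      simp only [ENat.toNat_one, Nat.cast_one, one_mul]
      refine this.congr ?_
      intro t
      rw [length_quot_smul_equiv (I ^ t) f]
    · rw [term_of_not_dim d e N q hd]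
      apply tendsto_zero_of_supportDim_lt A I hI N d
      rw [Module.supportDim_eq_of_equiv f, Module.supportDim_quotient_eq_ringKrullDim]
      exact lt_of_le_of_ne hq hd

include hI in
theorem good_of_exact (N₁ : Type u) [AddCommGroup N₁] [Module A N₁] [Module.Finite A N₁]
    (N₂ : Type u) [AddCommGroup N₂] [Module A N₂] [Module.Finite A N₂]
    (N₃ : Type u) [AddCommGroup N₃] [Module A N₃] [Module.Finite A N₃]
    (f : N₁ →ₗ[A] N₂) (g : N₂ →ₗ[A] N₃)
    (hf : Function.Injective f) (hg : Function.Surjective g) (hfg : Function.Exact f g)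
    (h1 : Good d e I N₁) (h3 : Good d e I N₃) : Good d e I N₂ := by
  have hadd : ∀ p : PrimeSpectrum A, lam p.asIdeal N₂ = lam p.asIdeal N₁ + lam p.asIdeal N₃ :=
    fun p => lam_add _ f g hf hg hfg
  have hterm : ∀ p : PrimeSpectrum A, term d e N₂ p = term d e N₁ p + term d e N₃ p := by
    intro p
    by_cases hd : ringKrullDim (A ⧸ p.asIdeal) = d
    · rw [term_of_dim d e _ p hd, term_of_dim d e _ p hd, term_of_dim d e _ p hd, hadd p,
        ENat.toNat_add (h1.ne_top p hd) (h3.ne_top p hd)]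
      push_cast; ring
    · rw [term_of_not_dim d e _ p hd, term_of_not_dim d e _ p hd, term_of_not_dim d e _ p hd,
        add_zero]
  refine ⟨?_, ?_, ?_⟩
  · refine Set.Finite.subset (h1.fin.union h3.fin) ?_
    intro p hp
    by_contra hcon
    rw [Set.mem_union, not_or] at hcon
    apply hp.2
    have h1' : lam p.asIdeal N₁ = 0 := by
      by_contra h; exact hcon.1 ⟨hp.1, h⟩
    have h3' : lam p.asIdeal N₃ = 0 := by
      by_contra h; exact hcon.2 ⟨hp.1, h⟩
    rw [hadd p, h1', h3', add_zero]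
  · intro p hp
    rw [hadd p]
    exact WithTop.add_ne_top.mpr ⟨h1.ne_top p hp, h3.ne_top p hp⟩
  · rw [finsum_congr hterm, finsum_add_distrib (h1.hasFiniteSupport d e) (h3.hasFiniteSupport d e)]
    exact main_S12211 A I hI f g hf hg (LinearMap.exact_iff.mp hfg).symm d _ _ h1.lim h3.lim

include hI he in
theorem good_of_supportDim_le (M : Type u) [AddCommGroup M] [Module A M] [hM : Module.Finite A M]
    (hd : Module.supportDim A M ≤ d) : Good d e I M := by
  revert hd
  refine IsNoetherianRing.induction_on_isQuotientEquivQuotientPrime A hM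
    (motive := fun N _ _ _ => Module.supportDim A N ≤ d → Good d e I N) ?_ ?_ ?_
  · intro N _ _ _ _ _
    exact good_of_subsingleton A I hI d e N
  · intro N _ _ _ q f hN
    exact good_of_quotient A I hI d e he N q f hN
  · intro N₁ _ _ _ N₂ _ _ _ N₃ _ _ _ f g hf hg hfg ih1 ih3 hN
    exact good_of_exact A I hI d e N₁ N₂ N₃ f g hf hg hfg
      (ih1 ((Module.supportDim_le_of_injective f hf).trans hN))
      (ih3 ((Module.supportDim_le_of_surjective g hg).trans hN))

end Main

theorem main_S12212 (A : Type u) [CommRing A] [IsNoetherianRing A] [IsLocalRing A]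
    (I : Ideal A) (hI : I ≤ IsLocalRing.maximalIdeal A ∧ ∃ n : ℕ, IsLocalRing.maximalIdeal A ^ n ≤ I)
    (M : Type u) [AddCommGroup M] [Module A M] [Module.Finite A M]
    (d : ℕ) (hd : Module.supportDim A M ≤ d) (e : PrimeSpectrum A → ℝ)
    (he : ∀ p : PrimeSpectrum A, ringKrullDim (A ⧸ p.asIdeal) = d →
      Filter.Tendsto (fun t : ℕ => (d.factorial : ℝ) *
        ((Module.length A ((A ⧸ p.asIdeal) ⧸ (I ^ t • (⊤ : Submodule A (A ⧸ p.asIdeal))))).toNat : ℝ) / (t : ℝ) ^ d)
        Filter.atTop (nhds (e p))) :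
    Filter.Tendsto (fun t : ℕ => (d.factorial : ℝ) * ((Module.length A (M ⧸ (I ^ t • (⊤ : Submodule A M)))).toNat : ℝ) / (t : ℝ) ^ d) Filter.atTop
      (nhds (∑ᶠ (p : PrimeSpectrum A) (_ : ringKrullDim (A ⧸ p.asIdeal) = d),
        ((Module.length (Localization.AtPrime p.asIdeal) (LocalizedModule p.asIdeal.primeCompl M)).toNat : ℝ) * e p)) :=
  (good_of_supportDim_le A I hI d e he M hd).lim

end Groth.Agent.H19.Samuel
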