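import Mathlib
import Groth.Agent.H19.AssocS2517

set_option autoImplicit false
universe u

namespace Groth.Agent.H19.AssocOne

open Groth.Agent.H19.Kos Groth.Agent.H19.LocLenP Groth.Agent.H19.Samuel
open scoped Pointwise

variable {B : Type u} [CommRing B] [IsNoetherianRing B] [IsLocalRing B] (t : B)
  (ht : t ∈ IsLocalRing.maximalIdeal B)
  (M : Type u) [AddCommGroup M] [Module B M] [Module.Finite B M]
  (hdim : 0 < Module.supportDim B M)
  (hfin : Module.length B (M ⧸ (Ideal.span {t} • (⊤ : Submodule B M))) ≠ ⊤)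

include ht hdim hfin in
theorem core_S12132 :
    ∃ s : Finset (PrimeSpectrum B),
      (∀ q : PrimeSpectrum B, q ∈ s ↔
        q.asIdeal ∈ (Module.annihilator B M).minimalPrimes ∧ lam q.asIdeal M ≠ 0) ∧
      (∀ q : PrimeSpectrum B, q.asIdeal ∈ (Module.annihilator B M).minimalPrimes → q ∈ s) ∧
      ∑ p ∈ s, lam p.asIdeal M ≤ Module.length B (M ⧸ (Ideal.span {t} • (⊤ : Submodule B M))) ∧
      (∑ p ∈ s, lam p.asIdeal M = Module.length B (M ⧸ (Ideal.span {t} • (⊤ : Submodule B M))) ↔
        IsSMulRegular M t ∧ ∀ p ∈ s, mu t p = 1) := by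
  have hAdm : Adm [t] M := by
    apply adm_of_isFiniteLength_quot [t] M {t}
    · intro s hs
      rw [Set.mem_singleton_iff] at hs
      rw [hs]; exact List.mem_singleton.mpr rfl
    · exact Module.length_ne_top_iff.mp hfin
  have hl : ∀ g ∈ [t], g ∈ IsLocalRing.maximalIdeal B := by
    intro g hg
    rw [List.mem_singleton] at hg
    rw [hg]; exact ht
  have h1 : Module.supportDim B M ≤ 1 := by
    have := hAdm.supportDim_le hl
    simpa using this
  obtain ⟨s, hs, hle, hiff⟩ := ineq_core t ht M hAdm
  have heq : Ideal.span {t} • (⊤ : Submodule B M) = t • (⊤ : Submodule B M) :=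
    Submodule.ideal_span_singleton_smul t ⊤
  rw [heq]
  -- minimal primes of the annihilator have `dim = 1`
  have hmin_dim : ∀ q : PrimeSpectrum B, q.asIdeal ∈ (Module.annihilator B M).minimalPrimes →
      ringKrullDim (B ⧸ q.asIdeal) = 1 ∧ lam q.asIdeal M ≠ 0 := by
    intro q hq
    have hqs : q ∈ Module.support B M := Module.mem_support_iff_of_finite.mpr hq.1.2
    have hne : q.asIdeal ≠ IsLocalRing.maximalIdeal B := by
      intro hqm
      -- then the support is a subsingleton
      have hsub : Subsingleton (Module.support B M) := by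
        constructor
        intro a b
        have key : ∀ c : Module.support B M, c.1 = q := by
          intro c
          have hc : Module.annihilator B M ≤ c.1.asIdeal := Module.mem_support_iff_of_finite.mp c.2
          have hcq : c.1.asIdeal ≤ q.asIdeal := by
            rw [hqm]; exact IsLocalRing.le_maximalIdeal c.1.isPrime.ne_top
          exact PrimeSpectrum.ext (le_antisymm hcq (hq.2 ⟨c.1.isPrime, hc⟩ hcq))
        exact Subtype.ext ((key a).trans (key b).symm)
      have : Module.supportDim B M ≤ 0 := by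
        unfold Module.supportDim
        exact Order.krullDim_nonpos_of_subsingleton
      exact absurd (lt_of_lt_of_le hdim this) (lt_irrefl _)
    have hlt : q.asIdeal < IsLocalRing.maximalIdeal B :=
      lt_of_le_of_ne (IsLocalRing.le_maximalIdeal q.isPrime.ne_top) hne
    refine ⟨?_, (lam_ne_zero_iff M q).mpr hqs⟩
    apply le_antisymm
    · exact (dim_quot_le_supportDim M q hqs).trans h1
    · exact_mod_cast one_le_dim_quot_of_lt q.asIdeal _ hlt
  have hs' : ∀ q : PrimeSpectrum B, q ∈ s ↔
      q.asIdeal ∈ (Module.annihilator B M).minimalPrimes ∧ lam q.asIdeal M ≠ 0 := by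
    intro q
    rw [hs q]
    constructor
    · rintro ⟨hd, hne⟩
      refine ⟨?_, hne⟩
      have hqs : q ∈ Module.support B M := (lam_ne_zero_iff M q).mp hne
      have hann : Module.annihilator B M ≤ q.asIdeal := Module.mem_support_iff_of_finite.mp hqs
      refine ⟨⟨q.isPrime, hann⟩, ?_⟩
      rintro q' ⟨hq'p, hq'ann⟩ hq'q
      by_contra hnle
      have hlt : q' < q.asIdeal := lt_of_le_of_ne hq'q (fun h => hnle (h ▸ le_rfl))
      haveI := hq'p
      have hq's : (⟨q', hq'p⟩ : PrimeSpectrum B) ∈ Module.support B M :=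
        Module.mem_support_iff_of_finite.mpr hq'ann
      have hd' : ringKrullDim (B ⧸ q') ≤ ((1 : ℕ) : WithBot ℕ∞) := by
        have := (dim_quot_le_supportDim M ⟨q', hq'p⟩ hq's).trans h1
        exact_mod_cast this
      exact false_of_lt_of_dim q' q.asIdeal 1 hlt hd' (by exact_mod_cast hd)
    · rintro ⟨hmin, hne⟩
      exact hmin_dim q hmin
  refine ⟨s, hs', ?_, hle, hiff⟩
  intro q hq
  exact (hs' q).mpr ⟨hq, (hmin_dim q hq).2⟩

include ht hdim hfin in
theorem main_S12132 :
    (∑ᶠ p : (Module.annihilator B M).minimalPrimes,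
        haveI : p.1.IsPrime := p.2.1.1
        Module.length (Localization.AtPrime p.1) (LocalizedModule p.1.primeCompl M)) ≤
      Module.length B (M ⧸ (Ideal.span {t} • (⊤ : Submodule B M))) ∧
    ((∑ᶠ p : (Module.annihilator B M).minimalPrimes,
        haveI : p.1.IsPrime := p.2.1.1
        Module.length (Localization.AtPrime p.1) (LocalizedModule p.1.primeCompl M)) =
      Module.length B (M ⧸ (Ideal.span {t} • (⊤ : Submodule B M))) ↔
    IsSMulRegular M t ∧
      ∀ p : (Module.annihilator B M).minimalPrimes,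
        Ideal.map (Ideal.Quotient.mk p.1) (IsLocalRing.maximalIdeal B) =
          Ideal.span {Ideal.Quotient.mk p.1 t}) := by
  obtain ⟨s, hs, hall, hle, hiff⟩ := core_S12132 t ht M hdim hfin
  have h := finsum_minimalPrimes (Module.annihilator B M) M s hs
  rw [h]
  refine ⟨hle, ?_⟩
  rw [hiff]
  apply and_congr Iff.rfl
  constructor
  · intro hmu p
    let q : PrimeSpectrum B := ⟨p.1, p.2.1.1⟩
    exact (mu_eq_one_iff t q).mp (hmu q (hall q p.2))
  · intro hp q hq
    rw [mu_eq_one_iff]
    exact hp ⟨q.asIdeal, ((hs q).mp hq).1⟩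

end Groth.Agent.H19.AssocOne
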