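import Mathlib
import Groth.Agent.H19.Acyc
import Groth.Agent.S16234

set_option autoImplicit false
universe u

namespace Groth.Agent.H19.BEAcyc

open CategoryTheory Limits IsLocalRing Groth.Agent.H29 Groth.Agent.H19.MinCx Groth.Agent.H19.Acyc

variable {R : Type u} [CommRing R] [IsNoetherianRing R] [IsLocalRing R]
  (X : ℕ → Type u) [∀ i, AddCommGroup (X i)] [∀ i, Module R (X i)] [∀ i, Module.Finite R (X i)]
  (δ : (i : ℕ) → X (i + 1) →ₗ[R] X i)

/-- Peskine–Szpiro acyclicity: a complex of modules of depth `≥ j` in position `j`, of length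
at most `e`, which is exact on the punctured spectrum, is exact in positive positions. -/
theorem exact_of_locally_exact (e : ℕ) (hzero : ∀ j, e < j → Subsingleton (X j))
    (hdepth : ∀ j, j ≤ e → (j : ℕ∞) ≤ LocCoh.idealDepth (maximalIdeal R) (X j))
    (hcomp : ∀ j v, δ j (δ (j + 1) v) = 0)
    (hloc : ∀ (j : ℕ) (Q : Ideal R) [Q.IsPrime], Q ≠ maximalIdeal R → ∀ v, δ j v = 0 →
      ∃ t, t ∉ Q ∧ t • v ∈ LinearMap.range (δ (j + 1))) :
    ∀ j, LinearMap.ker (δ j) = LinearMap.range (δ (j + 1)) := by
  suffices h : ∀ m j, e ≤ j + m → LinearMap.ker (δ j) = LinearMap.range (δ (j + 1)) from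
    fun j => h e j (by omega)
  intro m
  induction m with
  | zero =>
    intro j hj
    haveI := hzero (j + 1) (by omega)
    exact Subsingleton.elim _ _
  | succ m ih =>
    intro j hj
    have hcompj : ∀ v, δ (j + 1) v ∈ LinearMap.ker (δ j) := fun v => hcomp j v
    have hd := depth_homology_ge X δ e hzero hdepth j (fun j' hj' => ih j' (by omega)) hcompj
    set H := ↥(LinearMap.ker (δ j)) ⧸
      LinearMap.range ((δ (j + 1)).codRestrict (LinearMap.ker (δ j)) hcompj) with hH
    haveI : IsNoetherian R (X (j + 1)) := isNoetherian_of_isNoetherianRing_of_finite R _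
    haveI : Module.Finite R ↥(LinearMap.ker (δ j)) := Module.IsNoetherian.finite R _
    have hsub : Subsingleton H := by
      by_contra hns
      rw [not_subsingleton_iff_nontrivial] at hns
      have hfl : IsFiniteLength R H := by
        rw [← Groth.Agent.S16234.result]
        intro p hp
        by_contra hpm
        have hpne : p.asIdeal ≠ maximalIdeal R := by
          intro h
          apply hpm
          rw [h]
          exact maximalIdeal.isMaximal R
        apply (Module.notMem_support_iff' (R := R) (M := H) (p := p)).mpr _ hp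
        intro x
        obtain ⟨⟨v, hv⟩, rfl⟩ := Submodule.Quotient.mk_surjective _ x
        obtain ⟨t, htQ, w, hw⟩ := hloc j p.asIdeal hpne v hv
        refine ⟨t, htQ, ?_⟩
        rw [← Submodule.Quotient.mk_smul, Submodule.Quotient.mk_eq_zero]
        exact ⟨w, Subtype.ext hw⟩
      have h0 := idealDepth_eq_zero_of_isFiniteLength H hfl
      rw [h0] at hd
      exact absurd hd (by norm_num)
    apply le_antisymm
    · intro v hv
      have : (Submodule.Quotient.mk ⟨v, hv⟩ : H) = 0 := Subsingleton.elim _ _
      rw [Submodule.Quotient.mk_eq_zero] at this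
      obtain ⟨w, hw⟩ := this
      exact ⟨w, congrArg Subtype.val hw⟩
    · rintro _ ⟨w, rfl⟩
      exact hcomp j w

end Groth.Agent.H19.BEAcyc
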