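import Mathlib
import Groth.Prelude.Def_CAlgX

set_option autoImplicit false
universe u

namespace Groth.Agent.H19.BELoc

open Matrix

section loc

variable {R : Type u} [CommRing R] (M : Submonoid R) (L : Type*) [CommRing L] [Algebra R L]
  [IsLocalization M L]

theorem exists_clear {n : ℕ} (w : Fin n → L) :
    ∃ (s : M) (w' : Fin n → R), ∀ i, algebraMap R L (w' i) = (s : R) • w i := by
  obtain ⟨s, hs⟩ := IsLocalization.exist_integer_multiples_of_finite M w
  choose w' hw' using hs
  exact ⟨s, w', hw'⟩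

theorem map_mulVec_comp {S : Type*} [CommRing S] (f : R →+* S) {m n : ℕ} (A : Matrix (Fin m) (Fin n) R)
    (v : Fin n → R) : (A.map f).mulVec (f ∘ v) = f ∘ (A.mulVec v) := by
  funext i
  exact (RingHom.map_mulVec f A v i).symm

/-- if the localized pair is exact, then every cycle becomes a boundary after multiplying
by some element of `M`. -/
theorem smul_mem_range_of_exact {n₀ n₁ n₂ : ℕ} (A : Matrix (Fin n₀) (Fin n₁) R)
    (B : Matrix (Fin n₁) (Fin n₂) R)
    (hex : LinearMap.ker (A.map (algebraMap R L)).mulVecLin ≤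
      LinearMap.range (B.map (algebraMap R L)).mulVecLin)
    (v : Fin n₁ → R) (hv : A.mulVec v = 0) :
    ∃ t ∈ M, t • v ∈ LinearMap.range B.mulVecLin := by
  classical
  have hv' : (algebraMap R L) ∘ v ∈ LinearMap.ker (A.map (algebraMap R L)).mulVecLin := by
    rw [LinearMap.mem_ker, Matrix.mulVecLin_apply, map_mulVec_comp, hv]
    funext i
    simp
  obtain ⟨w, hw⟩ := hex hv'
  rw [Matrix.mulVecLin_apply] at hw
  obtain ⟨s, w', hw'⟩ := exists_clear M L w
  have h1 : (algebraMap R L) ∘ (B.mulVec w') = (algebraMap R L) ∘ ((s : R) • v) := by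
    rw [← map_mulVec_comp]
    have : (algebraMap R L) ∘ w' = (s : R) • w := funext hw'
    rw [this, Matrix.mulVec_smul, hw]
    funext i
    simp [Algebra.smul_def]
  have h2 : ∀ i, ∃ t : M, (t : R) * (B.mulVec w' i) = (t : R) * (((s : R) • v) i) := by
    intro i
    have := congrFun h1 i
    simp only [Function.comp_apply] at this
    exact (IsLocalization.eq_iff_exists M L).mp this
  choose t ht using h2
  refine ⟨(∏ i, (t i : R)) * s, M.mul_mem (M.prod_mem (fun i _ => (t i).2)) s.2,
    (∏ i, (t i : R)) • w', ?_⟩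
  rw [Matrix.mulVecLin_apply, Matrix.mulVec_smul]
  funext i
  have hi : (∏ j, (t j : R)) = (∏ j ∈ Finset.univ.erase i, (t j : R)) * (t i : R) := by
    rw [Finset.prod_erase_mul _ _ (Finset.mem_univ i)]
  simp only [Pi.smul_apply, smul_eq_mul]
  rw [hi, mul_assoc, ht i, mul_assoc, mul_assoc]
  simp [Pi.smul_apply, smul_eq_mul]

end loc

section global

variable {R : Type u} [CommRing R]

theorem exact_of_forall_maximal {n₀ n₁ n₂ : ℕ} (A : Matrix (Fin n₀) (Fin n₁) R)
    (B : Matrix (Fin n₁) (Fin n₂) R) (hAB : A * B = 0)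
    (h : ∀ (P : Ideal R) [P.IsMaximal],
      LinearMap.ker (A.map (algebraMap R (Localization.AtPrime P))).mulVecLin ≤
        LinearMap.range (B.map (algebraMap R (Localization.AtPrime P))).mulVecLin) :
    LinearMap.ker A.mulVecLin = LinearMap.range B.mulVecLin := by
  apply le_antisymm
  · intro v hv
    rw [LinearMap.mem_ker, Matrix.mulVecLin_apply] at hv
    set 𝔞 : Ideal R :=
      (LinearMap.range B.mulVecLin).comap (LinearMap.toSpanSingleton R (Fin n₁ → R) v) with h𝔞
    have hmem : ∀ a, a ∈ 𝔞 ↔ a • v ∈ LinearMap.range B.mulVecLin := by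
      intro a
      rw [h𝔞, Submodule.mem_comap, LinearMap.toSpanSingleton_apply]
    by_cases htop : 𝔞 = ⊤
    · have : (1 : R) ∈ 𝔞 := htop ▸ Submodule.mem_top
      have h1 : (1 : R) • v ∈ LinearMap.range B.mulVecLin := (hmem 1).mp this
      rwa [one_smul] at h1
    · obtain ⟨P, hP, hle⟩ := Ideal.exists_le_maximal 𝔞 htop
      haveI := hP
      obtain ⟨t, htP, ht⟩ := smul_mem_range_of_exact P.primeCompl (Localization.AtPrime P) A B
        (h P) v hv
      exact absurd (hle ((hmem t).mpr ht)) htP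
  · rintro _ ⟨w, rfl⟩
    rw [LinearMap.mem_ker, Matrix.mulVecLin_apply, Matrix.mulVecLin_apply, Matrix.mulVec_mulVec,
      hAB, Matrix.zero_mulVec]

theorem minorIdeal_map {S : Type u} [CommRing S] (f : R →+* S) {m n : Type} [Fintype m] [Fintype n]
    (A : Matrix m n R) (r : ℕ) :
    CAlgX.minorIdeal (A.map f) r = (CAlgX.minorIdeal A r).map f := by
  unfold CAlgX.minorIdeal
  rw [Ideal.map_span, ← Set.range_comp]
  congr 1
  ext x
  simp only [Set.mem_range, Function.comp_apply]
  constructor
  · rintro ⟨fg, rfl⟩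
    exact ⟨fg, by rw [RingHom.map_det, RingHom.mapMatrix_apply, Matrix.submatrix_map]⟩
  · rintro ⟨fg, rfl⟩
    exact ⟨fg, by rw [RingHom.map_det, RingHom.mapMatrix_apply, Matrix.submatrix_map]⟩

end global

end Groth.Agent.H19.BELoc
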