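import Mathlib
import Groth.Prelude.Def_CAlgX

set_option autoImplicit false
universe u

namespace Groth.Agent.H19.BESplit

open Matrix

section split

variable {R : Type u} [CommRing R]

/-- In a local ring, if the `r × r` minors generate the unit ideal then one of them is a unit. -/
theorem exists_unit_minor [IsLocalRing R] {n m : ℕ} (A : Matrix (Fin n) (Fin m) R) (r : ℕ)
    (h : CAlgX.minorIdeal A r = ⊤) :
    ∃ (f : Fin r → Fin n) (g : Fin r → Fin m), IsUnit (A.submatrix f g).det := by
  by_contra hcon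
  push Not at hcon
  have hle : CAlgX.minorIdeal A r ≤ IsLocalRing.maximalIdeal R := by
    unfold CAlgX.minorIdeal
    rw [Ideal.span_le]
    rintro _ ⟨fg, rfl⟩
    exact (IsLocalRing.mem_maximalIdeal _).mpr (hcon fg.1 fg.2)
  rw [h, top_le_iff] at hle
  exact (IsLocalRing.maximalIdeal.isMaximal R).ne_top hle

/-- the `(r+1) × (r+1)` minor obtained by bordering `f, g` with a row `i` and a column `c`. -/
theorem bordered_det {n m r : ℕ} (A : Matrix (Fin n) (Fin m) R) (f : Fin r → Fin n) (g : Fin r → Fin m)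
    (i : Fin n) (c : Fin m) [Invertible (A.submatrix f g)] :
    (A.submatrix (Sum.elim f (fun _ : Fin 1 => i) ∘ finSumFinEquiv.symm)
        (Sum.elim g (fun _ : Fin 1 => c) ∘ finSumFinEquiv.symm)).det =
      (A.submatrix f g).det *
        (A i c - ∑ j, A i (g j) * ∑ k, (⅟(A.submatrix f g)) j k * A (f k) c) := by
  have h1 : A.submatrix (Sum.elim f (fun _ : Fin 1 => i) ∘ finSumFinEquiv.symm)
      (Sum.elim g (fun _ : Fin 1 => c) ∘ finSumFinEquiv.symm) =
      (Matrix.fromBlocks (A.submatrix f g) (Matrix.of fun k (_ : Fin 1) => A (f k) c)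
        (Matrix.of fun (_ : Fin 1) j => A i (g j)) (Matrix.of fun (_ _ : Fin 1) => A i c)).submatrix
        finSumFinEquiv.symm finSumFinEquiv.symm := by
    ext a b
    simp only [Matrix.submatrix_apply, Function.comp_apply]
    rcases h : finSumFinEquiv.symm a with a' | a' <;> rcases h' : finSumFinEquiv.symm b with b' | b' <;>
      simp [Matrix.fromBlocks]
  rw [h1, Matrix.det_submatrix_equiv_self, Matrix.det_fromBlocks₁₁]
  congr 1
  rw [Matrix.det_fin_one]
  simp only [Matrix.sub_apply, Matrix.of_apply, Matrix.mul_apply]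
  congr 1
  simp only [Finset.sum_mul, Finset.mul_sum, mul_assoc]
  rw [Finset.sum_comm]

/-- Over a local ring, a matrix whose `r`-minors generate the unit ideal and whose `(r+1)`-minors
vanish has image equal to the image of a split injection from `R^r`. -/
theorem exists_split [IsLocalRing R] {n m : ℕ} (A : Matrix (Fin n) (Fin m) R) (r : ℕ)
    (h1 : CAlgX.minorIdeal A r = ⊤) (h2 : CAlgX.minorIdeal A (r + 1) = ⊥) :
    ∃ (T : (Fin r → R) →ₗ[R] (Fin n → R)) (q : (Fin n → R) →ₗ[R] (Fin r → R)),
      q ∘ₗ T = LinearMap.id ∧ LinearMap.range T = LinearMap.range A.mulVecLin := by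
  classical
  obtain ⟨f, g, hu⟩ := exists_unit_minor A r h1
  letI : Invertible (A.submatrix f g) := Matrix.invertibleOfIsUnitDet _ hu
  set T : (Fin r → R) →ₗ[R] (Fin n → R) := (A.submatrix id g).mulVecLin with hT
  set q : (Fin n → R) →ₗ[R] (Fin r → R) :=
    (⅟(A.submatrix f g)).mulVecLin ∘ₗ (LinearMap.funLeft R R f) with hq
  have hTapp : ∀ x i, T x i = ∑ j, A i (g j) * x j := fun x i => rfl
  refine ⟨T, q, ?_, ?_⟩
  · refine LinearMap.ext (fun x => ?_)
    rw [LinearMap.comp_apply, LinearMap.id_apply, hq, LinearMap.comp_apply, Matrix.mulVecLin_apply]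
    have : LinearMap.funLeft R R f (T x) = (A.submatrix f g).mulVec x := by
      funext k
      rfl
    rw [this, Matrix.mulVec_mulVec, invOf_mul_self, Matrix.one_mulVec]
  · apply le_antisymm
    · rintro _ ⟨x, rfl⟩
      refine ⟨fun c => ∑ j, if g j = c then x j else 0, ?_⟩
      funext i
      rw [Matrix.mulVecLin_apply, hTapp]
      change ∑ c, A i c * (∑ j, if g j = c then x j else 0) = _
      simp only [Finset.mul_sum]
      rw [Finset.sum_comm]
      refine Finset.sum_congr rfl (fun j _ => ?_)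
      simp
    · have hcol : ∀ c : Fin m, (fun i => A i c) ∈ LinearMap.range T := by
        intro c
        refine ⟨fun j => ∑ k, (⅟(A.submatrix f g)) j k * A (f k) c, ?_⟩
        funext i
        rw [hTapp]
        have hdet := bordered_det A f g i c
        have hmem : (A.submatrix (Sum.elim f (fun _ : Fin 1 => i) ∘ finSumFinEquiv.symm)
            (Sum.elim g (fun _ : Fin 1 => c) ∘ finSumFinEquiv.symm)).det ∈
            CAlgX.minorIdeal A (r + 1) :=
          Ideal.subset_span ⟨(_, _), rfl⟩
        rw [h2, Submodule.mem_bot, hdet] at hmem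
        have h3 := (hu.mul_right_eq_zero).mp hmem
        exact (sub_eq_zero.mp h3).symm
      rintro _ ⟨y, rfl⟩
      have : A.mulVecLin y = ∑ c, y c • (fun i => A i c) := by
        funext i
        rw [Matrix.mulVecLin_apply, Finset.sum_apply]
        simp only [Matrix.mulVec, dotProduct, Pi.smul_apply, smul_eq_mul]
        exact Finset.sum_congr rfl (fun c _ => mul_comm _ _)
      rw [this]
      exact Submodule.sum_mem _ (fun c _ => Submodule.smul_mem _ _ (hcol c))

end split

section exact

variable {R : Type u} [CommRing R]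

/-- exactness in the middle from split data on both sides and a rank count. -/
theorem exact_of_split {G F' : Type*} [AddCommGroup G] [Module R G] [AddCommGroup F'] [Module R F']
    {a b n : ℕ} (φ' : G →ₗ[R] (Fin n → R)) (φ : (Fin n → R) →ₗ[R] F') (hcomp : φ ∘ₗ φ' = 0)
    (T' : (Fin a → R) →ₗ[R] (Fin n → R)) (q' : (Fin n → R) →ₗ[R] (Fin a → R))
    (hq' : q' ∘ₗ T' = LinearMap.id) (hr' : LinearMap.range T' = LinearMap.range φ')
    (T : (Fin b → R) →ₗ[R] F') (q : F' →ₗ[R] (Fin b → R))
    (hq : q ∘ₗ T = LinearMap.id) (hr : LinearMap.range T = LinearMap.range φ)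
    (hab : a + b = n) : LinearMap.ker φ = LinearMap.range φ' := by
  subst hab
  have hφT' : ∀ w, φ (T' w) = 0 := by
    intro w
    have : T' w ∈ LinearMap.range φ' := hr' ▸ ⟨w, rfl⟩
    obtain ⟨g, hg⟩ := this
    rw [← hg]
    exact LinearMap.congr_fun hcomp g
  have hq'T' : ∀ w, q' (T' w) = w := fun w => LinearMap.congr_fun hq' w
  have hqT : ∀ w, q (T w) = w := fun w => LinearMap.congr_fun hq w
  set Ψ : (Fin (a + b) → R) →ₗ[R] (Fin a → R) × (Fin b → R) := q'.prod (q ∘ₗ φ) with hΨ
  have hΨsurj : Function.Surjective Ψ := by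
    rintro ⟨x, y⟩
    have : T y ∈ LinearMap.range φ := hr ▸ ⟨y, rfl⟩
    obtain ⟨z, hz⟩ := this
    refine ⟨T' (x - q' z) + z, ?_⟩
    rw [hΨ, LinearMap.prod_apply]
    show (q' (T' (x - q' z) + z), (q ∘ₗ φ) (T' (x - q' z) + z)) = (x, y)
    rw [LinearMap.comp_apply, map_add, map_add, hq'T', hφT', hz, zero_add, hqT]
    congr 1
    abel
  set i : (Fin (a + b) → R) ≃ₗ[R] (Fin a → R) × (Fin b → R) :=
    (LinearEquiv.funCongrLeft R R finSumFinEquiv) ≪≫ₗ
      (LinearEquiv.sumArrowLequivProdArrow (Fin a) (Fin b) R R) with hi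
  have hΨinj : Function.Injective Ψ :=
    OrzechProperty.injective_of_surjective_of_injective i.toLinearMap Ψ i.injective hΨsurj
  apply le_antisymm
  · intro v hv
    rw [LinearMap.mem_ker] at hv
    have h1 : Ψ v = Ψ (T' (q' v)) := by
      rw [hΨ, LinearMap.prod_apply, LinearMap.prod_apply]
      show (q' v, (q ∘ₗ φ) v) = (q' (T' (q' v)), (q ∘ₗ φ) (T' (q' v)))
      rw [LinearMap.comp_apply, LinearMap.comp_apply, hv, hq'T', hφT']
    rw [hΨinj h1, ← hr']
    exact ⟨_, rfl⟩
  · rintro _ ⟨g, rfl⟩
    exact LinearMap.congr_fun hcomp g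

end exact

end Groth.Agent.H19.BESplit
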