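import Mathlib
import Groth.Agent.H19.BEAcyc
import Groth.Agent.H19.BELoc
import Groth.Agent.H19.BESplit
import Groth.Agent.H29.RegGlobalDim

set_option autoImplicit false
universe u

namespace Groth.Agent.H19.BELocal

open Matrix IsLocalRing Groth.Agent.H19.BEAcyc Groth.Agent.H19.BELoc Groth.Agent.H19.BESplit

theorem projective_of_isCompl {R : Type u} [CommRing R] {F : Type u} [AddCommGroup F] [Module R F]
    [Module.Projective R F] (p q : Submodule R F) (h : IsCompl p q) : Module.Projective R ↥p := by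
  exact Module.Projective.of_split p.subtype (p.projectionOnto q h)
    (Submodule.projectionOnto_comp_subtype h)

theorem coe_mem_of_eq {R : Type u} [CommRing R] {F : Type*} [AddCommGroup F] [Module R F]
    {P Q : Submodule R F} (h : P = Q) (z : ↥P) : (z : F) ∈ Q := by
  subst h
  exact z.2

section acyclic

variable {R : Type u} [CommRing R] [IsLocalRing R] [IsNoetherianRing R]
  (n : ℕ → ℕ) (B : (i : ℕ) → Matrix (Fin (n i)) (Fin (n (i + 1))) R)

/-- the auxiliary family of submodules: everything below `s`, `C s` at `s`, nothing above. -/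
def N (s : ℕ) (C : (j : ℕ) → Submodule R (Fin (n j) → R)) (j : ℕ) : Submodule R (Fin (n j) → R) :=
  if j < s then ⊤ else if j = s then C j else ⊥

theorem N_lt (s : ℕ) (C : (j : ℕ) → Submodule R (Fin (n j) → R)) (j : ℕ) (h : j < s) :
    N n s C j = ⊤ := by
  unfold N
  rw [if_pos h]

theorem N_eq (s : ℕ) (C : (j : ℕ) → Submodule R (Fin (n j) → R)) : N n s C s = C s := by
  unfold N
  rw [if_neg (lt_irrefl s), if_pos rfl]

theorem N_gt (s : ℕ) (C : (j : ℕ) → Submodule R (Fin (n j) → R)) (j : ℕ) (h : s < j) :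
    N n s C j = ⊥ := by
  unfold N
  rw [if_neg (by omega), if_neg (by omega)]

theorem acyclic_part (hB : ∀ ℓ, B ℓ * B (ℓ + 1) = 0)
    (s : ℕ) (C : (j : ℕ) → Submodule R (Fin (n j) → R))
    (hC : IsCompl (LinearMap.range (B s).mulVecLin) (C s))
    (hdepth : (s : ℕ∞) ≤ LocCoh.idealDepth (maximalIdeal R) R)
    (hloc : ∀ (Q : Ideal R) [Q.IsPrime], Q ≠ maximalIdeal R → ∀ ℓ, ℓ < s →
      LinearMap.ker ((B ℓ).map (algebraMap R (Localization.AtPrime Q))).mulVecLin ≤
        LinearMap.range ((B (ℓ + 1)).map (algebraMap R (Localization.AtPrime Q))).mulVecLin) :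
    ∀ ℓ, ℓ < s → LinearMap.ker (B ℓ).mulVecLin = LinearMap.range (B (ℓ + 1)).mulVecLin := by
  classical
  have hBv : ∀ ℓ w, (B ℓ).mulVec ((B (ℓ + 1)).mulVec w) = 0 := by
    intro ℓ w
    rw [Matrix.mulVec_mulVec, hB, Matrix.zero_mulVec]
  have hmaps : ∀ j, ∀ v ∈ N n s C (j + 1), (B j).mulVecLin v ∈ N n s C j := by
    intro j v hv
    by_cases h1 : j < s
    · rw [N_lt n s C j h1]
      exact Submodule.mem_top
    · rw [N_gt n s C (j + 1) (by omega), Submodule.mem_bot] at hv
      rw [hv, map_zero]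
      exact Submodule.zero_mem _
  set δ : (j : ℕ) → ↥(N n s C (j + 1)) →ₗ[R] ↥(N n s C j) :=
    fun j => (B j).mulVecLin.restrict (hmaps j) with hδ
  have hδapp : ∀ j (v : ↥(N n s C (j + 1))), ((δ j v : ↥(N n s C j)) : Fin (n j) → R) = (B j).mulVec v.1 :=
    fun j v => rfl
  haveI : ∀ j, Module.Finite R ↥(N n s C j) := fun j => Module.IsNoetherian.finite R _
  have hzero : ∀ j, s < j → Subsingleton ↥(N n s C j) := by
    intro j hj
    refine ⟨fun x y => Subtype.ext ?_⟩
    have hx := (Submodule.mem_bot R).mp (coe_mem_of_eq (N_gt n s C j hj) x)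
    have hy := (Submodule.mem_bot R).mp (coe_mem_of_eq (N_gt n s C j hj) y)
    rw [hx, hy]
  have hproj : ∀ j, j ≤ s → Module.Projective R ↥(N n s C j) := by
    intro j hj
    rcases Nat.lt_or_ge j s with h | h
    · rw [N_lt n s C j h]
      exact projective_of_isCompl ⊤ ⊥ isCompl_top_bot
    · have : j = s := by omega
      subst this
      rw [N_eq]
      exact projective_of_isCompl _ _ hC.symm
  have hdepth' : ∀ j, j ≤ s → (j : ℕ∞) ≤ LocCoh.idealDepth (maximalIdeal R) ↥(N n s C j) := by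
    intro j hj
    haveI := hproj j hj
    refine le_trans ?_ (Groth.Agent.H29.idealDepth_le_idealDepth_of_flat (maximalIdeal R) ↥(N n s C j))
    exact le_trans (by exact_mod_cast hj) hdepth
  have hcomp : ∀ j v, δ j (δ (j + 1) v) = 0 := by
    intro j v
    apply Subtype.ext
    rw [hδapp, hδapp]
    exact hBv j _
  have hlocX : ∀ (j : ℕ) (Q : Ideal R) [Q.IsPrime], Q ≠ maximalIdeal R → ∀ v, δ j v = 0 →
      ∃ t, t ∉ Q ∧ t • v ∈ LinearMap.range (δ (j + 1)) := by
    intro j Q _ hQ v hv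
    have hv' : (B j).mulVec v.1 = 0 := by
      rw [← hδapp, hv]
      rfl
    by_cases hj : j < s
    · obtain ⟨t, htQ, w, hw⟩ := smul_mem_range_of_exact Q.primeCompl (Localization.AtPrime Q)
        (B j) (B (j + 1)) (hloc Q hQ j hj) v.1 hv'
      rw [Matrix.mulVecLin_apply] at hw
      refine ⟨t, htQ, ?_⟩
      rcases Nat.lt_or_ge (j + 1) s with h1 | h1
      · rcases Nat.lt_or_ge (j + 2) s with h2 | h2
        · refine ⟨⟨w, by rw [N_lt n s C (j + 2) h2]; exact Submodule.mem_top⟩, Subtype.ext ?_⟩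
          rw [hδapp]
          exact hw
        · have hs : s = j + 2 := by omega
          subst hs
          have hwtop : w ∈ LinearMap.range (B (j + 2)).mulVecLin ⊔ C (j + 2) := by
            rw [hC.sup_eq_top]
            exact Submodule.mem_top
          obtain ⟨u, ⟨u', hu'⟩, c, hc, huc⟩ := Submodule.mem_sup.mp hwtop
          refine ⟨⟨c, by rw [N_eq]; exact hc⟩, Subtype.ext ?_⟩
          rw [hδapp]
          show (B (j + 1)).mulVec c = t • v.1
          rw [← hw, ← huc, Matrix.mulVec_add, ← hu', Matrix.mulVecLin_apply, hBv, zero_add]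
      · have hs : s = j + 1 := by omega
        subst hs
        have hvC : v.1 ∈ C (j + 1) := coe_mem_of_eq (N_eq n (j + 1) C) v
        have h0 : t • v.1 = 0 := by
          have hmem1 : t • v.1 ∈ LinearMap.range (B (j + 1)).mulVecLin := ⟨w, hw⟩
          have hmem2 : t • v.1 ∈ C (j + 1) := Submodule.smul_mem _ _ hvC
          exact Submodule.disjoint_def.mp hC.disjoint _ hmem1 hmem2
        have : t • v = 0 := Subtype.ext h0
        rw [this]
        exact Submodule.zero_mem _
    · haveI := hzero (j + 1) (by omega)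
      refine ⟨1, fun h => ?_, ?_⟩
      · exact (Ideal.ne_top_iff_one Q).mp (Ideal.IsPrime.ne_top inferInstance) h
      · rw [Subsingleton.elim ((1 : R) • v) 0]
        exact Submodule.zero_mem _
  have hex := exact_of_locally_exact (fun j => ↥(N n s C j)) δ s hzero hdepth' hcomp hlocX
  intro ℓ hℓ
  apply le_antisymm
  · intro v hv
    rw [LinearMap.mem_ker, Matrix.mulVecLin_apply] at hv
    rcases Nat.lt_or_ge (ℓ + 1) s with h1 | h1
    · have hvN : v ∈ N n s C (ℓ + 1) := by rw [N_lt n s C (ℓ + 1) h1]; exact Submodule.mem_top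
      have hk : (⟨v, hvN⟩ : ↥(N n s C (ℓ + 1))) ∈ LinearMap.ker (δ ℓ) := by
        rw [LinearMap.mem_ker]
        apply Subtype.ext
        rw [hδapp]
        exact hv
      rw [hex ℓ] at hk
      obtain ⟨w, hw⟩ := hk
      refine ⟨w.1, ?_⟩
      rw [Matrix.mulVecLin_apply, ← hδapp, hw]
    · have hs : s = ℓ + 1 := by omega
      subst hs
      have hvtop : v ∈ LinearMap.range (B (ℓ + 1)).mulVecLin ⊔ C (ℓ + 1) := by
        rw [hC.sup_eq_top]
        exact Submodule.mem_top
      obtain ⟨u, ⟨u', hu'⟩, c, hc, huc⟩ := Submodule.mem_sup.mp hvtop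
      have hcN : c ∈ N n (ℓ + 1) C (ℓ + 1) := by rw [N_eq]; exact hc
      have hBc : (B ℓ).mulVec c = 0 := by
        have : (B ℓ).mulVec v = (B ℓ).mulVec u + (B ℓ).mulVec c := by
          rw [← huc, Matrix.mulVec_add]
        rw [hv, ← hu', Matrix.mulVecLin_apply, hBv, zero_add] at this
        exact this.symm
      have hk : (⟨c, hcN⟩ : ↥(N n (ℓ + 1) C (ℓ + 1))) ∈ LinearMap.ker (δ ℓ) := by
        rw [LinearMap.mem_ker]
        apply Subtype.ext
        rw [hδapp]
        exact hBc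
      rw [hex ℓ] at hk
      obtain ⟨w, hw⟩ := hk
      haveI := hzero (ℓ + 1 + 1) (by omega)
      rw [Subsingleton.elim w 0, map_zero] at hw
      have hc0 : c = 0 := (congrArg Subtype.val hw).symm
      rw [← huc, hc0, add_zero]
      exact ⟨u', hu'⟩
  · rintro _ ⟨w, rfl⟩
    rw [LinearMap.mem_ker, Matrix.mulVecLin_apply, Matrix.mulVecLin_apply]
    exact hBv ℓ w

end acyclic

section normalize

variable {R : Type u} [CommRing R] (e : ℕ) (n : ℕ → ℕ)
  (A : (i : ℕ) → Matrix (Fin (n i)) (Fin (n (i + 1))) R)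

/-- the complex extended by zero above position `e`. -/
def Bof (ℓ : ℕ) : Matrix (Fin (n ℓ)) (Fin (n (ℓ + 1))) R := if ℓ < e then A ℓ else 0

theorem Bof_lt (ℓ : ℕ) (h : ℓ < e) : Bof e n A ℓ = A ℓ := if_pos h

theorem Bof_ge (ℓ : ℕ) (h : e ≤ ℓ) : Bof e n A ℓ = 0 := if_neg (by omega)

theorem Bof_mul (hA : ∀ i, i + 2 ≤ e → A i * A (i + 1) = 0) (ℓ : ℕ) :
    Bof e n A ℓ * Bof e n A (ℓ + 1) = 0 := by
  rcases Nat.lt_or_ge (ℓ + 1) e with h | h
  · rw [Bof_lt e n A ℓ (by omega), Bof_lt e n A (ℓ + 1) h]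
    exact hA ℓ (by omega)
  · rw [Bof_ge e n A (ℓ + 1) h, Matrix.mul_zero]

theorem concl_of_Bof (he : 1 ≤ e)
    (h : ∀ ℓ, ℓ < e → LinearMap.ker (Bof e n A ℓ).mulVecLin =
      LinearMap.range (Bof e n A (ℓ + 1)).mulVecLin) :
    LinearMap.ker (A (e - 1)).mulVecLin = ⊥ ∧
      ∀ i, i + 2 ≤ e → LinearMap.ker (A i).mulVecLin = LinearMap.range (A (i + 1)).mulVecLin := by
  constructor
  · have h1 := h (e - 1) (by omega)
    rw [Bof_lt e n A (e - 1) (by omega), Bof_ge e n A (e - 1 + 1) (by omega)] at h1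
    rw [h1, LinearMap.range_eq_bot]
    ext v
    simp
  · intro i hi
    have h1 := h i (by omega)
    rwa [Bof_lt e n A i (by omega), Bof_lt e n A (i + 1) (by omega)] at h1

end normalize

section S18128

theorem local_step {R : Type u} [CommRing R] [IsLocalRing R] [IsNoetherianRing R]
    (e : ℕ) (he : 1 ≤ e) (n : ℕ → ℕ) (A : (i : ℕ) → Matrix (Fin (n i)) (Fin (n (i + 1))) R)
    (hA : ∀ i, i + 2 ≤ e → A i * A (i + 1) = 0)
    (rs : List R) (hlen : rs.length = e) (hmem : ∀ x ∈ rs, x ∈ IsLocalRing.maximalIdeal R)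
    (hreg : RingTheory.Sequence.IsRegular R rs)
    (hloc : ∀ (p : Ideal R) [p.IsPrime], p ≠ IsLocalRing.maximalIdeal R →
      LinearMap.ker ((A (e - 1)).map (algebraMap R (Localization.AtPrime p))).mulVecLin = ⊥ ∧
        ∀ i, i + 2 ≤ e →
          LinearMap.ker ((A i).map (algebraMap R (Localization.AtPrime p))).mulVecLin =
            LinearMap.range ((A (i + 1)).map (algebraMap R (Localization.AtPrime p))).mulVecLin) :
    LinearMap.ker (A (e - 1)).mulVecLin = ⊥ ∧
      ∀ i, i + 2 ≤ e → LinearMap.ker (A i).mulVecLin = LinearMap.range (A (i + 1)).mulVecLin := by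
  apply concl_of_Bof e n A he
  have hdepth : (e : ℕ∞) ≤ LocCoh.idealDepth (maximalIdeal R) R := by
    have htop : maximalIdeal R • (⊤ : Submodule R R) ≠ ⊤ := by
      rw [smul_eq_mul, Ideal.mul_top]
      exact (maximalIdeal.isMaximal R).ne_top
    exact (Groth.Agent.H29.le_idealDepth_iff (maximalIdeal R) R htop e).mpr
      ⟨rs, hlen, hreg.toIsWeaklyRegular, hmem⟩
  refine acyclic_part n (Bof e n A) (Bof_mul e n A hA) e (fun _ => ⊤) ?_ hdepth ?_
  · rw [Bof_ge e n A e le_rfl]
    have : LinearMap.range (Matrix.mulVecLin (0 : Matrix (Fin (n e)) (Fin (n (e + 1))) R)) = ⊥ := by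
      rw [LinearMap.range_eq_bot]
      ext v
      simp
    rw [this]
    exact isCompl_bot_top
  · intro Q _ hQ ℓ hℓ
    obtain ⟨h1, h2⟩ := hloc Q hQ
    rcases Nat.lt_or_ge (ℓ + 1) e with h | h
    · rw [Bof_lt e n A ℓ hℓ, Bof_lt e n A (ℓ + 1) h]
      exact (h2 ℓ (by omega)).le
    · have hℓe : ℓ = e - 1 := by omega
      subst hℓe
      rw [Bof_lt e n A (e - 1) hℓ, h1]
      exact bot_le

end S18128

end Groth.Agent.H19.BELocal
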