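import Mathlib
import Groth.Agent.H19.BELocal
import Groth.Agent.Lib.Lead.McCoy

set_option autoImplicit false
universe u

namespace Groth.Agent.H19.BEMain

open Matrix IsLocalRing Groth.Agent.H19.BEAcyc Groth.Agent.H19.BELoc Groth.Agent.H19.BESplit
  Groth.Agent.H19.BELocal

/-- the hypotheses of the Buchsbaum–Eisenbud criterion, for a complex extended by zero. -/
structure Hyp {R : Type u} [CommRing R] (e : ℕ) (n : ℕ → ℕ)
    (B : (i : ℕ) → Matrix (Fin (n i)) (Fin (n (i + 1))) R) (ρ : ℕ → ℕ) : Prop where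
  zero : ∀ ℓ, e ≤ ℓ → B ℓ = 0
  comp : ∀ ℓ, B ℓ * B (ℓ + 1) = 0
  rank_add : ∀ ℓ, ℓ < e → ρ ℓ + ρ (ℓ + 1) = n (ℓ + 1)
  rank_top : ρ e = 0
  minor_succ : ∀ ℓ, ℓ < e → CAlgX.minorIdeal (B ℓ) (ρ ℓ + 1) = ⊥
  minor : ∀ ℓ, ℓ < e → CAlgX.minorIdeal (B ℓ) (ρ ℓ) = ⊤ ∨
    ∃ rs : List R, rs.length = ℓ + 1 ∧ (∀ x ∈ rs, x ∈ CAlgX.minorIdeal (B ℓ) (ρ ℓ)) ∧
      RingTheory.Sequence.IsRegular R rs

theorem isCompl_of_split {R : Type u} [CommRing R] {E F : Type*} [AddCommGroup E] [Module R E]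
    [AddCommGroup F] [Module R F] (T : E →ₗ[R] F) (q : F →ₗ[R] E) (h : q ∘ₗ T = LinearMap.id) :
    IsCompl (LinearMap.range T) (LinearMap.ker q) := by
  have hqT : ∀ x, q (T x) = x := fun x => LinearMap.congr_fun h x
  constructor
  · rw [Submodule.disjoint_def]
    rintro _ ⟨x, rfl⟩ hx
    rw [LinearMap.mem_ker, hqT] at hx
    rw [hx, map_zero]
  · rw [codisjoint_iff, eq_top_iff]
    intro z _
    refine Submodule.mem_sup.mpr ⟨T (q z), ⟨_, rfl⟩, z - T (q z), ?_, by abel⟩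
    rw [LinearMap.mem_ker, map_sub, hqT, sub_self]

theorem minorIdeal_zero_eq_top {R : Type u} [CommRing R] {m n : ℕ} (A : Matrix (Fin m) (Fin n) R) :
    CAlgX.minorIdeal A 0 = ⊤ := by
  rw [Ideal.eq_top_iff_one]
  apply Ideal.subset_span
  refine ⟨(Fin.elim0, Fin.elim0), ?_⟩
  simp

theorem minorIdeal_zero_matrix {R : Type u} [CommRing R] {m n : ℕ} (r : ℕ) :
    CAlgX.minorIdeal (0 : Matrix (Fin m) (Fin n) R) (r + 1) = ⊥ := by
  unfold CAlgX.minorIdeal
  rw [Ideal.span_eq_bot]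
  rintro _ ⟨fg, rfl⟩
  have : (0 : Matrix (Fin m) (Fin n) R).submatrix fg.1 fg.2 = 0 := by
    ext i j
    simp
  simp only [this]
  exact Matrix.det_zero

section localBE

variable {R : Type u} [CommRing R] [IsLocalRing R] [IsNoetherianRing R]
  {e : ℕ} {n : ℕ → ℕ} {B : (i : ℕ) → Matrix (Fin (n i)) (Fin (n (i + 1))) R} {ρ : ℕ → ℕ}

theorem local_BE (h : Hyp e n B ρ)
    (hloc : ∀ (Q : Ideal R) [Q.IsPrime], Q ≠ maximalIdeal R → ∀ ℓ, ℓ < e →
      LinearMap.ker ((B ℓ).map (algebraMap R (Localization.AtPrime Q))).mulVecLin ≤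
        LinearMap.range ((B (ℓ + 1)).map (algebraMap R (Localization.AtPrime Q))).mulVecLin) :
    ∀ ℓ, ℓ < e → LinearMap.ker (B ℓ).mulVecLin = LinearMap.range (B (ℓ + 1)).mulVecLin := by
  classical
  -- split predicate
  have hPe : ∀ ℓ, e ≤ ℓ → ℓ ≤ e → CAlgX.minorIdeal (B ℓ) (ρ ℓ) = ⊤ := by
    intro ℓ h1 h2
    have : ℓ = e := by omega
    subst this
    rw [h.rank_top]
    exact minorIdeal_zero_eq_top _
  have hex : ∃ s, ∀ ℓ, s ≤ ℓ → ℓ ≤ e → CAlgX.minorIdeal (B ℓ) (ρ ℓ) = ⊤ := ⟨e, hPe⟩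
  set s := Nat.find hex with hs
  have hsP : ∀ ℓ, s ≤ ℓ → ℓ ≤ e → CAlgX.minorIdeal (B ℓ) (ρ ℓ) = ⊤ := Nat.find_spec hex
  have hse : s ≤ e := Nat.find_min' hex hPe
  have hsucc : ∀ ℓ, ℓ ≤ e → CAlgX.minorIdeal (B ℓ) (ρ ℓ + 1) = ⊥ := by
    intro ℓ hℓ
    rcases Nat.lt_or_ge ℓ e with h1 | h1
    · exact h.minor_succ ℓ h1
    · have : ℓ = e := by omega
      subst this
      rw [h.zero ℓ le_rfl]
      exact minorIdeal_zero_matrix _
  have hsplit : ∀ ℓ, s ≤ ℓ → ℓ ≤ e →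
      ∃ (T : (Fin (ρ ℓ) → R) →ₗ[R] (Fin (n ℓ) → R)) (q : (Fin (n ℓ) → R) →ₗ[R] (Fin (ρ ℓ) → R)),
        q ∘ₗ T = LinearMap.id ∧ LinearMap.range T = LinearMap.range (B ℓ).mulVecLin :=
    fun ℓ h1 h2 => exists_split (B ℓ) (ρ ℓ) (hsP ℓ h1 h2) (hsucc ℓ h2)
  have hcompLin : ∀ ℓ, (B ℓ).mulVecLin ∘ₗ (B (ℓ + 1)).mulVecLin = 0 := by
    intro ℓ
    rw [← Matrix.mulVecLin_mul, h.comp ℓ]
    ext v
    simp
  -- the upper part
  have hupper : ∀ ℓ, s ≤ ℓ → ℓ < e →
      LinearMap.ker (B ℓ).mulVecLin = LinearMap.range (B (ℓ + 1)).mulVecLin := by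
    intro ℓ h1 h2
    obtain ⟨T, q, hq, hr⟩ := hsplit ℓ h1 h2.le
    obtain ⟨T', q', hq', hr'⟩ := hsplit (ℓ + 1) (by omega) (by omega)
    refine exact_of_split (B (ℓ + 1)).mulVecLin (B ℓ).mulVecLin (hcompLin ℓ) T' q' hq' hr' T q hq hr ?_
    rw [add_comm]
    exact h.rank_add ℓ h2
  -- the lower part
  set C : (j : ℕ) → Submodule R (Fin (n j) → R) := fun j =>
    if hj : ∃ C', IsCompl (LinearMap.range (B j).mulVecLin) C' then hj.choose else ⊤ with hCdef
  have hC : IsCompl (LinearMap.range (B s).mulVecLin) (C s) := by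
    obtain ⟨T, q, hq, hr⟩ := hsplit s le_rfl hse
    have hj : ∃ C', IsCompl (LinearMap.range (B s).mulVecLin) C' :=
      ⟨LinearMap.ker q, hr ▸ isCompl_of_split T q hq⟩
    simp only [hCdef, dif_pos hj]
    exact hj.choose_spec
  have hdepth : (s : ℕ∞) ≤ LocCoh.idealDepth (maximalIdeal R) R := by
    rcases Nat.eq_zero_or_pos s with h0 | hpos
    · rw [h0]
      exact bot_le
    · have hnot := Nat.find_min hex (show s - 1 < s by omega)
      push Not at hnot
      obtain ⟨ℓ, h1, h2, h3⟩ := hnot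
      have hℓ : ℓ = s - 1 := by
        by_contra hne
        exact h3 (hsP ℓ (by omega) h2)
      subst hℓ
      rcases h.minor (s - 1) (by omega) with h4 | ⟨rs, hlen, hmem, hreg⟩
      · exact absurd h4 h3
      · have htop : maximalIdeal R • (⊤ : Submodule R R) ≠ ⊤ := by
          rw [smul_eq_mul, Ideal.mul_top]
          exact (maximalIdeal.isMaximal R).ne_top
        refine (Groth.Agent.H29.le_idealDepth_iff (maximalIdeal R) R htop s).mpr
          ⟨rs, by omega, hreg.toIsWeaklyRegular, fun x hx => ?_⟩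
        exact IsLocalRing.le_maximalIdeal h3 (hmem x hx)
  have hlower := acyclic_part n B h.comp s C hC hdepth
    (fun Q _ hQ ℓ hℓ => hloc Q hQ ℓ (by omega))
  intro ℓ hℓ
  rcases Nat.lt_or_ge ℓ s with h1 | h1
  · exact hlower ℓ h1
  · exact hupper ℓ h1 hℓ

end localBE

section induct

theorem Hyp.localize {R : Type u} [CommRing R] {e : ℕ} {n : ℕ → ℕ}
    {B : (i : ℕ) → Matrix (Fin (n i)) (Fin (n (i + 1))) R} {ρ : ℕ → ℕ} (h : Hyp e n B ρ)
    (Q : Ideal R) [Q.IsPrime] :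
    Hyp e n (fun ℓ => (B ℓ).map (algebraMap R (Localization.AtPrime Q))) ρ where
  zero := fun ℓ hℓ => by
    show (B ℓ).map _ = 0
    rw [h.zero ℓ hℓ]
    exact Matrix.map_zero _ (map_zero _)
  comp := fun ℓ => by
    show (B ℓ).map _ * (B (ℓ + 1)).map _ = 0
    rw [← Matrix.map_mul, h.comp ℓ]
    exact Matrix.map_zero _ (map_zero _)
  rank_add := h.rank_add
  rank_top := h.rank_top
  minor_succ := fun ℓ hℓ => by
    show CAlgX.minorIdeal ((B ℓ).map _) (ρ ℓ + 1) = ⊥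
    rw [minorIdeal_map, h.minor_succ ℓ hℓ, Ideal.map_bot]
  minor := fun ℓ hℓ => by
    show CAlgX.minorIdeal ((B ℓ).map _) (ρ ℓ) = ⊤ ∨ _
    rw [minorIdeal_map]
    rcases h.minor ℓ hℓ with h1 | ⟨rs, hlen, hmem, hreg⟩
    · left
      rw [h1, Ideal.map_top]
    · by_cases hle : CAlgX.minorIdeal (B ℓ) (ρ ℓ) ≤ Q
      · right
        refine ⟨rs.map (algebraMap R (Localization.AtPrime Q)), by rw [List.length_map, hlen], ?_, ?_⟩
        · intro x hx
          obtain ⟨r, hr, rfl⟩ := List.mem_map.mp hx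
          exact Ideal.mem_map_of_mem _ (hmem r hr)
        · exact RingTheory.Sequence.IsWeaklyRegular.isRegular_of_isLocalization_of_mem
            (Localization.AtPrime Q) Q hreg.toIsWeaklyRegular (fun r hr => hle (hmem r hr))
      · left
        obtain ⟨x, hxI, hxQ⟩ := SetLike.not_le_iff_exists.mp hle
        exact Ideal.eq_top_of_isUnit_mem _ (Ideal.mem_map_of_mem _ hxI)
          (IsLocalization.map_units (Localization.AtPrime Q) (⟨x, hxQ⟩ : Q.primeCompl))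

theorem height_atPrime {R : Type u} [CommRing R] (Q : Ideal R) [Q.IsPrime] :
    (maximalIdeal (Localization.AtPrime Q)).height = Q.height := by
  have h1 := IsLocalization.AtPrime.ringKrullDim_eq_height Q (Localization.AtPrime Q)
  rw [← IsLocalRing.maximalIdeal_height_eq_ringKrullDim] at h1
  exact_mod_cast h1

theorem BE_of_height_le (d : ℕ) : ∀ (R : Type u) [CommRing R] [IsLocalRing R] [IsNoetherianRing R],
    (maximalIdeal R).height ≤ d → ∀ (e : ℕ) (n : ℕ → ℕ)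
      (B : (i : ℕ) → Matrix (Fin (n i)) (Fin (n (i + 1))) R) (ρ : ℕ → ℕ), Hyp e n B ρ →
      ∀ ℓ, ℓ < e → LinearMap.ker (B ℓ).mulVecLin = LinearMap.range (B (ℓ + 1)).mulVecLin := by
  induction d with
  | zero =>
    intro R _ _ _ hd e n B ρ h
    apply local_BE h
    intro Q _ hQ ℓ hℓ
    exfalso
    have hlt : Q < maximalIdeal R := lt_of_le_of_ne (IsLocalRing.le_maximalIdeal (Ideal.IsPrime.ne_top inferInstance)) hQ
    have h1 := Ideal.height_add_one_le_of_lt_of_isPrime hlt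
    have h2 := h1.trans hd
    simp at h2
  | succ d ih =>
    intro R _ _ _ hd e n B ρ h
    apply local_BE h
    intro Q _ hQ ℓ hℓ
    have hlt : Q < maximalIdeal R := lt_of_le_of_ne (IsLocalRing.le_maximalIdeal (Ideal.IsPrime.ne_top inferInstance)) hQ
    have h1 := Ideal.height_add_one_le_of_lt_of_isPrime hlt
    have h2 : Q.height + 1 ≤ ((d : ℕ∞) + 1) := by
      refine h1.trans (hd.trans ?_)
      push_cast
      exact le_rfl
    have h3 : Q.height ≤ d := by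
      induction hx : Q.height using ENat.recTopCoe with
      | top => rw [hx] at h2; simp at h2
      | coe m =>
        rw [hx] at h2
        have : m + 1 ≤ d + 1 := by exact_mod_cast h2
        exact_mod_cast (by omega : m ≤ d)
    haveI : IsNoetherianRing (Localization.AtPrime Q) :=
      IsLocalization.isNoetherianRing Q.primeCompl _ inferInstance
    have := ih (Localization.AtPrime Q) (by rw [height_atPrime]; exact h3) e n _ ρ (h.localize Q) ℓ hℓ
    exact this.le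

theorem BE_global {R : Type u} [CommRing R] [IsNoetherianRing R] {e : ℕ} {n : ℕ → ℕ}
    {B : (i : ℕ) → Matrix (Fin (n i)) (Fin (n (i + 1))) R} {ρ : ℕ → ℕ} (h : Hyp e n B ρ) :
    ∀ ℓ, ℓ < e → LinearMap.ker (B ℓ).mulVecLin = LinearMap.range (B (ℓ + 1)).mulVecLin := by
  intro ℓ hℓ
  apply exact_of_forall_maximal (B ℓ) (B (ℓ + 1)) (h.comp ℓ)
  intro P hP
  haveI : IsNoetherianRing (Localization.AtPrime P) :=
    IsLocalization.isNoetherianRing P.primeCompl _ inferInstance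
  have hfin : (maximalIdeal (Localization.AtPrime P)).height ≠ ⊤ := by
    rw [height_atPrime]
    exact Ideal.height_ne_top (Ideal.IsPrime.ne_top inferInstance)
  obtain ⟨d, hd⟩ := ENat.ne_top_iff_exists.mp hfin
  exact (BE_of_height_le d (Localization.AtPrime P) (by rw [← hd]) e n _ ρ (h.localize P) ℓ hℓ).le

end induct

section final

theorem minorIdeal_rank_succ {R : Type u} [CommRing R] {m n : ℕ} (A : Matrix (Fin n) (Fin m) R) :
    CAlgX.minorIdeal A (CAlgX.matrixRank A + 1) = ⊥ := by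
  by_contra hne
  have hbdd : BddAbove {r : ℕ | CAlgX.minorIdeal A r ≠ ⊥} := by
    refine ⟨m, fun r hr => ?_⟩
    by_contra hlt
    push Not at hlt
    exact hr (Groth.Agent.Lib.Lead.McCoy.minorIdeal_eq_bot_of_lt A hlt)
  have h1 : CAlgX.matrixRank A + 1 ≤ CAlgX.matrixRank A := le_csSup hbdd hne
  omega

theorem main {R : Type u} [CommRing R] [IsNoetherianRing R]
    (e : ℕ) (he : 1 ≤ e) (n : ℕ → ℕ) (A : (i : ℕ) → Matrix (Fin (n i)) (Fin (n (i + 1))) R)
    (hA : ∀ i, i + 2 ≤ e → A i * A (i + 1) = 0)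
    (hrank : ∀ j, 1 ≤ j → j ≤ e →
      (CAlgX.matrixRank (A (j - 1)) : ℤ) = ∑ t ∈ Finset.Icc j e, (-1 : ℤ) ^ (t - j) * (n t : ℤ))
    (hdet : ∀ j, 1 ≤ j → j ≤ e →
      CAlgX.detIdeal (A (j - 1)) = ⊤ ∨
        ∃ rs : List R, rs.length = j ∧ (∀ r ∈ rs, r ∈ CAlgX.detIdeal (A (j - 1))) ∧
          RingTheory.Sequence.IsRegular R rs) :
    LinearMap.ker (A (e - 1)).mulVecLin = ⊥ ∧
      ∀ i, i + 2 ≤ e → LinearMap.ker (A i).mulVecLin = LinearMap.range (A (i + 1)).mulVecLin := by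
  apply concl_of_Bof e n A he
  set ρ : ℕ → ℕ := fun ℓ => if ℓ < e then CAlgX.matrixRank (A ℓ) else 0 with hρ
  have hρlt : ∀ ℓ, ℓ < e → ρ ℓ = CAlgX.matrixRank (A ℓ) := fun ℓ h => if_pos h
  have hρge : ∀ ℓ, e ≤ ℓ → ρ ℓ = 0 := fun ℓ h => if_neg (by omega)
  have hrank' : ∀ ℓ, ℓ < e → (CAlgX.matrixRank (A ℓ) : ℤ) =
      ∑ t ∈ Finset.Icc (ℓ + 1) e, (-1 : ℤ) ^ (t - (ℓ + 1)) * (n t : ℤ) := by
    intro ℓ hℓ
    exact hrank (ℓ + 1) (by omega) (by omega)
  have hyp : Hyp e n (Bof e n A) ρ :=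
    { zero := fun ℓ hℓ => Bof_ge e n A ℓ hℓ
      comp := Bof_mul e n A hA
      rank_add := by
        intro ℓ hℓ
        have h1 := hrank' ℓ hℓ
        rw [hρlt ℓ hℓ]
        rcases Nat.lt_or_ge (ℓ + 1) e with h | h
        · rw [hρlt (ℓ + 1) h]
          have h2 := hrank' (ℓ + 1) h
          rw [← Finset.sum_Ioc_add_eq_sum_Icc (by omega : ℓ + 1 ≤ e)] at h1
          have h3 : Finset.Ioc (ℓ + 1) e = Finset.Icc (ℓ + 1 + 1) e := by
            ext t
            simp only [Finset.mem_Ioc, Finset.mem_Icc]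
            omega
          rw [h3] at h1
          have h4 : ∑ t ∈ Finset.Icc (ℓ + 1 + 1) e, (-1 : ℤ) ^ (t - (ℓ + 1)) * (n t : ℤ) =
              - ∑ t ∈ Finset.Icc (ℓ + 1 + 1) e, (-1 : ℤ) ^ (t - (ℓ + 1 + 1)) * (n t : ℤ) := by
            rw [← Finset.sum_neg_distrib]
            refine Finset.sum_congr rfl (fun t ht => ?_)
            rw [Finset.mem_Icc] at ht
            have : t - (ℓ + 1) = (t - (ℓ + 1 + 1)) + 1 := by omega
            rw [this, pow_succ]
            ring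
          rw [h4, ← h2, Nat.sub_self, pow_zero, one_mul] at h1
          have : (CAlgX.matrixRank (A ℓ) : ℤ) + (CAlgX.matrixRank (A (ℓ + 1)) : ℤ) = (n (ℓ + 1) : ℤ) := by
            rw [h1]
            ring
          exact_mod_cast this
        · have hℓe : e = ℓ + 1 := by omega
          rw [hρge (ℓ + 1) h, add_zero]
          rw [hℓe, Finset.Icc_self, Finset.sum_singleton, Nat.sub_self, pow_zero, one_mul] at h1
          exact_mod_cast h1
      rank_top := hρge e le_rfl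
      minor_succ := by
        intro ℓ hℓ
        rw [Bof_lt e n A ℓ hℓ, hρlt ℓ hℓ]
        exact minorIdeal_rank_succ (A ℓ)
      minor := by
        intro ℓ hℓ
        rw [Bof_lt e n A ℓ hℓ, hρlt ℓ hℓ]
        exact hdet (ℓ + 1) (by omega) (by omega) }
  exact BE_global hyp

end final

end Groth.Agent.H19.BEMain
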