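import Mathlib
import Groth.Agent.H19.BEMain
import Groth.Agent.Lib.Helper12.CauchyBinet

set_option autoImplicit false
universe u

namespace Groth.Agent.H19.BEMinor

open Matrix Groth.Agent.H19.BESplit Groth.Agent.H19.BEMain

variable {R : Type u} [CommRing R]

theorem minorIdeal_mul_le_left {a b c : ℕ} (X : Matrix (Fin a) (Fin b) R) (Y : Matrix (Fin b) (Fin c) R)
    (t : ℕ) : CAlgX.minorIdeal (X * Y) t ≤ CAlgX.minorIdeal X t := by
  unfold CAlgX.minorIdeal
  rw [Ideal.span_le]
  rintro _ ⟨fg, rfl⟩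
  show ((X * Y).submatrix fg.1 fg.2).det ∈ Ideal.span _
  rw [Matrix.submatrix_mul X Y fg.1 id fg.2 Function.bijective_id,
    Groth.Agent.Helper12.CauchyBinet.det_mul_expand]
  refine Ideal.sum_mem _ (fun p _ => Ideal.mul_mem_right _ _ (Ideal.subset_span ?_))
  exact ⟨(fg.1, p), rfl⟩

theorem minorIdeal_transpose {a b : ℕ} (X : Matrix (Fin a) (Fin b) R) (t : ℕ) :
    CAlgX.minorIdeal Xᵀ t = CAlgX.minorIdeal X t := by
  unfold CAlgX.minorIdeal
  congr 1
  ext x
  constructor
  · rintro ⟨fg, rfl⟩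
    refine ⟨(fg.2, fg.1), ?_⟩
    show (X.submatrix fg.2 fg.1).det = (Xᵀ.submatrix fg.1 fg.2).det
    rw [← Matrix.det_transpose, Matrix.transpose_submatrix]
  · rintro ⟨fg, rfl⟩
    refine ⟨(fg.2, fg.1), ?_⟩
    show (Xᵀ.submatrix fg.2 fg.1).det = (X.submatrix fg.1 fg.2).det
    rw [← Matrix.det_transpose (X.submatrix fg.1 fg.2), Matrix.transpose_submatrix]

theorem minorIdeal_mul_le_right {a b c : ℕ} (X : Matrix (Fin a) (Fin b) R) (Y : Matrix (Fin b) (Fin c) R)
    (t : ℕ) : CAlgX.minorIdeal (X * Y) t ≤ CAlgX.minorIdeal Y t := by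
  rw [← minorIdeal_transpose (X * Y), Matrix.transpose_mul, ← minorIdeal_transpose Y]
  exact minorIdeal_mul_le_left _ _ t

theorem main (R : Type u) [CommRing R] [IsLocalRing R] (n m r : ℕ)
    (hr : 1 ≤ r) (hrn : r ≤ n) (A : Matrix (Fin n) (Fin m) R) :
    (∃ N' : Submodule R (Fin n → R), IsCompl (LinearMap.range (Matrix.mulVecLin A)) N' ∧
        Module.finrank R (LinearMap.range (Matrix.mulVecLin A)) = r) ↔
      (CAlgX.minorIdeal A (r + 1) = ⊥ ∧ CAlgX.minorIdeal A r = ⊤) := by
  classical
  constructor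
  · rintro ⟨N', hc, hfr⟩
    set U := LinearMap.range (Matrix.mulVecLin A) with hU
    haveI : Module.Projective R ↥U := Groth.Agent.H19.BELocal.projective_of_isCompl U N' hc
    haveI : Module.Finite R ↥U := Module.Finite.range _
    haveI : Module.Free R ↥U := Module.free_of_flat_of_isLocalRing
    let b : Module.Basis (Fin r) R ↥U := Module.finBasisOfFinrankEq R ↥U hfr
    -- the linear maps
    let jl : (Fin r → R) →ₗ[R] (Fin n → R) := U.subtype ∘ₗ b.equivFun.symm.toLinearMap
    let ql : (Fin m → R) →ₗ[R] (Fin r → R) := b.equivFun.toLinearMap ∘ₗ (Matrix.mulVecLin A).rangeRestrict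
    let pl : (Fin n → R) →ₗ[R] (Fin r → R) := b.equivFun.toLinearMap ∘ₗ (U.projectionOnto N' hc)
    have hjq : jl ∘ₗ ql = Matrix.mulVecLin A := by
      refine LinearMap.ext (fun v => ?_)
      simp only [jl, ql, LinearMap.comp_apply, LinearEquiv.coe_coe, LinearEquiv.symm_apply_apply,
        Submodule.subtype_apply, LinearMap.codRestrict_apply, LinearMap.rangeRestrict]
    have hpj : pl ∘ₗ jl = LinearMap.id := by
      refine LinearMap.ext (fun v => ?_)
      simp only [pl, jl, LinearMap.comp_apply, LinearEquiv.coe_coe, Submodule.subtype_apply,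
        Submodule.projectionOnto_apply_left, LinearEquiv.apply_symm_apply, LinearMap.id_apply]
    have hqsurj : Function.Surjective ql := by
      intro y
      obtain ⟨v, hv⟩ := (Matrix.mulVecLin A).surjective_rangeRestrict (b.equivFun.symm y)
      exact ⟨v, by simp only [ql, LinearMap.comp_apply, hv, LinearEquiv.coe_coe, LinearEquiv.apply_symm_apply]⟩
    obtain ⟨sl, hsl⟩ := LinearMap.exists_rightInverse_of_surjective ql (LinearMap.range_eq_top.mpr hqsurj)
    set J := LinearMap.toMatrix' jl with hJ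
    set Q := LinearMap.toMatrix' ql with hQ
    set P := LinearMap.toMatrix' pl with hP
    set Sg := LinearMap.toMatrix' sl with hSg
    have hA : A = J * Q := by
      rw [hJ, hQ, ← LinearMap.toMatrix'_comp, hjq]
      exact (LinearMap.toMatrix'_toLin' A).symm
    have hPJ : P * J = 1 := by
      rw [hP, hJ, ← LinearMap.toMatrix'_comp, hpj, LinearMap.toMatrix'_id]
    have hQS : Q * Sg = 1 := by
      rw [hQ, hSg, ← LinearMap.toMatrix'_comp, hsl, LinearMap.toMatrix'_id]
    constructor
    · rw [hA]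
      refine le_bot_iff.mp ((minorIdeal_mul_le_left J Q (r + 1)).trans ?_)
      rw [Groth.Agent.Lib.Lead.McCoy.minorIdeal_eq_bot_of_lt J (Nat.lt_succ_self r)]
    · rw [Ideal.eq_top_iff_one]
      have hW : P * A * Sg = 1 := by
        rw [hA, ← Matrix.mul_assoc, hPJ, Matrix.one_mul, hQS]
      have h1 : (1 : R) ∈ CAlgX.minorIdeal (P * A * Sg) r := by
        rw [hW]
        apply Ideal.subset_span
        refine ⟨(id, id), ?_⟩
        simp
      have h2 := (minorIdeal_mul_le_left (P * A) Sg r).trans (minorIdeal_mul_le_right P A r)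
      exact h2 h1
  · rintro ⟨h2, h1⟩
    obtain ⟨T, q, hq, hrange⟩ := exists_split A r h1 h2
    refine ⟨LinearMap.ker q, hrange ▸ isCompl_of_split T q hq, ?_⟩
    rw [← hrange]
    have hinj : Function.Injective T := by
      intro x y hxy
      have := congrArg q hxy
      rwa [← LinearMap.comp_apply, ← LinearMap.comp_apply, hq] at this
    rw [← (LinearEquiv.ofInjective T hinj).finrank_eq, Module.finrank_fin_fun]

end Groth.Agent.H19.BEMinor
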