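import Mathlib
import Groth.Prelude.Def_CAlg
import Groth.Agent.H29.CMLib
import Groth.Agent.H29.RegLocal3
import Groth.Agent.H29.HeightQuot
import Groth.Agent.H29.Depth
import Groth.Agent.Lib.Helper7.SatChain

set_option autoImplicit false
universe u

namespace Groth.Agent.H19.CISat

open MvPolynomial Groth.Agent.H29
open scoped Pointwise

theorem exists_regular_of_height (A : Type u) [CommRing A] [hCM : LocCoh.IsCohenMacaulayLocalRing A]
    (N : ℕ) (hN : ringKrullDim A = N) (xs : List A)
    (hmem : ∀ x ∈ xs, x ∈ IsLocalRing.maximalIdeal A)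
    (hht : (xs.length : ℕ∞) ≤ (Ideal.ofList xs).height) (hlt : xs.length < N) :
    ∃ x ∈ IsLocalRing.maximalIdeal A, ∀ g : A, x * g ∈ Ideal.ofList xs → g ∈ Ideal.ofList xs := by
  set I := Ideal.ofList xs with hI
  have hIle : I ≤ IsLocalRing.maximalIdeal A := by
    rw [hI, Ideal.span_le]; exact fun x hx => hmem x hx
  have hItop : I ≠ ⊤ := fun h =>
    (IsLocalRing.maximalIdeal.isMaximal A).ne_top (top_le_iff.mp (h ▸ hIle))
  haveI : Nontrivial (A ⧸ I) := Ideal.Quotient.nontrivial_iff.mpr hItop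
  haveI : IsLocalRing (A ⧸ I) :=
    IsLocalRing.of_surjective' (Ideal.Quotient.mk I) Ideal.Quotient.mk_surjective
  -- height inequality
  have h1 : I.height + (IsLocalRing.maximalIdeal (A ⧸ I)).height ≤
      ((IsLocalRing.maximalIdeal (A ⧸ I)).comap (Ideal.Quotient.mk I)).height :=
    height_add_height_le_height_comap (Ideal.Quotient.mk I) Ideal.Quotient.mk_surjective I
      (by rw [Ideal.mk_ker]) _
  have hcomap : (IsLocalRing.maximalIdeal (A ⧸ I)).comap (Ideal.Quotient.mk I) =
      IsLocalRing.maximalIdeal A := by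
    haveI : ((IsLocalRing.maximalIdeal (A ⧸ I)).comap (Ideal.Quotient.mk I)).IsMaximal :=
      Ideal.comap_isMaximal_of_surjective _ Ideal.Quotient.mk_surjective
    exact IsLocalRing.eq_maximalIdeal this
  rw [hcomap] at h1
  have hA : (IsLocalRing.maximalIdeal A).height = (N : ℕ∞) := by
    have := IsLocalRing.maximalIdeal_height_eq_ringKrullDim (R := A)
    rw [hN, ← WithBot.coe_natCast, WithBot.coe_inj] at this
    exact this
  rw [hA] at h1
  have h2 : (xs.length : ℕ∞) + (IsLocalRing.maximalIdeal (A ⧸ I)).height ≤ N :=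
    le_trans (add_le_add_left hht _) h1
  obtain ⟨m, hm⟩ : ∃ m : ℕ, (IsLocalRing.maximalIdeal (A ⧸ I)).height = m := by
    have hne : (IsLocalRing.maximalIdeal (A ⧸ I)).height ≠ ⊤ := by
      intro htop
      rw [htop, add_top] at h2
      exact absurd h2 (by simp)
    obtain ⟨m, hm⟩ := ENat.ne_top_iff_exists.mp hne
    exact ⟨m, hm.symm⟩
  rw [hm] at h2
  have h2' : xs.length + m ≤ N := by exact_mod_cast h2
  have hdimq : ringKrullDim (A ⧸ I) = (m : WithBot ℕ∞) := by
    rw [← IsLocalRing.maximalIdeal_height_eq_ringKrullDim, hm]; rfl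
  have hItop' : Ideal.ofList xs • (⊤ : Submodule A A) = I := by
    rw [smul_eq_mul, Ideal.mul_top]
  have hsd : Module.supportDim A (A ⧸ Ideal.ofList xs • (⊤ : Submodule A A)) = (m : WithBot ℕ∞) := by
    rw [Module.supportDim_eq_of_equiv (Submodule.quotEquivOfEq _ _ hItop'),
      Module.supportDim_quotient_eq_ringKrullDim, hdimq]
  have h3 := supportDim_le_supportDim_quotient_add_length A xs A hmem
  rw [hsd, Module.supportDim_self_eq_ringKrullDim, hN] at h3
  have h3' : N ≤ m + xs.length := by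
    have : ((N : ℕ) : WithBot ℕ∞) ≤ ((m + xs.length : ℕ) : WithBot ℕ∞) := by
      rw [withBot_natCast_add]; exact h3
    exact withBot_natCast_le.mp this
  have hCMmod : LocCoh.IsCohenMacaulayModule A A := hCM.supportDim_eq_depth
  have heq : Module.supportDim A (A ⧸ Ideal.ofList xs • (⊤ : Submodule A A)) + xs.length =
      Module.supportDim A A := by
    rw [hsd, Module.supportDim_self_eq_ringKrullDim, hN, ← withBot_natCast_add]
    congr 1
    omega
  have hreg := isWeaklyRegular_of_supportDim_quotient_add_length A xs A hCMmod hmem heq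
  have hCMq := isCohenMacaulayModule_quotient_of_isWeaklyRegular A xs A hCMmod hmem hreg
  have hdepth : LocCoh.depth A (A ⧸ Ideal.ofList xs • (⊤ : Submodule A A)) ≠ 0 := by
    intro h0
    have : Module.supportDim A (A ⧸ Ideal.ofList xs • (⊤ : Submodule A A)) = _ := hCMq
    rw [hsd, h0] at this
    have hm0 : m = 0 := by
      have : ((m : ℕ) : WithBot ℕ∞) = ((0 : ℕ) : WithBot ℕ∞) := by rw [this]; rfl
      exact withBot_natCast_inj this
    omega
  haveI : Nontrivial (A ⧸ Ideal.ofList xs • (⊤ : Submodule A A)) := by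
    rw [hItop']; infer_instance
  rw [Ne, depth_eq_zero_iff] at hdepth
  push Not at hdepth
  obtain ⟨x, hx, hxreg⟩ := hdepth
  refine ⟨x, hx, fun g hg => ?_⟩
  have : x • (Submodule.Quotient.mk g : A ⧸ Ideal.ofList xs • (⊤ : Submodule A A)) = x • 0 := by
    rw [smul_zero, ← Submodule.Quotient.mk_smul, Submodule.Quotient.mk_eq_zero, hItop', smul_eq_mul]
    exact hg
  have h0 := hxreg this
  rw [Submodule.Quotient.mk_eq_zero, hItop'] at h0
  exact h0


section Poly

variable (k : Type u) [Field k] (n : ℕ)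

/-- The irrelevant maximal ideal. -/
noncomputable def irr : Ideal (MvPolynomial (Fin (n + 1)) k) :=
  RingHom.ker (MvPolynomial.constantCoeff (R := k) (σ := Fin (n + 1)))

instance irr_isMaximal : (irr k n).IsMaximal :=
  RingHom.ker_isMaximal_of_surjective _ (fun c => ⟨C c, by simp⟩)

theorem irr_le_of_X_mem (P : Ideal (MvPolynomial (Fin (n + 1)) k)) (h : ∀ i, X i ∈ P) :
    irr k n ≤ P := by
  intro p hp
  have hp' : p ∈ Ideal.span (X '' (Set.univ : Set (Fin (n + 1))) :
      Set (MvPolynomial (Fin (n + 1)) k)) := by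
    rw [mem_ideal_span_X_image]
    intro m hm
    have hm0 : m ≠ 0 := by
      rintro rfl
      rw [mem_support_iff] at hm
      apply hm
      have : constantCoeff p = 0 := hp
      rwa [constantCoeff_eq] at this
    obtain ⟨i, hi⟩ := Finsupp.ne_iff.mp hm0
    exact ⟨i, Set.mem_univ _, by simpa using hi⟩
  exact (Ideal.span_le.mpr (by rintro _ ⟨i, -, rfl⟩; exact h i)) hp'

theorem mem_irr_of_isHomogeneous {f : MvPolynomial (Fin (n + 1)) k} {d : ℕ}
    (hf : f.IsHomogeneous d) (hd : 0 < d) : f ∈ irr k n := by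
  rw [irr, RingHom.mem_ker, constantCoeff_eq]
  apply hf.coeff_eq_zero
  simp
  omega

theorem height_irr : (irr k n).height = ((n + 1 : ℕ) : ℕ∞) :=
  Groth.Agent.Helper7.SatChain.maxht k (n + 1) _ inferInstance


theorem main (r : ℕ)
    (hr : r ≤ n) (f : Fin r → MvPolynomial (Fin (n + 1)) k) (d : Fin r → ℕ)
    (hf : ∀ i, (f i).IsHomogeneous (d i)) (hd : ∀ i, 0 < d i)
    (hJ : (Ideal.span (Set.range f)).height = r) (g : MvPolynomial (Fin (n + 1)) k)
    (hg : ∀ i : Fin (n + 1), ∃ m : ℕ, MvPolynomial.X i ^ m * g ∈ Ideal.span (Set.range f)) :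
    g ∈ Ideal.span (Set.range f) := by
  set J := Ideal.span (Set.range f) with hJdef
  let A := Localization.AtPrime (irr k n)
  haveI : IsRegularLocalRing A := inferInstance
  haveI hCM : LocCoh.IsCohenMacaulayLocalRing A :=
    isCohenMacaulayLocalRing_of_isRegularLocalRing A
  have hdim : ringKrullDim A = ((n + 1 : ℕ) : WithBot ℕ∞) := by
    rw [IsLocalization.AtPrime.ringKrullDim_eq_height (irr k n) A, height_irr]; rfl
  let xs : List A := List.ofFn (fun i => algebraMap _ A (f i))
  have hxs : Ideal.ofList xs = J.map (algebraMap _ A) := by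
    have hset : {a | a ∈ xs} = (algebraMap _ A) '' Set.range f := by
      ext a
      simp only [xs, List.mem_ofFn, Set.mem_setOf_eq, Set.mem_image, Set.mem_range]
      constructor
      · rintro ⟨i, rfl⟩; exact ⟨f i, ⟨i, rfl⟩, rfl⟩
      · rintro ⟨_, ⟨i, rfl⟩, rfl⟩; exact ⟨i, rfl⟩
    rw [hJdef, Ideal.map_span, ← hset]
  have hmem : ∀ x ∈ xs, x ∈ IsLocalRing.maximalIdeal A := by
    intro x hx
    obtain ⟨i, rfl⟩ := List.mem_ofFn.mp hx
    rw [← Localization.AtPrime.map_eq_maximalIdeal]
    exact Ideal.mem_map_of_mem _ (mem_irr_of_isHomogeneous k n (hf i) (hd i))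
  have hht : (xs.length : ℕ∞) ≤ (Ideal.ofList xs).height := by
    rw [hxs, List.length_ofFn, ← IsLocalization.height_under (irr k n).primeCompl, ← hJ]
    exact Ideal.height_mono Ideal.le_comap_map
  obtain ⟨x, hx, hxreg⟩ := exists_regular_of_height A (n + 1) hdim xs hmem hht
    (by rw [List.length_ofFn]; omega)
  -- the colon ideal
  set g' : A := algebraMap _ A g with hg'def
  let K : Ideal A := (Ideal.ofList xs).colon {g'}
  have hK : ∀ a, a ∈ K ↔ a * g' ∈ Ideal.ofList xs := fun a => Submodule.mem_colon_singleton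
  have hrad : IsLocalRing.maximalIdeal A ≤ K.radical := by
    rw [← Localization.AtPrime.map_eq_maximalIdeal, Ideal.map_le_iff_le_comap]
    apply irr_le_of_X_mem
    intro i
    obtain ⟨m, hm⟩ := hg i
    rw [Ideal.mem_comap]
    refine ⟨m, ?_⟩
    rw [hK, hxs, ← map_pow, hg'def, ← map_mul]
    exact Ideal.mem_map_of_mem _ hm
  obtain ⟨N, hN⟩ := hrad hx
  rw [hK] at hN
  have hg' : g' ∈ Ideal.ofList xs := by
    induction N with
    | zero => simpa using hN
    | succ N ih =>
      apply ih
      apply hxreg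
      rw [← mul_assoc, ← pow_succ']
      exact hN
  rw [hxs, IsLocalization.mem_map_algebraMap_iff (irr k n).primeCompl] at hg'
  obtain ⟨⟨⟨j, hj⟩, ⟨s, hs⟩⟩, h⟩ := hg'
  simp only [hg'def] at h
  rw [← map_mul, IsLocalization.eq_iff_exists (irr k n).primeCompl] at h
  obtain ⟨⟨c, hc⟩, h⟩ := h
  simp only at h
  -- colon ideal in the polynomial ring
  let L : Ideal (MvPolynomial (Fin (n + 1)) k) := J.colon {g}
  have hL : ∀ a, a ∈ L ↔ a * g ∈ J := fun a => Submodule.mem_colon_singleton
  have hLtop : L = ⊤ := by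
    by_contra hne
    obtain ⟨M, hM, hLM⟩ := Ideal.exists_le_maximal L hne
    have hle : irr k n ≤ M := by
      apply irr_le_of_X_mem
      intro i
      obtain ⟨m, hm⟩ := hg i
      exact hM.isPrime.mem_of_pow_mem m (hLM ((hL _).mpr hm))
    have hMeq : irr k n = M := (irr_isMaximal k n).eq_of_le hM.ne_top hle
    have hcs : c * s ∈ L := by
      rw [hL, mul_assoc, mul_comm s g, h]
      exact J.mul_mem_left _ hj
    have : c * s ∈ irr k n := hMeq ▸ hLM hcs
    exact ((irr_isMaximal k n).isPrime.mem_or_mem this).elim hc hs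
  have h1 : (1 : MvPolynomial (Fin (n + 1)) k) ∈ L := hLtop ▸ Submodule.mem_top
  simpa [hL] using h1

end Poly

end Groth.Agent.H19.CISat
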