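import Mathlib
import Groth.Prelude.Def_CAlg
import Groth.Agent.H19.CISat
import Groth.Agent.H29.DepthFinite
import Groth.Agent.H29.DepthLib

set_option autoImplicit false
universe u

namespace Groth.Agent.H19.CISat

open MvPolynomial Groth.Agent.H29
open scoped Pointwise

theorem quotient_CM (A : Type u) [CommRing A] [hCM : LocCoh.IsCohenMacaulayLocalRing A]
    (N : ℕ) (hN : ringKrullDim A = N) (xs : List A)
    (hmem : ∀ x ∈ xs, x ∈ IsLocalRing.maximalIdeal A)
    (hht : (xs.length : ℕ∞) ≤ (Ideal.ofList xs).height)
    (I : Ideal A) (hI : I = Ideal.ofList xs) :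
    ∃ m : ℕ, m + xs.length = N ∧ ringKrullDim (A ⧸ I) = m ∧
      LocCoh.IsCohenMacaulayLocalRing (A ⧸ I) := by
  subst hI
  set I := Ideal.ofList xs with hI
  have hIle : I ≤ IsLocalRing.maximalIdeal A := by
    rw [hI, Ideal.span_le]; exact fun x hx => hmem x hx
  have hItop : I ≠ ⊤ := fun h =>
    (IsLocalRing.maximalIdeal.isMaximal A).ne_top (top_le_iff.mp (h ▸ hIle))
  haveI : Nontrivial (A ⧸ I) := Ideal.Quotient.nontrivial_iff.mpr hItop
  haveI : IsLocalRing (A ⧸ I) :=
    IsLocalRing.of_surjective' (Ideal.Quotient.mk I) Ideal.Quotient.mk_surjective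
  -- height inequality
  have h1 : I.height + (IsLocalRing.maximalIdeal (A ⧸ I)).height ≤
      ((IsLocalRing.maximalIdeal (A ⧸ I)).comap (Ideal.Quotient.mk I)).height :=
    height_add_height_le_height_comap (Ideal.Quotient.mk I) Ideal.Quotient.mk_surjective I
      (by rw [Ideal.mk_ker]) _
  have hcomap : (IsLocalRing.maximalIdeal (A ⧸ I)).comap (Ideal.Quotient.mk I) =
      IsLocalRing.maximalIdeal A := by
    haveI : ((IsLocalRing.maximalIdeal (A ⧸ I)).comap (Ideal.Quotient.mk I)).IsMaximal :=
      Ideal.comap_isMaximal_of_surjective _ Ideal.Quotient.mk_surjective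
    exact IsLocalRing.eq_maximalIdeal this
  rw [hcomap] at h1
  have hA : (IsLocalRing.maximalIdeal A).height = (N : ℕ∞) := by
    have := IsLocalRing.maximalIdeal_height_eq_ringKrullDim (R := A)
    rw [hN, ← WithBot.coe_natCast, WithBot.coe_inj] at this
    exact this
  rw [hA] at h1
  have h2 : (xs.length : ℕ∞) + (IsLocalRing.maximalIdeal (A ⧸ I)).height ≤ N :=
    le_trans (add_le_add_left hht _) h1
  obtain ⟨m, hm⟩ : ∃ m : ℕ, (IsLocalRing.maximalIdeal (A ⧸ I)).height = m := by
    have hne : (IsLocalRing.maximalIdeal (A ⧸ I)).height ≠ ⊤ := by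
      intro htop
      rw [htop, add_top] at h2
      exact absurd h2 (by simp)
    obtain ⟨m, hm⟩ := ENat.ne_top_iff_exists.mp hne
    exact ⟨m, hm.symm⟩
  rw [hm] at h2
  have h2' : xs.length + m ≤ N := by exact_mod_cast h2
  have hdimq : ringKrullDim (A ⧸ I) = (m : WithBot ℕ∞) := by
    rw [← IsLocalRing.maximalIdeal_height_eq_ringKrullDim, hm]; rfl
  have hItop' : Ideal.ofList xs • (⊤ : Submodule A A) = I := by
    rw [smul_eq_mul, Ideal.mul_top]
  have hsd : Module.supportDim A (A ⧸ Ideal.ofList xs • (⊤ : Submodule A A)) = (m : WithBot ℕ∞) := by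
    rw [Module.supportDim_eq_of_equiv (Submodule.quotEquivOfEq _ _ hItop'),
      Module.supportDim_quotient_eq_ringKrullDim, hdimq]
  have h3 := supportDim_le_supportDim_quotient_add_length A xs A hmem
  rw [hsd, Module.supportDim_self_eq_ringKrullDim, hN] at h3
  have h3' : N ≤ m + xs.length := by
    have : ((N : ℕ) : WithBot ℕ∞) ≤ ((m + xs.length : ℕ) : WithBot ℕ∞) := by
      rw [withBot_natCast_add]; exact h3
    exact withBot_natCast_le.mp this
  have hCMmod : LocCoh.IsCohenMacaulayModule A A := hCM.supportDim_eq_depth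
  have heq : Module.supportDim A (A ⧸ Ideal.ofList xs • (⊤ : Submodule A A)) + xs.length =
      Module.supportDim A A := by
    rw [hsd, Module.supportDim_self_eq_ringKrullDim, hN, ← withBot_natCast_add]
    congr 1
    omega
  have hreg := isWeaklyRegular_of_supportDim_quotient_add_length A xs A hCMmod hmem heq
  have hCMq := isCohenMacaulayModule_quotient_of_isWeaklyRegular A xs A hCMmod hmem hreg
  refine ⟨m, by omega, hdimq, ?_⟩
  haveI : IsLocalHom (algebraMap A (A ⧸ I)) :=
    IsLocalHom.of_surjective _ Ideal.Quotient.mk_surjective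
  have h5 := depth_eq_depth_of_isLocalHom A (A ⧸ I) (A ⧸ I)
  have h4 : LocCoh.depth A (A ⧸ Ideal.ofList xs • (⊤ : Submodule A A)) = LocCoh.depth A (A ⧸ I) :=
    idealDepth_congr _ (Submodule.quotEquivOfEq _ _ hItop')
  have hCMq' : Module.supportDim A (A ⧸ Ideal.ofList xs • (⊤ : Submodule A A)) = _ := hCMq
  exact
    { supportDim_eq_depth := by
        rw [Module.supportDim_self_eq_ringKrullDim, hdimq, ← h5, ← h4, ← hsd]
        exact hCMq' }


section Homog

attribute [local instance] MvPolynomial.gradedAlgebra

theorem mem_of_mul_mem_of_isHomogeneous {σ : Type*} (k : Type*) [Field k]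
    (J : Ideal (MvPolynomial σ k))
    (hJ : J.IsHomogeneous (homogeneousSubmodule σ k)) (s g : MvPolynomial σ k)
    (hs : coeff 0 s ≠ 0) (hsg : s * g ∈ J) : g ∈ J := by
  classical
  rw [mem_iff_homogeneousComponent_mem hJ]
  intro e
  induction e using Nat.strong_induction_on generalizing g with
  | _ e ih =>
    set g' := g - ∑ b ∈ Finset.range e, homogeneousComponent b g with hg'
    have hsum : ∑ b ∈ Finset.range e, homogeneousComponent b g ∈ J :=
      J.sum_mem (fun b hb => ih b (Finset.mem_range.mp hb) g hsg)
    have hsg' : s * g' ∈ J := by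
      rw [hg', mul_sub]; exact J.sub_mem hsg (J.mul_mem_left _ hsum)
    have hcoeff : ∀ x : σ →₀ ℕ, coeff x g' = if x.degree < e then 0 else coeff x g := by
      intro x
      rw [hg', coeff_sub, coeff_sum]
      simp only [coeff_homogeneousComponent]
      rw [Finset.sum_ite_eq]
      split_ifs with h1 h2 h2
      · simp
      · exact absurd (Finset.mem_range.mp h1) h2
      · exact absurd (Finset.mem_range.mpr h2) h1
      · simp
    have hcomp : homogeneousComponent e (s * g') = C (coeff 0 s) * homogeneousComponent e g := by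
      ext x
      rw [coeff_homogeneousComponent, coeff_C_mul, coeff_homogeneousComponent]
      split_ifs with hx
      · rw [coeff_mul]
        rw [Finset.sum_eq_single (0, x)]
        · rw [hcoeff x, if_neg (by omega)]
        · rintro ⟨a, b⟩ hab hne
          rw [Finset.HasAntidiagonal.mem_antidiagonal] at hab
          by_cases hb : b.degree < e
          · rw [hcoeff b, if_pos hb, mul_zero]
          · exfalso
            apply hne
            have h1 : a.degree + b.degree = e := by
              rw [← hx, ← hab, map_add]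
            have ha : a.degree = 0 := by omega
            have ha0 : a = 0 := (Finsupp.degree_eq_zero_iff a).mp ha
            subst ha0
            simp only [zero_add] at hab
            rw [hab]
        · intro h
          exact absurd (Finset.HasAntidiagonal.mem_antidiagonal.mpr (zero_add x)) h
      · rw [mul_zero]
    have h1 : C (coeff 0 s) * homogeneousComponent e g ∈ J :=
      hcomp ▸ homogeneousComponent_mem_of_mem hJ hsg' e
    have h2 : homogeneousComponent e g =
        C (coeff 0 s)⁻¹ * (C (coeff 0 s) * homogeneousComponent e g) := by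
      rw [← mul_assoc, ← C_mul, inv_mul_cancel₀ hs, C_1, one_mul]
    rw [h2]
    exact J.mul_mem_left _ h1

theorem isHomogeneous_span {σ : Type*} (k : Type*) [Field k] {ι : Type*}
    (f : ι → MvPolynomial σ k) (d : ι → ℕ) (hf : ∀ i, (f i).IsHomogeneous (d i)) :
    (Ideal.span (Set.range f)).IsHomogeneous (homogeneousSubmodule σ k) := by
  apply Ideal.homogeneous_span
  rintro _ ⟨i, rfl⟩
  exact ⟨d i, hf i⟩

end Homog

end Groth.Agent.H19.CISat
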