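import Mathlib
import Groth.Prelude.Def_CAlg
import Groth.Agent.H19.CISat2
import Groth.Agent.H13.Serre
import Groth.Agent.H29.CMLoc
import Groth.Agent.H29.ReducedR0S1

set_option autoImplicit false
universe u

namespace Groth.Agent.H19.CISat

open MvPolynomial Groth.Agent.H29
open scoped Pointwise

section Abstract

variable {R B : Type u} [CommRing R] [CommRing B] [Algebra R B] (M : Submonoid R)
  [IsLocalization M B]

include M in
theorem normal_localization_of_comap (P : Ideal B) [P.IsPrime]
    (h : IsDomain (Localization.AtPrime (P.comap (algebraMap R B))) ∧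
      IsIntegrallyClosed (Localization.AtPrime (P.comap (algebraMap R B)))) :
    IsDomain (Localization.AtPrime P) ∧ IsIntegrallyClosed (Localization.AtPrime P) := by
  haveI : IsLocalization.AtPrime (Localization.AtPrime P) (P.comap (algebraMap R B)) :=
    IsLocalization.isLocalization_isLocalization_atPrime_isLocalization M (Localization.AtPrime P) P
  let e : Localization.AtPrime (P.comap (algebraMap R B)) ≃+* Localization.AtPrime P :=
    (IsLocalization.algEquiv (P.comap (algebraMap R B)).primeCompl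
      (Localization.AtPrime (P.comap (algebraMap R B))) (Localization.AtPrime P)).toRingEquiv
  obtain ⟨hD, hIC⟩ := h
  haveI := hD
  haveI := hIC
  exact ⟨MulEquiv.isDomain _ e.symm.toMulEquiv, IsIntegrallyClosed.of_equiv e⟩

end Abstract

theorem normal_of_CM (B : Type u) [CommRing B] [hCM : LocCoh.IsCohenMacaulayLocalRing B]
    (m : ℕ) (hm : 2 ≤ m) (hdim : ringKrullDim B = m)
    (hN : ∀ (P : Ideal B) [P.IsPrime], P ≠ IsLocalRing.maximalIdeal B →
      IsDomain (Localization.AtPrime P) ∧ IsIntegrallyClosed (Localization.AtPrime P)) :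
    IsDomain B ∧ IsIntegrallyClosed B := by
  have hCMmod : LocCoh.IsCohenMacaulayModule B B := hCM.supportDim_eq_depth
  have hsupp : ∀ p : PrimeSpectrum B, p ∈ Module.support B B := by
    intro p
    rw [Module.mem_support_iff']
    refine ⟨1, fun r hr h0 => hr ?_⟩
    have : r = 0 := by simpa using h0
    rw [this]
    exact p.asIdeal.zero_mem
  have hmax_ht : (IsLocalRing.maximalIdeal B).height = (m : ℕ∞) := by
    have := IsLocalRing.maximalIdeal_height_eq_ringKrullDim (R := B)
    rw [hdim, ← WithBot.coe_natCast, WithBot.coe_inj] at this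
    exact this
  -- R0
  have h0 : LocCoh.HasRk 0 B := by
    intro p _ hp
    have hpne : p ≠ IsLocalRing.maximalIdeal B := by
      rintro rfl
      rw [hmax_ht] at hp
      have : m ≤ 0 := by exact_mod_cast hp
      omega
    obtain ⟨hD, -⟩ := hN p hpne
    haveI := hD
    have hdimp : ringKrullDim (Localization.AtPrime p) = 0 := by
      rw [IsLocalization.AtPrime.ringKrullDim_eq_height p]
      have : p.height = 0 := le_antisymm (by simpa using hp) (by simp)
      rw [this]
      rfl
    have hmb : IsLocalRing.maximalIdeal (Localization.AtPrime p) = ⊥ := by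
      apply Ideal.height_eq_zero_iff_eq_bot.mp
      have := IsLocalRing.maximalIdeal_height_eq_ringKrullDim (R := Localization.AtPrime p)
      rw [hdimp] at this
      exact_mod_cast this
    apply IsRegularLocalRing.of_spanFinrank_maximalIdeal_le
    rw [hmb, hdimp]
    simp
  -- S1
  have h1 : LocCoh.HasSk 1 B B := by
    intro p _
    have h := (isCohenMacaulayModule_localizedModule_and_dim B B hCMmod ⟨p, ‹_›⟩ (hsupp _)).1
    rw [show Module.supportDim _ _ = _ from h]
    exact min_le_right _ _
  haveI : IsReduced B := isReduced_of_hasRk_zero_of_hasSk_one B h0 h1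
  apply Groth.Agent.H13.Serre.local_main B
  intro P _ hd
  apply hN P
  intro hPmax
  subst hPmax
  let e : B ≃+* Localization.AtPrime (IsLocalRing.maximalIdeal B) :=
    (IsLocalization.atUnits B (IsLocalRing.maximalIdeal B).primeCompl
      (S := Localization.AtPrime (IsLocalRing.maximalIdeal B)) (by
        intro x hx
        exact (IsLocalRing.notMem_maximalIdeal.mp hx))).toRingEquiv
  have hde := Groth.Agent.H13.Serre.depth_self_of_ringEquiv e
  rw [hd] at hde
  have h2 : Module.supportDim B B = _ := hCMmod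
  rw [Module.supportDim_self_eq_ringKrullDim, hdim, hde] at h2
  have : ((m : ℕ) : WithBot ℕ∞) = ((1 : ℕ) : WithBot ℕ∞) := by rw [h2]; rfl
  have := withBot_natCast_inj this
  omega


section Poly

variable (k : Type u) [Field k] (n : ℕ)

theorem main2_aux (A : Type u) [CommRing A] [Algebra (MvPolynomial (Fin (n + 1)) k) A]
    [IsLocalization.AtPrime A (irr k n)] [IsRegularLocalRing A]
    (r : ℕ) (hr : r < n) (f : Fin r → MvPolynomial (Fin (n + 1)) k) (d : Fin r → ℕ)
    (hf : ∀ i, (f i).IsHomogeneous (d i)) (hd : ∀ i, 0 < d i)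
    (hJ : (Ideal.span (Set.range f)).height = r)
    (hnorm : ∀ (Q : Ideal (MvPolynomial (Fin (n + 1)) k ⧸ Ideal.span (Set.range f))) [Q.IsPrime],
      (∃ i, Ideal.Quotient.mk (Ideal.span (Set.range f)) (MvPolynomial.X i) ∉ Q) →
        IsDomain (Localization.AtPrime Q) ∧ IsIntegrallyClosed (Localization.AtPrime Q)) :
    IsDomain (MvPolynomial (Fin (n + 1)) k ⧸ Ideal.span (Set.range f)) ∧
      IsIntegrallyClosed (MvPolynomial (Fin (n + 1)) k ⧸ Ideal.span (Set.range f)) := by
  set J := Ideal.span (Set.range f) with hJdef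
  haveI hCM : LocCoh.IsCohenMacaulayLocalRing A :=
    isCohenMacaulayLocalRing_of_isRegularLocalRing A
  have hdim : ringKrullDim A = ((n + 1 : ℕ) : WithBot ℕ∞) := by
    rw [IsLocalization.AtPrime.ringKrullDim_eq_height (irr k n) A, height_irr]; rfl
  let xs : List A := List.ofFn (fun i => algebraMap _ A (f i))
  have hxs : Ideal.ofList xs = J.map (algebraMap _ A) := by
    have hset : {a | a ∈ xs} = (algebraMap _ A) '' Set.range f := by
      ext a
      simp only [xs, List.mem_ofFn, Set.mem_setOf_eq, Set.mem_image, Set.mem_range]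
      constructor
      · rintro ⟨i, rfl⟩; exact ⟨f i, ⟨i, rfl⟩, rfl⟩
      · rintro ⟨_, ⟨i, rfl⟩, rfl⟩; exact ⟨i, rfl⟩
    rw [hJdef, Ideal.map_span, ← hset]
  have hmem : ∀ x ∈ xs, x ∈ IsLocalRing.maximalIdeal A := by
    intro x hx
    obtain ⟨i, rfl⟩ := List.mem_ofFn.mp hx
    rw [← IsLocalization.AtPrime.map_eq_maximalIdeal (irr k n) A]
    exact Ideal.mem_map_of_mem _ (mem_irr_of_isHomogeneous k n (hf i) (hd i))
  have hht : (xs.length : ℕ∞) ≤ (Ideal.ofList xs).height := by
    rw [hxs, List.length_ofFn, ← IsLocalization.height_under (irr k n).primeCompl, ← hJ]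
    exact Ideal.height_mono Ideal.le_comap_map
  set JA := J.map (algebraMap _ A) with hJA
  obtain ⟨m, hmr, hdimB, hCMB⟩ := quotient_CM A (n + 1) hdim xs hmem hht JA hxs.symm
  haveI := hCMB
  haveI : IsLocalRing (A ⧸ JA) := hCMB.toIsLocalRing
  have hm2 : 2 ≤ m := by rw [List.length_ofFn] at hmr; omega
  have hJle : J ≤ irr k n := Ideal.span_le.mpr (by
    rintro _ ⟨i, rfl⟩; exact mem_irr_of_isHomogeneous k n (hf i) (hd i))
  have hkey : ∀ (P : Ideal (A ⧸ JA)) [P.IsPrime], P ≠ IsLocalRing.maximalIdeal (A ⧸ JA) →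
      ∃ i, Ideal.Quotient.mk J (X i) ∉
        P.comap (algebraMap (MvPolynomial (Fin (n + 1)) k ⧸ J) (A ⧸ JA)) := by
    intro P _ hP
    by_contra hcon
    push Not at hcon
    apply hP
    have h1 : irr k n ≤ (P.comap (algebraMap (MvPolynomial (Fin (n + 1)) k ⧸ J) (A ⧸ JA))).comap
        (Ideal.Quotient.mk J) := irr_le_of_X_mem k n _ (fun i => hcon i)
    refine le_antisymm (IsLocalRing.le_maximalIdeal (inferInstance : P.IsPrime).ne_top) ?_
    intro b hb
    obtain ⟨a, rfl⟩ := Ideal.Quotient.mk_surjective b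
    have ha : a ∈ IsLocalRing.maximalIdeal A := by
      by_contra hna
      have hu : IsUnit a := IsLocalRing.notMem_maximalIdeal.mp hna
      exact hb (hu.map (Ideal.Quotient.mk JA))
    rw [← IsLocalization.AtPrime.map_eq_maximalIdeal (irr k n) A] at ha
    have h2 : Ideal.map (algebraMap (MvPolynomial (Fin (n + 1)) k) A) (irr k n) ≤
        P.comap (Ideal.Quotient.mk JA) := by
      rw [Ideal.map_le_iff_le_comap]
      intro s hs
      exact h1 hs
    exact h2 ha
  have hNB : ∀ (P : Ideal (A ⧸ JA)) [P.IsPrime], P ≠ IsLocalRing.maximalIdeal (A ⧸ JA) →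
      IsDomain (Localization.AtPrime P) ∧
        IsIntegrallyClosed (Localization.AtPrime P) := by
    intro P _ hP
    apply normal_localization_of_comap
      (Algebra.algebraMapSubmonoid (MvPolynomial (Fin (n + 1)) k ⧸ J) (irr k n).primeCompl) P
    exact hnorm _ (hkey P hP)
  obtain ⟨hBD, hBIC⟩ := normal_of_CM (A ⧸ JA) m hm2 hdimB hNB
  have hinj : Function.Injective (algebraMap (MvPolynomial (Fin (n + 1)) k ⧸ J) (A ⧸ JA)) := by
    rw [injective_iff_map_eq_zero]
    intro x hx
    obtain ⟨g, rfl⟩ := Ideal.Quotient.mk_surjective x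
    have hx' : algebraMap (MvPolynomial (Fin (n + 1)) k) A g ∈ JA :=
      Ideal.Quotient.eq_zero_iff_mem.mp hx
    rw [hJA, IsLocalization.mem_map_algebraMap_iff (irr k n).primeCompl] at hx'
    obtain ⟨⟨⟨j, hj⟩, ⟨s, hs⟩⟩, h⟩ := hx'
    rw [← map_mul, IsLocalization.eq_iff_exists (irr k n).primeCompl] at h
    obtain ⟨⟨c, hc⟩, h⟩ := h
    simp only at h
    rw [Ideal.Quotient.eq_zero_iff_mem]
    apply mem_of_mul_mem_of_isHomogeneous k J (isHomogeneous_span k f d hf) (c * s) g
    · intro h0
      have : c * s ∈ irr k n := by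
        rw [irr, RingHom.mem_ker, constantCoeff_eq]; exact h0
      exact ((irr_isMaximal k n).isPrime.mem_or_mem this).elim hc hs
    · rw [mul_assoc, mul_comm s g, h]
      exact J.mul_mem_left _ hj
  haveI : IsDomain (MvPolynomial (Fin (n + 1)) k ⧸ J) := hinj.isDomain (algebraMap _ (A ⧸ JA))
  refine ⟨inferInstance, ?_⟩
  apply IsIntegrallyClosed.of_localization_maximal
  intro p hp0 hpmax
  by_cases hv : ∃ i, Ideal.Quotient.mk J (X i) ∉ p
  · exact (hnorm p hv).2
  · push Not at hv
    have hp_eq : irr k n = p.comap (Ideal.Quotient.mk J) :=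
      (irr_isMaximal k n).eq_of_le (Ideal.comap_ne_top _ hpmax.ne_top) (irr_le_of_X_mem k n _ hv)
    have hsub : Algebra.algebraMapSubmonoid (MvPolynomial (Fin (n + 1)) k ⧸ J)
        (irr k n).primeCompl = p.primeCompl := by
      ext b
      constructor
      · rintro ⟨a, ha, rfl⟩
        intro hmem'
        apply ha
        rw [hp_eq]
        exact hmem'
      · intro hb
        obtain ⟨a, rfl⟩ := Ideal.Quotient.mk_surjective b
        refine ⟨a, ?_, rfl⟩
        intro ha
        rw [hp_eq] at ha
        exact hb ha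
    have inst : IsLocalization (Algebra.algebraMapSubmonoid (MvPolynomial (Fin (n + 1)) k ⧸ J)
        (irr k n).primeCompl) (A ⧸ JA) := inferInstance
    rw [hsub] at inst
    exact IsIntegrallyClosed.of_equiv
      (IsLocalization.algEquiv p.primeCompl (A ⧸ JA) (Localization.AtPrime p)).toRingEquiv

theorem main2 (r : ℕ) (hr : r < n) (f : Fin r → MvPolynomial (Fin (n + 1)) k) (d : Fin r → ℕ)
    (hf : ∀ i, (f i).IsHomogeneous (d i)) (hd : ∀ i, 0 < d i)
    (hJ : (Ideal.span (Set.range f)).height = r)
    (hnorm : ∀ (Q : Ideal (MvPolynomial (Fin (n + 1)) k ⧸ Ideal.span (Set.range f))) [Q.IsPrime],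
      (∃ i, Ideal.Quotient.mk (Ideal.span (Set.range f)) (MvPolynomial.X i) ∉ Q) →
        IsDomain (Localization.AtPrime Q) ∧ IsIntegrallyClosed (Localization.AtPrime Q)) :
    IsDomain (MvPolynomial (Fin (n + 1)) k ⧸ Ideal.span (Set.range f)) ∧
      IsIntegrallyClosed (MvPolynomial (Fin (n + 1)) k ⧸ Ideal.span (Set.range f)) :=
  main2_aux k n (Localization.AtPrime (irr k n)) r hr f d hf hd hJ hnorm

end Poly

end Groth.Agent.H19.CISat
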