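import Mathlib
import Groth.Agent.H19.CISat3
import Groth.Agent.H19.HilbDim1

set_option autoImplicit false
universe u

namespace Groth.Agent.H19.CIHilb

open MvPolynomial Groth.Agent.H29 Groth.Agent.H19.CISat
open scoped Pointwise

theorem ringKrullDim_le_of_isLocalization {R : Type*} [CommRing R] (M : Submonoid R)
    (B : Type*) [CommRing B] [Algebra R B] [IsLocalization M B] :
    ringKrullDim B ≤ ringKrullDim R :=
  Order.krullDim_le_of_strictMono
    (fun I ↦ ⟨Ideal.comap (algebraMap R B) I.asIdeal, inferInstance⟩)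
    (Monotone.strictMono_of_injective (fun a b h => Ideal.comap_mono h)
      (PrimeSpectrum.localization_comap_injective B M))

theorem withBot_eq_one_of {x : WithBot ℕ∞} {n : ℕ} (h1 : x ≤ 1)
    (h2 : ((n + 1 : ℕ) : WithBot ℕ∞) ≤ x + (n : ℕ)) : x = 1 := by
  induction x using WithBot.recBotCoe with
  | bot => simp at h2
  | coe y =>
    induction y using ENat.recTopCoe with
    | top =>
      have : (⊤ : ℕ∞) ≤ 1 := by exact_mod_cast h1
      simp at this
    | coe y =>
      have h1' : y ≤ 1 := by exact_mod_cast h1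
      have h2' : n + 1 ≤ y + n := by exact_mod_cast h2
      have : y = 1 := by omega
      subst this
      rfl

section Poly

variable (k : Type u) [Field k] (n : ℕ)

theorem weaklyRegular_of_dim (A : Type u) [CommRing A] [Algebra (MvPolynomial (Fin (n + 1)) k) A]
    [IsLocalization.AtPrime A (irr k n)] [IsRegularLocalRing A]
    (f : Fin n → MvPolynomial (Fin (n + 1)) k) (d : Fin n → ℕ)
    (hf : ∀ i, (f i).IsHomogeneous (d i)) (hd : ∀ i, 0 < d i)
    (hdim : ringKrullDim (MvPolynomial (Fin (n + 1)) k ⧸ Ideal.span (Set.range f)) = 1) :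
    RingTheory.Sequence.IsWeaklyRegular A
      ((List.ofFn f).map (algebraMap (MvPolynomial (Fin (n + 1)) k) A)) := by
  set J := Ideal.span (Set.range f) with hJdef
  haveI hCM : LocCoh.IsCohenMacaulayLocalRing A :=
    isCohenMacaulayLocalRing_of_isRegularLocalRing A
  have hdimA : ringKrullDim A = ((n + 1 : ℕ) : WithBot ℕ∞) := by
    rw [IsLocalization.AtPrime.ringKrullDim_eq_height (irr k n) A, height_irr]; rfl
  set xs : List A := (List.ofFn f).map (algebraMap (MvPolynomial (Fin (n + 1)) k) A) with hxsdef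
  have hlen : xs.length = n := by rw [hxsdef, List.length_map, List.length_ofFn]
  have hJl : Ideal.ofList (List.ofFn f) = J := by
    rw [hJdef, Ideal.ofList]
    congr 1
    ext a
    simp [List.mem_ofFn]
  have hxs : Ideal.ofList xs = J.map (algebraMap _ A) := by
    rw [hxsdef, ← Ideal.map_ofList, hJl]
  have hmem : ∀ x ∈ xs, x ∈ IsLocalRing.maximalIdeal A := by
    intro x hx
    rw [hxsdef, List.mem_map] at hx
    obtain ⟨a, ha, rfl⟩ := hx
    obtain ⟨i, rfl⟩ := List.mem_ofFn.mp ha
    rw [← IsLocalization.AtPrime.map_eq_maximalIdeal (irr k n) A]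
    exact Ideal.mem_map_of_mem _ (mem_irr_of_isHomogeneous k n (hf i) (hd i))
  set JA := J.map (algebraMap _ A) with hJA
  have hItop' : Ideal.ofList xs • (⊤ : Submodule A A) = JA := by
    rw [smul_eq_mul, Ideal.mul_top, hxs]
  have hsd : Module.supportDim A (A ⧸ Ideal.ofList xs • (⊤ : Submodule A A)) =
      ringKrullDim (A ⧸ JA) := by
    rw [Module.supportDim_eq_of_equiv (Submodule.quotEquivOfEq _ _ hItop'),
      Module.supportDim_quotient_eq_ringKrullDim]
  have hle : ringKrullDim (A ⧸ JA) ≤ 1 := by
    rw [← hdim]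
    exact ringKrullDim_le_of_isLocalization
      (Algebra.algebraMapSubmonoid (MvPolynomial (Fin (n + 1)) k ⧸ J) (irr k n).primeCompl)
      (A ⧸ JA)
  have h3 := supportDim_le_supportDim_quotient_add_length A xs A hmem
  rw [hsd, Module.supportDim_self_eq_ringKrullDim, hdimA, hlen] at h3
  have h1 : ringKrullDim (A ⧸ JA) = 1 := withBot_eq_one_of hle h3
  have hCMmod : LocCoh.IsCohenMacaulayModule A A := hCM.supportDim_eq_depth
  have heq : Module.supportDim A (A ⧸ Ideal.ofList xs • (⊤ : Submodule A A)) + xs.length =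
      Module.supportDim A A := by
    rw [hsd, Module.supportDim_self_eq_ringKrullDim, hdimA, h1, hlen, withBot_natCast_add]
    rw [add_comm]; rfl
  exact isWeaklyRegular_of_supportDim_quotient_add_length A xs A hCMmod hmem heq

end Poly

end Groth.Agent.H19.CIHilb
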