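import Mathlib
import Groth.Agent.H19.CIHilb1
import Groth.Agent.H19.DegSum

set_option autoImplicit false
universe u

namespace Groth.Agent.H19.CIHilb

open MvPolynomial Groth.Agent.H29 Groth.Agent.H19.CISat
open scoped Pointwise

section Poly

attribute [local instance] MvPolynomial.gradedAlgebra

variable (k : Type u) [Field k] (n : ℕ)

theorem isHomogeneous_ofList (l : List (MvPolynomial (Fin (n + 1)) k))
    (hl : ∀ a ∈ l, ∃ e, a.IsHomogeneous e) :
    (Ideal.ofList l).IsHomogeneous (homogeneousSubmodule (Fin (n + 1)) k) := by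
  apply Ideal.homogeneous_span
  intro a ha
  obtain ⟨e, he⟩ := hl a ha
  exact ⟨e, he⟩

theorem colon_of_weaklyRegular (A : Type u) [CommRing A] [Algebra (MvPolynomial (Fin (n + 1)) k) A]
    [IsLocalization.AtPrime A (irr k n)]
    (r : ℕ) (f : Fin r → MvPolynomial (Fin (n + 1)) k) (d : Fin r → ℕ)
    (hf : ∀ i, (f i).IsHomogeneous (d i))
    (hreg : RingTheory.Sequence.IsWeaklyRegular A
      ((List.ofFn f).map (algebraMap (MvPolynomial (Fin (n + 1)) k) A)))
    (j : ℕ) (hj : j < r) (g : MvPolynomial (Fin (n + 1)) k)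
    (hg : f ⟨j, hj⟩ * g ∈ Ideal.ofList ((List.ofFn f).take j)) :
    g ∈ Ideal.ofList ((List.ofFn f).take j) := by
  set xs : List A := (List.ofFn f).map (algebraMap (MvPolynomial (Fin (n + 1)) k) A) with hxsdef
  have hlen : xs.length = r := by rw [hxsdef, List.length_map, List.length_ofFn]
  have h := ((RingTheory.Sequence.isWeaklyRegular_iff A xs).mp hreg) j (by rw [hlen]; exact hj)
  set Jj := Ideal.ofList ((List.ofFn f).take j) with hJj
  have htake : Ideal.ofList (xs.take j) = Jj.map (algebraMap _ A) := by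
    rw [hxsdef, ← List.map_take, ← Ideal.map_ofList]
  have hget : xs[j]'(by rw [hlen]; exact hj) = algebraMap _ A (f ⟨j, hj⟩) := by
    simp only [hxsdef, List.getElem_map, List.getElem_ofFn]
  have hItop' : Ideal.ofList (xs.take j) • (⊤ : Submodule A A) = Jj.map (algebraMap _ A) := by
    rw [smul_eq_mul, Ideal.mul_top, htake]
  have hmemA : algebraMap _ A g ∈ Jj.map (algebraMap _ A) := by
    have h1 : xs[j]'(by rw [hlen]; exact hj) •
        (Submodule.Quotient.mk (algebraMap _ A g) :
          A ⧸ Ideal.ofList (xs.take j) • (⊤ : Submodule A A)) =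
        xs[j]'(by rw [hlen]; exact hj) • 0 := by
      rw [smul_zero, ← Submodule.Quotient.mk_smul, Submodule.Quotient.mk_eq_zero, hItop',
        smul_eq_mul, hget, ← map_mul]
      exact Ideal.mem_map_of_mem _ hg
    have h0 := h h1
    rw [Submodule.Quotient.mk_eq_zero, hItop'] at h0
    exact h0
  rw [IsLocalization.mem_map_algebraMap_iff (irr k n).primeCompl] at hmemA
  obtain ⟨⟨⟨y, hy⟩, ⟨s, hs⟩⟩, hys⟩ := hmemA
  rw [← map_mul, IsLocalization.eq_iff_exists (irr k n).primeCompl] at hys
  obtain ⟨⟨c, hc⟩, hys⟩ := hys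
  simp only at hys
  have hJh : Jj.IsHomogeneous (homogeneousSubmodule (Fin (n + 1)) k) := by
    apply isHomogeneous_ofList
    intro a ha
    have ha' := List.mem_of_mem_take ha
    obtain ⟨i, rfl⟩ := List.mem_ofFn.mp ha'
    exact ⟨d i, hf i⟩
  apply mem_of_mul_mem_of_isHomogeneous k Jj hJh (c * s) g
  · intro h0
    have : c * s ∈ irr k n := by
      rw [irr, RingHom.mem_ker, constantCoeff_eq]; exact h0
    exact ((irr_isMaximal k n).isPrime.mem_or_mem this).elim hc hs
  · rw [mul_assoc, mul_comm s g, hys]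
    exact Jj.mul_mem_left _ hy

end Poly

end Groth.Agent.H19.CIHilb
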