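import Mathlib
import Groth.Agent.H19.CIHilb2
import Groth.Agent.H19.DegSum

set_option autoImplicit false
universe u

namespace Groth.Agent.H19.CIHilb

open Polynomial MvPolynomial Groth.Agent.H19.HilbSec Groth.Agent.H19.PolyDiff
  Groth.Agent.H19.HilbDim

section Poly

attribute [local instance] MvPolynomial.gradedAlgebra

variable (k : Type u) [Field k] (n : ℕ)

theorem degSet_eq (m : ℕ) :
    {d : Fin (n + 1) →₀ ℕ | d.degree = m} =
      ↑((Finset.univ : Finset (Fin (n + 1))).finsuppAntidiag m) := by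
  ext d
  simp only [Set.mem_setOf_eq, Finset.mem_coe, Finset.mem_finsuppAntidiag, Finset.subset_univ,
    and_true, Finsupp.degree_eq_sum]

theorem finrank_homog (m : ℕ) :
    Module.finrank k (homogeneousSubmodule (Fin (n + 1)) k m) = Nat.choose (m + n) n := by
  have h0 : homogeneousSubmodule (Fin (n + 1)) k m =
      MvPolynomial.restrictSupport k {d : Fin (n + 1) →₀ ℕ | d.degree = m} :=
    MvPolynomial.homogeneousSubmodule_eq_finsupp_supported _ _ m
  rw [h0,
    Module.finrank_eq_nat_card_basis (MvPolynomial.basisRestrictSupport k _), degSet_eq,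
    Nat.card_coe_set_eq, Set.ncard_coe_finset, Finset.card_finsuppAntidiag_nat_eq_choose]
  simp only [Finset.card_univ, Fintype.card_fin]
  rw [show n + 1 + m - 1 = n + m by omega, add_comm n m, Nat.choose_symm_add]

theorem hf_bot (m : ℕ) :
    hf (⊥ : Ideal (MvPolynomial (Fin (n + 1)) k)) m = (Nat.choose (m + n) n : ℚ) := by
  unfold hf piece
  have : Submodule.restrictScalars k (⊥ : Ideal (MvPolynomial (Fin (n + 1)) k)) = ⊥ := by
    ext x; simp
  rw [this, bot_inf_eq, finrank_bot, finrank_homog]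
  simp

theorem HP_bot : HP (⊥ : Ideal (MvPolynomial (Fin (n + 1)) k)) (preHilbertPoly ℚ n 0) := by
  refine ⟨0, fun m _ => ?_⟩
  rw [hf_bot, preHilbertPoly_eq_choose_sub_add ℚ n (Nat.zero_le m), Nat.sub_zero]

theorem HP_regular_step (I : Ideal (MvPolynomial (Fin (n + 1)) k))
    (hI : I.IsHomogeneous (homogeneousSubmodule (Fin (n + 1)) k))
    (a : MvPolynomial (Fin (n + 1)) k) (e : ℕ) (ha : a.IsHomogeneous e) (ha0 : a ≠ 0)
    (hcolon : ∀ g, a * g ∈ I → g ∈ I) (P : ℚ[X]) (hP : HP I P) :
    HP (I ⊔ Ideal.span {a}) (bdiff (e : ℚ) P) := by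
  obtain ⟨m₀, hm₀⟩ := hP
  refine ⟨m₀ + e, fun m hm => ?_⟩
  have hme : e ≤ m := by omega
  have hcol : I.colon {a} = I := by
    apply le_antisymm
    · intro g hg
      rw [Submodule.mem_colon_singleton] at hg
      apply hcolon
      rw [mul_comm]
      exact hg
    · intro g hg
      rw [Submodule.mem_colon_singleton]
      exact I.mul_mem_right _ hg
  have h1 := hf_sum I hI a ha0 e ha m hme
  rw [hcol] at h1
  rw [bdiff_eval, hm₀ m (by omega)]
  have h2 := hm₀ (m - e) (by omega)
  rw [Nat.cast_sub hme] at h2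
  rw [h2, h1]
  ring

end Poly

end Groth.Agent.H19.CIHilb
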