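import Mathlib
import Groth.Agent.H19.CIHilb3

set_option autoImplicit false
universe u

namespace Groth.Agent.H19.CIHilb

open Polynomial MvPolynomial Groth.Agent.H19.HilbSec Groth.Agent.H19.PolyDiff
  Groth.Agent.H19.HilbDim Groth.Agent.H19.CISat

section Poly

attribute [local instance] MvPolynomial.gradedAlgebra

variable (k : Type u) [Field k] (n : ℕ)

theorem HP_chain (r : ℕ) (hr : r ≤ n) (f : Fin r → MvPolynomial (Fin (n + 1)) k) (d : Fin r → ℕ)
    (hd : ∀ i, 1 ≤ d i) (hf : ∀ i, (f i).IsHomogeneous (d i))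
    (hcolon : ∀ (j : ℕ) (hj : j < r) (g : MvPolynomial (Fin (n + 1)) k),
      f ⟨j, hj⟩ * g ∈ Ideal.ofList ((List.ofFn f).take j) →
        g ∈ Ideal.ofList ((List.ofFn f).take j)) :
    ∀ j : ℕ, j ≤ r → ∃ P : ℚ[X], HP (Ideal.ofList ((List.ofFn f).take j)) P ∧
      P.natDegree = n - j ∧
      ((n - j).factorial : ℚ) * P.leadingCoeff = (((List.ofFn d).take j).prod : ℚ) := by
  have hJle : ∀ j, Ideal.ofList ((List.ofFn f).take j) ≤ irr k n := by
    intro j
    rw [Ideal.ofList, Ideal.span_le]
    intro a ha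
    have ha' := List.mem_of_mem_take ha
    obtain ⟨i, rfl⟩ := List.mem_ofFn.mp ha'
    exact mem_irr_of_isHomogeneous k n (hf i) (hd i)
  intro j
  induction j with
  | zero =>
    intro _
    refine ⟨preHilbertPoly ℚ n 0, ?_, ?_, ?_⟩
    · rw [List.take_zero, Ideal.ofList_nil]
      exact HP_bot k n
    · rw [natDegree_preHilbertPoly, Nat.sub_zero]
    · rw [leadingCoeff_preHilbertPoly, Nat.sub_zero, List.take_zero, List.prod_nil]
      have : ((n.factorial : ℕ) : ℚ) ≠ 0 := by positivity
      push_cast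
      field_simp
  | succ j ih =>
    intro hj
    have hj' : j < r := hj
    obtain ⟨P, hP, hdeg, hlc⟩ := ih (by omega)
    have hlen : (List.ofFn f).length = r := List.length_ofFn
    have hlend : (List.ofFn d).length = r := List.length_ofFn
    have htake : (List.ofFn f).take (j + 1) = (List.ofFn f).take j ++ [f ⟨j, hj'⟩] := by
      rw [List.take_succ_eq_append_getElem (by rw [hlen]; exact hj'), List.getElem_ofFn]
    have htaked : (List.ofFn d).take (j + 1) = (List.ofFn d).take j ++ [d ⟨j, hj'⟩] := by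
      rw [List.take_succ_eq_append_getElem (by rw [hlend]; exact hj'), List.getElem_ofFn]
    have hJh : (Ideal.ofList ((List.ofFn f).take j)).IsHomogeneous
        (homogeneousSubmodule (Fin (n + 1)) k) := by
      apply isHomogeneous_ofList
      intro a ha
      have ha' := List.mem_of_mem_take ha
      obtain ⟨i, rfl⟩ := List.mem_ofFn.mp ha'
      exact ⟨d i, hf i⟩
    have hne : f ⟨j, hj'⟩ ≠ 0 := by
      intro h0
      have h1 : (1 : MvPolynomial (Fin (n + 1)) k) ∈ Ideal.ofList ((List.ofFn f).take j) := by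
        apply hcolon j hj'
        rw [h0, zero_mul]
        exact Submodule.zero_mem _
      exact (irr_isMaximal k n).ne_top ((Ideal.eq_top_iff_one _).mpr (hJle j h1))
    have hstep := HP_regular_step k n _ hJh (f ⟨j, hj'⟩) (d ⟨j, hj'⟩) (hf _) hne
      (hcolon j hj') P hP
    have hdeg' : P.natDegree = (n - (j + 1)) + 1 := by omega
    have hd0 : ((d ⟨j, hj'⟩ : ℕ) : ℚ) ≠ 0 := by
      have := hd ⟨j, hj'⟩
      positivity
    obtain ⟨hnd, hlc'⟩ := natDegree_bdiff (d ⟨j, hj'⟩ : ℚ) hd0 P (n - (j + 1)) hdeg'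
    refine ⟨bdiff (d ⟨j, hj'⟩ : ℚ) P, ?_, hnd, ?_⟩
    · rw [htake, Ideal.ofList_append, Ideal.ofList_singleton]
      exact hstep
    · rw [hlc', htaked, List.prod_append, List.prod_singleton, Nat.cast_mul, ← hlc]
      have hfac : ((n - j).factorial : ℚ) =
          ((n - (j + 1) : ℕ) + 1 : ℚ) * ((n - (j + 1)).factorial : ℚ) := by
        have : n - j = (n - (j + 1)) + 1 := by omega
        rw [this, Nat.factorial_succ]
        push_cast
        rfl
      rw [hfac]
      ring

end Poly

end Groth.Agent.H19.CIHilb
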