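import Mathlib
import Groth.Agent.H19.CIHilb4

set_option autoImplicit false
universe u

namespace Groth.Agent.H19.CIHilb

open Polynomial MvPolynomial Groth.Agent.H19.HilbSec Groth.Agent.H19.PolyDiff
  Groth.Agent.H19.HilbDim Groth.Agent.H19.CISat

section Poly

attribute [local instance] MvPolynomial.gradedAlgebra

theorem main (k : Type u) [Field k] (n : ℕ)
    (f : Fin n → MvPolynomial (Fin (n + 1)) k) (d : Fin n → ℕ) (hd : ∀ i, 1 ≤ d i)
    (hf : ∀ i, (f i).IsHomogeneous (d i))
    (hdim : ringKrullDim (MvPolynomial (Fin (n + 1)) k ⧸ Ideal.span (Set.range f)) = 1) :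
    ∃ m₀ : ℕ, ∀ m : ℕ, m₀ ≤ m →
      Module.finrank k ↥(MvPolynomial.homogeneousSubmodule (Fin (n + 1)) k m) -
        Module.finrank k ↥((Ideal.span (Set.range f)).restrictScalars k ⊓
          MvPolynomial.homogeneousSubmodule (Fin (n + 1)) k m) =
      ∏ i : Fin n, d i := by
  have hreg := weaklyRegular_of_dim k n (Localization.AtPrime (irr k n)) f d hf hd hdim
  have hcolon := colon_of_weaklyRegular k n (Localization.AtPrime (irr k n)) n f d hf hreg
  obtain ⟨P, hP, hdeg, hlc⟩ := HP_chain k n n le_rfl f d hd hf hcolon n le_rfl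
  have hlen : (List.ofFn f).length = n := List.length_ofFn
  have hlend : (List.ofFn d).length = n := List.length_ofFn
  have hJl : Ideal.ofList (List.ofFn f) = Ideal.span (Set.range f) := by
    rw [Ideal.ofList]
    congr 1
    ext a
    simp [List.mem_ofFn]
  rw [List.take_of_length_le (by rw [hlen]), hJl] at hP
  rw [List.take_of_length_le (by rw [hlend]), List.prod_ofFn, Nat.sub_self, Nat.factorial_zero,
    Nat.cast_one, one_mul] at hlc
  rw [Nat.sub_self] at hdeg
  have hPC : P = Polynomial.C ((∏ i, d i : ℕ) : ℚ) := by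
    rw [Polynomial.eq_C_of_natDegree_eq_zero hdeg]
    congr 1
    rw [← hlc, Polynomial.leadingCoeff, hdeg]
  obtain ⟨m₀, hm₀⟩ := hP
  refine ⟨m₀, fun m hm => ?_⟩
  have h1 := hm₀ m hm
  rw [hPC, Polynomial.eval_C] at h1
  unfold HilbDim.hf piece at h1
  have hle : Module.finrank k ↥((Ideal.span (Set.range f)).restrictScalars k ⊓
      MvPolynomial.homogeneousSubmodule (Fin (n + 1)) k m) ≤
      Module.finrank k ↥(MvPolynomial.homogeneousSubmodule (Fin (n + 1)) k m) :=
    Submodule.finrank_mono inf_le_right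
  have h2 : ((Module.finrank k ↥(MvPolynomial.homogeneousSubmodule (Fin (n + 1)) k m) -
      Module.finrank k ↥((Ideal.span (Set.range f)).restrictScalars k ⊓
        MvPolynomial.homogeneousSubmodule (Fin (n + 1)) k m) : ℕ) : ℚ) =
      ((∏ i, d i : ℕ) : ℚ) := by
    rw [Nat.cast_sub hle, h1]
  exact_mod_cast h2

end Poly

end Groth.Agent.H19.CIHilb
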