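import Mathlib
import Groth.Agent.S14612

set_option autoImplicit false
universe u

/-!
Tensoring a quasi-isomorphism of bounded above complexes of flat modules.
-/

namespace Groth.Agent.H19.ConeTensor

open CategoryTheory CategoryTheory.Limits TensorProduct

/-- quasi-isomorphism iff acyclic mapping cone. -/
theorem quasiIso_iff_acyclic_mappingCone {C : Type*} [Category C] [Abelian C]
    {K L : CochainComplex C ℤ} (φ : K ⟶ L) :
    QuasiIso φ ↔ (CochainComplex.mappingCone φ).Acyclic := by
  have h1 := (HomotopyCategory.subcategoryAcyclic C).trW_iff_of_distinguished _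
      (HomotopyCategory.mappingCone_triangleh_distinguished φ)
  have h2 := HomotopyCategory.quotient_obj_mem_subcategoryAcyclic_iff_acyclic
    (CochainComplex.mappingCone φ)
  have h3 := HomotopyCategory.quotient_map_mem_quasiIso_iff φ
  rw [HomotopyCategory.quasiIso_eq_trW_subcategoryAcyclic] at h3
  rw [← HomologicalComplex.mem_quasiIso_iff]
  exact h3.symm.trans (h1.trans h2)

section alg

variable {A : Type u} [CommRing A]

/-- a product of two flat modules is flat. -/
theorem flat_prod (M N : Type u) [AddCommGroup M] [AddCommGroup N] [Module A M] [Module A N]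
    [Module.Flat A M] [Module.Flat A N] : Module.Flat A (M × N) := by
  rw [Module.Flat.iff_rTensor_preserves_injective_linearMap]
  intro X Y _ _ _ _ i hi
  rw [injective_iff_map_eq_zero]
  intro z hz
  have h1 : (LinearMap.fst A M N).lTensor X z = 0 := by
    apply Module.Flat.rTensor_preserves_injective_linearMap (M := M) i hi
    have : (i.rTensor M) ((LinearMap.fst A M N).lTensor X z) =
        (LinearMap.fst A M N).lTensor Y ((i.rTensor (M × N)) z) := by
      rw [← LinearMap.comp_apply, ← LinearMap.comp_apply, LinearMap.rTensor_comp_lTensor,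
        LinearMap.lTensor_comp_rTensor]
    rw [this, hz, map_zero, map_zero]
  have h2 : (LinearMap.snd A M N).lTensor X z = 0 := by
    apply Module.Flat.rTensor_preserves_injective_linearMap (M := N) i hi
    have : (i.rTensor N) ((LinearMap.snd A M N).lTensor X z) =
        (LinearMap.snd A M N).lTensor Y ((i.rTensor (M × N)) z) := by
      rw [← LinearMap.comp_apply, ← LinearMap.comp_apply, LinearMap.rTensor_comp_lTensor,
        LinearMap.lTensor_comp_rTensor]
    rw [this, hz, map_zero, map_zero]
  have h3 : (LinearMap.inl A M N) ∘ₗ (LinearMap.fst A M N) +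
      (LinearMap.inr A M N) ∘ₗ (LinearMap.snd A M N) = LinearMap.id := by
    ext x <;> simp
  have h4 : z = (LinearMap.id : (M × N) →ₗ[A] (M × N)).lTensor X z := by
    rw [LinearMap.lTensor_id, LinearMap.id_apply]
  rw [h4, ← h3, LinearMap.lTensor_add, LinearMap.add_apply, LinearMap.lTensor_comp,
    LinearMap.lTensor_comp, LinearMap.comp_apply, LinearMap.comp_apply, h1, h2, map_zero, map_zero,
    add_zero]

/-- exactness is preserved by `- ⊗ M` when the next image is flat. -/
theorem rTensor_exact_of_flat_range {X₀ X₁ X₂ X₃ : Type u} [AddCommGroup X₀] [AddCommGroup X₁]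
    [AddCommGroup X₂] [AddCommGroup X₃] [Module A X₀] [Module A X₁] [Module A X₂] [Module A X₃]
    (M : Type u) [AddCommGroup M] [Module A M]
    (a : X₀ →ₗ[A] X₁) (b : X₁ →ₗ[A] X₂) (c : X₂ →ₗ[A] X₃)
    (hab : Function.Exact a b) (hbc : Function.Exact b c) [Module.Flat A (LinearMap.range c)] :
    Function.Exact (a.rTensor M) (b.rTensor M) := by
  let b' : X₁ →ₗ[A] LinearMap.ker c := b.codRestrict _ (fun x => hbc.apply_apply_eq_zero x)
  have hb' : Function.Surjective b' := by
    rintro ⟨y, hy⟩
    obtain ⟨x, rfl⟩ := (hbc y).1 hy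
    exact ⟨x, rfl⟩
  have hab' : Function.Exact a b' := by
    intro x
    rw [← hab x]
    constructor
    · intro h
      exact congrArg Subtype.val h
    · intro h
      exact Subtype.ext h
  have h1 : Function.Exact (a.rTensor M) (b'.rTensor M) := rTensor_exact M hab' hb'
  have hinj : Function.Injective ((LinearMap.ker c).subtype.rTensor M) := by
    rw [← LinearMap.lTensor_inj_iff_rTensor_inj]
    refine LinearMap.lTensor_injective_of_exact_of_flat c.rangeRestrict c.surjective_rangeRestrict
      (LinearMap.ker c).subtype (Submodule.subtype_injective _) ?_ M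
    intro y
    constructor
    · intro hy
      have : c y = 0 := congrArg Subtype.val hy
      exact ⟨⟨y, this⟩, rfl⟩
    · rintro ⟨z, rfl⟩
      exact Subtype.ext z.2
  have hfac : b.rTensor M = ((LinearMap.ker c).subtype.rTensor M) ∘ₗ (b'.rTensor M) := by
    rw [← LinearMap.rTensor_comp]
    rfl
  intro x
  rw [← h1 x, hfac, LinearMap.comp_apply]
  constructor
  · intro h
    exact hinj (h.trans (map_zero _).symm)
  · intro h
    rw [h, map_zero]

end alg

section cx

variable {A : Type u} [CommRing A]

/-- an acyclic bounded above complex of flat modules stays acyclic after `- ⊗ M`. -/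
theorem acyclic_tensor (K : CochainComplex (ModuleCat.{u} A) ℤ) (hK : ∀ i, Module.Flat A (K.X i))
    (b : ℤ) (hb : ∀ i, b < i → IsZero (K.X i)) (hac : K.Acyclic) (M : ModuleCat.{u} A) :
    (((MonoidalCategory.tensorRight M).mapHomologicalComplex (ComplexShape.up ℤ)).obj K).Acyclic := by
  intro n
  have hexact : ∀ m : ℤ, Function.Exact (K.d (m - 1) m).hom (K.d m (m + 1)).hom := by
    intro m
    have h := hac m
    rw [HomologicalComplex.exactAt_iff' K (m - 1) m (m + 1) (by simp) (by simp)] at h
    exact (ShortComplex.ShortExact.moduleCat_exact_iff_function_exact _).1 h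
  have h1 : Function.Exact (K.d (n - 1) n).hom (K.d n (n + 1)).hom := hexact n
  have h2 : Function.Exact (K.d n (n + 1)).hom (K.d (n + 1) (n + 1 + 1)).hom := by
    have := hexact (n + 1)
    rwa [show n + 1 - 1 = n by omega] at this
  have h3 : Function.Exact (K.d (n + 1) (n + 1 + 1)).hom (K.d (n + 1 + 1) (n + 1 + 1 + 1)).hom := by
    have := hexact (n + 1 + 1)
    rwa [show n + 1 + 1 - 1 = n + 1 by omega] at this
  haveI hflat : Module.Flat A (LinearMap.range (K.d (n + 1) (n + 1 + 1)).hom) := by
    have hrk : LinearMap.range (K.d (n + 1) (n + 1 + 1)).hom =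
        LinearMap.ker (K.d (n + 1 + 1) (n + 1 + 1 + 1)).hom := (LinearMap.exact_iff.1 h3).symm
    rw [hrk]
    have hac' : ∀ p, n + 1 + 1 < p → IsZero (K.homology p) := fun p _ =>
      (HomologicalComplex.exactAt_iff_isZero_homology K p).1 (hac p)
    refine Groth.Agent.S14612.flatZ A K hK b hb (n + 1 + 1) hac' (b - (n + 1 + 1) + 1).toNat
      (n + 1 + 1) le_rfl ?_
    have := Int.self_le_toNat (b - (n + 1 + 1) + 1)
    omega
  rw [HomologicalComplex.exactAt_iff' _ (n - 1) n (n + 1) (by simp) (by simp)]
  rw [ShortComplex.ShortExact.moduleCat_exact_iff_function_exact]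
  exact rTensor_exact_of_flat_range M (K.d (n - 1) n).hom (K.d n (n + 1)).hom
    (K.d (n + 1) (n + 1 + 1)).hom h1 h2

/-- acyclicity is invariant under isomorphism. -/
theorem acyclic_of_iso {K L : CochainComplex (ModuleCat.{u} A) ℤ} (e : K ≅ L) (h : K.Acyclic) :
    L.Acyclic := by
  intro n
  rw [HomologicalComplex.exactAt_iff_isZero_homology]
  have h1 := (HomologicalComplex.exactAt_iff_isZero_homology K n).1 (h n)
  exact IsZero.of_iso h1 ((HomologicalComplex.homologyFunctor _ _ n).mapIso e.symm)

/-- the terms of the mapping cone. -/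
noncomputable def coneXEquiv {C D : CochainComplex (ModuleCat.{u} A) ℤ} (φ : C ⟶ D) (n : ℤ) :
    (CochainComplex.mappingCone φ).X n ≃ₗ[A] (C.X (n + 1) × D.X n) :=
  ((HomologicalComplex.homotopyCofiber.XIsoBiprod φ n (n + 1) (by simp)) ≪≫
    ModuleCat.biprodIsoProd _ _).toLinearEquiv

theorem quasiIso_tensor (C D : CochainComplex (ModuleCat.{u} A) ℤ)
    (hC : ∀ i, Module.Flat A (C.X i)) (hD : ∀ i, Module.Flat A (D.X i))
    (bC : ∃ b : ℤ, ∀ i, b < i → IsZero (C.X i)) (bD : ∃ b : ℤ, ∀ i, b < i → IsZero (D.X i))
    (φ : C ⟶ D) [QuasiIso φ] (M : ModuleCat.{u} A) :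
    QuasiIso (((MonoidalCategory.tensorRight M).mapHomologicalComplex (ComplexShape.up ℤ)).map φ) := by
  obtain ⟨b₁, hb₁⟩ := bC
  obtain ⟨b₂, hb₂⟩ := bD
  have hKac : (CochainComplex.mappingCone φ).Acyclic :=
    (quasiIso_iff_acyclic_mappingCone φ).1 inferInstance
  have hKflat : ∀ n, Module.Flat A ((CochainComplex.mappingCone φ).X n) := fun n => by
    haveI := hC (n + 1)
    haveI := hD n
    haveI := flat_prod (A := A) (C.X (n + 1)) (D.X n)
    exact Module.Flat.of_linearEquiv (coneXEquiv φ n)
  have hKb : ∀ i, max b₁ b₂ < i → IsZero ((CochainComplex.mappingCone φ).X i) := fun i hi => by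
    haveI : Subsingleton (C.X (i + 1)) :=
      ModuleCat.subsingleton_of_isZero (hb₁ (i + 1) (by have := le_max_left b₁ b₂; omega))
    haveI : Subsingleton (D.X i) :=
      ModuleCat.subsingleton_of_isZero (hb₂ i (by have := le_max_right b₁ b₂; omega))
    haveI : Subsingleton ((CochainComplex.mappingCone φ).X i) := (coneXEquiv φ i).subsingleton
    exact ModuleCat.isZero_of_subsingleton _
  have h1 := acyclic_tensor (CochainComplex.mappingCone φ) hKflat (max b₁ b₂) hKb hKac M
  rw [quasiIso_iff_acyclic_mappingCone]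
  exact acyclic_of_iso
    (CochainComplex.mappingCone.mapHomologicalComplexIso φ (MonoidalCategory.tensorRight M)) h1

end cx

end Groth.Agent.H19.ConeTensor
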