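import Mathlib
import Groth.Agent.H13.DerivedLES
import Groth.Agent.H13.DerivedLin
import Groth.Agent.S3525

set_option autoImplicit false
universe u

/-!
The long exact sequence of Mathlib's `Tor` (left derived in the second variable) with respect to a
short exact sequence in the FIRST variable, and linearity / additivity of `Tor_n(-, M)`.
-/

namespace Groth.Agent.H19.TorFirst

open CategoryTheory CategoryTheory.Limits MonoidalCategory

variable {A : Type u} [CommRing A]

section LES

variable (S : ShortComplex (ModuleCat.{u} A)) (hS : S.ShortExact)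

theorem w : (tensoringLeft (ModuleCat.{u} A)).map S.f ≫ (tensoringLeft (ModuleCat.{u} A)).map S.g = 0 := by
  rw [← Functor.map_comp, S.zero, Functor.map_zero]

include hS in
theorem hex (X : ModuleCat.{u} A) (hX : Projective X) :
    (ShortComplex.mk (((tensoringLeft (ModuleCat.{u} A)).map S.f).app X)
      (((tensoringLeft (ModuleCat.{u} A)).map S.g).app X)
      (Groth.Agent.H13.DerivedLES.app_zero _ _ (w S) X)).ShortExact := by
  haveI : Module.Projective A X := (IsProjective.iff_projective (R := A) X).2 hX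
  haveI : Module.Flat A X := inferInstance
  exact hS.map_of_exact (tensorRight X)

variable (M : ModuleCat.{u} A) (n : ℕ)

/-- the connecting map `Tor_{n+1}(S.X₃, M) ⟶ Tor_n(S.X₁, M)`. -/
noncomputable def δ : ((Tor (ModuleCat.{u} A) (n + 1)).obj S.X₃).obj M ⟶
    ((Tor (ModuleCat.{u} A) n).obj S.X₁).obj M :=
  Groth.Agent.H13.DerivedLES.δ _ _ (w S) (hex S hS) M n

theorem map_f_g : ((Tor (ModuleCat.{u} A) n).map S.f).app M ≫
    ((Tor (ModuleCat.{u} A) n).map S.g).app M = 0 :=
  Groth.Agent.H13.DerivedLES.leftDerived_comp_zero _ _ (w S) M n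

theorem δ_map_f : δ S hS M n ≫ ((Tor (ModuleCat.{u} A) n).map S.f).app M = 0 :=
  Groth.Agent.H13.DerivedLES.δ_comp _ _ (w S) (hex S hS) M n

theorem map_g_δ : ((Tor (ModuleCat.{u} A) (n + 1)).map S.g).app M ≫ δ S hS M n = 0 :=
  Groth.Agent.H13.DerivedLES.comp_δ _ _ (w S) (hex S hS) M n

include hS in
theorem exact₂ : (ShortComplex.mk _ _ (map_f_g S M n)).Exact :=
  Groth.Agent.H13.DerivedLES.exact₂ _ _ (w S) (hex S hS) M n

theorem exact₁ : (ShortComplex.mk _ _ (δ_map_f S hS M n)).Exact :=
  Groth.Agent.H13.DerivedLES.exact₁ _ _ (w S) (hex S hS) M n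

theorem exact₃ : (ShortComplex.mk _ _ (map_g_δ S hS M n)).Exact :=
  Groth.Agent.H13.DerivedLES.exact₃ _ _ (w S) (hex S hS) M n

/-- the connecting map as a natural transformation in the second variable. -/
noncomputable def δNat : (Tor (ModuleCat.{u} A) (n + 1)).obj S.X₃ ⟶
    (Tor (ModuleCat.{u} A) n).obj S.X₁ where
  app M := δ S hS M n
  naturality _ _ f :=
    (Groth.Agent.H13.DerivedLES.δ_naturality _ _ (w S) (hex S hS) f n).symm

end LES


section Functor

variable (M : ModuleCat.{u} A) (n : ℕ)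

/-- `Tor_n(-, M)`. -/
noncomputable abbrev TorF : ModuleCat.{u} A ⥤ ModuleCat.{u} A :=
  (Tor (ModuleCat.{u} A) n).flip.obj M

theorem Φ_map_add (P : ChainComplex (ModuleCat.{u} A) ℕ) {X Y : ModuleCat.{u} A} (f g : X ⟶ Y) :
    (Groth.Agent.S3525.Φ A P).map (f + g) =
      (Groth.Agent.S3525.Φ A P).map f + (Groth.Agent.S3525.Φ A P).map g := by
  apply HomologicalComplex.hom_ext
  intro i
  have h : (f + g) ▷ P.X i = f ▷ P.X i + g ▷ P.X i := by simp
  exact h

instance Φ_additive (P : ChainComplex (ModuleCat.{u} A) ℕ) :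
    (Groth.Agent.S3525.Φ A P).Additive := ⟨fun {_ _ f g} => Φ_map_add P f g⟩

instance TorF_additive : (TorF M n).Additive :=
  Functor.additive_of_iso (Groth.Agent.S3525.torIso A M n (projectiveResolution M)).symm

theorem tensoringLeft_map_smul (a : A) {X Y : ModuleCat.{u} A} (f : X ⟶ Y) :
    (tensoringLeft (ModuleCat.{u} A)).map (a • f) = a • (tensoringLeft (ModuleCat.{u} A)).map f := by
  ext Z : 2
  have h : (a • f) ▷ Z = a • (f ▷ Z) := by simp
  exact h

theorem TorF_map_smul (a : A) {X Y : ModuleCat.{u} A} (f : X ⟶ Y) :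
    (TorF M n).map (a • f) = a • (TorF M n).map f := by
  show (NatTrans.leftDerived ((tensoringLeft (ModuleCat.{u} A)).map (a • f)) n).app M =
    a • (NatTrans.leftDerived ((tensoringLeft (ModuleCat.{u} A)).map f) n).app M
  rw [tensoringLeft_map_smul]
  exact Groth.Agent.H13.DerivedLES.natTrans_leftDerived_smul a _ M n

instance TorF_linear : (TorF M n).Linear A := ⟨fun f a => TorF_map_smul M n a f⟩

theorem TorF_preservesFiltered (J : Type u) [SmallCategory J] [IsFiltered J] :
    PreservesColimitsOfShape J (TorF M n) :=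
  Groth.Agent.S3525.result A n M J

/-- `Tor_n(a • 𝟙, M)` is multiplication by `a`. -/
theorem TorF_map_smul_id_apply (N : ModuleCat.{u} A) (a : A) (y : (TorF M n).obj N) :
    ((TorF M n).map (a • 𝟙 N)).hom y = a • y := by
  rw [TorF_map_smul, CategoryTheory.Functor.map_id]
  rfl

end Functor

section Consequences

variable (S : ShortComplex (ModuleCat.{u} A)) (hS : S.ShortExact) (M : ModuleCat.{u} A) (n : ℕ)

include hS in
theorem isZero_mid (h1 : IsZero (((Tor (ModuleCat.{u} A) n).obj S.X₁).obj M))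
    (h3 : IsZero (((Tor (ModuleCat.{u} A) n).obj S.X₃).obj M)) :
    IsZero (((Tor (ModuleCat.{u} A) n).obj S.X₂).obj M) :=
  (exact₂ S hS M n).isZero_of_both_zeros (h1.eq_of_src _ _) (h3.eq_of_tgt _ _)

include hS in
theorem mono_map_f (h3 : IsZero (((Tor (ModuleCat.{u} A) (n + 1)).obj S.X₃).obj M)) :
    Mono (((Tor (ModuleCat.{u} A) n).map S.f).app M) :=
  (exact₁ S hS M n).mono_g (h3.eq_of_src _ _)

include hS in
theorem epi_map_f (h3 : IsZero (((Tor (ModuleCat.{u} A) n).obj S.X₃).obj M)) :
    Epi (((Tor (ModuleCat.{u} A) n).map S.f).app M) :=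
  (exact₂ S hS M n).epi_f (h3.eq_of_tgt _ _)

include hS in
theorem bijective_map_f (h3 : IsZero (((Tor (ModuleCat.{u} A) (n + 1)).obj S.X₃).obj M))
    (h3' : IsZero (((Tor (ModuleCat.{u} A) n).obj S.X₃).obj M)) :
    Function.Bijective (((Tor (ModuleCat.{u} A) n).map S.f).app M).hom :=
  ⟨(ModuleCat.mono_iff_injective _).1 (mono_map_f S hS M n h3),
    (ModuleCat.epi_iff_surjective _).1 (epi_map_f S hS M n h3')⟩

end Consequences

end Groth.Agent.H19.TorFirst
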