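import Mathlib
import Groth.Agent.H13.TorBC

set_option autoImplicit false
universe u

/-!
Dimension shifting for `Tor` in the first variable along a short exact sequence with flat middle
term (built on helper13's `tor_succ_equiv₁`).
-/

namespace Groth.Agent.H19.TorShift

open TensorProduct CategoryTheory Function
open Groth.Agent.H13.TorBal Groth.Agent.H13.TorBC

variable {A : Type u} [CommRing A]

section Splice

variable (X : ℕ → ModuleCat.{u} A) (F : ModuleCat.{u} A)

/-- the spliced family. -/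
def SX : ℕ → ModuleCat.{u} A
  | 0 => F
  | (n + 1) => X n

theorem flat_SX (hX : ∀ n, Module.Flat A (X n)) (hF : Module.Flat A F) :
    ∀ n, Module.Flat A (SX X F n)
  | 0 => hF
  | (n + 1) => hX n

variable {X F}

/-- the spliced differentials. -/
def Sd (d : ∀ n, X (n + 1) →ₗ[A] X n) (j : X 0 →ₗ[A] F) : ∀ n, SX X F (n + 1) →ₗ[A] SX X F n
  | 0 => j
  | (n + 1) => d n

end Splice

section Shift

variable {K N : Type u} {F : ModuleCat.{u} A} [AddCommGroup K] [Module A K]
  [AddCommGroup N] [Module A N]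
  (i : K →ₗ[A] F) (p : F →ₗ[A] N) (hi : Injective i) (hp : Surjective p) (hip : Exact i p)
  (M : Type u) [AddCommGroup M] [Module A M]

section aux

variable (X : ℕ → ModuleCat.{u} A)
  (d : ∀ n, X (n + 1) →ₗ[A] X n) (ε : X 0 →ₗ[A] K) (hε : Surjective ε) (h0 : Exact (d 0) ε)
  (hd : ∀ n, Exact (d (n + 1)) (d n))

include hip hε in
theorem splice_exact_zero : Exact (Sd d (i ∘ₗ ε) 0) p := by
  intro y
  constructor
  · intro hy
    obtain ⟨k, rfl⟩ := (hip y).1 hy
    obtain ⟨x, rfl⟩ := hε k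
    exact ⟨x, rfl⟩
  · rintro ⟨x, rfl⟩
    exact hip.apply_apply_eq_zero (ε x)

include hi h0 in
theorem splice_exact_one : Exact (Sd d (i ∘ₗ ε) 1) (Sd d (i ∘ₗ ε) 0) := by
  intro y
  constructor
  · intro hy
    have : ε y = 0 := hi (by rw [map_zero]; exact hy)
    exact (h0 y).1 this
  · rintro ⟨x, rfl⟩
    exact (congrArg i (h0.apply_apply_eq_zero (x : X 1))).trans (map_zero i)

include hi h0 hd in
theorem splice_exact_succ (n : ℕ) : Exact (Sd d (i ∘ₗ ε) (n + 1)) (Sd d (i ∘ₗ ε) n) := by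
  cases n with
  | zero => exact splice_exact_one i hi X d ε h0
  | succ n => exact hd n

end aux

variable [Module.Flat A F]

include hi hp hip in
/-- `Tor₁(N, M) ≃ ker (K ⊗ M → F ⊗ M)`. -/
theorem tor_one_equiv : Nonempty (DRing.Tor A 1 N M ≃ₗ[A] LinearMap.ker (i.rTensor M)) := by
  obtain ⟨Q⟩ : Nonempty (ProjectiveResolution (ModuleCat.of A K)) := ⟨ProjectiveResolution.of _⟩
  haveI : ∀ n, Module.Flat A ↑(SX (fun n => Q.complex.X n) F n) :=
    flat_SX _ _ (flat_X Q) inferInstance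
  exact tor_succ_equiv₁ (N := M) (fun n => ↑(SX (fun n => Q.complex.X n) F n))
    (Sd (dd Q) (i ∘ₗ aug Q)) p hp
    (splice_exact_zero i p hip (fun n => Q.complex.X n) (dd Q) (aug Q) (aug_surjective Q))
    (splice_exact_succ i hi (fun n => Q.complex.X n) (dd Q) (aug Q) (exact_aug Q) (exact_dd Q))
    0 (aug Q) i (aug_surjective Q) hi rfl

include hi hp hip in
/-- `Tor_{n+2}(N, M) ≃ Tor_{n+1}(K, M)`. -/
theorem tor_succ_succ_equiv (n : ℕ) :
    Nonempty (DRing.Tor A (n + 2) N M ≃ₗ[A] DRing.Tor A (n + 1) K M) := by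
  obtain ⟨Q⟩ : Nonempty (ProjectiveResolution (ModuleCat.of A K)) := ⟨ProjectiveResolution.of _⟩
  haveI : ∀ n, Module.Flat A ↑(SX (fun n => Q.complex.X n) F n) :=
    flat_SX _ _ (flat_X Q) inferInstance
  haveI : ∀ n, Module.Flat A ↑(Q.complex.X n) := flat_X Q
  obtain ⟨e1⟩ := tor_succ_equiv₁ (N := M) (fun n => ↑(SX (fun n => Q.complex.X n) F n))
    (Sd (dd Q) (i ∘ₗ aug Q)) p hp
    (splice_exact_zero i p hip (fun n => Q.complex.X n) (dd Q) (aug Q) (aug_surjective Q))
    (splice_exact_succ i hi (fun n => Q.complex.X n) (dd Q) (aug Q) (exact_aug Q) (exact_dd Q))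
    (n + 1) (LinearMap.rangeRestrict (dd Q n)) (LinearMap.range (dd Q n)).subtype
    (LinearMap.surjective_rangeRestrict (dd Q n)) (Submodule.injective_subtype _) rfl
  obtain ⟨e2⟩ := tor_succ_equiv₁ (N := M) (M := K) (fun n => ↑(Q.complex.X n)) (dd Q) (aug Q)
    (aug_surjective Q) (exact_aug Q) (exact_dd Q)
    n (LinearMap.rangeRestrict (dd Q n)) (LinearMap.range (dd Q n)).subtype
    (LinearMap.surjective_rangeRestrict (dd Q n)) (Submodule.injective_subtype _) rfl
  exact ⟨e1.trans e2.symm⟩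

end Shift

section Shift'

variable {K F N : Type u} [AddCommGroup K] [Module A K] [AddCommGroup F] [Module A F]
  [AddCommGroup N] [Module A N] [Module.Flat A F]
  (i : K →ₗ[A] F) (p : F →ₗ[A] N) (hi : Injective i) (hp : Surjective p) (hip : Exact i p)
  (M : Type u) [AddCommGroup M] [Module A M]

include hi hp hip in
/-- `Tor₁(N, M) ≃ ker (K ⊗ M → F ⊗ M)`. -/
theorem tor_one_equiv' : Nonempty (DRing.Tor A 1 N M ≃ₗ[A] LinearMap.ker (i.rTensor M)) :=
  tor_one_equiv (F := ModuleCat.of A F) i p hi hp hip M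

include hi hp hip in
/-- `Tor_{n+2}(N, M) ≃ Tor_{n+1}(K, M)`. -/
theorem tor_succ_succ_equiv' (n : ℕ) :
    Nonempty (DRing.Tor A (n + 2) N M ≃ₗ[A] DRing.Tor A (n + 1) K M) :=
  tor_succ_succ_equiv (F := ModuleCat.of A F) i p hi hp hip M n

end Shift'

end Groth.Agent.H19.TorShift
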