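import Mathlib
import Groth.Agent.H13.DerivedLES
import Groth.Agent.H19.TorFirst

/-!
# Naturality of the connecting morphism of derived functors in the short exact sequence
-/

set_option autoImplicit false

namespace Groth.Agent.H19.TorNat

open CategoryTheory Limits Groth.Agent.H13.DerivedLES MonoidalCategory

section general

universe v v' u u'

variable {C : Type u} [Category.{v} C] [Abelian C] [HasProjectiveResolutions C]
  {D : Type u'} [Category.{v'} D] [Abelian D]
  {F₁ F₂ F₃ G₁ G₂ G₃ : C ⥤ D} [F₁.Additive] [F₂.Additive] [F₃.Additive]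
  [G₁.Additive] [G₂.Additive] [G₃.Additive]
  (a : F₁ ⟶ F₂) (b : F₂ ⟶ F₃) (w : a ≫ b = 0)
  (a' : G₁ ⟶ G₂) (b' : G₂ ⟶ G₃) (w' : a' ≫ b' = 0)
  (hex : ∀ (X : C), Projective X →
    (ShortComplex.mk (a.app X) (b.app X) (app_zero a b w X)).ShortExact)
  (hex' : ∀ (X : C), Projective X →
    (ShortComplex.mk (a'.app X) (b'.app X) (app_zero a' b' w' X)).ShortExact)
  (τ₁ : F₁ ⟶ G₁) (τ₂ : F₂ ⟶ G₂) (τ₃ : F₃ ⟶ G₃)

/-- the morphism of short complexes of complexes induced by a morphism of triples. -/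
noncomputable def scMapτ (c₁ : a ≫ τ₂ = τ₁ ≫ a') (c₂ : b ≫ τ₃ = τ₂ ≫ b')
    (K : ChainComplex C ℕ) : sc a b w K ⟶ sc a' b' w' K where
  τ₁ := (NatTrans.mapHomologicalComplex τ₁ (ComplexShape.down ℕ)).app K
  τ₂ := (NatTrans.mapHomologicalComplex τ₂ (ComplexShape.down ℕ)).app K
  τ₃ := (NatTrans.mapHomologicalComplex τ₃ (ComplexShape.down ℕ)).app K
  comm₁₂ := by
    ext n
    exact (congr_app c₁ (K.X n)).symm
  comm₂₃ := by
    ext n
    exact (congr_app c₂ (K.X n)).symm

theorem δ_naturality_functor (c₁ : a ≫ τ₂ = τ₁ ≫ a') (c₂ : b ≫ τ₃ = τ₂ ≫ b') (X : C) (n : ℕ) :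
    δ a b w hex X n ≫ (NatTrans.leftDerived τ₁ n).app X =
      (NatTrans.leftDerived τ₃ (n + 1)).app X ≫ δ a' b' w' hex' X n := by
  have key := HomologicalComplex.HomologySequence.δ_naturality
    (scMapτ a b w a' b' w' τ₁ τ₂ τ₃ c₁ c₂ (projectiveResolution X).complex)
    (sc_shortExact a b w hex _ (projectiveResolution X).projective)
    (sc_shortExact a' b' w' hex' _ (projectiveResolution X).projective) (n + 1) n (by simp)
  rw [(projectiveResolution X).leftDerived_app_eq τ₁ n,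
    (projectiveResolution X).leftDerived_app_eq τ₃ (n + 1)]
  dsimp only [δ, δP, δH]
  simp only [Category.assoc, Iso.inv_hom_id_assoc]
  congr 1
  rw [← Category.assoc, ← Category.assoc]
  congr 1

end general

section tor

universe u

variable {A : Type u} [CommRing A]

theorem δ_naturality_sc {S S' : ShortComplex (ModuleCat.{u} A)} (hS : S.ShortExact)
    (hS' : S'.ShortExact) (φ : S ⟶ S') (M : ModuleCat.{u} A) (n : ℕ) :
    Groth.Agent.H19.TorFirst.δ S hS M n ≫ ((Tor (ModuleCat.{u} A) n).map φ.τ₁).app M =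
      ((Tor (ModuleCat.{u} A) (n + 1)).map φ.τ₃).app M ≫
        Groth.Agent.H19.TorFirst.δ S' hS' M n :=
  δ_naturality_functor _ _ (Groth.Agent.H19.TorFirst.w S) _ _ (Groth.Agent.H19.TorFirst.w S')
    (Groth.Agent.H19.TorFirst.hex S hS) (Groth.Agent.H19.TorFirst.hex S' hS')
    ((tensoringLeft (ModuleCat.{u} A)).map φ.τ₁) ((tensoringLeft (ModuleCat.{u} A)).map φ.τ₂)
    ((tensoringLeft (ModuleCat.{u} A)).map φ.τ₃)
    (by rw [← Functor.map_comp, ← Functor.map_comp, φ.comm₁₂])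
    (by rw [← Functor.map_comp, ← Functor.map_comp, φ.comm₂₃]) M n

end tor

end Groth.Agent.H19.TorNat
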