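import Mathlib

set_option autoImplicit false
universe u

/-!
Naturality of `F.fromLeftDerivedZero` in the functor `F`, and the natural identification
`Tor_0(L, X) ≅ L ⊗ X` (natural in both variables).
-/

namespace Groth.Agent.H19.TorZero

open CategoryTheory CategoryTheory.Limits MonoidalCategory

section general

variable {C D : Type*} [Category C] [Category D] [Abelian C] [HasProjectiveResolutions C]
  [Abelian D]

theorem fromLeftDerivedZero_naturality {F G : C ⥤ D} [F.Additive] [G.Additive] (α : F ⟶ G)
    (X : C) :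
    (NatTrans.leftDerived α 0).app X ≫ G.fromLeftDerivedZero.app X =
      F.fromLeftDerivedZero.app X ≫ α.app X := by
  let P := projectiveResolution X
  rw [P.fromLeftDerivedZero_eq G, P.fromLeftDerivedZero_eq F, P.leftDerived_app_eq α 0]
  simp only [Category.assoc, Iso.inv_hom_id_assoc]
  congr 1
  change HomologicalComplex.homologyMap
      ((NatTrans.mapHomologicalComplex α (ComplexShape.down ℕ)).app P.complex) 0 ≫
      ((G.mapHomologicalComplex _).obj P.complex).homologyι 0 ≫ P.fromLeftDerivedZero' G =
    ((F.mapHomologicalComplex _).obj P.complex).homologyι 0 ≫ P.fromLeftDerivedZero' F ≫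
      α.app X
  have h2 : HomologicalComplex.opcyclesMap
        ((NatTrans.mapHomologicalComplex α (ComplexShape.down ℕ)).app P.complex) 0 ≫
      P.fromLeftDerivedZero' G = P.fromLeftDerivedZero' F ≫ α.app X := by
    rw [← cancel_epi (HomologicalComplex.pOpcycles _ _)]
    rw [HomologicalComplex.p_opcyclesMap_assoc]
    rw [ProjectiveResolution.pOpcycles_comp_fromLeftDerivedZero',
      ProjectiveResolution.pOpcycles_comp_fromLeftDerivedZero'_assoc]
    exact (α.naturality (P.π.f 0)).symm
  rw [HomologicalComplex.homologyι_naturality_assoc, h2]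

end general

section tor

variable {A : Type u} [CommRing A]

/-- `Tor_0(L, -) ≅ L ⊗ -`. -/
noncomputable def tor0Iso (L : ModuleCat.{u} A) :
    (Tor (ModuleCat.{u} A) 0).obj L ≅ tensorLeft L :=
  ((tensoringLeft (ModuleCat.{u} A)).obj L).leftDerivedZeroIsoSelf

theorem tor0Iso_naturality {L L' : ModuleCat.{u} A} (φ : L ⟶ L') (X : ModuleCat.{u} A) :
    ((Tor (ModuleCat.{u} A) 0).map φ).app X ≫ (tor0Iso L').hom.app X =
      (tor0Iso L).hom.app X ≫ (φ ▷ X) :=
  fromLeftDerivedZero_naturality ((tensoringLeft (ModuleCat.{u} A)).map φ) X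

theorem tor0Iso_naturality_apply {L L' : ModuleCat.{u} A} (φ : L ⟶ L') (X : ModuleCat.{u} A)
    (y : ((Tor (ModuleCat.{u} A) 0).obj L).obj X) :
    ((tor0Iso L').hom.app X).hom ((((Tor (ModuleCat.{u} A) 0).map φ).app X).hom y) =
      (φ ▷ X).hom (((tor0Iso L).hom.app X).hom y) :=
  congrArg (fun f => f.hom y) (tor0Iso_naturality φ X)

theorem tor0Iso_bijective (L X : ModuleCat.{u} A) :
    Function.Bijective ((tor0Iso L).hom.app X).hom :=
  ConcreteCategory.bijective_of_isIso ((tor0Iso L).hom.app X)

/-- injectivity of `Tor_0(φ, X)` from injectivity of `φ ⊗ X`. -/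
theorem tor0_map_injective {L L' : ModuleCat.{u} A} (φ : L ⟶ L') (X : ModuleCat.{u} A)
    (h : Function.Injective (φ.hom.rTensor X)) :
    Function.Injective (((Tor (ModuleCat.{u} A) 0).map φ).app X).hom := by
  intro y y' hyy'
  apply (tor0Iso_bijective L X).1
  apply h
  have h1 := tor0Iso_naturality_apply φ X y
  have h2 := tor0Iso_naturality_apply φ X y'
  rw [hyy'] at h1
  exact h1.symm.trans h2

end tor

end Groth.Agent.H19.TorZero
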