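import Mathlib
import Groth.Agent.H19.TorNat
import Groth.Agent.H19.TorZero
import Groth.Agent.S3527
import Groth.Agent.H13.TorBal

/-!
# A natural isomorphism `Tor_i(M, N) ≅ Tor_i(N, M)`
-/

set_option autoImplicit false
universe u

namespace Groth.Agent.H19.TorFlip

open CategoryTheory CategoryTheory.Limits MonoidalCategory

variable {A : Type u} [CommRing A]

section syzygy

variable {X Y : ModuleCat.{u} A} (P : ProjectiveResolution X) (Q : ProjectiveResolution Y)

/-- the `k`-th syzygy of `X` with respect to `P` (the zeroth one is `≅ X`). -/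
noncomputable abbrev Z (k : ℕ) : ModuleCat.{u} A := P.complex.opcycles k

theorem fromOpcycles_pOpcycles (k : ℕ) :
    P.complex.fromOpcycles (k + 1) k ≫ P.complex.pOpcycles k = 0 := by
  rw [← cancel_epi (P.complex.pOpcycles (k + 1)), HomologicalComplex.p_fromOpcycles_assoc,
    HomologicalComplex.d_pOpcycles, comp_zero]

/-- the sequence `0 → Z_{k+1} → P_k → Z_k → 0`. -/
noncomputable abbrev Ssc (k : ℕ) : ShortComplex (ModuleCat.{u} A) :=
  ShortComplex.mk (P.complex.fromOpcycles (k + 1) k) (P.complex.pOpcycles k)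
    (fromOpcycles_pOpcycles P k)

theorem mono_fromOpcycles (k : ℕ) : Mono (P.complex.fromOpcycles (k + 1) k) :=
  Preadditive.mono_of_isZero_kernel' _ (P.complex.homologyIsKernel (k + 1) k (by simp))
    (P.complex_exactAt_succ k).isZero_homology

theorem Ssc_shortExact (k : ℕ) : (Ssc P k).ShortExact := by
  haveI : Mono (Ssc P k).f := mono_fromOpcycles P k
  haveI : Epi (Ssc P k).g := inferInstanceAs (Epi (P.complex.pOpcycles k))
  refine ShortComplex.ShortExact.mk ?_
  exact ShortComplex.exact_of_g_is_cokernel _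
    (isCokernelOfComp (P.complex.pOpcycles (k + 1)) (P.complex.d (k + 1) k)
      (P.complex.opcyclesIsCokernel (k + 1) k (by simp)) (fromOpcycles_pOpcycles P k)
      (P.complex.p_fromOpcycles (k + 1) k))

variable {P Q}

theorem fromOpcycles_naturality (φ : P.complex ⟶ Q.complex) (k : ℕ) :
    HomologicalComplex.opcyclesMap φ (k + 1) ≫ Q.complex.fromOpcycles (k + 1) k =
      P.complex.fromOpcycles (k + 1) k ≫ φ.f k := by
  rw [← cancel_epi (P.complex.pOpcycles (k + 1)), HomologicalComplex.p_opcyclesMap_assoc,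
    HomologicalComplex.p_fromOpcycles, HomologicalComplex.p_fromOpcycles_assoc, φ.comm]

/-- functoriality of `Ssc`. -/
noncomputable def SscMap (φ : P.complex ⟶ Q.complex) (k : ℕ) : Ssc P k ⟶ Ssc Q k where
  τ₁ := HomologicalComplex.opcyclesMap φ (k + 1)
  τ₂ := φ.f k
  τ₃ := HomologicalComplex.opcyclesMap φ k
  comm₁₂ := fromOpcycles_naturality φ k
  comm₂₃ := (HomologicalComplex.p_opcyclesMap φ k).symm

variable (P Q)

/-- `Z_0 ≅ X`. -/
noncomputable def ε : Z P 0 ≅ X :=
  IsColimit.coconePointUniqueUpToIso (P.complex.opcyclesIsCokernel 1 0 (by simp))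
    P.isColimitCokernelCofork

theorem p_ε_hom : P.complex.pOpcycles 0 ≫ (ε P).hom = P.π.f 0 :=
  IsColimit.comp_coconePointUniqueUpToIso_hom (P.complex.opcyclesIsCokernel 1 0 (by simp))
    P.isColimitCokernelCofork WalkingParallelPair.one

variable {P Q}

theorem ε_naturality (f : X ⟶ Y) (φ : P.complex ⟶ Q.complex)
    (comm : φ.f 0 ≫ Q.π.f 0 = P.π.f 0 ≫ f) :
    HomologicalComplex.opcyclesMap φ 0 ≫ (ε Q).hom = (ε P).hom ≫ f := by
  rw [← cancel_epi (P.complex.pOpcycles 0), HomologicalComplex.p_opcyclesMap_assoc, p_ε_hom]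
  have h1 : P.complex.pOpcycles 0 ≫ (ε P).hom ≫ f = P.π.f 0 ≫ f := by
    rw [← Category.assoc, p_ε_hom]
    rfl
  exact comm.trans h1.symm

end syzygy

section kernels

/-- `a` is a kernel of `g` (elementwise formulation). -/
structure IsKer {X Y W : ModuleCat.{u} A} (a : X ⟶ Y) (g : Y ⟶ W) : Prop where
  inj : Function.Injective a.hom
  zero : a ≫ g = 0
  exact : ∀ y, g.hom y = 0 → ∃ x, a.hom x = y

theorem IsKer.iso_comp {X' X Y W : ModuleCat.{u} A} {a : X ⟶ Y} {g : Y ⟶ W} (h : IsKer a g)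
    (e : X' ⟶ X) (he : Function.Bijective e.hom) : IsKer (e ≫ a) g where
  inj := h.inj.comp he.1
  zero := by rw [Category.assoc, h.zero, comp_zero]
  exact := fun y hy => by
    obtain ⟨x, hx⟩ := h.exact y hy
    obtain ⟨x', rfl⟩ := he.2 x
    exact ⟨x', hx⟩

theorem IsKer.comp_iso {X Y W Y' W' : ModuleCat.{u} A} {a : X ⟶ Y} {g : Y ⟶ W} (h : IsKer a g)
    (e : Y ⟶ Y') (he : Function.Bijective e.hom) (g' : Y' ⟶ W') (w : W ⟶ W')
    (hw : Function.Injective w.hom) (comm : e ≫ g' = g ≫ w) : IsKer (a ≫ e) g' where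
  inj := he.1.comp h.inj
  zero := by rw [Category.assoc, comm, ← Category.assoc, h.zero, zero_comp]
  exact := fun y hy => by
    obtain ⟨y₀, rfl⟩ := he.2 y
    have h1 : (g ≫ w).hom y₀ = 0 := by
      rw [← comm]
      exact hy
    have h2 : g.hom y₀ = 0 := hw (by rw [map_zero]; exact h1)
    obtain ⟨x, hx⟩ := h.exact y₀ h2
    exact ⟨x, congrArg e.hom hx⟩

/-- two kernels of the same map are uniquely isomorphic. -/
theorem IsKer.exists_iso {X X' Y W : ModuleCat.{u} A} {a : X ⟶ Y} {b : X' ⟶ Y} {g : Y ⟶ W}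
    (ha : IsKer a g) (hb : IsKer b g) : ∃ θ : X ≅ X', θ.hom ≫ b = a := by
  have hrange : LinearMap.range a.hom = LinearMap.range b.hom := by
    ext y
    constructor
    · rintro ⟨x, rfl⟩
      exact hb.exact _ (by
        have := congrArg (fun t => t.hom x) ha.zero
        exact this)
    · rintro ⟨x, rfl⟩
      exact ha.exact _ (by
        have := congrArg (fun t => t.hom x) hb.zero
        exact this)
  let θ : X ≃ₗ[A] X' := (LinearEquiv.ofInjective a.hom ha.inj).trans
    ((LinearEquiv.ofEq _ _ hrange).trans (LinearEquiv.ofInjective b.hom hb.inj).symm)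
  refine ⟨θ.toModuleIso, ?_⟩
  apply ModuleCat.hom_ext
  apply LinearMap.ext
  intro x
  show b.hom (θ x) = a.hom x
  have h1 : (LinearEquiv.ofInjective b.hom hb.inj) (θ x) =
      (LinearEquiv.ofEq _ _ hrange) (LinearEquiv.ofInjective a.hom ha.inj x) := by
    simp [θ]
  exact congrArg Subtype.val h1

end kernels


section first

open Groth.Agent.H19.TorFirst

variable {X Y : ModuleCat.{u} A} (P : ProjectiveResolution X) (Q : ProjectiveResolution Y)

theorem isZero_tor_proj (j : ℕ) (hj : 0 < j) (k : ℕ) (N : ModuleCat.{u} A) :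
    IsZero (((Tor (ModuleCat.{u} A) j).obj (P.complex.X k)).obj N) := by
  haveI : Module.Flat A (P.complex.X k) := Groth.Agent.H13.TorBal.flat_X P k
  have h := (Groth.Agent.S3527.result A (P.complex.X k) N j hj).1
  exact @ModuleCat.isZero_of_subsingleton _ _ _ h

/-- iterated connecting maps `Tor_n(Z_k, -) ⟶ Tor_0(Z_m, -)` for `k + n = m`. -/
noncomputable def Δ : ∀ (n k m : ℕ) (_ : k + n = m),
    (Tor (ModuleCat.{u} A) n).obj (Z P k) ⟶ (Tor (ModuleCat.{u} A) 0).obj (Z P m)
  | 0, k, m, h => (Tor (ModuleCat.{u} A) 0).map (eqToHom (by rw [← h]; rfl))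
  | n + 1, k, m, h => δNat (Ssc P k) (Ssc_shortExact P k) n ≫ Δ n (k + 1) m (by omega)

variable {P Q}

theorem Δ_naturality (φ : P.complex ⟶ Q.complex) : ∀ (n k m : ℕ) (h : k + n = m),
    Δ P n k m h ≫ (Tor (ModuleCat.{u} A) 0).map (HomologicalComplex.opcyclesMap φ m) =
      (Tor (ModuleCat.{u} A) n).map (HomologicalComplex.opcyclesMap φ k) ≫ Δ Q n k m h
  | 0, k, m, h => by
    subst h
    have hP : Δ P 0 k (k + 0) rfl = 𝟙 _ := (Tor (ModuleCat.{u} A) 0).map_id _
    have hQ : Δ Q 0 k (k + 0) rfl = 𝟙 _ := (Tor (ModuleCat.{u} A) 0).map_id _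
    rw [hP, hQ]
    exact (Category.id_comp _).trans (Category.comp_id _).symm
  | n + 1, k, m, h => by
    rw [Δ, Δ, Category.assoc, Δ_naturality φ n (k + 1) m _, ← Category.assoc, ← Category.assoc]
    congr 1
    ext N : 2
    exact Groth.Agent.H19.TorNat.δ_naturality_sc (Ssc_shortExact P k) (Ssc_shortExact Q k)
      (SscMap φ k) N n

variable (P Q)

theorem Δ_isKer (N : ModuleCat.{u} A) : ∀ (n k m : ℕ) (h : k + (n + 1) = m + 1),
    IsKer ((Δ P (n + 1) k (m + 1) h).app N)
      (((Tor (ModuleCat.{u} A) 0).map (Ssc P m).f).app N)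
  | 0, k, m, h => by
    obtain rfl : k = m := by omega
    have h1 : (Δ P 1 k (k + 1) h).app N = δ (Ssc P k) (Ssc_shortExact P k) N 0 := by
      have h0 : Δ P 0 (k + 1) (k + 1) rfl = 𝟙 _ := (Tor (ModuleCat.{u} A) 0).map_id _
      show (δNat (Ssc P k) (Ssc_shortExact P k) 0 ≫ Δ P 0 (k + 1) (k + 1) rfl).app N = _
      rw [h0, Category.comp_id]
      rfl
    rw [h1]
    have hmono : Mono (δ (Ssc P k) (Ssc_shortExact P k) N 0) :=
      (exact₃ (Ssc P k) (Ssc_shortExact P k) N 0).mono_g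
        ((isZero_tor_proj P 1 Nat.one_pos k N).eq_of_src _ _)
    refine ⟨(ModuleCat.mono_iff_injective _).1 hmono, δ_map_f _ _ N 0, ?_⟩
    have hex := exact₁ (Ssc P k) (Ssc_shortExact P k) N 0
    rw [ShortComplex.moduleCat_exact_iff] at hex
    exact hex
  | n + 1, k, m, h => by
    have ih := Δ_isKer N n (k + 1) m (by omega)
    have h1 : (Δ P (n + 2) k (m + 1) h).app N =
        δ (Ssc P k) (Ssc_shortExact P k) N (n + 1) ≫
          (Δ P (n + 1) (k + 1) (m + 1) (by omega)).app N := by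
      rw [Δ]
      rfl
    rw [h1]
    refine ih.iso_comp _ ⟨?_, ?_⟩
    · have hmono : Mono (δ (Ssc P k) (Ssc_shortExact P k) N (n + 1)) :=
        (exact₃ (Ssc P k) (Ssc_shortExact P k) N (n + 1)).mono_g
          ((isZero_tor_proj P (n + 2) (by omega) k N).eq_of_src _ _)
      exact (ModuleCat.mono_iff_injective _).1 hmono
    · have hepi : Epi (δ (Ssc P k) (Ssc_shortExact P k) N (n + 1)) :=
        (exact₁ (Ssc P k) (Ssc_shortExact P k) N (n + 1)).epi_f
          ((isZero_tor_proj P (n + 1) (by omega) k N).eq_of_tgt _ _)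
      exact (ModuleCat.epi_iff_surjective _).1 hepi

end first


section second

variable {X Y : ModuleCat.{u} A} (P : ProjectiveResolution X) (Q : ProjectiveResolution Y)

theorem IsKer.of_isLimit {X Y W : ModuleCat.{u} A} {a : X ⟶ Y} {g : Y ⟶ W} (w : a ≫ g = 0)
    (h : IsLimit (KernelFork.ofι a w)) : IsKer a g := by
  haveI : Mono a := mono_of_isLimit_fork h
  refine ⟨(ModuleCat.mono_iff_injective a).1 inferInstance, w, ?_⟩
  have hex := ShortComplex.exact_of_f_is_kernel (ShortComplex.mk a g w) h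
  rw [ShortComplex.moduleCat_exact_iff] at hex
  exact hex

/-- the complex `N ⊗ P`. -/
noncomputable abbrev K (N : ModuleCat.{u} A) : ChainComplex (ModuleCat.{u} A) ℕ :=
  ((tensorLeft N).mapHomologicalComplex (ComplexShape.down ℕ)).obj P.complex

theorem whisker_d_pOpcycles (N : ModuleCat.{u} A) (n : ℕ) :
    N ◁ P.complex.d (n + 1) n ≫ N ◁ P.complex.pOpcycles n = 0 := by
  rw [← MonoidalCategory.whiskerLeft_comp, HomologicalComplex.d_pOpcycles,
    MonoidalPreadditive.whiskerLeft_zero]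

/-- `N ⊗ Z_n` is a cokernel of `N ⊗ d`. -/
noncomputable def cok1 (N : ModuleCat.{u} A) (n : ℕ) :
    IsColimit (CokernelCofork.ofπ (N ◁ P.complex.pOpcycles n) (whisker_d_pOpcycles P N n)) :=
  CokernelCofork.mapIsColimit _ (P.complex.opcyclesIsCokernel (n + 1) n (by simp)) (tensorLeft N)

/-- `N ⊗ Z_n ≅ opcycles_n (N ⊗ P)`. -/
noncomputable def c (N : ModuleCat.{u} A) (n : ℕ) : N ⊗ Z P n ≅ (K P N).opcycles n :=
  IsColimit.coconePointUniqueUpToIso (cok1 P N n)
    ((K P N).opcyclesIsCokernel (n + 1) n (by simp))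

theorem p_c_hom (N : ModuleCat.{u} A) (n : ℕ) :
    N ◁ P.complex.pOpcycles n ≫ (c P N n).hom = (K P N).pOpcycles n :=
  IsColimit.comp_coconePointUniqueUpToIso_hom (cok1 P N n)
    ((K P N).opcyclesIsCokernel (n + 1) n (by simp)) WalkingParallelPair.one

instance (N : ModuleCat.{u} A) (n : ℕ) : Epi (N ◁ P.complex.pOpcycles n) :=
  epi_of_isColimit_cofork (cok1 P N n)

theorem c_hom_fromOpcycles (N : ModuleCat.{u} A) (n : ℕ) :
    (c P N (n + 1)).hom ≫ (K P N).fromOpcycles (n + 1) n =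
      N ◁ P.complex.fromOpcycles (n + 1) n := by
  rw [← cancel_epi (N ◁ P.complex.pOpcycles (n + 1))]
  have h1 : N ◁ P.complex.pOpcycles (n + 1) ≫ (c P N (n + 1)).hom ≫
      (K P N).fromOpcycles (n + 1) n = (K P N).d (n + 1) n := by
    rw [← Category.assoc, p_c_hom]
    exact (K P N).p_fromOpcycles (n + 1) n
  have h2 : N ◁ P.complex.pOpcycles (n + 1) ≫ N ◁ P.complex.fromOpcycles (n + 1) n =
      (K P N).d (n + 1) n := by
    rw [← MonoidalCategory.whiskerLeft_comp, HomologicalComplex.p_fromOpcycles]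
    rfl
  exact h1.trans h2.symm

/-- the second-variable comparison map `Tor_n(N, X) ⟶ N ⊗ Z_n`. -/
noncomputable def b (N : ModuleCat.{u} A) (n : ℕ) :
    ((Tor (ModuleCat.{u} A) n).obj N).obj X ⟶ N ⊗ Z P n :=
  (P.isoLeftDerivedObj (tensorLeft N) n).hom ≫ (K P N).homologyι n ≫ (c P N n).inv

theorem b_isKer (N : ModuleCat.{u} A) (n : ℕ) :
    IsKer (b P N (n + 1)) (N ◁ P.complex.fromOpcycles (n + 1) n) := by
  have h1 : IsKer ((K P N).homologyι (n + 1)) ((K P N).fromOpcycles (n + 1) n) :=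
    IsKer.of_isLimit _ ((K P N).homologyIsKernel (n + 1) n (by simp))
  have h2 := h1.iso_comp (P.isoLeftDerivedObj (tensorLeft N) (n + 1)).hom
    (ConcreteCategory.bijective_of_isIso _)
  have h3 := h2.comp_iso (c P N (n + 1)).inv (ConcreteCategory.bijective_of_isIso _)
    (N ◁ P.complex.fromOpcycles (n + 1) n) (𝟙 _) (fun _ _ h => h)
    (((Iso.inv_comp_eq _).2 (c_hom_fromOpcycles P N n).symm).trans (Category.comp_id _).symm)
  have h4 : b P N (n + 1) = ((P.isoLeftDerivedObj (tensorLeft N) (n + 1)).hom ≫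
      (K P N).homologyι (n + 1)) ≫ (c P N (n + 1)).inv := by
    rw [b, Category.assoc]
    rfl
  rw [h4]
  exact h3

end second


theorem nat_helper {C : Type*} [Category C] {T T' H H' O O' W W' : C} (i : T ≅ H) (i' : T' ≅ H')
    (ι : H ⟶ O) (ι' : H' ⟶ O') (c : W ≅ O) (c' : W' ≅ O')
    (t : T ⟶ T') (hm : H ⟶ H') (om : O ⟶ O') (wm : W ⟶ W')
    (h0 : t ≫ i'.hom = i.hom ≫ hm) (h1 : hm ≫ ι' = ι ≫ om) (h2 : c.hom ≫ om = wm ≫ c'.hom) :
    t ≫ (i'.hom ≫ ι' ≫ c'.inv) = (i.hom ≫ ι ≫ c.inv) ≫ wm := by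
  have h3 : om ≫ c'.inv = c.inv ≫ wm := by
    rw [Iso.comp_inv_eq, Category.assoc, Iso.eq_inv_comp, h2]
  rw [reassoc_of% h0, reassoc_of% h1, h3]
  simp only [Category.assoc]

theorem comp_hom_of_eq {C : Type*} [Category C] {T T' H H' : C} (i : T ≅ H) (i' : T' ≅ H')
    (t : T ⟶ T') (hm : H ⟶ H') (h : t = i.hom ≫ hm ≫ i'.inv) : t ≫ i'.hom = i.hom ≫ hm := by
  rw [h]
  simp

section secondNat

variable {X Y : ModuleCat.{u} A} {P : ProjectiveResolution X} {Q : ProjectiveResolution Y}

/-- the map `N ⊗ P ⟶ N' ⊗ P` induced by `g : N ⟶ N'`. -/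
noncomputable abbrev ψ (P : ProjectiveResolution X) {N N' : ModuleCat.{u} A} (g : N ⟶ N') :
    K P N ⟶ K P N' :=
  (NatTrans.mapHomologicalComplex ((tensoringLeft (ModuleCat.{u} A)).map g)
    (ComplexShape.down ℕ)).app P.complex

theorem c_naturality_res (N : ModuleCat.{u} A) (φ : P.complex ⟶ Q.complex) (n : ℕ) :
    (c P N n).hom ≫ HomologicalComplex.opcyclesMap
        (((tensorLeft N).mapHomologicalComplex (ComplexShape.down ℕ)).map φ) n =
      N ◁ HomologicalComplex.opcyclesMap φ n ≫ (c Q N n).hom := by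
  rw [← cancel_epi (N ◁ P.complex.pOpcycles n)]
  have h1 : N ◁ P.complex.pOpcycles n ≫ (c P N n).hom ≫ HomologicalComplex.opcyclesMap
        (((tensorLeft N).mapHomologicalComplex (ComplexShape.down ℕ)).map φ) n =
      N ◁ φ.f n ≫ (K Q N).pOpcycles n := by
    rw [← Category.assoc, p_c_hom]
    exact HomologicalComplex.p_opcyclesMap
      (((tensorLeft N).mapHomologicalComplex (ComplexShape.down ℕ)).map φ) n
  have h2 : N ◁ P.complex.pOpcycles n ≫ N ◁ HomologicalComplex.opcyclesMap φ n ≫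
      (c Q N n).hom = N ◁ φ.f n ≫ (K Q N).pOpcycles n := by
    rw [← Category.assoc, ← MonoidalCategory.whiskerLeft_comp,
      HomologicalComplex.p_opcyclesMap, MonoidalCategory.whiskerLeft_comp, Category.assoc,
      p_c_hom]
  exact h1.trans h2.symm

theorem c_naturality_left {N N' : ModuleCat.{u} A} (g : N ⟶ N') (n : ℕ) :
    (c P N n).hom ≫ HomologicalComplex.opcyclesMap (ψ P g) n =
      g ▷ Z P n ≫ (c P N' n).hom := by
  rw [← cancel_epi (N ◁ P.complex.pOpcycles n)]
  have h1 : N ◁ P.complex.pOpcycles n ≫ (c P N n).hom ≫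
      HomologicalComplex.opcyclesMap (ψ P g) n = g ▷ P.complex.X n ≫ (K P N').pOpcycles n := by
    rw [← Category.assoc, p_c_hom]
    exact HomologicalComplex.p_opcyclesMap (ψ P g) n
  have h2 : N ◁ P.complex.pOpcycles n ≫ g ▷ Z P n ≫ (c P N' n).hom =
      g ▷ P.complex.X n ≫ (K P N').pOpcycles n := by
    rw [← Category.assoc, MonoidalCategory.whisker_exchange, Category.assoc, p_c_hom]
  exact h1.trans h2.symm

theorem b_naturality_left {N N' : ModuleCat.{u} A} (g : N ⟶ N') (n : ℕ) :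
    ((Tor (ModuleCat.{u} A) n).map g).app X ≫ b P N' n = b P N n ≫ g ▷ Z P n := by
  have h0 : ((Tor (ModuleCat.{u} A) n).map g).app X =
      (P.isoLeftDerivedObj (tensorLeft N) n).hom ≫
        HomologicalComplex.homologyMap (ψ P g) n ≫
          (P.isoLeftDerivedObj (tensorLeft N') n).inv :=
    P.leftDerived_app_eq ((tensoringLeft (ModuleCat.{u} A)).map g) n
  have h0' : ((Tor (ModuleCat.{u} A) n).map g).app X ≫
      (P.isoLeftDerivedObj (tensorLeft N') n).hom =
      (P.isoLeftDerivedObj (tensorLeft N) n).hom ≫ HomologicalComplex.homologyMap (ψ P g) n := by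
    exact comp_hom_of_eq (P.isoLeftDerivedObj (tensorLeft N) n)
      (P.isoLeftDerivedObj (tensorLeft N') n) _ (HomologicalComplex.homologyMap (ψ P g) n) h0
  exact nat_helper (P.isoLeftDerivedObj (tensorLeft N) n) (P.isoLeftDerivedObj (tensorLeft N') n)
    ((K P N).homologyι n) ((K P N').homologyι n) (c P N n) (c P N' n) _
    (HomologicalComplex.homologyMap (ψ P g) n) (HomologicalComplex.opcyclesMap (ψ P g) n)
    (g ▷ Z P n) h0' (HomologicalComplex.homologyι_naturality (ψ P g) n) (c_naturality_left g n)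

theorem b_naturality_res (N : ModuleCat.{u} A) (f : X ⟶ Y) (φ : P.complex ⟶ Q.complex)
    (comm : φ.f 0 ≫ Q.π.f 0 = P.π.f 0 ≫ f) (n : ℕ) :
    ((Tor (ModuleCat.{u} A) n).obj N).map f ≫ b Q N n =
      b P N n ≫ N ◁ HomologicalComplex.opcyclesMap φ n := by
  have h0 : ((Tor (ModuleCat.{u} A) n).obj N).map f ≫ (Q.isoLeftDerivedObj (tensorLeft N) n).hom =
      (P.isoLeftDerivedObj (tensorLeft N) n).hom ≫ HomologicalComplex.homologyMap
        (((tensorLeft N).mapHomologicalComplex (ComplexShape.down ℕ)).map φ) n :=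
    ProjectiveResolution.isoLeftDerivedObj_hom_naturality f P Q φ comm (tensorLeft N) n
  exact nat_helper (P.isoLeftDerivedObj (tensorLeft N) n) (Q.isoLeftDerivedObj (tensorLeft N) n)
    ((K P N).homologyι n) ((K Q N).homologyι n) (c P N n) (c Q N n) _
    (HomologicalComplex.homologyMap
      (((tensorLeft N).mapHomologicalComplex (ComplexShape.down ℕ)).map φ) n)
    (HomologicalComplex.opcyclesMap
      (((tensorLeft N).mapHomologicalComplex (ComplexShape.down ℕ)).map φ) n)
    (N ◁ HomologicalComplex.opcyclesMap φ n) h0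
    (HomologicalComplex.homologyι_naturality _ n) (c_naturality_res N φ n)

end secondNat


section assembly

open Groth.Agent.H19.TorZero

variable {X Y : ModuleCat.{u} A} (P : ProjectiveResolution X) (Q : ProjectiveResolution Y)

/-- the first-variable comparison `Tor_n(X, -) ⟶ - ⊗ Z_n`. -/
noncomputable def aNat (n : ℕ) : (Tor (ModuleCat.{u} A) n).obj X ⟶ tensorRight (Z P n) :=
  (Tor (ModuleCat.{u} A) n).map (ε P).inv ≫ Δ P n 0 n (by simp) ≫ (tor0Iso (Z P n)).hom ≫
    (BraidedCategory.tensorLeftIsoTensorRight (Z P n)).hom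

theorem aNat_app (N : ModuleCat.{u} A) (n : ℕ) :
    (aNat P n).app N = ((Tor (ModuleCat.{u} A) n).map (ε P).inv).app N ≫
      (Δ P n 0 n (by simp)).app N ≫ (tor0Iso (Z P n)).hom.app N ≫ (β_ (Z P n) N).hom := rfl

theorem bijective_tor_map_iso {L L' : ModuleCat.{u} A} (e : L ≅ L') (n : ℕ)
    (N : ModuleCat.{u} A) :
    Function.Bijective (((Tor (ModuleCat.{u} A) n).map e.hom).app N).hom := by
  haveI : IsIso (((Tor (ModuleCat.{u} A) n).map e.hom).app N) :=
    inferInstanceAs (IsIso ((((Tor (ModuleCat.{u} A) n).mapIso e).app N).hom))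
  exact ConcreteCategory.bijective_of_isIso _

theorem aNat_isKer (N : ModuleCat.{u} A) (n : ℕ) :
    IsKer ((aNat P (n + 1)).app N) (N ◁ P.complex.fromOpcycles (n + 1) n) := by
  have h1 := Δ_isKer P N n 0 n (by omega)
  have h2 := h1.iso_comp _ (bijective_tor_map_iso (ε P).symm (n + 1) N)
  have h3 := h2.comp_iso ((tor0Iso (Z P (n + 1))).hom.app N ≫ (β_ (Z P (n + 1)) N).hom)
    (ConcreteCategory.bijective_of_isIso _)
    (N ◁ P.complex.fromOpcycles (n + 1) n)
    ((tor0Iso (P.complex.X n)).hom.app N ≫ (β_ (P.complex.X n) N).hom)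
    (ConcreteCategory.bijective_of_isIso _).1 (by
      have e1 := tor0Iso_naturality (P.complex.fromOpcycles (n + 1) n) N
      have e2 := BraidedCategory.braiding_naturality_left (P.complex.fromOpcycles (n + 1) n) N
      rw [Category.assoc, ← e2, ← Category.assoc, ← e1, Category.assoc])
  have h4 : (aNat P (n + 1)).app N = (((Tor (ModuleCat.{u} A) (n + 1)).map (ε P).symm.hom).app N ≫
      (Δ P (n + 1) 0 (n + 1) (by omega)).app N) ≫
      ((tor0Iso (Z P (n + 1))).hom.app N ≫ (β_ (Z P (n + 1)) N).hom) := by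
    rw [aNat_app, Category.assoc]
    rfl
  rw [h4]
  exact h3

theorem mono_b (N : ModuleCat.{u} A) (n : ℕ) : Mono (b P N n) := by
  haveI h1 : Mono ((K P N).homologyι n ≫ (c P N n).inv) := mono_comp _ _
  exact @mono_comp (ModuleCat.{u} A) _ _ _ _ (P.isoLeftDerivedObj (tensorLeft N) n).hom
    inferInstance ((K P N).homologyι n ≫ (c P N n).inv) h1

theorem isIso_b_zero (N : ModuleCat.{u} A) : IsIso (b P N 0) := by
  haveI h1 : IsIso ((K P N).homologyι 0 ≫ (c P N 0).inv) := IsIso.comp_isIso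
  exact IsIso.comp_isIso' inferInstance h1

theorem isIso_aNat_zero (N : ModuleCat.{u} A) : IsIso ((aNat P 0).app N) := by
  have h0 : Δ P 0 0 0 (by simp) = 𝟙 _ := (Tor (ModuleCat.{u} A) 0).map_id _
  haveI : IsIso (((Tor (ModuleCat.{u} A) 0).map (ε P).inv).app N) :=
    inferInstanceAs (IsIso ((((Tor (ModuleCat.{u} A) 0).mapIso (ε P).symm).app N).hom))
  rw [aNat_app, h0, NatTrans.id_app, Category.id_comp]
  infer_instance

/-- the comparison isomorphism, characterized by `θ ≫ b = a`. -/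
theorem exists_θ (N : ModuleCat.{u} A) (n : ℕ) :
    ∃ θ : ((Tor (ModuleCat.{u} A) n).obj X).obj N ≅ ((Tor (ModuleCat.{u} A) n).obj N).obj X,
      θ.hom ≫ b P N n = (aNat P n).app N := by
  cases n with
  | zero =>
    haveI := isIso_b_zero P N
    haveI := isIso_aNat_zero P N
    exact ⟨asIso ((aNat P 0).app N) ≪≫ (asIso (b P N 0)).symm, by simp⟩
  | succ n => exact (aNat_isKer P N n).exists_iso (b_isKer P N n)

variable {P Q}

theorem aNat_naturality_res (N : ModuleCat.{u} A) (f : X ⟶ Y) (φ : P.complex ⟶ Q.complex)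
    (comm : φ.f 0 ≫ Q.π.f 0 = P.π.f 0 ≫ f) (n : ℕ) :
    ((Tor (ModuleCat.{u} A) n).map f).app N ≫ (aNat Q n).app N =
      (aNat P n).app N ≫ N ◁ HomologicalComplex.opcyclesMap φ n := by
  have e0 : f ≫ (ε Q).inv = (ε P).inv ≫ HomologicalComplex.opcyclesMap φ 0 := by
    rw [Iso.eq_inv_comp, ← Category.assoc, Iso.comp_inv_eq]
    exact (ε_naturality f φ comm).symm
  have e1 : (Tor (ModuleCat.{u} A) n).map f ≫ (Tor (ModuleCat.{u} A) n).map (ε Q).inv =
      (Tor (ModuleCat.{u} A) n).map (ε P).inv ≫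
        (Tor (ModuleCat.{u} A) n).map (HomologicalComplex.opcyclesMap φ 0) := by
    rw [← Functor.map_comp, ← Functor.map_comp, e0]
  have e2 := Δ_naturality φ n 0 n (by simp)
  have e3 := tor0Iso_naturality (HomologicalComplex.opcyclesMap φ n) N
  have e4 := BraidedCategory.braiding_naturality_left (HomologicalComplex.opcyclesMap φ n) N
  have e1' := congrArg (fun t => t.app N) e1
  have e2' := congrArg (fun t => t.app N) e2
  simp only [NatTrans.comp_app] at e1' e2'
  rw [aNat_app, aNat_app]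
  simp only [Category.assoc]
  rw [reassoc_of% e1', ← reassoc_of% e2', reassoc_of% e3, e4]

end assembly


section final

variable (A)

/-- the chosen comparison isomorphism `Tor_n(M, N) ≅ Tor_n(N, M)`. -/
noncomputable def θ (n : ℕ) (M N : ModuleCat.{u} A) :
    ((Tor (ModuleCat.{u} A) n).obj M).obj N ≅ ((Tor (ModuleCat.{u} A) n).obj N).obj M :=
  (exists_θ (projectiveResolution M) N n).choose

theorem θ_spec (n : ℕ) (M N : ModuleCat.{u} A) :
    (θ A n M N).hom ≫ b (projectiveResolution M) N n = (aNat (projectiveResolution M) n).app N :=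
  (exists_θ (projectiveResolution M) N n).choose_spec

theorem θ_naturality_right (n : ℕ) (M : ModuleCat.{u} A) {N N' : ModuleCat.{u} A} (g : N ⟶ N') :
    ((Tor (ModuleCat.{u} A) n).obj M).map g ≫ (θ A n M N').hom =
      (θ A n M N).hom ≫ ((Tor (ModuleCat.{u} A) n).map g).app M := by
  haveI := mono_b (projectiveResolution M) N' n
  rw [← cancel_mono (b (projectiveResolution M) N' n), Category.assoc, Category.assoc, θ_spec,
    b_naturality_left g n, ← Category.assoc, θ_spec]
  exact (aNat (projectiveResolution M) n).naturality g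

theorem θ_naturality_left (n : ℕ) {M M' : ModuleCat.{u} A} (f : M ⟶ M') (N : ModuleCat.{u} A) :
    ((Tor (ModuleCat.{u} A) n).map f).app N ≫ (θ A n M' N).hom =
      (θ A n M N).hom ≫ ((Tor (ModuleCat.{u} A) n).obj N).map f := by
  haveI := mono_b (projectiveResolution M') N n
  have comm := ProjectiveResolution.lift_commutes_zero f (projectiveResolution M)
    (projectiveResolution M')
  rw [← cancel_mono (b (projectiveResolution M') N n), Category.assoc, Category.assoc, θ_spec,
    b_naturality_res N f _ comm n, ← Category.assoc, θ_spec]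
  exact aNat_naturality_res N f _ comm n

/-- `Tor_n` is symmetric, as a bifunctor. -/
noncomputable def torFlip (n : ℕ) :
    Tor (ModuleCat.{u} A) n ≅ (Tor (ModuleCat.{u} A) n).flip :=
  NatIso.ofComponents
    (fun M => NatIso.ofComponents (fun N => θ A n M N)
      (fun g => θ_naturality_right A n M g))
    (fun f => by
      apply NatTrans.ext
      funext N
      exact θ_naturality_left A n f N)

end final

end Groth.Agent.H19.TorFlip
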