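import Groth.Prelude.Def_ega3
import Mathlib

set_option autoImplicit false
universe u

/-!
Helper library for the `FlatCx` cluster: the homological functors `T_p(M) = H_p(P ⊗_A M)` of a complex
`P` of flat modules.  The first few lemmas (the short exact sequence of complexes `P ⊗ S` and the
additivity of `T_p`) follow the same route as `Groth.Agent.S2406`.
-/

namespace Groth.Agent.H19.FlatCxLib

open CategoryTheory CategoryTheory.Limits MonoidalCategory

variable {A : Type u} [CommRing A] {ι : Type} {c : ComplexShape ι}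

/-- the short complex of complexes `P ⊗ S`. -/
noncomputable def tensorSC (P : HomologicalComplex (ModuleCat.{u} A) c)
    (S : ShortComplex (ModuleCat.{u} A)) :
    ShortComplex (HomologicalComplex (ModuleCat.{u} A) c) :=
  ShortComplex.mk (CohIII.tensorMap P S.f) (CohIII.tensorMap P S.g) (by
    apply HomologicalComplex.hom_ext
    intro i
    have h : (P.X i ◁ S.f) ≫ (P.X i ◁ S.g) = 0 := by
      rw [← MonoidalCategory.whiskerLeft_comp, S.zero]; simp
    exact h)

theorem tensorSC_shortExact (P : HomologicalComplex (ModuleCat.{u} A) c)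
    (hP : ∀ i, Module.Flat A (P.X i)) (S : ShortComplex (ModuleCat.{u} A)) (hS : S.ShortExact) :
    (tensorSC P S).ShortExact := by
  apply HomologicalComplex.shortExact_of_degreewise_shortExact
  intro i
  haveI := hP i
  have h := hS.map_of_exact (tensorLeft (P.X i))
  exact h

theorem tensorMap_zero (P : HomologicalComplex (ModuleCat.{u} A) c) (M N : ModuleCat.{u} A) :
    CohIII.tensorMap P (0 : M ⟶ N) = 0 := by
  apply HomologicalComplex.hom_ext
  intro i
  have h : P.X i ◁ (0 : M ⟶ N) = 0 := by simp
  exact h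

theorem tensorMap_add (P : HomologicalComplex (ModuleCat.{u} A) c) {M N : ModuleCat.{u} A}
    (f g : M ⟶ N) : CohIII.tensorMap P (f + g) = CohIII.tensorMap P f + CohIII.tensorMap P g := by
  apply HomologicalComplex.hom_ext
  intro i
  have h : P.X i ◁ (f + g) = P.X i ◁ f + P.X i ◁ g := by simp
  exact h

theorem tensorMap_smul (P : HomologicalComplex (ModuleCat.{u} A) c) {M N : ModuleCat.{u} A}
    (a : A) (g : M ⟶ N) : CohIII.tensorMap P (a • g) = a • CohIII.tensorMap P g := by
  apply HomologicalComplex.hom_ext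
  intro i
  have h : P.X i ◁ (a • g) = a • (P.X i ◁ g) := by simp
  exact h

instance instPZM (P : HomologicalComplex (ModuleCat.{u} A) c) (p : ι) :
    (CohIII.TFun P p).PreservesZeroMorphisms := ⟨fun M N => by
  show HomologicalComplex.homologyMap (CohIII.tensorMap P (0 : M ⟶ N)) p = 0
  rw [tensorMap_zero, HomologicalComplex.homologyMap_zero]⟩

instance instAdd (P : HomologicalComplex (ModuleCat.{u} A) c) (p : ι) :
    (CohIII.TFun P p).Additive := ⟨fun {M N f g} => by
  show HomologicalComplex.homologyMap (CohIII.tensorMap P (f + g)) p =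
    HomologicalComplex.homologyMap (CohIII.tensorMap P f) p +
      HomologicalComplex.homologyMap (CohIII.tensorMap P g) p
  rw [tensorMap_add, HomologicalComplex.homologyMap_add]⟩

theorem homologyMap_smul {K L : HomologicalComplex (ModuleCat.{u} A) c} (a : A) (φ : K ⟶ L)
    (i : ι) : HomologicalComplex.homologyMap (a • φ) i = a • HomologicalComplex.homologyMap φ i := by
  have h : (HomologicalComplex.shortComplexFunctor (ModuleCat.{u} A) c i).map (a • φ) =
      a • (HomologicalComplex.shortComplexFunctor (ModuleCat.{u} A) c i).map φ := by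
    ext <;> rfl
  show ShortComplex.homologyMap
    ((HomologicalComplex.shortComplexFunctor (ModuleCat.{u} A) c i).map (a • φ)) = _
  rw [h, ShortComplex.homologyMap_smul]
  rfl

theorem TFun_map_smul (P : HomologicalComplex (ModuleCat.{u} A) c) (p : ι) {M N : ModuleCat.{u} A}
    (a : A) (g : M ⟶ N) : (CohIII.TFun P p).map (a • g) = a • (CohIII.TFun P p).map g := by
  show HomologicalComplex.homologyMap (CohIII.tensorMap P (a • g)) p =
    a • HomologicalComplex.homologyMap (CohIII.tensorMap P g) p
  rw [tensorMap_smul, homologyMap_smul]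

instance instLinear (P : HomologicalComplex (ModuleCat.{u} A) c) (p : ι) :
    (CohIII.TFun P p).Linear A := ⟨fun g a => TFun_map_smul P p a g⟩

/-- `T_p` of multiplication by `a` is multiplication by `a`. -/
theorem TFun_map_smul_id_apply (P : HomologicalComplex (ModuleCat.{u} A) c) (p : ι)
    (M : ModuleCat.{u} A) (a : A) (y : (CohIII.TFun P p).obj M) :
    ((CohIII.TFun P p).map (a • 𝟙 M)).hom y = a • y := by
  rw [TFun_map_smul, CategoryTheory.Functor.map_id]
  rfl

section LES

variable (P : ChainComplex (ModuleCat.{u} A) ℤ) (hP : ∀ i, Module.Flat A (P.X i))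
  (S : ShortComplex (ModuleCat.{u} A)) (hS : S.ShortExact) (p q : ℤ) (hpq : q + 1 = p)

/-- the connecting homomorphism `T_p(S.X₃) ⟶ T_q(S.X₁)` -/
noncomputable def δ : (CohIII.TFun P p).obj S.X₃ ⟶ (CohIII.TFun P q).obj S.X₁ :=
  (tensorSC_shortExact P hP S hS).δ p q (by rw [ComplexShape.down_Rel]; exact hpq)

theorem map_g_δ : (CohIII.TFun P p).map S.g ≫ δ P hP S hS p q hpq = 0 :=
  (tensorSC_shortExact P hP S hS).comp_δ p q (by rw [ComplexShape.down_Rel]; exact hpq)

theorem δ_map_f : δ P hP S hS p q hpq ≫ (CohIII.TFun P q).map S.f = 0 :=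
  (tensorSC_shortExact P hP S hS).δ_comp p q (by rw [ComplexShape.down_Rel]; exact hpq)

include hP hS in
theorem exact_f_g : (S.map (CohIII.TFun P p)).Exact :=
  (tensorSC_shortExact P hP S hS).homology_exact₂ p

theorem exact_g_δ :
    (ShortComplex.mk _ _ (map_g_δ P hP S hS p q hpq)).Exact :=
  (tensorSC_shortExact P hP S hS).homology_exact₃ p q (by rw [ComplexShape.down_Rel]; exact hpq)

theorem exact_δ_f :
    (ShortComplex.mk _ _ (δ_map_f P hP S hS p q hpq)).Exact :=
  (tensorSC_shortExact P hP S hS).homology_exact₁ p q (by rw [ComplexShape.down_Rel]; exact hpq)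

include hP hS hpq in
theorem epi_iff_mono :
    Epi ((CohIII.TFun P p).map S.g) ↔ Mono ((CohIII.TFun P q).map S.f) := by
  have h1 : Mono ((CohIII.TFun P q).map S.f) ↔ δ P hP S hS p q hpq = 0 :=
    (exact_δ_f P hP S hS p q hpq).mono_g_iff
  have h3 : Epi ((CohIII.TFun P p).map S.g) ↔ δ P hP S hS p q hpq = 0 :=
    (exact_g_δ P hP S hS p q hpq).epi_f_iff
  rw [h1, h3]

end LES

end Groth.Agent.H19.FlatCxLib
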