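import Groth.Prelude.Def_ega3
import Mathlib
import Groth.Agent.H19.FlatCxLib
import Groth.Agent.S2375
import Groth.Agent.S2406

set_option autoImplicit false
universe u

/-!
Helper library for the `FlatCx` cluster, part 4: base change of the complex `P` along `A → B`.
-/

namespace Groth.Agent.H19.FlatCxBC

open CategoryTheory CategoryTheory.Limits MonoidalCategory TensorProduct

variable {A : Type u} [CommRing A] (B : Type u) [CommRing B] [Algebra A B]

/-- The identity of `B`, from the restricted-scalars module structure to the algebra one. -/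
noncomputable def e₀ :
    ((ModuleCat.restrictScalars (algebraMap A B)).obj (ModuleCat.of B B)) ≃ₗ[A] B where
  toFun := fun s => s
  invFun := fun s => s
  left_inv := fun _ => rfl
  right_inv := fun _ => rfl
  map_add' := fun _ _ => rfl
  map_smul' := fun a s => by
    have : ∀ (t : B), algebraMap A B a • t = a • t := fun t => algebraMap_smul B a t
    exact this s

noncomputable def bridgeFun (M : ModuleCat.{u} A) :
    ((ModuleCat.extendScalars (algebraMap A B)).obj M) → B ⊗[A] M :=
  fun v => (TensorProduct.congr (e₀ B) (LinearEquiv.refl A M)) v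

theorem bridge_smul (M : ModuleCat.{u} A) (s : B)
    (v : (ModuleCat.extendScalars (algebraMap A B)).obj M) :
    bridgeFun B M (s • v) = s • bridgeFun B M v := by
  have h0 : bridgeFun B M 0 = 0 := map_zero (TensorProduct.congr (e₀ B) (LinearEquiv.refl A M))
  have hadd : ∀ v w, bridgeFun B M (v + w) = bridgeFun B M v + bridgeFun B M w :=
    fun v w => map_add (TensorProduct.congr (e₀ B) (LinearEquiv.refl A M)) v w
  induction v using TensorProduct.induction_on with
  | zero =>
    exact (congrArg (bridgeFun B M) (smul_zero s)).trans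
      (h0.trans ((smul_zero s).symm.trans (congrArg (s • ·) h0.symm)))
  | tmul s' m =>
    change (TensorProduct.congr (e₀ B) (LinearEquiv.refl A M)) ((show ((ModuleCat.restrictScalars (algebraMap A B)).obj (ModuleCat.of B B)) from (s * (show B from s') : B)) ⊗ₜ m) =
      s • (TensorProduct.congr (e₀ B) (LinearEquiv.refl A M)) (s' ⊗ₜ m)
    rw [TensorProduct.congr_tmul, TensorProduct.congr_tmul, TensorProduct.smul_tmul']
    rfl
  | add v w hv hw =>
    exact (congrArg (bridgeFun B M) (smul_add s _ _)).trans
      ((hadd _ _).trans ((congrArg₂ (· + ·) hv hw).trans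
        ((smul_add s _ _).symm.trans (congrArg (s • ·) (hadd _ _).symm))))

/-- `extendScalars` is `B ⊗[A] -`. -/
noncomputable def bridge (M : ModuleCat.{u} A) :
    ((ModuleCat.extendScalars (algebraMap A B)).obj M) ≃ₗ[B] B ⊗[A] M where
  toFun := bridgeFun B M
  invFun := fun w => (TensorProduct.congr (e₀ B) (LinearEquiv.refl A M)).symm w
  left_inv := fun v => LinearEquiv.symm_apply_apply (TensorProduct.congr (e₀ B) (LinearEquiv.refl A M)) v
  right_inv := fun w => LinearEquiv.apply_symm_apply (TensorProduct.congr (e₀ B) (LinearEquiv.refl A M)) w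
  map_add' := fun v w => map_add (TensorProduct.congr (e₀ B) (LinearEquiv.refl A M)) v w
  map_smul' := fun s v => bridge_smul B M s v

theorem flat_ext (M : ModuleCat.{u} A) (hM : Module.Flat A M) :
    Module.Flat B ((ModuleCat.extendScalars (algebraMap A B)).obj M) :=
  Module.Flat.of_linearEquiv (bridge B M)

theorem flat_ext_iff [Module.FaithfullyFlat A B] (M : ModuleCat.{u} A) :
    Module.Flat B ((ModuleCat.extendScalars (algebraMap A B)).obj M) ↔ Module.Flat A M := by
  constructor
  · intro h
    haveI : Module.Flat B (B ⊗[A] M) := Module.Flat.of_linearEquiv (bridge B M).symm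
    exact Module.Flat.of_flat_tensorProduct A M B
  · exact flat_ext B M

variable (P : ChainComplex (ModuleCat.{u} A) ℤ) (p : ℤ)

/-- `opcycles (P_B) ≅ B ⊗ opcycles P`. -/
noncomputable def opcyclesIso :
    (CohIII.bcCx (algebraMap A B) P).opcycles p ≅
      (ModuleCat.extendScalars (algebraMap A B)).obj (P.opcycles p) :=
  IsColimit.coconePointUniqueUpToIso
    ((CohIII.bcCx (algebraMap A B) P).opcyclesIsCokernel ((ComplexShape.down ℤ).prev p) p rfl)
    (CokernelCofork.mapIsColimit _ (P.opcyclesIsCokernel ((ComplexShape.down ℤ).prev p) p rfl)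
      (ModuleCat.extendScalars (algebraMap A B)))

theorem flat_bc (hP : ∀ i, Module.Flat A (P.X i)) :
    ∀ i, Module.Flat B ((CohIII.bcCx (algebraMap A B) P).X i) :=
  fun i => flat_ext B (P.X i) (hP i)

theorem flat_opcycles_bc (h : Module.Flat A (P.opcycles p)) :
    Module.Flat B ((CohIII.bcCx (algebraMap A B) P).opcycles p) := by
  haveI := flat_ext B (P.opcycles p) h
  exact Module.Flat.of_linearEquiv (opcyclesIso B P p).toLinearEquiv

theorem flat_opcycles_bc_iff [Module.FaithfullyFlat A B] :
    Module.Flat B ((CohIII.bcCx (algebraMap A B) P).opcycles p) ↔ Module.Flat A (P.opcycles p) := by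
  rw [← flat_ext_iff B (P.opcycles p)]
  constructor
  · intro h
    exact Module.Flat.of_linearEquiv (opcyclesIso B P p).symm.toLinearEquiv
  · intro h
    exact Module.Flat.of_linearEquiv (opcyclesIso B P p).toLinearEquiv

theorem mono_bc (hP : ∀ i, Module.Flat A (P.X i)) (h : (CohIII.TFun P p).PreservesMonomorphisms) :
    (CohIII.TFun (CohIII.bcCx (algebraMap A B) P) p).PreservesMonomorphisms := by
  rw [Groth.Agent.S2375.result _ (flat_bc B P hP) p]
  exact flat_opcycles_bc B P p ((Groth.Agent.S2375.result P hP p).mp h)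

theorem epi_bc (hP : ∀ i, Module.Flat A (P.X i)) (h : (CohIII.TFun P p).PreservesEpimorphisms) :
    (CohIII.TFun (CohIII.bcCx (algebraMap A B) P) p).PreservesEpimorphisms := by
  rw [Groth.Agent.S2406.result _ (flat_bc B P hP) p (p - 1) (by omega)]
  exact mono_bc B P (p - 1) hP ((Groth.Agent.S2406.result P hP p (p - 1) (by omega)).mp h)

theorem mono_bc_iff [Module.FaithfullyFlat A B] (hP : ∀ i, Module.Flat A (P.X i)) :
    (CohIII.TFun (CohIII.bcCx (algebraMap A B) P) p).PreservesMonomorphisms ↔
      (CohIII.TFun P p).PreservesMonomorphisms := by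
  rw [Groth.Agent.S2375.result _ (flat_bc B P hP) p, Groth.Agent.S2375.result P hP p]
  exact flat_opcycles_bc_iff B P p

theorem epi_bc_iff [Module.FaithfullyFlat A B] (hP : ∀ i, Module.Flat A (P.X i)) :
    (CohIII.TFun (CohIII.bcCx (algebraMap A B) P) p).PreservesEpimorphisms ↔
      (CohIII.TFun P p).PreservesEpimorphisms := by
  rw [Groth.Agent.S2406.result _ (flat_bc B P hP) p (p - 1) (by omega),
    Groth.Agent.S2406.result P hP p (p - 1) (by omega)]
  exact mono_bc_iff B P (p - 1) hP

end Groth.Agent.H19.FlatCxBC
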