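import Groth.Prelude.Def_ega3
import Mathlib
import Groth.Agent.H19.FlatCxLib
import Groth.Agent.S2375
import Groth.Agent.S2406

set_option autoImplicit false
universe u

/-!
Helper library for the `FlatCx` cluster, part 2: epimorphism-preservation of
`T_p(M) = H_p(P ⊗_A M)` tested on the quotients `A → A/I`, and the Artinian local case.
-/

namespace Groth.Agent.H19.FlatCxArt

open CategoryTheory CategoryTheory.Limits MonoidalCategory
open Groth.Agent.H19.FlatCxLib

variable {A : Type u} [CommRing A]

section permorphism

variable (P : ChainComplex (ModuleCat.{u} A) ℤ) (p : ℤ)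

/-- per-morphism version of `S2375.flat_of_preservesMono`. -/
theorem lTensor_injective_of_mono (hP : ∀ i, Module.Flat A (P.X i))
    {N N' : Type u} [AddCommGroup N] [AddCommGroup N'] [Module A N] [Module A N']
    (f : N →ₗ[A] N') (hf : Function.Injective f)
    (hT : Mono ((CohIII.TFun P p).map (ModuleCat.ofHom f))) :
    Function.Injective (f.lTensor (P.opcycles p)) := by
  let g : ModuleCat.of A N ⟶ ModuleCat.of A N' := ModuleCat.ofHom f
  rw [injective_iff_map_eq_zero]
  intro x hx
  set j := (ComplexShape.down ℤ).next p with hj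
  set x' := (Groth.Agent.S2375.θ P p (ModuleCat.of A N)).inv.hom x with hx'
  have hxx' : (Groth.Agent.S2375.θ P p (ModuleCat.of A N)).hom.hom x' = x := by
    rw [hx']
    exact congrArg (fun φ => φ.hom x) (Groth.Agent.S2375.θ P p (ModuleCat.of A N)).inv_hom_id
  have h1 : (HomologicalComplex.opcyclesMap (CohIII.tensorMap P g) p).hom x' = 0 := by
    have hnat := congrArg (fun φ => φ.hom x') (Groth.Agent.S2375.θ_natural P p g)
    simp only [ModuleCat.hom_comp, LinearMap.coe_comp, Function.comp_apply] at hnat
    rw [hxx'] at hnat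
    have hx0 : (P.opcycles p ◁ g).hom x = 0 := hx
    rw [hx0] at hnat
    have hinj : Function.Injective (Groth.Agent.S2375.θ P p (ModuleCat.of A N')).hom.hom :=
      (ModuleCat.mono_iff_injective _).mp inferInstance
    exact hinj (hnat.trans (map_zero _).symm)
  have h2 : ((CohIII.tensorObj P (ModuleCat.of A N)).fromOpcycles p j).hom x' = 0 := by
    have hnat := congrArg (fun φ => φ.hom x')
      (Groth.Agent.S2375.fromOpcycles_natural (CohIII.tensorMap P g) p j)
    simp only [ModuleCat.hom_comp, LinearMap.coe_comp, Function.comp_apply] at hnat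
    rw [h1, map_zero, Groth.Agent.S2375.tensorMap_f] at hnat
    haveI := hP j
    have hinj : Function.Injective (P.X j ◁ g).hom :=
      Module.Flat.lTensor_preserves_injective_linearMap (M := P.X j) f hf
    exact hinj (hnat.symm.trans (map_zero _).symm)
  obtain ⟨t, ht⟩ := Groth.Agent.S2375.exists_of_fromOpcycles_eq_zero _ p j rfl x' h2
  have h3 : ((CohIII.TFun P p).map g).hom t = 0 := by
    have hnat := congrArg (fun φ => φ.hom t)
      (HomologicalComplex.homologyι_naturality (CohIII.tensorMap P g) p)
    simp only [ModuleCat.hom_comp, LinearMap.coe_comp, Function.comp_apply] at hnat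
    rw [ht, h1] at hnat
    have hinj : Function.Injective ((CohIII.tensorObj P (ModuleCat.of A N')).homologyι p).hom :=
      (ModuleCat.mono_iff_injective _).mp inferInstance
    exact hinj (hnat.trans (map_zero _).symm)
  have h4 : t = 0 := by
    have hinj : Function.Injective ((CohIII.TFun P p).map g).hom :=
      (ModuleCat.mono_iff_injective _).mp hT
    exact hinj (h3.trans (map_zero _).symm)
  rw [← hxx', ← ht, h4, map_zero, map_zero]

/-- the short exact sequence `0 → I → A → A/I → 0`. -/
noncomputable def idealSC (I : Ideal A) : ShortComplex (ModuleCat.{u} A) :=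
  ShortComplex.mk (ModuleCat.ofHom I.subtype) (ModuleCat.ofHom I.mkQ) (by
    ext x
    exact (Submodule.Quotient.mk_eq_zero I).mpr x.2)

theorem idealSC_shortExact (I : Ideal A) : (idealSC I).ShortExact :=
  ModuleCat.shortComplex_shortExact (idealSC I)
    (LinearMap.exact_subtype_mkQ I) (Submodule.subtype_injective _) (Submodule.mkQ_surjective _)

/-- `T_p` preserves epimorphisms as soon as it does so on the quotient maps `A → A/I`. -/
theorem preservesEpi_of_ideals (hP : ∀ i, Module.Flat A (P.X i)) (q : ℤ) (hpq : q + 1 = p)
    (h : ∀ I : Ideal A, Function.Surjective ((CohIII.TFun P p).map (ModuleCat.ofHom I.mkQ)).hom) :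
    (CohIII.TFun P p).PreservesEpimorphisms := by
  have hflat : Module.Flat A (P.opcycles q) := by
    rw [Module.Flat.iff_lTensor_injective']
    intro I
    have hepi : Epi ((CohIII.TFun P p).map (idealSC I).g) :=
      (ModuleCat.epi_iff_surjective _).mpr (h I)
    have hmono : Mono ((CohIII.TFun P q).map (idealSC I).f) :=
      (epi_iff_mono P hP (idealSC I) (idealSC_shortExact I) p q hpq).mp hepi
    exact lTensor_injective_of_mono P q hP I.subtype (Submodule.subtype_injective _) hmono
  exact (Groth.Agent.S2406.result P hP p q hpq).mpr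
    ((Groth.Agent.S2375.result P hP q).mpr hflat)

end permorphism

section gen

variable (P : ChainComplex (ModuleCat.{u} A) ℤ) (p : ℤ)

/-- The submodule of `T_p(M)` generated by the images of `T_p(φ)`, `φ : A → M`. -/
noncomputable def gen (M : ModuleCat.{u} A) : Submodule A ((CohIII.TFun P p).obj M) :=
  ⨆ φ : ModuleCat.of A A ⟶ M, LinearMap.range ((CohIII.TFun P p).map φ).hom

theorem range_le_gen {M : ModuleCat.{u} A} (φ : ModuleCat.of A A ⟶ M) :
    LinearMap.range ((CohIII.TFun P p).map φ).hom ≤ gen P p M :=
  le_iSup (fun φ : ModuleCat.of A A ⟶ M => LinearMap.range ((CohIII.TFun P p).map φ).hom) φ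

theorem map_gen_le {M M' : ModuleCat.{u} A} (g : M ⟶ M') :
    (gen P p M).map ((CohIII.TFun P p).map g).hom ≤ gen P p M' := by
  rw [gen, Submodule.map_iSup]
  apply iSup_le
  intro φ
  rw [← LinearMap.range_comp]
  have h : ((CohIII.TFun P p).map g).hom ∘ₗ ((CohIII.TFun P p).map φ).hom =
      ((CohIII.TFun P p).map (φ ≫ g)).hom := by
    rw [CategoryTheory.Functor.map_comp]
    rfl
  rw [h]
  exact range_le_gen P p _

theorem gen_le_map_of_surjective {M M' : ModuleCat.{u} A} (g : M ⟶ M')
    (hg : Function.Surjective g.hom) :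
    gen P p M' ≤ (gen P p M).map ((CohIII.TFun P p).map g).hom := by
  apply iSup_le
  intro φ'
  obtain ⟨m, hm⟩ := hg (φ'.hom (1 : A))
  let φ : ModuleCat.of A A ⟶ M := ModuleCat.ofHom (LinearMap.toSpanSingleton A M m)
  have hφ : φ ≫ g = φ' := by
    apply ModuleCat.hom_ext
    apply LinearMap.ext_ring
    show g.hom ((LinearMap.toSpanSingleton A M m) 1) = φ'.hom 1
    rw [LinearMap.toSpanSingleton_apply, one_smul, hm]
  rw [← hφ, CategoryTheory.Functor.map_comp, ModuleCat.hom_comp, LinearMap.range_comp]
  exact Submodule.map_mono (range_le_gen P p φ)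

variable [IsLocalRing A]

theorem gen_simple
    (hsurj : Function.Surjective ((CohIII.TFun P p).map
        (ModuleCat.ofHom (Algebra.linearMap A (IsLocalRing.ResidueField A)))).hom)
    (S : ModuleCat.{u} A) [IsSimpleModule A S] : gen P p S = ⊤ := by
  haveI : Nontrivial S := IsSimpleModule.nontrivial A S
  obtain ⟨s, hs⟩ := exists_ne (0 : S)
  let φs : A →ₗ[A] S := LinearMap.toSpanSingleton A S s
  have hφs : Function.Surjective φs := IsSimpleModule.toSpanSingleton_surjective A hs
  have hker : LinearMap.ker φs = IsLocalRing.maximalIdeal A :=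
    IsLocalRing.eq_maximalIdeal (IsSimpleModule.ker_toSpanSingleton_isMaximal A hs)
  let e : IsLocalRing.ResidueField A →ₗ[A] S :=
    Submodule.liftQ (IsLocalRing.maximalIdeal A) φs hker.ge
  have he : e ∘ₗ (Algebra.linearMap A (IsLocalRing.ResidueField A)) = φs := by
    apply LinearMap.ext_ring
    rfl
  have hebij : Function.Bijective e := by
    constructor
    · rw [← LinearMap.ker_eq_bot]
      exact Submodule.ker_liftQ_eq_bot _ _ _ hker.le
    · intro y
      obtain ⟨a, rfl⟩ := hφs y
      exact ⟨Algebra.linearMap A (IsLocalRing.ResidueField A) a, LinearMap.congr_fun he a⟩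
  haveI : IsIso (ModuleCat.ofHom e) :=
    (ConcreteCategory.isIso_iff_bijective (ModuleCat.ofHom e)).mpr hebij
  have hcomp : (ModuleCat.ofHom φs : ModuleCat.of A A ⟶ S) =
      ModuleCat.ofHom (Algebra.linearMap A (IsLocalRing.ResidueField A)) ≫
        (ModuleCat.ofHom e : ModuleCat.of A (IsLocalRing.ResidueField A) ⟶ S) := by
    rw [← ModuleCat.ofHom_comp, he]
  have hTs : Function.Surjective ((CohIII.TFun P p).map (ModuleCat.ofHom φs : ModuleCat.of A A ⟶ S)).hom := by
    rw [hcomp, CategoryTheory.Functor.map_comp, ModuleCat.hom_comp, LinearMap.coe_comp]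
    have hiso : Function.Surjective ((CohIII.TFun P p).map
        (ModuleCat.ofHom e : ModuleCat.of A (IsLocalRing.ResidueField A) ⟶ S)).hom :=
      (ModuleCat.epi_iff_surjective _).mp inferInstance
    exact hiso.comp hsurj
  rw [eq_top_iff, ← LinearMap.range_eq_top.mpr hTs]
  exact range_le_gen P p _

theorem gen_eq_top_of_length (hP : ∀ i, Module.Flat A (P.X i))
    (hsurj : Function.Surjective ((CohIII.TFun P p).map
        (ModuleCat.ofHom (Algebra.linearMap A (IsLocalRing.ResidueField A)))).hom) :
    ∀ n : ℕ, ∀ M : ModuleCat.{u} A, Module.length A M = n → gen P p M = ⊤ := by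
  intro n
  induction n using Nat.strong_induction_on with
  | _ n ih =>
    intro E hE
    by_cases hsub : Subsingleton E
    · have hz : IsZero E := ModuleCat.isZero_of_subsingleton E
      have hz' : IsZero ((CohIII.TFun P p).obj E) := (CohIII.TFun P p).map_isZero hz
      have : Subsingleton ((CohIII.TFun P p).obj E) := ModuleCat.subsingleton_of_isZero hz'
      exact Subsingleton.elim _ _
    · rw [not_subsingleton_iff_nontrivial] at hsub
      have hfl : IsFiniteLength A E := by
        rw [← Module.length_ne_top_iff, hE]
        simp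
      obtain ⟨hnoeth, hart⟩ := isFiniteLength_iff_isNoetherian_isArtinian.mp hfl
      obtain ⟨N, hN⟩ : ∃ N : Submodule A E, IsCoatom N := by
        rcases eq_top_or_exists_le_coatom (⊥ : Submodule A E) with h | ⟨N, hN, -⟩
        · exact absurd h bot_ne_top
        · exact ⟨N, hN⟩
      have hsimple : IsSimpleModule A (E ⧸ N) := isSimpleModule_iff_isCoatom.mpr hN
      have hadd : Module.length A E = Module.length A N + Module.length A (E ⧸ N) :=
        Module.length_eq_add_of_exact N.subtype N.mkQ (Submodule.subtype_injective _)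
          (Submodule.mkQ_surjective _) (LinearMap.exact_subtype_mkQ _)
      rw [Module.length_eq_one A (E ⧸ N), hE] at hadd
      have hNtop : Module.length A N ≠ ⊤ := by
        intro h
        rw [h] at hadd
        simp at hadd
      obtain ⟨m, hm⟩ := ENat.ne_top_iff_exists.mp hNtop
      have hlt : m < n := by
        rw [← hm] at hadd
        have : n = m + 1 := by exact_mod_cast hadd
        omega
      let S : ShortComplex (ModuleCat.{u} A) :=
        ShortComplex.mk (ModuleCat.ofHom N.subtype) (ModuleCat.ofHom N.mkQ) (by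
          ext x
          exact (Submodule.Quotient.mk_eq_zero N).mpr x.2)
      have hSE : S.ShortExact := ModuleCat.shortComplex_shortExact S
        (LinearMap.exact_subtype_mkQ N) (Submodule.subtype_injective _) (Submodule.mkQ_surjective _)
      have hex : Function.Exact ((CohIII.TFun P p).map S.f).hom ((CohIII.TFun P p).map S.g).hom :=
        (ShortComplex.ShortExact.moduleCat_exact_iff_function_exact
          (S.map (CohIII.TFun P p))).mp (exact_f_g P hP S hSE p)
      have hN' : gen P p (ModuleCat.of A N) = ⊤ := ih m hlt (ModuleCat.of A N) hm.symm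
      have hQ : gen P p (ModuleCat.of A (E ⧸ N)) = ⊤ :=
        gen_simple P p hsurj (ModuleCat.of A (E ⧸ N))
      rw [eq_top_iff]
      intro y _
      have h1 : ((CohIII.TFun P p).map S.g).hom y ∈ gen P p (ModuleCat.of A (E ⧸ N)) := by
        rw [hQ]
        trivial
      obtain ⟨w, hw, hwy⟩ := gen_le_map_of_surjective P p S.g (Submodule.mkQ_surjective N) h1
      have h2 : ((CohIII.TFun P p).map S.g).hom (y - w) = 0 := by
        rw [map_sub, hwy, sub_self]
      obtain ⟨v, hv⟩ := (hex (y - w)).mp h2
      have hv' : ((CohIII.TFun P p).map S.f).hom v ∈ gen P p E := by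
        apply map_gen_le P p S.f
        refine ⟨v, ?_, rfl⟩
        rw [hN']
        trivial
      have : y = w + ((CohIII.TFun P p).map S.f).hom v := by
        rw [hv]
        abel
      rw [this]
      exact Submodule.add_mem _ hw hv'

theorem surjective_of_finiteLength (hP : ∀ i, Module.Flat A (P.X i))
    (hsurj : Function.Surjective ((CohIII.TFun P p).map
        (ModuleCat.ofHom (Algebra.linearMap A (IsLocalRing.ResidueField A)))).hom)
    (M : ModuleCat.{u} A) (hM : Module.length A M ≠ ⊤) {L : ModuleCat.{u} A} (g : L ⟶ M)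
    (hg : Function.Surjective g.hom) : Function.Surjective ((CohIII.TFun P p).map g).hom := by
  obtain ⟨m, hm⟩ := ENat.ne_top_iff_exists.mp hM
  have h1 := gen_eq_top_of_length P p hP hsurj m M hm.symm
  have h2 := gen_le_map_of_surjective P p g hg
  rw [h1, top_le_iff] at h2
  rw [← LinearMap.range_eq_top, eq_top_iff, ← h2]
  exact LinearMap.map_le_range

/-- Artinian local: `T_p` preserves epimorphisms iff `T_p(A) → T_p(k)` is surjective. -/
theorem preservesEpi_iff [IsArtinianRing A] (hP : ∀ i, Module.Flat A (P.X i)) :
    (CohIII.TFun P p).PreservesEpimorphisms ↔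
      Function.Surjective ((CohIII.TFun P p).map
        (ModuleCat.ofHom (Algebra.linearMap A (IsLocalRing.ResidueField A)))).hom := by
  constructor
  · intro h
    haveI : Epi (ModuleCat.ofHom (Algebra.linearMap A (IsLocalRing.ResidueField A))) := by
      rw [ModuleCat.epi_iff_surjective]
      exact Ideal.Quotient.mk_surjective
    exact (ModuleCat.epi_iff_surjective _).mp (h.preserves _)
  · intro hsurj
    refine preservesEpi_of_ideals P p hP (p - 1) (by omega) ?_
    intro I
    exact surjective_of_finiteLength P p hP hsurj (ModuleCat.of A (A ⧸ I)) Module.length_ne_top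
      (ModuleCat.ofHom I.mkQ) (Submodule.mkQ_surjective I)

end gen

end Groth.Agent.H19.FlatCxArt
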