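import Groth.Prelude.Def_ega3
import Mathlib
import Groth.Agent.H19.FlatCxLib
import Groth.Agent.H19.FlatCxArt
import Groth.Agent.S4492
import Groth.Agent.S2446

set_option autoImplicit false
universe u

/-!
Helper library for the `FlatCx` cluster, part 3: lengths of `T_p(M)` over an Artinian local ring.
-/

namespace Groth.Agent.H19.FlatCxArt2

open CategoryTheory CategoryTheory.Limits MonoidalCategory
open Groth.Agent.H19.FlatCxLib Groth.Agent.H19.FlatCxArt

variable {A : Type u} [CommRing A] [IsLocalRing A]

/-- the short exact sequence `0 → m → A → k → 0`. -/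
noncomputable def resSC (A : Type u) [CommRing A] [IsLocalRing A] : ShortComplex (ModuleCat.{u} A) :=
  ShortComplex.mk (ModuleCat.ofHom (IsLocalRing.maximalIdeal A).subtype)
    (ModuleCat.ofHom (Algebra.linearMap A (IsLocalRing.ResidueField A))) (by
    ext x
    exact (IsLocalRing.residue_eq_zero_iff x.1).mpr x.2)

theorem resSC_shortExact : (resSC A).ShortExact := by
  refine ModuleCat.shortComplex_shortExact (resSC A) ?_ (Submodule.subtype_injective _)
    (Ideal.Quotient.mk_surjective (I := IsLocalRing.maximalIdeal A))
  intro x
  constructor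
  · intro hx
    exact ⟨⟨x, (IsLocalRing.residue_eq_zero_iff (R := A) x).mp hx⟩, rfl⟩
  · rintro ⟨y, rfl⟩
    exact (IsLocalRing.residue_eq_zero_iff (R := A) y.1).mpr y.2

/-- a simple module over a local ring is isomorphic to the residue field -/
theorem simple_iso_residue (S : ModuleCat.{u} A) [IsSimpleModule A S] :
    Nonempty (ModuleCat.of A (IsLocalRing.ResidueField A) ≅ S) := by
  haveI : Nontrivial S := IsSimpleModule.nontrivial A S
  obtain ⟨s, hs⟩ := exists_ne (0 : S)
  let φs : A →ₗ[A] S := LinearMap.toSpanSingleton A S s
  have hφs : Function.Surjective φs := IsSimpleModule.toSpanSingleton_surjective A hs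
  have hker : LinearMap.ker φs = IsLocalRing.maximalIdeal A :=
    IsLocalRing.eq_maximalIdeal (IsSimpleModule.ker_toSpanSingleton_isMaximal A hs)
  let e : IsLocalRing.ResidueField A →ₗ[A] S :=
    Submodule.liftQ (IsLocalRing.maximalIdeal A) φs hker.ge
  have he : e ∘ₗ (Algebra.linearMap A (IsLocalRing.ResidueField A)) = φs := by
    apply LinearMap.ext_ring
    rfl
  have hebij : Function.Bijective e := by
    constructor
    · rw [← LinearMap.ker_eq_bot]
      exact Submodule.ker_liftQ_eq_bot _ _ _ hker.le
    · intro y
      obtain ⟨a, rfl⟩ := hφs y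
      exact ⟨Algebra.linearMap A (IsLocalRing.ResidueField A) a, LinearMap.congr_fun he a⟩
  exact ⟨(LinearEquiv.ofBijective e hebij).toModuleIso⟩

section lengths

variable (P : ChainComplex (ModuleCat.{u} A) ℤ) (p : ℤ)

theorem length_T_simple (S : ModuleCat.{u} A) [IsSimpleModule A S] :
    Module.length A ((CohIII.TFun P p).obj S) =
      Module.length A ((CohIII.TFun P p).obj (ModuleCat.of A (IsLocalRing.ResidueField A))) := by
  obtain ⟨e⟩ := simple_iso_residue S
  exact (((CohIII.TFun P p).mapIso e).toLinearEquiv.length_eq).symm

/-- General bound: `length T_p(M) ≤ d · length M` for `M` of finite length. -/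
theorem length_T_le (hP : ∀ i, Module.Flat A (P.X i)) :
    ∀ n : ℕ, ∀ M : ModuleCat.{u} A, Module.length A M = n →
      Module.length A ((CohIII.TFun P p).obj M) ≤
        Module.length A ((CohIII.TFun P p).obj (ModuleCat.of A (IsLocalRing.ResidueField A))) * n := by
  intro n
  induction n using Nat.strong_induction_on with
  | _ n ih =>
    intro E hE
    by_cases hsub : Subsingleton E
    · have hz : IsZero E := ModuleCat.isZero_of_subsingleton E
      have hz' : IsZero ((CohIII.TFun P p).obj E) := (CohIII.TFun P p).map_isZero hz
      have : Subsingleton ((CohIII.TFun P p).obj E) := ModuleCat.subsingleton_of_isZero hz'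
      rw [Module.length_eq_zero]
      exact bot_le
    · rw [not_subsingleton_iff_nontrivial] at hsub
      have hfl : IsFiniteLength A E := by
        rw [← Module.length_ne_top_iff, hE]
        simp
      obtain ⟨hnoeth, hart⟩ := isFiniteLength_iff_isNoetherian_isArtinian.mp hfl
      obtain ⟨N, hN⟩ : ∃ N : Submodule A E, IsCoatom N := by
        rcases eq_top_or_exists_le_coatom (⊥ : Submodule A E) with h | ⟨N, hN, -⟩
        · exact absurd h bot_ne_top
        · exact ⟨N, hN⟩
      have hsimple : IsSimpleModule A (E ⧸ N) := isSimpleModule_iff_isCoatom.mpr hN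
      have hadd : Module.length A E = Module.length A N + Module.length A (E ⧸ N) :=
        Module.length_eq_add_of_exact N.subtype N.mkQ (Submodule.subtype_injective _)
          (Submodule.mkQ_surjective _) (LinearMap.exact_subtype_mkQ _)
      rw [Module.length_eq_one A (E ⧸ N), hE] at hadd
      have hNtop : Module.length A N ≠ ⊤ := by
        intro h
        rw [h] at hadd
        simp at hadd
      obtain ⟨m, hm⟩ := ENat.ne_top_iff_exists.mp hNtop
      have hnm : n = m + 1 := by
        rw [← hm] at hadd
        exact_mod_cast hadd
      let S : ShortComplex (ModuleCat.{u} A) :=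
        ShortComplex.mk (ModuleCat.ofHom N.subtype) (ModuleCat.ofHom N.mkQ) (by
          ext x
          exact (Submodule.Quotient.mk_eq_zero N).mpr x.2)
      have hSE : S.ShortExact := ModuleCat.shortComplex_shortExact S
        (LinearMap.exact_subtype_mkQ N) (Submodule.subtype_injective _) (Submodule.mkQ_surjective _)
      have h1 := Groth.Agent.S4492.ineq (CohIII.TFun P p) S (exact_f_g P hP S hSE p)
      have h2 := ih m (by omega) (ModuleCat.of A N) hm.symm
      have h3 := length_T_simple P p (ModuleCat.of A (E ⧸ N))
      change Module.length A ((CohIII.TFun P p).obj E) ≤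
        Module.length A ((CohIII.TFun P p).obj (ModuleCat.of A N)) +
          Module.length A ((CohIII.TFun P p).obj (ModuleCat.of A (E ⧸ N))) at h1
      rw [h3] at h1
      refine h1.trans ?_
      rw [hnm]
      push_cast
      rw [mul_add, mul_one]
      exact add_le_add h2 le_rfl

/-- If `T_p` is exact, `length T_p(M) = d · length M` for `M` of finite length. -/
theorem length_T_eq (hP : ∀ i, Module.Flat A (P.X i))
    (hmono : (CohIII.TFun P p).PreservesMonomorphisms)
    (hepi : (CohIII.TFun P p).PreservesEpimorphisms) :
    ∀ n : ℕ, ∀ M : ModuleCat.{u} A, Module.length A M = n →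
      Module.length A ((CohIII.TFun P p).obj M) =
        Module.length A ((CohIII.TFun P p).obj (ModuleCat.of A (IsLocalRing.ResidueField A))) * n := by
  intro n
  induction n using Nat.strong_induction_on with
  | _ n ih =>
    intro E hE
    by_cases hsub : Subsingleton E
    · have hz : IsZero E := ModuleCat.isZero_of_subsingleton E
      have hz' : IsZero ((CohIII.TFun P p).obj E) := (CohIII.TFun P p).map_isZero hz
      have : Subsingleton ((CohIII.TFun P p).obj E) := ModuleCat.subsingleton_of_isZero hz'
      have hn : n = 0 := by
        have : Module.length A E = 0 := Module.length_eq_zero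
        rw [hE] at this
        exact_mod_cast this
      rw [Module.length_eq_zero, hn]
      simp
    · rw [not_subsingleton_iff_nontrivial] at hsub
      have hfl : IsFiniteLength A E := by
        rw [← Module.length_ne_top_iff, hE]
        simp
      obtain ⟨hnoeth, hart⟩ := isFiniteLength_iff_isNoetherian_isArtinian.mp hfl
      obtain ⟨N, hN⟩ : ∃ N : Submodule A E, IsCoatom N := by
        rcases eq_top_or_exists_le_coatom (⊥ : Submodule A E) with h | ⟨N, hN, -⟩
        · exact absurd h bot_ne_top
        · exact ⟨N, hN⟩
      have hsimple : IsSimpleModule A (E ⧸ N) := isSimpleModule_iff_isCoatom.mpr hN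
      have hadd : Module.length A E = Module.length A N + Module.length A (E ⧸ N) :=
        Module.length_eq_add_of_exact N.subtype N.mkQ (Submodule.subtype_injective _)
          (Submodule.mkQ_surjective _) (LinearMap.exact_subtype_mkQ _)
      rw [Module.length_eq_one A (E ⧸ N), hE] at hadd
      have hNtop : Module.length A N ≠ ⊤ := by
        intro h
        rw [h] at hadd
        simp at hadd
      obtain ⟨m, hm⟩ := ENat.ne_top_iff_exists.mp hNtop
      have hnm : n = m + 1 := by
        rw [← hm] at hadd
        exact_mod_cast hadd
      let S : ShortComplex (ModuleCat.{u} A) :=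
        ShortComplex.mk (ModuleCat.ofHom N.subtype) (ModuleCat.ofHom N.mkQ) (by
          ext x
          exact (Submodule.Quotient.mk_eq_zero N).mpr x.2)
      have hSE : S.ShortExact := ModuleCat.shortComplex_shortExact S
        (LinearMap.exact_subtype_mkQ N) (Submodule.subtype_injective _) (Submodule.mkQ_surjective _)
      have hex : Function.Exact ((CohIII.TFun P p).map S.f).hom ((CohIII.TFun P p).map S.g).hom :=
        (ShortComplex.ShortExact.moduleCat_exact_iff_function_exact
          (S.map (CohIII.TFun P p))).mp (exact_f_g P hP S hSE p)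
      haveI := hSE.mono_f
      haveI := hSE.epi_g
      have hinj : Function.Injective ((CohIII.TFun P p).map S.f).hom :=
        (ModuleCat.mono_iff_injective _).mp (hmono.preserves S.f)
      have hsur : Function.Surjective ((CohIII.TFun P p).map S.g).hom :=
        (ModuleCat.epi_iff_surjective _).mp (hepi.preserves S.g)
      have h1 := Module.length_eq_add_of_exact _ _ hinj hsur hex
      have h2 := ih m (by omega) (ModuleCat.of A N) hm.symm
      have h3 := length_T_simple P p (ModuleCat.of A (E ⧸ N))
      change Module.length A ((CohIII.TFun P p).obj E) =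
        Module.length A ((CohIII.TFun P p).obj (ModuleCat.of A N)) +
          Module.length A ((CohIII.TFun P p).obj (ModuleCat.of A (E ⧸ N))) at h1
      rw [h3, h2] at h1
      rw [h1, hnm]
      push_cast
      rw [mul_add, mul_one]

theorem length_A_eq : Module.length A A = Module.length A (IsLocalRing.maximalIdeal A) + 1 := by
  have h := Module.length_eq_add_of_exact (IsLocalRing.maximalIdeal A).subtype
    (IsLocalRing.maximalIdeal A).mkQ (Submodule.subtype_injective _)
    (Submodule.mkQ_surjective _) (LinearMap.exact_subtype_mkQ _)
  haveI : IsSimpleModule A (A ⧸ IsLocalRing.maximalIdeal A) :=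
    isSimpleModule_iff_isCoatom.mpr (Ideal.isMaximal_def.mp inferInstance)
  rw [Module.length_eq_one A (A ⧸ IsLocalRing.maximalIdeal A)] at h
  exact h

/-- the key consequence of additivity of lengths on `0 → m → A → k → 0`. -/
theorem surj_of_length_add (hP : ∀ i, Module.Flat A (P.X i)) (q : ℤ) (hpq : p + 1 = q)
    (hm : Module.length A ((CohIII.TFun P p).obj (ModuleCat.of A (IsLocalRing.maximalIdeal A))) ≠ ⊤)
    (hk : Module.length A ((CohIII.TFun P p).obj (ModuleCat.of A (IsLocalRing.ResidueField A))) ≠ ⊤)
    (hadd : Module.length A ((CohIII.TFun P p).obj (ModuleCat.of A A)) =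
      Module.length A ((CohIII.TFun P p).obj (ModuleCat.of A (IsLocalRing.maximalIdeal A))) +
        Module.length A ((CohIII.TFun P p).obj (ModuleCat.of A (IsLocalRing.ResidueField A)))) :
    Function.Surjective ((CohIII.TFun P p).map
        (ModuleCat.ofHom (Algebra.linearMap A (IsLocalRing.ResidueField A)))).hom ∧
      Function.Surjective ((CohIII.TFun P q).map
        (ModuleCat.ofHom (Algebra.linearMap A (IsLocalRing.ResidueField A)))).hom := by
  have hSE := resSC_shortExact (A := A)
  have hex : Function.Exact ((CohIII.TFun P p).map (resSC A).f).hom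
      ((CohIII.TFun P p).map (resSC A).g).hom :=
    (ShortComplex.ShortExact.moduleCat_exact_iff_function_exact
      ((resSC A).map (CohIII.TFun P p))).mp (exact_f_g P hP (resSC A) hSE p)
  obtain ⟨hinj, hsur⟩ := (Groth.Agent.S4492.length_eq_iff_of_exact' _ _ hex hm hk).mp hadd
  refine ⟨hsur, ?_⟩
  have hmono : Mono ((CohIII.TFun P p).map (resSC A).f) := (ModuleCat.mono_iff_injective _).mpr hinj
  have hepi : Epi ((CohIII.TFun P q).map (resSC A).g) :=
    (epi_iff_mono P hP (resSC A) hSE q p hpq).mpr hmono
  exact (ModuleCat.epi_iff_surjective _).mp hepi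

variable [IsArtinianRing A]

/-- exactness of `T_p` from the two surjectivities -/
theorem exact_iff_surj (hP : ∀ i, Module.Flat A (P.X i)) (q : ℤ) (hpq : p + 1 = q) :
    ((CohIII.TFun P p).PreservesMonomorphisms ∧ (CohIII.TFun P p).PreservesEpimorphisms) ↔
      (Function.Surjective ((CohIII.TFun P p).map
          (ModuleCat.ofHom (Algebra.linearMap A (IsLocalRing.ResidueField A)))).hom ∧
        Function.Surjective ((CohIII.TFun P q).map
          (ModuleCat.ofHom (Algebra.linearMap A (IsLocalRing.ResidueField A)))).hom) := by
  rw [← preservesEpi_iff P p hP, ← preservesEpi_iff P q hP,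
    Groth.Agent.S2406.result P hP q p hpq]
  exact and_comm

theorem length_m_ne_top : Module.length A (IsLocalRing.maximalIdeal A) ≠ ⊤ :=
  Module.length_ne_top

/-- from `length T_p(A) = d · length A` to the two surjectivities. -/
theorem surj_of_length_eq (hP : ∀ i, Module.Flat A (P.X i)) (q : ℤ) (hpq : p + 1 = q)
    (hk : Module.length A ((CohIII.TFun P p).obj (ModuleCat.of A (IsLocalRing.ResidueField A))) ≠ ⊤)
    (hA : Module.length A ((CohIII.TFun P p).obj (ModuleCat.of A A)) =
      Module.length A ((CohIII.TFun P p).obj (ModuleCat.of A (IsLocalRing.ResidueField A))) *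
        Module.length A A) :
    Function.Surjective ((CohIII.TFun P p).map
        (ModuleCat.ofHom (Algebra.linearMap A (IsLocalRing.ResidueField A)))).hom ∧
      Function.Surjective ((CohIII.TFun P q).map
        (ModuleCat.ofHom (Algebra.linearMap A (IsLocalRing.ResidueField A)))).hom := by
  obtain ⟨n, hn⟩ := ENat.ne_top_iff_exists.mp (length_m_ne_top (A := A))
  have hle := length_T_le P p hP n (ModuleCat.of A (IsLocalRing.maximalIdeal A)) hn.symm
  have hSE := resSC_shortExact (A := A)
  have hineq := Groth.Agent.S4492.ineq (CohIII.TFun P p) (resSC A) (exact_f_g P hP (resSC A) hSE p)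
  change Module.length A ((CohIII.TFun P p).obj (ModuleCat.of A A)) ≤
    Module.length A ((CohIII.TFun P p).obj (ModuleCat.of A (IsLocalRing.maximalIdeal A))) +
      Module.length A ((CohIII.TFun P p).obj (ModuleCat.of A (IsLocalRing.ResidueField A))) at hineq
  have hmtop : Module.length A ((CohIII.TFun P p).obj
      (ModuleCat.of A (IsLocalRing.maximalIdeal A))) ≠ ⊤ := by
    intro h
    rw [h, top_le_iff] at hle
    exact (WithTop.mul_ne_top hk (ENat.natCast_ne_top n)) hle
  refine surj_of_length_add P p hP q hpq hmtop hk (le_antisymm hineq ?_)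
  rw [hA, length_A_eq, ← hn, mul_add, mul_one]
  exact add_le_add hle le_rfl

omit [IsLocalRing A] [IsArtinianRing A] in
/-- exactness of `T_p` implies flatness of `T_p(A)`. -/
theorem flat_T_of_exact (hP : ∀ i, Module.Flat A (P.X i))
    (hmono : (CohIII.TFun P p).PreservesMonomorphisms)
    (hepi : (CohIII.TFun P p).PreservesEpimorphisms) :
    Module.Flat A ((CohIII.TFun P p).obj (ModuleCat.of A A)) := by
  have f1 : Module.Flat A (P.opcycles p) := (Groth.Agent.S2375.result P hP p).mp hmono
  have f2 : Module.Flat A (P.opcycles (p - 1)) :=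
    (Groth.Agent.S2375.result P hP (p - 1)).mp
      ((Groth.Agent.S2406.result P hP p (p - 1) (by omega)).mp hepi)
  have f3 := Groth.Agent.S2446.flat_bdry P (p - 1) (hP _) f2
  have f4 := Groth.Agent.S2446.flat_homology_of P p (p - 1) (by simp) f1 f3
  exact Module.Flat.of_linearEquiv (Groth.Agent.S2446.TUnitIso P p).toLinearEquiv

omit [IsLocalRing A] in
/-- finite length of `T_p(M)` when `P_p` and `M` are finitely generated. -/
theorem length_T_ne_top_of_finite (hfin : Module.Finite A (P.X p)) (M : ModuleCat.{u} A)
    [Module.Finite A M] : Module.length A ((CohIII.TFun P p).obj M) ≠ ⊤ := by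
  have h1 : Module.length A ((CohIII.tensorObj P M).homology p) ≤
      Module.length A ((CohIII.tensorObj P M).cycles p) :=
    Module.length_le_of_surjective ((CohIII.tensorObj P M).homologyπ p).hom
      ((ModuleCat.epi_iff_surjective _).mp inferInstance)
  have h2 : Module.length A ((CohIII.tensorObj P M).cycles p) ≤
      Module.length A ((CohIII.tensorObj P M).X p) :=
    Module.length_le_of_injective ((CohIII.tensorObj P M).iCycles p).hom
      ((ModuleCat.mono_iff_injective _).mp inferInstance)
  have h3 : Module.length A ((CohIII.tensorObj P M).X p) ≠ ⊤ := by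
    show Module.length A (TensorProduct A (P.X p) M) ≠ ⊤
    exact Module.length_ne_top
  intro h
  have h4 : Module.length A ((CohIII.tensorObj P M).homology p) = ⊤ := h
  rw [h4, top_le_iff] at h1
  rw [h1, top_le_iff] at h2
  exact h3 h2

end lengths

end Groth.Agent.H19.FlatCxArt2
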