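import Groth.Prelude.Def_ega3
import Mathlib
import Groth.Agent.H19.FlatCxLib
import Groth.Agent.H19.FlatCxBC
import Groth.Agent.S2375
import Groth.Agent.S2406

set_option autoImplicit false
universe u

/-!
Helper library for the `FlatCx` cluster, part 5: localizing the complex at primes, free loci.
-/

namespace Groth.Agent.H19.FlatCxLoc

open CategoryTheory CategoryTheory.Limits MonoidalCategory TensorProduct
open Groth.Agent.H19.FlatCxBC

variable {A : Type u} [CommRing A]

/-- For a finitely generated module `Q`: the base change to `A_y` is flat iff `y` is in the free locus. -/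
theorem flat_ext_localization_iff (Q : ModuleCat.{u} A) [Module.Finite A Q] (y : PrimeSpectrum A) :
    Module.Flat (Localization.AtPrime y.asIdeal)
      ((ModuleCat.extendScalars (algebraMap A (Localization.AtPrime y.asIdeal))).obj Q) ↔
      y ∈ Module.freeLocus A Q := by
  rw [Module.mem_freeLocus_iff_tensor y (Localization.AtPrime y.asIdeal)]
  constructor
  · intro h
    haveI : Module.Flat (Localization.AtPrime y.asIdeal) (Localization.AtPrime y.asIdeal ⊗[A] Q) :=
      Module.Flat.of_linearEquiv (bridge (Localization.AtPrime y.asIdeal) Q).symm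
    exact Module.free_of_flat_of_isLocalRing
  · intro h
    haveI : Module.Flat (Localization.AtPrime y.asIdeal) (Localization.AtPrime y.asIdeal ⊗[A] Q) :=
      Module.Flat.of_free
    exact Module.Flat.of_linearEquiv (bridge (Localization.AtPrime y.asIdeal) Q)

variable (P : ChainComplex (ModuleCat.{u} A) ℤ)

theorem finite_opcycles (p : ℤ) (h : Module.Finite A (P.X p)) : Module.Finite A (P.opcycles p) :=
  Module.Finite.of_surjective (P.pOpcycles p).hom
    ((ModuleCat.epi_iff_surjective _).mp inferInstance)

theorem mono_loc_iff (hP : ∀ i, Module.Finite A (P.X i) ∧ Module.Flat A (P.X i)) (p : ℤ)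
    (y : PrimeSpectrum A) :
    (CohIII.TFun (CohIII.bcCx (algebraMap A (Localization.AtPrime y.asIdeal)) P) p).PreservesMonomorphisms ↔
      y ∈ Module.freeLocus A (P.opcycles p) := by
  haveI := finite_opcycles P p (hP p).1
  rw [Groth.Agent.S2375.result _ (flat_bc (Localization.AtPrime y.asIdeal) P (fun i => (hP i).2)) p,
    ← flat_ext_localization_iff (P.opcycles p) y]
  constructor
  · intro h
    exact Module.Flat.of_linearEquiv (opcyclesIso (Localization.AtPrime y.asIdeal) P p).symm.toLinearEquiv
  · intro h
    exact Module.Flat.of_linearEquiv (opcyclesIso (Localization.AtPrime y.asIdeal) P p).toLinearEquiv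

theorem epi_loc_iff (hP : ∀ i, Module.Finite A (P.X i) ∧ Module.Flat A (P.X i)) (p : ℤ)
    (y : PrimeSpectrum A) :
    (CohIII.TFun (CohIII.bcCx (algebraMap A (Localization.AtPrime y.asIdeal)) P) p).PreservesEpimorphisms ↔
      y ∈ Module.freeLocus A (P.opcycles (p - 1)) := by
  rw [Groth.Agent.S2406.result _
    (flat_bc (Localization.AtPrime y.asIdeal) P (fun i => (hP i).2)) p (p - 1) (by omega)]
  exact mono_loc_iff P hP (p - 1) y

theorem isOpen_freeLocus_opcycles [IsNoetherianRing A]
    (hP : ∀ i, Module.Finite A (P.X i) ∧ Module.Flat A (P.X i)) (p : ℤ) :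
    IsOpen (Module.freeLocus A (P.opcycles p)) := by
  haveI := finite_opcycles P p (hP p).1
  haveI : Module.FinitePresentation A (P.opcycles p) := Module.finitePresentation_of_finite A _
  exact Module.isOpen_freeLocus

/-- the generic point of a domain lies in every free locus -/
theorem bot_mem_freeLocus [IsDomain A] (Q : Type u) [AddCommGroup Q] [Module A Q] :
    (⟨⊥, Ideal.isPrime_bot⟩ : PrimeSpectrum A) ∈ Module.freeLocus A Q := by
  rw [Module.mem_freeLocus]
  have : IsFractionRing A (Localization.AtPrime (⊥ : Ideal A)) := by
    simpa [Ideal.primeCompl_bot] using Localization.isLocalization (M := (⊥ : Ideal A).primeCompl)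
  let : Field (Localization.AtPrime (⊥ : Ideal A)) := IsFractionRing.toField A
  exact Module.Free.of_divisionRing _ _

end Groth.Agent.H19.FlatCxLoc
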