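import Groth.Prelude.Def_ega3
import Mathlib
import Groth.Agent.H19.FlatCxLib
import Groth.Agent.H19.FlatCxArt
import Groth.Agent.H19.FlatCxArt2
import Groth.Agent.H19.FlatCxLoc
import Groth.Agent.S2375
import Groth.Agent.S2406

set_option autoImplicit false
universe u

/-!
Helper library for the `FlatCx` cluster, part 6: Noetherian local rings, finitely generated flat terms.
-/

namespace Groth.Agent.H19.FlatCxNoeth

open CategoryTheory CategoryTheory.Limits MonoidalCategory TensorProduct
open Groth.Agent.H19.FlatCxLib Groth.Agent.H19.FlatCxArt Groth.Agent.H19.FlatCxArt2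
  Groth.Agent.H19.FlatCxLoc

variable {A : Type u} [CommRing A] [IsNoetherianRing A] [IsLocalRing A]
variable (P : ChainComplex (ModuleCat.{u} A) ℤ)

/-- Noetherian local, finitely generated flat terms: `T_p` preserves epimorphisms iff
`T_p(A) → T_p(k)` is surjective. -/
theorem preservesEpi_iff_noeth (hP : ∀ i, Module.Finite A (P.X i) ∧ Module.Flat A (P.X i)) (p : ℤ) :
    (CohIII.TFun P p).PreservesEpimorphisms ↔
      Function.Surjective ((CohIII.TFun P p).map
        (ModuleCat.ofHom (Algebra.linearMap A (IsLocalRing.ResidueField A)))).hom := by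
  have hP' : ∀ i, Module.Flat A (P.X i) := fun i => (hP i).2
  constructor
  · intro h
    haveI : Epi (ModuleCat.ofHom (Algebra.linearMap A (IsLocalRing.ResidueField A))) := by
      rw [ModuleCat.epi_iff_surjective]
      exact Ideal.Quotient.mk_surjective
    exact (ModuleCat.epi_iff_surjective _).mp (h.preserves _)
  · intro hsurj
    have hSE := resSC_shortExact (A := A)
    have hepi : Epi ((CohIII.TFun P p).map (resSC A).g) :=
      (ModuleCat.epi_iff_surjective _).mpr hsurj
    have hmono : Mono ((CohIII.TFun P (p - 1)).map (resSC A).f) :=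
      (epi_iff_mono P hP' (resSC A) hSE p (p - 1) (by omega)).mp hepi
    have hinj : Function.Injective
        ((IsLocalRing.maximalIdeal A).subtype.lTensor (P.opcycles (p - 1))) :=
      lTensor_injective_of_mono P (p - 1) hP' _ (Submodule.subtype_injective _) hmono
    haveI := finite_opcycles P (p - 1) (hP _).1
    haveI : Module.FinitePresentation A (P.opcycles (p - 1)) :=
      Module.finitePresentation_of_finite A _
    have hfree : Module.Free A (P.opcycles (p - 1)) :=
      Module.free_of_maximalIdeal_rTensor_injective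
        ((LinearMap.lTensor_inj_iff_rTensor_inj _ _).mp hinj)
    have hflat : Module.Flat A (P.opcycles (p - 1)) := Module.Flat.of_free
    exact (Groth.Agent.S2406.result P hP' p (p - 1) (by omega)).mpr
      ((Groth.Agent.S2375.result P hP' (p - 1)).mpr hflat)

theorem exact_iff_surj_noeth (hP : ∀ i, Module.Finite A (P.X i) ∧ Module.Flat A (P.X i))
    (p q : ℤ) (hpq : p + 1 = q) :
    ((CohIII.TFun P p).PreservesMonomorphisms ∧ (CohIII.TFun P p).PreservesEpimorphisms) ↔
      Function.Surjective ((CohIII.TFun P q).map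
          (ModuleCat.ofHom (Algebra.linearMap A (IsLocalRing.ResidueField A)))).hom ∧
        Function.Surjective ((CohIII.TFun P p).map
          (ModuleCat.ofHom (Algebra.linearMap A (IsLocalRing.ResidueField A)))).hom := by
  rw [← preservesEpi_iff_noeth P hP p, ← preservesEpi_iff_noeth P hP q,
    Groth.Agent.S2406.result P (fun i => (hP i).2) q p hpq]

section vanishing

omit [IsNoetherianRing A] [IsLocalRing A]

/-- compatibility of `θ` with `fromOpcycles`. -/
theorem θ_fromOpcycles (p j : ℤ) (M : ModuleCat.{u} A) :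
    (Groth.Agent.S2375.θ P p M).hom ≫ (P.fromOpcycles p j ▷ M) =
      (CohIII.tensorObj P M).fromOpcycles p j := by
  have h1 : (CohIII.tensorObj P M).pOpcycles p ≫
      ((Groth.Agent.S2375.θ P p M).hom ≫ (P.fromOpcycles p j ▷ M)) = (P.d p j) ▷ M :=
    ((Category.assoc _ _ _).symm.trans
      (congrArg (· ≫ (P.fromOpcycles p j ▷ M)) (Groth.Agent.S2375.p_θ P p M))).trans
      ((comp_whiskerRight _ _ _).symm.trans (congrArg (· ▷ M) (P.p_fromOpcycles p j)))
  have h2 : (CohIII.tensorObj P M).pOpcycles p ≫ (CohIII.tensorObj P M).fromOpcycles p j =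
      (P.d p j) ▷ M :=
    ((CohIII.tensorObj P M).p_fromOpcycles p j).trans rfl
  exact (cancel_epi ((CohIII.tensorObj P M).pOpcycles p)).mp (h1.trans h2.symm)

/-- `T_p(M) = 0` iff `opcycles_p(P) ⊗ M → P_j ⊗ M` is injective (`j` the next index). -/
theorem isZero_T_iff (p j : ℤ) (hj : (ComplexShape.down ℤ).next p = j) (M : ModuleCat.{u} A) :
    IsZero ((CohIII.TFun P p).obj M) ↔
      Function.Injective ((P.fromOpcycles p j).hom.rTensor M) := by
  have hfun : ∀ x, ((CohIII.tensorObj P M).fromOpcycles p j).hom x =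
      ((P.fromOpcycles p j).hom.rTensor M) ((Groth.Agent.S2375.θ P p M).hom.hom x) := fun x =>
    (congrArg (fun φ => φ.hom x) (θ_fromOpcycles P p j M)).symm
  have hθ : Function.Bijective (Groth.Agent.S2375.θ P p M).hom.hom :=
    (ConcreteCategory.isIso_iff_bijective (Groth.Agent.S2375.θ P p M).hom).mp inferInstance
  have key : Function.Injective ((P.fromOpcycles p j).hom.rTensor M) ↔
      Function.Injective ((CohIII.tensorObj P M).fromOpcycles p j).hom := by
    constructor
    · intro h x y hxy
      apply hθ.1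
      apply h
      exact (hfun x).symm.trans (hxy.trans (hfun y))
    · intro h x y hxy
      obtain ⟨x', rfl⟩ := hθ.2 x
      obtain ⟨y', rfl⟩ := hθ.2 y
      exact congrArg _ (h ((hfun x').trans (hxy.trans (hfun y').symm)))
  rw [key]
  constructor
  · intro hz
    have hsub : Subsingleton ((CohIII.tensorObj P M).homology p) :=
      ModuleCat.subsingleton_of_isZero hz
    rw [injective_iff_map_eq_zero]
    intro x hx
    obtain ⟨t, ht⟩ := Groth.Agent.S2375.exists_of_fromOpcycles_eq_zero _ p j hj x hx
    rw [← ht, Subsingleton.elim t 0, map_zero]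
  · intro hinj
    have hsub : Subsingleton ((CohIII.TFun P p).obj M) := by
      refine subsingleton_of_forall_eq 0 fun t => ?_
      have h1 : ((CohIII.tensorObj P M).fromOpcycles p j).hom
          (((CohIII.tensorObj P M).homologyι p).hom t) = 0 := by
        have := congrArg (fun φ => φ.hom t)
          ((CohIII.tensorObj P M).homologyι_comp_fromOpcycles p j)
        exact this
      have h2 : ((CohIII.tensorObj P M).homologyι p).hom t = 0 :=
        hinj (h1.trans (map_zero _).symm)
      have hι : Function.Injective ((CohIII.tensorObj P M).homologyι p).hom :=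
        (ModuleCat.mono_iff_injective _).mp inferInstance
      exact hι (h2.trans (map_zero _).symm)
    exact ModuleCat.isZero_of_subsingleton _

end vanishing

omit [IsNoetherianRing A] in
/-- `T_p(k) = 0` implies `T_p = 0`. -/
theorem isZero_T_of_residue (hP : ∀ i, Module.Finite A (P.X i) ∧ Module.Flat A (P.X i)) (p : ℤ)
    (hk : IsZero ((CohIII.TFun P p).obj (ModuleCat.of A (IsLocalRing.ResidueField A))))
    (M : ModuleCat.{u} A) : IsZero ((CohIII.TFun P p).obj M) := by
  set j := (ComplexShape.down ℤ).next p with hj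
  haveI := finite_opcycles P p (hP p).1
  haveI : Module.Finite A (P.X j) := (hP j).1
  haveI : Module.Flat A (P.X j) := (hP j).2
  haveI : Module.Free A (P.X j) := Module.free_of_flat_of_isLocalRing
  have h1 := (isZero_T_iff P p j rfl (ModuleCat.of A (IsLocalRing.ResidueField A))).mp hk
  have h2 : Function.Injective ((P.fromOpcycles p j).hom.lTensor (IsLocalRing.ResidueField A)) :=
    (LinearMap.lTensor_inj_iff_rTensor_inj _ _).mpr h1
  obtain ⟨l', hl'⟩ :=
    (IsLocalRing.split_injective_iff_lTensor_residueField_injective (P.fromOpcycles p j).hom).mpr h2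
  rw [isZero_T_iff P p j rfl M]
  have : (l'.rTensor M) ∘ₗ ((P.fromOpcycles p j).hom.rTensor M) = LinearMap.id := by
    rw [← LinearMap.rTensor_comp, hl', LinearMap.rTensor_id]
  exact Function.HasLeftInverse.injective ⟨_, LinearMap.congr_fun this⟩

omit [IsLocalRing A] in
/-- finiteness of `T_p(M)` for finitely generated `P_p` and `M` over a Noetherian ring. -/
theorem finite_T (M : ModuleCat.{u} A) [Module.Finite A M] (p : ℤ)
    (hfin : Module.Finite A (P.X p)) : Module.Finite A ((CohIII.TFun P p).obj M) := by
  haveI : Module.Finite A ((CohIII.tensorObj P M).X p) := by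
    show Module.Finite A (TensorProduct A (P.X p) M)
    infer_instance
  haveI : IsNoetherian A ((CohIII.tensorObj P M).X p) := isNoetherian_of_isNoetherianRing_of_finite A _
  haveI : Module.Finite A ((CohIII.tensorObj P M).cycles p) :=
    Module.Finite.of_injective ((CohIII.tensorObj P M).iCycles p).hom
      ((ModuleCat.mono_iff_injective _).mp inferInstance)
  exact Module.Finite.of_surjective ((CohIII.tensorObj P M).homologyπ p).hom
    ((ModuleCat.epi_iff_surjective _).mp inferInstance)

theorem exact_and_free_of_vanishing (hP : ∀ i, Module.Finite A (P.X i) ∧ Module.Flat A (P.X i))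
    (p q r : ℤ) (hqp : q + 1 = p) (hpr : p + 1 = r)
    (hq : IsZero ((CohIII.TFun P q).obj (ModuleCat.of A (IsLocalRing.ResidueField A))))
    (hr : IsZero ((CohIII.TFun P r).obj (ModuleCat.of A (IsLocalRing.ResidueField A)))) :
    ((CohIII.TFun P p).PreservesMonomorphisms ∧ (CohIII.TFun P p).PreservesEpimorphisms) ∧
      Module.Free A ((CohIII.TFun P p).obj (ModuleCat.of A A)) := by
  have hP' : ∀ i, Module.Flat A (P.X i) := fun i => (hP i).2
  have hmono : (CohIII.TFun P p).PreservesMonomorphisms := by
    rw [← Groth.Agent.S2406.result P hP' r p hpr, preservesEpi_iff_noeth P hP r]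
    intro y
    have : Subsingleton ((CohIII.TFun P r).obj (ModuleCat.of A (IsLocalRing.ResidueField A))) :=
      ModuleCat.subsingleton_of_isZero hr
    exact ⟨0, Subsingleton.elim _ _⟩
  have hepi : (CohIII.TFun P p).PreservesEpimorphisms := by
    rw [Groth.Agent.S2406.result P hP' p q hqp]
    refine ⟨fun {M N} f _ => ?_⟩
    exact (isZero_T_of_residue P hP q hq M).mono _
  refine ⟨⟨hmono, hepi⟩, ?_⟩
  haveI := flat_T_of_exact P p hP' hmono hepi
  haveI : Module.Finite A (ModuleCat.of A A) := Module.Finite.self A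
  haveI := finite_T P (ModuleCat.of A A) p (hP p).1
  exact Module.free_of_flat_of_isLocalRing

section krull

omit [IsNoetherianRing A]


/-- the projection `A/m^(n+1) → A/m` as a linear map -/
noncomputable abbrev gn (A : Type u) [CommRing A] [IsLocalRing A] (n : ℕ) :
    (A ⧸ IsLocalRing.maximalIdeal A ^ (n + 1)) →ₗ[A] (A ⧸ IsLocalRing.maximalIdeal A) :=
  (Ideal.Quotient.factorₐ A (Ideal.pow_le_self (I := IsLocalRing.maximalIdeal A)
          (Nat.succ_ne_zero n))).toLinearMap

theorem gn_mk (n : ℕ) (a : A) :
    gn A n ((IsLocalRing.maximalIdeal A ^ (n + 1)).mkQ a) = (IsLocalRing.maximalIdeal A).mkQ a := rfl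

theorem comap_pow_eq (n : ℕ) :
    Submodule.comap (IsLocalRing.maximalIdeal A).subtype (IsLocalRing.maximalIdeal A ^ (n + 1)) =
      (IsLocalRing.maximalIdeal A ^ n) • (⊤ : Submodule A (IsLocalRing.maximalIdeal A)) := by
  have h : Submodule.map (IsLocalRing.maximalIdeal A).subtype
      ((IsLocalRing.maximalIdeal A ^ n) • (⊤ : Submodule A (IsLocalRing.maximalIdeal A))) =
      IsLocalRing.maximalIdeal A ^ (n + 1) := by
    rw [Submodule.map_smul'', Submodule.map_subtype_top, pow_succ]
    rfl
  rw [← h, Submodule.comap_map_eq_of_injective (Submodule.subtype_injective _)]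

theorem lTensor_injective_of_quotients [IsNoetherianRing A]
    (Q : Type u) [AddCommGroup Q] [Module A Q] [Module.Finite A Q] (n₀ : ℕ)
    (h : ∀ n, n₀ ≤ n → Function.Injective ((LinearMap.ker (gn A n)).subtype.lTensor Q)) :
    Function.Injective ((IsLocalRing.maximalIdeal A).subtype.lTensor Q) := by
  set m := IsLocalRing.maximalIdeal A with hm
  rw [injective_iff_map_eq_zero]
  intro x hx
  have hmem : ∀ n, n₀ ≤ n → x ∈ (m ^ n) • (⊤ : Submodule A (Q ⊗[A] m)) := by
    intro n hn
    let πn : A →ₗ[A] A ⧸ m ^ (n + 1) := (m ^ (n + 1)).mkQ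
    let rn : m →ₗ[A] LinearMap.ker (gn A n) :=
      (πn ∘ₗ m.subtype).codRestrict _ (fun y => by
        rw [LinearMap.mem_ker]
        show gn A n ((m ^ (n + 1)).mkQ y.1) = 0
        rw [gn_mk]
        exact (Submodule.Quotient.mk_eq_zero m).mpr y.2)
    have hrn_surj : Function.Surjective rn := by
      rintro ⟨z, hz⟩
      obtain ⟨a, rfl⟩ := Submodule.mkQ_surjective _ z
      rw [LinearMap.mem_ker, gn_mk] at hz
      have ha : a ∈ m := (Submodule.Quotient.mk_eq_zero m).mp hz
      exact ⟨⟨a, ha⟩, rfl⟩
    let Kn : Submodule A m := Submodule.comap m.subtype (m ^ (n + 1))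
    have hex : Function.Exact Kn.subtype rn := by
      intro y
      constructor
      · intro hy
        have hy' : (m ^ (n + 1)).mkQ y.1 = 0 := congrArg Subtype.val hy
        have : y.1 ∈ m ^ (n + 1) := (Submodule.Quotient.mk_eq_zero _).mp hy'
        exact ⟨⟨y, this⟩, rfl⟩
      · rintro ⟨w, rfl⟩
        apply Subtype.ext
        exact (Submodule.Quotient.mk_eq_zero _).mpr w.2
    have hsq : (LinearMap.ker (gn A n)).subtype ∘ₗ rn = πn ∘ₗ m.subtype := rfl
    have h1 : ((LinearMap.ker (gn A n)).subtype.lTensor Q) ((rn.lTensor Q) x) = 0 := by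
      rw [← LinearMap.comp_apply, ← LinearMap.lTensor_comp, hsq, LinearMap.lTensor_comp,
        LinearMap.comp_apply, hx, map_zero]
    have h2 : (rn.lTensor Q) x = 0 := h n hn (h1.trans (map_zero _).symm)
    have hrange : ∀ w : Q ⊗[A] Kn, (Kn.subtype.lTensor Q) w ∈
        (m ^ n) • (⊤ : Submodule A (Q ⊗[A] m)) := by
      intro w
      induction w using TensorProduct.induction_on with
      | zero => rw [map_zero]; exact Submodule.zero_mem _
      | add w₁ w₂ h₁ h₂ =>
        rw [map_add]
        exact Submodule.add_mem _ h₁ h₂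
      | tmul q y =>
        rw [LinearMap.lTensor_tmul]
        have hy : (Kn.subtype y) ∈ (m ^ n) • (⊤ : Submodule A m) := by
          rw [← comap_pow_eq]
          exact y.2
        refine Submodule.smul_induction_on
          (p := fun z => q ⊗ₜ[A] z ∈ (m ^ n) • (⊤ : Submodule A (Q ⊗[A] m))) hy ?_ ?_
        · intro a ha z' _
          show q ⊗ₜ[A] (a • z') ∈ _
          rw [TensorProduct.tmul_smul]
          exact Submodule.smul_mem_smul ha Submodule.mem_top
        · intro z₁ z₂ h₁ h₂
          show q ⊗ₜ[A] (z₁ + z₂) ∈ _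
          rw [TensorProduct.tmul_add]
          exact Submodule.add_mem _ h₁ h₂
    obtain ⟨w, rfl⟩ := (lTensor_exact Q hex hrn_surj x).mp h2
    exact hrange w
  have hall : ∀ n, x ∈ (m ^ n) • (⊤ : Submodule A (Q ⊗[A] m)) := by
    intro n
    by_cases hn : n₀ ≤ n
    · exact hmem n hn
    · have hle : (m ^ n₀) • (⊤ : Submodule A (Q ⊗[A] m)) ≤ (m ^ n) • ⊤ :=
        Submodule.smul_mono_left (Ideal.pow_le_pow_right (by omega))
      exact hle (hmem n₀ le_rfl)
  have hbot : (⨅ i : ℕ, (m ^ i) • (⊤ : Submodule A (Q ⊗[A] m))) = ⊥ :=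
    Ideal.iInf_pow_smul_eq_bot_of_isLocalRing m (IsLocalRing.maximalIdeal.isMaximal A).ne_top
  have : x ∈ (⨅ i : ℕ, (m ^ i) • (⊤ : Submodule A (Q ⊗[A] m))) := by
    rw [Submodule.mem_iInf]
    exact hall
  rw [hbot] at this
  exact (Submodule.mem_bot A).mp this

end krull

theorem preservesEpi_of_lTensor_injective
    (hP : ∀ i, Module.Finite A (P.X i) ∧ Module.Flat A (P.X i)) (p : ℤ)
    (hinj : Function.Injective
      ((IsLocalRing.maximalIdeal A).subtype.lTensor (P.opcycles (p - 1)))) :
    (CohIII.TFun P p).PreservesEpimorphisms := by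
  have hP' : ∀ i, Module.Flat A (P.X i) := fun i => (hP i).2
  haveI := finite_opcycles P (p - 1) (hP _).1
  haveI : Module.FinitePresentation A (P.opcycles (p - 1)) :=
    Module.finitePresentation_of_finite A _
  have hfree : Module.Free A (P.opcycles (p - 1)) :=
    Module.free_of_maximalIdeal_rTensor_injective
      ((LinearMap.lTensor_inj_iff_rTensor_inj _ _).mp hinj)
  have hflat : Module.Flat A (P.opcycles (p - 1)) := Module.Flat.of_free
  exact (Groth.Agent.S2406.result P hP' p (p - 1) (by omega)).mpr
    ((Groth.Agent.S2375.result P hP' (p - 1)).mpr hflat)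

omit [IsNoetherianRing A] in
theorem gn_surjective (n : ℕ) : Function.Surjective (gn A n) := by
  intro z
  obtain ⟨a, rfl⟩ := Submodule.mkQ_surjective _ z
  exact ⟨(IsLocalRing.maximalIdeal A ^ (n + 1)).mkQ a, gn_mk n a⟩

theorem preservesEpi_iff_quotients
    (hP : ∀ i, Module.Finite A (P.X i) ∧ Module.Flat A (P.X i)) (p : ℤ) :
    (CohIII.TFun P p).PreservesEpimorphisms ↔
      ∃ n₀ : ℕ, ∀ n : ℕ, n₀ ≤ n →
        Function.Surjective ((CohIII.TFun P p).map (ModuleCat.ofHom (gn A n))).hom := by
  have hP' : ∀ i, Module.Flat A (P.X i) := fun i => (hP i).2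
  constructor
  · intro h
    refine ⟨0, fun n _ => ?_⟩
    haveI : Epi (ModuleCat.ofHom (gn A n)) := by
      rw [ModuleCat.epi_iff_surjective]
      exact gn_surjective n
    exact (ModuleCat.epi_iff_surjective _).mp (h.preserves _)
  · rintro ⟨n₀, h⟩
    haveI := finite_opcycles P (p - 1) (hP _).1
    apply preservesEpi_of_lTensor_injective P hP p
    apply lTensor_injective_of_quotients (P.opcycles (p - 1)) n₀
    intro n hn
    have hSE : (gn A n).shortComplexKer.ShortExact :=
      LinearMap.shortExact_shortComplexKer (gn_surjective n)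
    have hepi : Epi ((CohIII.TFun P p).map (gn A n).shortComplexKer.g) :=
      (ModuleCat.epi_iff_surjective _).mpr (h n hn)
    have hmono : Mono ((CohIII.TFun P (p - 1)).map (gn A n).shortComplexKer.f) :=
      (epi_iff_mono P hP' _ hSE p (p - 1) (by omega)).mp hepi
    exact lTensor_injective_of_mono P (p - 1) hP' _ (Submodule.subtype_injective _) hmono

end Groth.Agent.H19.FlatCxNoeth
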