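import Mathlib
import Groth.Agent.S3525

set_option autoImplicit false
universe u

/-!
If `0 ⟶ G ⟶ G₁ ⟶ G₂` is a (pointwise) left exact sequence of endofunctors of `A`-modules and
`G₁`, `G₂` preserve filtered colimits of shape `J`, then so does `G`.
-/

namespace Groth.Agent.H19.FiltLeftExact

open CategoryTheory CategoryTheory.Limits
open Groth.Agent.S3525 (exists_rep exists_map_eq')

variable {A : Type u} [CommRing A] {J : Type u} [SmallCategory J] [IsFiltered J]
  {G G₁ G₂ : ModuleCat.{u} A ⥤ ModuleCat.{u} A} (δ : G ⟶ G₁) (α : G₁ ⟶ G₂)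
  (hδ : ∀ N, Function.Injective (δ.app N).hom)
  (hex : ∀ N, Function.Exact (δ.app N).hom (α.app N).hom)
  [PreservesColimitsOfShape J G₁] [PreservesColimitsOfShape J G₂]

section

variable (K : J ⥤ ModuleCat.{u} A)

theorem nat_apply {F F' : ModuleCat.{u} A ⥤ ModuleCat.{u} A} (τ : F ⟶ F') {X Y : ModuleCat.{u} A}
    (f : X ⟶ Y) (x : F.obj X) :
    (τ.app Y).hom ((F.map f).hom x) = (F'.map f).hom ((τ.app X).hom x) :=
  congrArg (fun m => m.hom x) (τ.naturality f)

theorem map_comp_apply' (F : ModuleCat.{u} A ⥤ ModuleCat.{u} A) {X Y Z : ModuleCat.{u} A}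
    (f : X ⟶ Y) (g : Y ⟶ Z) (x : F.obj X) :
    (F.map (f ≫ g)).hom x = (F.map g).hom ((F.map f).hom x) := by
  rw [F.map_comp]; rfl

omit [IsFiltered J] in
theorem post_ι_apply (F : ModuleCat.{u} A ⥤ ModuleCat.{u} A) (a : J) (w : F.obj (K.obj a)) :
    (colimit.post K F).hom ((colimit.ι (K ⋙ F) a).hom w) = (F.map (colimit.ι K a)).hom w :=
  congrArg (fun m => m.hom w) (colimit.ι_post K F a)

include hδ in
theorem post_inj : Function.Injective (colimit.post K G).hom := by
  rw [injective_iff_map_eq_zero]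
  intro x hx
  obtain ⟨j, y, rfl⟩ := exists_rep (K ⋙ G) (colimit.isColimit (K ⋙ G)) x
  have hx' : (colimit.post K G).hom ((colimit.ι (K ⋙ G) j).hom y) = 0 := hx
  rw [post_ι_apply] at hx'
  -- apply δ
  have h1 : (G₁.map (colimit.ι K j)).hom ((δ.app (K.obj j)).hom y) = 0 := by
    rw [← nat_apply, hx', map_zero]
  have hc : IsColimit (G₁.mapCocone (colimit.cocone K)) :=
    isColimitOfPreserves G₁ (colimit.isColimit K)
  obtain ⟨k, φ, hφ⟩ := exists_map_eq' (K ⋙ G₁) hc ((δ.app (K.obj j)).hom y) 0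
    (by
      show (G₁.map (colimit.ι K j)).hom ((δ.app (K.obj j)).hom y) =
        (G₁.map (colimit.ι K j)).hom 0
      rw [h1, map_zero])
  have hφ' : (G₁.map (K.map φ)).hom ((δ.app (K.obj j)).hom y) = 0 := by
    have : (G₁.map (K.map φ)).hom ((δ.app (K.obj j)).hom y) = (G₁.map (K.map φ)).hom 0 := hφ
    rw [this, map_zero]
  have h2 : (G.map (K.map φ)).hom y = 0 := by
    apply hδ
    rw [nat_apply, hφ', map_zero]
  have h3 : (colimit.ι (K ⋙ G) j).hom y = (colimit.ι (K ⋙ G) k).hom ((G.map (K.map φ)).hom y) :=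
    (congrArg (fun m => m.hom y) (colimit.w (K ⋙ G) φ)).symm
  show (colimit.ι (K ⋙ G) j).hom y = 0
  rw [h3, h2, map_zero]

include hδ hex in
theorem post_surj : Function.Surjective (colimit.post K G).hom := by
  intro z
  have hc₁ : IsColimit (G₁.mapCocone (colimit.cocone K)) :=
    isColimitOfPreserves G₁ (colimit.isColimit K)
  have hc₂ : IsColimit (G₂.mapCocone (colimit.cocone K)) :=
    isColimitOfPreserves G₂ (colimit.isColimit K)
  obtain ⟨j, y₁, hy₁⟩ := exists_rep (K ⋙ G₁) hc₁ ((δ.app (colimit K)).hom z)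
  have hy₁' : (G₁.map (colimit.ι K j)).hom y₁ = (δ.app (colimit K)).hom z := hy₁
  have h1 : (G₂.map (colimit.ι K j)).hom ((α.app (K.obj j)).hom y₁) = 0 := by
    rw [← nat_apply, hy₁']
    exact (hex (colimit K)).apply_apply_eq_zero z
  obtain ⟨k, φ, hφ⟩ := exists_map_eq' (K ⋙ G₂) hc₂ ((α.app (K.obj j)).hom y₁) 0
    (by
      show (G₂.map (colimit.ι K j)).hom ((α.app (K.obj j)).hom y₁) =
        (G₂.map (colimit.ι K j)).hom 0
      rw [h1, map_zero])
  have hφ' : (G₂.map (K.map φ)).hom ((α.app (K.obj j)).hom y₁) = 0 := by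
    have : (G₂.map (K.map φ)).hom ((α.app (K.obj j)).hom y₁) = (G₂.map (K.map φ)).hom 0 := hφ
    rw [this, map_zero]
  have h2 : (α.app (K.obj k)).hom ((G₁.map (K.map φ)).hom y₁) = 0 := by
    rw [nat_apply, hφ']
  obtain ⟨y, hy⟩ := (hex (K.obj k) _).1 h2
  refine ⟨(colimit.ι (K ⋙ G) k).hom y, ?_⟩
  rw [post_ι_apply]
  apply hδ
  rw [nat_apply, hy, ← map_comp_apply', colimit.w, hy₁']

include hδ hex in
theorem isIso_post : IsIso (colimit.post K G) := by
  haveI : Mono (colimit.post K G) := (ModuleCat.mono_iff_injective _).2 (post_inj δ hδ K)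
  haveI : Epi (colimit.post K G) := (ModuleCat.epi_iff_surjective _).2 (post_surj δ α hδ hex K)
  exact isIso_of_mono_of_epi _

end

include hδ hex in
theorem preserves : PreservesColimitsOfShape J G :=
  ⟨fun {K} => by
    haveI := isIso_post δ α hδ hex K
    exact preservesColimit_of_isIso_post _ _⟩

end Groth.Agent.H19.FiltLeftExact
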