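import Mathlib
import Groth.Agent.H19.TorFirst
import Groth.Agent.H13.TorBC
import Groth.Agent.S6315

set_option autoImplicit false
universe u

namespace Groth.Agent.H19.RegTor

open CategoryTheory CategoryTheory.Limits TensorProduct RingTheory.Sequence Pointwise

variable {A : Type u} [CommRing A]

variable (A) in
/-- `Tor_i(L, N)` -/
noncomputable abbrev T (N : Type u) [AddCommGroup N] [Module A N] (i : ℕ)
    (L : Type u) [AddCommGroup L] [Module A L] : ModuleCat.{u} A :=
  ((Tor (ModuleCat.{u} A) i).obj (ModuleCat.of A L)).obj (ModuleCat.of A N)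

section sc

variable (r : A) (L : Type u) [AddCommGroup L] [Module A L]

/-- the sequence `0 → L --r--> L → L/rL → 0`. -/
noncomputable def sc : ShortComplex (ModuleCat.{u} A) :=
  ShortComplex.mk (ModuleCat.ofHom (r • LinearMap.id : L →ₗ[A] L))
    (ModuleCat.ofHom (Submodule.mkQ (r • ⊤ : Submodule A L)) :
      ModuleCat.of A L ⟶ ModuleCat.of A (QuotSMulTop r L)) (by
    ext y
    show Submodule.Quotient.mk (r • y) = (0 : QuotSMulTop r L)
    rw [Submodule.Quotient.mk_eq_zero]
    exact Submodule.smul_mem_pointwise_smul y r ⊤ trivial)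

theorem sc_shortExact (h : IsSMulRegular L r) : (sc r L).ShortExact := by
  refine ShortComplex.ShortExact.mk' ?_ ?_ ?_
  · rw [ShortComplex.moduleCat_exact_iff]
    intro y hy
    have hy' : Submodule.Quotient.mk y = (0 : QuotSMulTop r L) := hy
    obtain ⟨z, -, hz⟩ := (Submodule.Quotient.mk_eq_zero _).1 hy'
    exact ⟨z, hz⟩
  · rw [ModuleCat.mono_iff_injective]
    exact h
  · rw [ModuleCat.epi_iff_surjective]
    exact Submodule.mkQ_surjective _

theorem sc_f_eq : (sc r L).f = r • 𝟙 (ModuleCat.of A L) := rfl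

end sc

section steps

variable (N : Type u) [AddCommGroup N] [Module A N] (r : A) (L : Type u) [AddCommGroup L]
  [Module A L]

theorem map_f_apply (i : ℕ) (y : T A N i L) :
    (((Tor (ModuleCat.{u} A) i).map (sc r L).f).app (ModuleCat.of A N)).hom y = r • y :=
  Groth.Agent.H19.TorFirst.TorF_map_smul_id_apply (ModuleCat.of A N) i (ModuleCat.of A L) r y

/-- forward step -/
theorem step_forward (h : IsSMulRegular L r) (hT : ∀ i : ℕ, 1 ≤ i → IsZero (T A N i L))
    (h0 : IsSMulRegular (T A N 0 L) r) : ∀ i : ℕ, 1 ≤ i → IsZero (T A N i (QuotSMulTop r L)) := by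
  intro i hi
  obtain ⟨j, rfl⟩ : ∃ j, i = j + 1 := ⟨i - 1, by omega⟩
  have hS := sc_shortExact r L h
  have e3 := Groth.Agent.H19.TorFirst.exact₃ (sc r L) hS (ModuleCat.of A N) j
  have hmono : Mono (Groth.Agent.H19.TorFirst.δ (sc r L) hS (ModuleCat.of A N) j) :=
    e3.mono_g ((hT (j + 1) (by omega)).eq_of_src _ _)
  rcases Nat.eq_zero_or_pos j with hj | hj
  · subst hj
    have hmf : Mono (((Tor (ModuleCat.{u} A) 0).map (sc r L).f).app (ModuleCat.of A N)) := by
      rw [ModuleCat.mono_iff_injective]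
      intro a b hab
      have hab' : r • a = r • b :=
        (map_f_apply N r L 0 a).symm.trans (hab.trans (map_f_apply N r L 0 b))
      exact h0 hab'
    haveI := hmf
    have hδ0 : Groth.Agent.H19.TorFirst.δ (sc r L) hS (ModuleCat.of A N) 0 = 0 := by
      rw [← cancel_mono (((Tor (ModuleCat.{u} A) 0).map (sc r L).f).app (ModuleCat.of A N)),
        Groth.Agent.H19.TorFirst.δ_map_f, zero_comp]
    have hz : IsZero (((Tor (ModuleCat.{u} A) (0 + 1)).obj (sc r L).X₃).obj (ModuleCat.of A N)) :=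
      IsZero.of_mono_eq_zero _ hδ0
    exact hz
  · have hz : IsZero (((Tor (ModuleCat.{u} A) (j + 1)).obj (sc r L).X₃).obj (ModuleCat.of A N)) :=
      IsZero.of_mono (Groth.Agent.H19.TorFirst.δ (sc r L) hS (ModuleCat.of A N) j) (hT j hj)
    exact hz

variable [IsNoetherianRing A] [IsLocalRing A] [Module.Finite A L] [Module.Finite A N]

/-- backward step -/
theorem step_backward (hr : r ∈ IsLocalRing.maximalIdeal A) (h : IsSMulRegular L r)
    (hT : ∀ i : ℕ, 1 ≤ i → IsZero (T A N i (QuotSMulTop r L))) :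
    (∀ i : ℕ, 1 ≤ i → IsZero (T A N i L)) ∧ IsSMulRegular (T A N 0 L) r := by
  have hS := sc_shortExact r L h
  constructor
  · intro i hi
    have e2 := Groth.Agent.H19.TorFirst.exact₂ (sc r L) hS (ModuleCat.of A N) i
    have hepi : Epi (((Tor (ModuleCat.{u} A) i).map (sc r L).f).app (ModuleCat.of A N)) :=
      e2.epi_f ((hT i hi).eq_of_tgt _ _)
    rw [ModuleCat.epi_iff_surjective] at hepi
    haveI : Module.Finite A (T A N i L) := Groth.Agent.S6315.result A L N i
    have htop : (⊤ : Submodule A (T A N i L)) ≤ IsLocalRing.maximalIdeal A • ⊤ := by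
      intro y _
      obtain ⟨z, hz⟩ := hepi y
      have hz' : r • z = y := (map_f_apply N r L i z).symm.trans hz
      rw [← hz']
      exact Submodule.smul_mem_smul hr trivial
    have hbot : (⊤ : Submodule A (T A N i L)) = ⊥ :=
      Submodule.eq_bot_of_le_smul_of_le_jacobson_bot _ _ (Module.Finite.fg_top) htop
        (IsLocalRing.maximalIdeal_le_jacobson _)
    rw [ModuleCat.isZero_iff_subsingleton]
    exact (Submodule.subsingleton_iff A).1 (subsingleton_of_bot_eq_top hbot.symm)
  · have e1 := Groth.Agent.H19.TorFirst.exact₁ (sc r L) hS (ModuleCat.of A N) 0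
    have hmono : Mono (((Tor (ModuleCat.{u} A) 0).map (sc r L).f).app (ModuleCat.of A N)) :=
      e1.mono_g ((hT 1 le_rfl).eq_of_src _ _)
    rw [ModuleCat.mono_iff_injective] at hmono
    intro a b hab
    apply hmono
    exact (map_f_apply N r L 0 a).trans (hab.trans (map_f_apply N r L 0 b).symm)

end steps

section induction

variable (N : Type u) [AddCommGroup N] [Module A N]

theorem isZero_congr {L L' : Type u} [AddCommGroup L] [Module A L] [AddCommGroup L'] [Module A L']
    (e : L ≃ₗ[A] L') (i : ℕ) (h : IsZero (T A N i L)) : IsZero (T A N i L') :=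
  h.of_iso (((Tor (ModuleCat.{u} A) i).mapIso e.symm.toModuleIso).app (ModuleCat.of A N))

theorem isSMulRegular_tor_zero_iff (L : Type u) [AddCommGroup L] [Module A L] (r : A) :
    IsSMulRegular (T A N 0 L) r ↔ IsSMulRegular (L ⊗[A] N) r := by
  obtain ⟨e⟩ := Groth.Agent.H13.TorBC.tor_zero_equiv (R := A) (M := L) (N := N)
  exact e.isSMulRegular_congr r

theorem ofList_nil_smul (L : Type u) [AddCommGroup L] [Module A L] :
    (Ideal.ofList ([] : List A) • ⊤ : Submodule A L) = ⊥ := by
  rw [Ideal.ofList_nil, Submodule.bot_smul]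

theorem forward (rs : List A) : ∀ (L : Type u) [AddCommGroup L] [Module A L],
    IsWeaklyRegular L rs → IsWeaklyRegular (L ⊗[A] N) rs →
    (∀ i : ℕ, 1 ≤ i → IsZero (T A N i L)) →
    ∀ i : ℕ, 1 ≤ i → IsZero (T A N i (L ⧸ (Ideal.ofList rs • ⊤ : Submodule A L))) := by
  induction rs with
  | nil =>
    intro L _ _ _ _ hT i hi
    exact isZero_congr N (Submodule.quotEquivOfEqBot _ (ofList_nil_smul L)).symm i (hT i hi)
  | cons r rs ih =>
    intro L _ _ hL hLN hT i hi
    rw [isWeaklyRegular_cons_iff] at hL hLN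
    have h1 := step_forward N r L hL.1 hT ((isSMulRegular_tor_zero_iff N L r).2 hLN.1)
    have hLN2 : IsWeaklyRegular (QuotSMulTop r L ⊗[A] N) rs :=
      ((QuotSMulTop.quotSMulTopTensorEquivQuotSMulTop r N L).isWeaklyRegular_congr rs).2 hLN.2
    have h2 := ih (QuotSMulTop r L) hL.2 hLN2 h1 i hi
    exact isZero_congr N (Submodule.quotOfListConsSMulTopEquivQuotSMulTopInner L r rs).symm i h2

theorem backward [IsNoetherianRing A] [IsLocalRing A] [Module.Finite A N] (rs : List A) :
    ∀ (L : Type u) [AddCommGroup L] [Module A L] [Module.Finite A L],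
    (∀ r ∈ rs, r ∈ IsLocalRing.maximalIdeal A) → IsWeaklyRegular L rs →
    (∀ i : ℕ, 1 ≤ i → IsZero (T A N i (L ⧸ (Ideal.ofList rs • ⊤ : Submodule A L)))) →
    (∀ i : ℕ, 1 ≤ i → IsZero (T A N i L)) ∧ IsWeaklyRegular (L ⊗[A] N) rs := by
  induction rs with
  | nil =>
    intro L _ _ _ _ _ hT
    exact ⟨fun i hi => isZero_congr N (Submodule.quotEquivOfEqBot _ (ofList_nil_smul L)) i
      (hT i hi), IsWeaklyRegular.nil _ _⟩
  | cons r rs ih =>
    intro L _ _ _ hm hL hT
    rw [isWeaklyRegular_cons_iff] at hL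
    have h1 : ∀ i : ℕ, 1 ≤ i → IsZero (T A N i
        (QuotSMulTop r L ⧸ (Ideal.ofList rs • ⊤ : Submodule A (QuotSMulTop r L)))) :=
      fun i hi => isZero_congr N
        (Submodule.quotOfListConsSMulTopEquivQuotSMulTopInner L r rs) i (hT i hi)
    obtain ⟨h2, h3⟩ := ih (QuotSMulTop r L) (fun s hs => hm s (List.mem_cons_of_mem _ hs)) hL.2 h1
    obtain ⟨h4, h5⟩ := step_backward N r L (hm r List.mem_cons_self) hL.1 h2
    refine ⟨h4, ?_⟩
    rw [isWeaklyRegular_cons_iff]
    exact ⟨(isSMulRegular_tor_zero_iff N L r).1 h5,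
      ((QuotSMulTop.quotSMulTopTensorEquivQuotSMulTop r N L).isWeaklyRegular_congr rs).1 h3⟩

end induction

end Groth.Agent.H19.RegTor
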