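import Mathlib
import Groth.Agent.H19.RegTor
import Groth.Agent.H19.TorZero
import Groth.Agent.S3527
import Groth.Agent.H19.TorShift

set_option autoImplicit false
universe u

namespace Groth.Agent.H19.FlatCech

open CategoryTheory CategoryTheory.Limits TensorProduct Pointwise Function
open Groth.Agent.H19.RegTor Groth.Agent.H19.TorFirst

section basics

/-- vanishing of `Tor_i(N, M)` for `1 ≤ i ≤ s`. -/
def V (A : Type u) [CommRing A] (M : Type u) [AddCommGroup M] [Module A M]
    (s : ℕ) (N : Type u) [AddCommGroup N] [Module A N] : Prop :=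
  ∀ i : ℕ, 1 ≤ i → i ≤ s → IsZero (T A M i N)

variable {A : Type u} [CommRing A] (M : Type u) [AddCommGroup M] [Module A M]

variable {M}

theorem V_of_equiv {s : ℕ} {N N' : Type u} [AddCommGroup N] [Module A N] [AddCommGroup N']
    [Module A N'] (e : N ≃ₗ[A] N') (h : V A M s N) : V A M s N' :=
  fun i h1 h2 => isZero_congr M e i (h i h1 h2)

theorem V_mono {s s' : ℕ} (hs : s' ≤ s) {N : Type u} [AddCommGroup N] [Module A N]
    (h : V A M s N) : V A M s' N :=
  fun i h1 h2 => h i h1 (h2.trans hs)

variable (M)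

theorem isZero_of_subsingleton (i : ℕ) (N : Type u) [AddCommGroup N] [Module A N]
    [Subsingleton N] : IsZero (T A M i N) :=
  (TorF (ModuleCat.of A M) i).map_isZero (ModuleCat.isZero_of_subsingleton (ModuleCat.of A N))

theorem V_of_subsingleton (s : ℕ) (N : Type u) [AddCommGroup N] [Module A N]
    [Subsingleton N] : V A M s N :=
  fun i _ _ => isZero_of_subsingleton M i N

/-- the short complex of a pair of linear maps. -/
noncomputable abbrev scOf {N₁ N₂ N₃ : Type u} [AddCommGroup N₁] [Module A N₁] [AddCommGroup N₂]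
    [Module A N₂] [AddCommGroup N₃] [Module A N₃] (f : N₁ →ₗ[A] N₂) (g : N₂ →ₗ[A] N₃)
    (hfg : Function.Exact f g) : ShortComplex (ModuleCat.{u} A) :=
  ShortComplex.mk (ModuleCat.ofHom f) (ModuleCat.ofHom g) (by
    apply ModuleCat.hom_ext
    apply LinearMap.ext
    intro x
    exact hfg.apply_apply_eq_zero x)

theorem scOf_shortExact {N₁ N₂ N₃ : Type u} [AddCommGroup N₁] [Module A N₁] [AddCommGroup N₂]
    [Module A N₂] [AddCommGroup N₃] [Module A N₃] (f : N₁ →ₗ[A] N₂) (g : N₂ →ₗ[A] N₃)
    (hfg : Function.Exact f g) (hf : Injective f) (hg : Surjective g) :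
    (scOf f g hfg).ShortExact :=
  ModuleCat.shortComplex_shortExact _ hfg hf hg

theorem isZero_mid' {N₁ N₂ N₃ : Type u} [AddCommGroup N₁] [Module A N₁] [AddCommGroup N₂]
    [Module A N₂] [AddCommGroup N₃] [Module A N₃] (f : N₁ →ₗ[A] N₂) (g : N₂ →ₗ[A] N₃)
    (hfg : Function.Exact f g) (hf : Injective f) (hg : Surjective g) (i : ℕ)
    (h1 : IsZero (T A M i N₁)) (h3 : IsZero (T A M i N₃)) : IsZero (T A M i N₂) :=
  isZero_mid (scOf f g hfg) (scOf_shortExact f g hfg hf hg) (ModuleCat.of A M) i h1 h3

theorem V_mid {s : ℕ} {N₁ N₂ N₃ : Type u} [AddCommGroup N₁] [Module A N₁] [AddCommGroup N₂]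
    [Module A N₂] [AddCommGroup N₃] [Module A N₃] (f : N₁ →ₗ[A] N₂) (g : N₂ →ₗ[A] N₃)
    (hfg : Function.Exact f g) (hf : Injective f) (hg : Surjective g)
    (h1 : V A M s N₁) (h3 : V A M s N₃) : V A M s N₂ :=
  fun i hi1 hi2 => isZero_mid' M f g hfg hf hg i (h1 i hi1 hi2) (h3 i hi1 hi2)

/-- `Tor_{i+1}(N₃) = 0` and `Tor_i(N₂) = 0` give `Tor_i(N₁) = 0`. -/
theorem isZero_left {N₁ N₂ N₃ : Type u} [AddCommGroup N₁] [Module A N₁] [AddCommGroup N₂]
    [Module A N₂] [AddCommGroup N₃] [Module A N₃] (f : N₁ →ₗ[A] N₂) (g : N₂ →ₗ[A] N₃)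
    (hfg : Function.Exact f g) (hf : Injective f) (hg : Surjective g) (i : ℕ)
    (h3 : IsZero (T A M (i + 1) N₃)) (h2 : IsZero (T A M i N₂)) : IsZero (T A M i N₁) :=
  (exact₁ (scOf f g hfg) (scOf_shortExact f g hfg hf hg) (ModuleCat.of A M) i).isZero_of_both_zeros
    (h3.eq_of_src _ _) (h2.eq_of_tgt _ _)

/-- `Tor_{i+1}(N₂) = 0` and `Tor_i(N₁) = 0` give `Tor_{i+1}(N₃) = 0`. -/
theorem isZero_right {N₁ N₂ N₃ : Type u} [AddCommGroup N₁] [Module A N₁] [AddCommGroup N₂]
    [Module A N₂] [AddCommGroup N₃] [Module A N₃] (f : N₁ →ₗ[A] N₂) (g : N₂ →ₗ[A] N₃)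
    (hfg : Function.Exact f g) (hf : Injective f) (hg : Surjective g) (i : ℕ)
    (h2 : IsZero (T A M (i + 1) N₂)) (h1 : IsZero (T A M i N₁)) : IsZero (T A M (i + 1) N₃) :=
  (exact₃ (scOf f g hfg) (scOf_shortExact f g hfg hf hg) (ModuleCat.of A M) i).isZero_of_both_zeros
    (h2.eq_of_src _ _) (h1.eq_of_tgt _ _)

/-- `Tor_1(N₂) = 0` and `N₁ ⊗ M → N₂ ⊗ M` injective give `Tor_1(N₃) = 0`. -/
theorem isZero_right_one {N₁ N₂ N₃ : Type u} [AddCommGroup N₁] [Module A N₁] [AddCommGroup N₂]
    [Module A N₂] [AddCommGroup N₃] [Module A N₃] (f : N₁ →ₗ[A] N₂) (g : N₂ →ₗ[A] N₃)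
    (hfg : Function.Exact f g) (hf : Injective f) (hg : Surjective g)
    (h2 : IsZero (T A M 1 N₂)) (hinj : Injective (f.rTensor M)) : IsZero (T A M 1 N₃) := by
  have hS := scOf_shortExact f g hfg hf hg
  have e3 := exact₃ (scOf f g hfg) hS (ModuleCat.of A M) 0
  have hmono : Mono (δ (scOf f g hfg) hS (ModuleCat.of A M) 0) := e3.mono_g (h2.eq_of_src _ _)
  have hmf : Mono (((Tor (ModuleCat.{u} A) 0).map (scOf f g hfg).f).app (ModuleCat.of A M)) := by
    rw [ModuleCat.mono_iff_injective]
    exact Groth.Agent.H19.TorZero.tor0_map_injective (ModuleCat.ofHom f) (ModuleCat.of A M) hinj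
  have hδ0 : δ (scOf f g hfg) hS (ModuleCat.of A M) 0 = 0 := by
    rw [← cancel_mono (((Tor (ModuleCat.{u} A) 0).map (scOf f g hfg).f).app (ModuleCat.of A M)),
      δ_map_f, zero_comp]
  exact IsZero.of_mono_eq_zero _ hδ0

open Classical in
/-- vanishing of `Tor_i(N, M)` can be checked on finitely generated submodules of `N`. -/
theorem isZero_of_fg_sub (i : ℕ) (N : Type u) [AddCommGroup N] [Module A N]
    (h : ∀ N' : Submodule A N, N'.FG → IsZero (T A M i ↥N')) : IsZero (T A M i N) := by
  let ι := {N' : Submodule A N // N'.FG}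
  haveI : Nonempty ι := ⟨⟨⊥, Submodule.fg_bot⟩⟩
  let c := ModuleCat.directLimitCocone (R := A) (fun N' : ι => ↥N'.1) (Module.fgSystem A N)
  have hc : IsColimit c := ModuleCat.directLimitIsColimit _ _
  haveI := TorF_preservesFiltered (ModuleCat.of A M) i ι
  have hTc : IsColimit ((TorF (ModuleCat.of A M) i).mapCocone c) :=
    isColimitOfPreserves (TorF (ModuleCat.of A M) i) hc
  have hz : IsZero ((TorF (ModuleCat.of A M) i).mapCocone c).pt := by
    rw [IsZero.iff_id_eq_zero]
    apply hTc.hom_ext
    intro j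
    exact (h j.1 j.2).eq_of_src _ _
  exact IsZero.of_iso hz ((TorF (ModuleCat.of A M) i).mapIso
    ((Module.fgSystem.equiv A N).symm.toModuleIso : ModuleCat.of A N ≅ ModuleCat.of A _))

end basics


section stepA

variable {A : Type u} [CommRing A] (M : Type u) [AddCommGroup M] [Module A M]

theorem V_prod {s : ℕ} {N₁ N₂ : Type u} [AddCommGroup N₁] [Module A N₁] [AddCommGroup N₂]
    [Module A N₂] (h1 : V A M s N₁) (h2 : V A M s N₂) : V A M s (N₁ × N₂) :=
  V_mid M (LinearMap.inl A N₁ N₂) (LinearMap.snd A N₁ N₂) Function.Exact.inl_snd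
    LinearMap.inl_injective LinearMap.snd_surjective h1 h2

theorem V_pi {s : ℕ} {B : Type u} [AddCommGroup B] [Module A B] (h : V A M s B) (n : ℕ) :
    V A M s (Fin n → B) := by
  induction n with
  | zero => exact V_of_subsingleton M s _
  | succ n ih =>
    exact V_of_equiv (Fin.consLinearEquiv A (fun _ : Fin (n + 1) => B)) (V_prod M h ih)

/-- injectivity after tensoring over `A` for `B`-linear injections when `B ⊗ M` is `B`-flat. -/
theorem rTensor_injective_of_flat {B : Type u} [CommRing B] [Algebra A B]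
    (hflat : Module.Flat B (B ⊗[A] M))
    {P Q : Type u} [AddCommGroup P] [Module A P] [Module B P] [IsScalarTower A B P]
    [AddCommGroup Q] [Module A Q] [Module B Q] [IsScalarTower A B Q]
    (j : P →ₗ[B] Q) (hj : Injective j) : Injective ((j.restrictScalars A).rTensor M) := by
  have key : ∀ t : P ⊗[B] (B ⊗[A] M),
      (j.restrictScalars A).rTensor M (AlgebraTensorModule.cancelBaseChange A B B P M t) =
        AlgebraTensorModule.cancelBaseChange A B B Q M (j.rTensor (B ⊗[A] M) t) := by
    intro t
    induction t using TensorProduct.induction_on with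
    | zero => simp
    | tmul p y =>
      induction y using TensorProduct.induction_on with
      | zero => simp
      | tmul b m => simp
      | add y y' h h' => simp only [tmul_add, map_add, h, h']
    | add t t' h h' => simp only [map_add, h, h']
  intro x y hxy
  obtain ⟨x', rfl⟩ := (AlgebraTensorModule.cancelBaseChange A B B P M).surjective x
  obtain ⟨y', rfl⟩ := (AlgebraTensorModule.cancelBaseChange A B B P M).surjective y
  rw [key, key] at hxy
  have hinj := Module.Flat.rTensor_preserves_injective_linearMap (M := B ⊗[A] M) j hj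
  rw [hinj ((AlgebraTensorModule.cancelBaseChange A B B Q M).injective hxy)]

/-- Step A: modules killed by `I`. -/
theorem stepA (I : Ideal A) (hflat : Module.Flat (A ⧸ I) ((A ⧸ I) ⊗[A] M)) (s : ℕ)
    (hB : V A M s (A ⧸ I)) (N : Type u) [AddCommGroup N] [Module A N]
    (hN : ∀ a ∈ I, ∀ x : N, a • x = 0) : V A M s N := by
  suffices H : ∀ i : ℕ, 1 ≤ i → i ≤ s → ∀ (N : Type u) [AddCommGroup N] [Module A N],
      (∀ a ∈ I, ∀ x : N, a • x = 0) → IsZero (T A M i N) from
    fun i h1 h2 => H i h1 h2 N hN
  clear hN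
  intro i
  induction i using Nat.strong_induction_on with
  | _ i ih =>
    intro h1 h2
    have hfg : ∀ (N : Type u) [AddCommGroup N] [Module A N],
        (∀ a ∈ I, ∀ x : N, a • x = 0) → Module.Finite A N → IsZero (T A M i N) := by
      intro N _ _ hN hfin
      have htors : Module.IsTorsionBySet A N I := fun x a => hN a.1 a.2 x
      letI := htors.module
      haveI : IsScalarTower A (A ⧸ I) N := htors.isScalarTower
      haveI : Module.Finite (A ⧸ I) N := Module.Finite.of_restrictScalars_finite A (A ⧸ I) N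
      obtain ⟨n, f, hf⟩ := Module.Finite.exists_fin' (A ⧸ I) N
      have hex : Function.Exact ((LinearMap.ker f).subtype.restrictScalars A)
          (f.restrictScalars A) := by
        intro y
        constructor
        · intro hy
          exact ⟨⟨y, hy⟩, rfl⟩
        · rintro ⟨z, rfl⟩
          exact z.2
      have hinj : Injective ((LinearMap.ker f).subtype.restrictScalars A) :=
        Subtype.val_injective
      have hmid : V A M s (Fin n → A ⧸ I) := V_pi M hB n
      obtain ⟨k, rfl⟩ : ∃ k, i = k + 1 := ⟨i - 1, by omega⟩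
      cases k with
      | zero =>
        exact isZero_right_one M _ _ hex hinj hf (hmid 1 le_rfl h2)
          (rTensor_injective_of_flat M hflat _ (Submodule.injective_subtype _))
      | succ k =>
        refine isZero_right M _ _ hex hinj hf (k + 1) (hmid _ h1 h2)
          (ih (k + 1) (by omega) (by omega) (by omega) _ ?_)
        intro a ha x
        apply Subtype.ext
        funext l
        show a • (x.1 l) = 0
        rw [← algebraMap_smul (A ⧸ I) a (x.1 l), Ideal.Quotient.algebraMap_eq,
          Ideal.Quotient.eq_zero_iff_mem.2 ha, zero_smul]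
    intro N _ _ hN
    apply isZero_of_fg_sub
    intro N' hN'
    exact hfg N' (fun a ha x => Subtype.ext (hN a ha x.1)) (Module.Finite.iff_fg.2 hN')

end stepA


section stepBCD

variable {A : Type u} [CommRing A] (M : Type u) [AddCommGroup M] [Module A M]

/-- Step B: modules killed by a power of `I`. -/
theorem stepB (I : Ideal A) (s : ℕ)
    (hA : ∀ (N : Type u) [AddCommGroup N] [Module A N],
      (∀ a ∈ I, ∀ x : N, a • x = 0) → V A M s N) (n : ℕ) :
    ∀ (N : Type u) [AddCommGroup N] [Module A N],
      (∀ a ∈ I ^ n, ∀ x : N, a • x = 0) → V A M s N := by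
  induction n with
  | zero =>
    intro N _ _ hN
    haveI : Subsingleton N := ⟨fun x y => by
      have hx := hN 1 (by simp) x
      have hy := hN 1 (by simp) y
      rw [one_smul] at hx hy
      rw [hx, hy]⟩
    exact V_of_subsingleton M s N
  | succ n ih =>
    intro N _ _ hN
    let N' : Submodule A N := I • ⊤
    refine V_mid M N'.subtype N'.mkQ (LinearMap.exact_subtype_mkQ N') N'.injective_subtype
      N'.mkQ_surjective (ih N' ?_) (hA (N ⧸ N') ?_)
    · intro a ha x
      apply Subtype.ext
      show a • x.1 = 0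
      refine Submodule.smul_induction_on x.2 ?_ ?_
      · intro b hb y _
        rw [smul_smul]
        exact hN (a * b) (by rw [pow_succ]; exact Ideal.mul_mem_mul ha hb) y
      · intro y z hy hz
        rw [smul_add, hy, hz, add_zero]
    · intro a ha x
      obtain ⟨y, rfl⟩ := N'.mkQ_surjective x
      rw [← map_smul]
      exact (Submodule.Quotient.mk_eq_zero _).2 (Submodule.smul_mem_smul ha trivial)

/-- Step C: `I`-power torsion modules. -/
theorem stepC (I : Ideal A) (s : ℕ)
    (hB : ∀ (n : ℕ) (N : Type u) [AddCommGroup N] [Module A N],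
      (∀ a ∈ I ^ n, ∀ x : N, a • x = 0) → V A M s N)
    (N : Type u) [AddCommGroup N] [Module A N]
    (hN : ∀ x : N, ∃ n, ∀ a ∈ I ^ n, a • x = 0) : V A M s N := by
  intro i h1 h2
  apply isZero_of_fg_sub
  intro N' hN'
  obtain ⟨S, rfl⟩ := hN'
  choose n hn using hN
  refine hB (S.sup n) _ ?_ i h1 h2
  intro a ha x
  apply Subtype.ext
  show a • x.1 = 0
  refine Submodule.span_induction ?_ ?_ ?_ ?_ x.2
  · intro y hy
    exact hn y a (Ideal.pow_le_pow_right (Finset.le_sup hy) ha)
  · exact smul_zero a
  · intro y z _ _ hy hz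
    rw [smul_add, hy, hz, add_zero]
  · intro b y _ hy
    rw [smul_comm, hy, smul_zero]

/-- Step D: localized modules have no higher Tor against `M` when `M_g` is flat. -/
theorem stepD (g : A)
    (hflat : Module.Flat (Localization.Away g) (LocalizedModule (Submonoid.powers g) M))
    (N : Type u) [AddCommGroup N] [Module A N] (i : ℕ) (hi : 1 ≤ i) :
    IsZero (T A M i (LocalizedModule (Submonoid.powers g) N)) := by
  obtain ⟨φ, hφ⟩ := Groth.Agent.H13.TorBC.tor_bc₂ (A := A) (A' := Localization.Away g)
    (LocalizedModule (Submonoid.powers g) N) M i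
  haveI : Module.Flat (Localization.Away g) (Localization.Away g ⊗[A] M) :=
    Module.Flat.of_linearEquiv (IsLocalizedModule.isBaseChange (Submonoid.powers g)
      (Localization.Away g) (LocalizedModule.mkLinearMap (Submonoid.powers g) M)).equiv
  have hsub : Subsingleton (DRing.Tor (Localization.Away g) i
      (LocalizedModule (Submonoid.powers g) N) (Localization.Away g ⊗[A] M)) :=
    (Groth.Agent.S3527.result (Localization.Away g) (Localization.Away g ⊗[A] M)
      (LocalizedModule (Submonoid.powers g) N) i hi).2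
  haveI : Subsingleton (DRing.Tor A i (LocalizedModule (Submonoid.powers g) N) M) :=
    hφ.injective.subsingleton
  exact ModuleCat.isZero_of_subsingleton _

end stepBCD


section stepE

variable {A : Type u} [CommRing A] (M : Type u) [AddCommGroup M] [Module A M]

/-- `g`-power torsion. -/
def PT (g : A) (N : Type u) [AddCommGroup N] [Module A N] : Prop :=
  ∀ x : N, ∃ n : ℕ, g ^ n • x = 0

theorem PT_submodule (g : A) {N : Type u} [AddCommGroup N] [Module A N] (h : PT g N)
    (N' : Submodule A N) : PT g N' :=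
  fun x => (h x.1).imp fun _ hn => Subtype.ext hn

theorem PT_quotient (g : A) {N : Type u} [AddCommGroup N] [Module A N] (h : PT g N)
    (N' : Submodule A N) : PT g (N ⧸ N') := by
  intro x
  obtain ⟨y, rfl⟩ := N'.mkQ_surjective x
  obtain ⟨n, hn⟩ := h y
  exact ⟨n, by rw [← map_smul, hn, map_zero]⟩

theorem PT_localized (g g' : A) {N : Type u} [AddCommGroup N] [Module A N] (h : PT g N) :
    PT g (LocalizedModule (Submonoid.powers g') N) := by
  intro x
  induction x using LocalizedModule.induction_on with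
  | h y s =>
    obtain ⟨n, hn⟩ := h y
    exact ⟨n, by rw [LocalizedModule.smul'_mk, hn, LocalizedModule.zero_mk]⟩

theorem PT_ker (g : A) (N : Type u) [AddCommGroup N] [Module A N] :
    PT g (LinearMap.ker (LocalizedModule.mkLinearMap (Submonoid.powers g) N)) := by
  intro x
  have hx : LocalizedModule.mkLinearMap (Submonoid.powers g) N x.1 = 0 := x.2
  rw [IsLocalizedModule.eq_zero_iff (Submonoid.powers g)] at hx
  obtain ⟨⟨c, n, rfl⟩, hc⟩ := hx
  exact ⟨n, Subtype.ext hc⟩

theorem PT_coker (g : A) (N : Type u) [AddCommGroup N] [Module A N] :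
    PT g (LocalizedModule (Submonoid.powers g) N ⧸
      LinearMap.range (LocalizedModule.mkLinearMap (Submonoid.powers g) N)) := by
  intro x
  obtain ⟨y, rfl⟩ := Submodule.mkQ_surjective _ x
  induction y using LocalizedModule.induction_on with
  | h y s =>
    obtain ⟨n, hn⟩ := s.2
    refine ⟨n, ?_⟩
    rw [← map_smul]
    apply (Submodule.Quotient.mk_eq_zero _).2
    refine ⟨y, ?_⟩
    rw [LocalizedModule.mkLinearMap_apply, LocalizedModule.smul'_mk, LocalizedModule.mk_eq]
    refine ⟨1, ?_⟩
    simp only [one_smul]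
    show s.1 • y = g ^ n • y
    rw [← hn]

/-- Step E: downward induction on the number of `f_j` acting nilpotently. -/
theorem stepE {r : ℕ} (f : Fin r → A)
    (hloc : ∀ j, Module.Flat (Localization.Away (f j))
      (LocalizedModule (Submonoid.powers (f j)) M))
    (hC : ∀ (N : Type u) [AddCommGroup N] [Module A N],
      (∀ x : N, ∃ n, ∀ a ∈ (Ideal.span (Set.range f)) ^ n, a • x = 0) → V A M (r + 1) N) :
    ∀ (k m : ℕ), m + k = r → ∀ (N : Type u) [AddCommGroup N] [Module A N],
      (∀ j : Fin r, j.1 < m → PT (f j) N) → V A M (m + 1) N := by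
  intro k
  induction k with
  | zero =>
    intro m hm N _ _ hN
    obtain rfl : m = r := by omega
    apply hC
    intro x
    have hle : Ideal.span (Set.range f) ≤ (Ideal.torsionOf A N x).radical := by
      rw [Ideal.span_le]
      rintro _ ⟨j, rfl⟩
      obtain ⟨n, hn⟩ := hN j j.2 x
      exact ⟨n, (Ideal.mem_torsionOf_iff _ _).2 hn⟩
    obtain ⟨n, hn⟩ := Ideal.exists_pow_le_of_le_radical_of_fg hle
      (Submodule.fg_span (Set.finite_range f))
    exact ⟨n, fun a ha => (Ideal.mem_torsionOf_iff _ _).1 (hn ha)⟩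
  | succ k ih =>
    intro m hm N _ _ hN
    have hmr : m < r := by omega
    have IH := ih (m + 1) (by omega)
    have hT : V A M (m + 1 + 1)
        (LinearMap.ker (LocalizedModule.mkLinearMap (Submonoid.powers (f ⟨m, hmr⟩)) N)) :=
      IH _ (fun j hj => by
        rcases Nat.lt_succ_iff_lt_or_eq.1 hj with h | h
        · exact PT_submodule _ (hN j h) _
        · obtain rfl : j = ⟨m, hmr⟩ := Fin.ext h
          exact PT_ker _ N)
    have hQ : V A M (m + 1 + 1) (LocalizedModule (Submonoid.powers (f ⟨m, hmr⟩)) N ⧸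
        LinearMap.range (LocalizedModule.mkLinearMap (Submonoid.powers (f ⟨m, hmr⟩)) N)) :=
      IH _ (fun j hj => by
        rcases Nat.lt_succ_iff_lt_or_eq.1 hj with h | h
        · exact PT_quotient _ (PT_localized _ _ (hN j h)) _
        · obtain rfl : j = ⟨m, hmr⟩ := Fin.ext h
          exact PT_coker _ N)
    have hR : V A M (m + 1)
        (LinearMap.range (LocalizedModule.mkLinearMap (Submonoid.powers (f ⟨m, hmr⟩)) N)) := by
      intro i h1 h2
      exact isZero_left M (LinearMap.range _).subtype (LinearMap.range _).mkQ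
        (LinearMap.exact_subtype_mkQ _) (Submodule.injective_subtype _)
        (Submodule.mkQ_surjective _) i (hQ (i + 1) (by omega) (by omega))
        (stepD M _ (hloc _) N i h1)
    have hex : Function.Exact
        (LinearMap.ker (LocalizedModule.mkLinearMap (Submonoid.powers (f ⟨m, hmr⟩)) N)).subtype
        (LocalizedModule.mkLinearMap (Submonoid.powers (f ⟨m, hmr⟩)) N).rangeRestrict := by
      intro y
      constructor
      · intro hy
        exact ⟨⟨y, congrArg Subtype.val hy⟩, rfl⟩
      · rintro ⟨z, rfl⟩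
        exact Subtype.ext z.2
    exact V_mid M _ _ hex (Submodule.injective_subtype _)
      (LinearMap.surjective_rangeRestrict _) (V_mono (by omega) hT) hR

/-- vanishing of all `Tor_1(-, M)` gives flatness. -/
theorem flat_of_tor_one
    (h : ∀ (N : Type u) [AddCommGroup N] [Module A N], IsZero (T A M 1 N)) :
    Module.Flat A M := by
  rw [Module.Flat.iff_rTensor_injective']
  intro J
  obtain ⟨e⟩ := Groth.Agent.H19.TorShift.tor_one_equiv' (A := A) J.subtype J.mkQ
    (Submodule.injective_subtype _) (Submodule.mkQ_surjective _) (LinearMap.exact_subtype_mkQ J) M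
  haveI : Subsingleton (DRing.Tor A 1 (A ⧸ J) M) := ModuleCat.subsingleton_of_isZero (h (A ⧸ J))
  haveI : Subsingleton (LinearMap.ker (J.subtype.rTensor M)) := e.symm.injective.subsingleton
  rw [← LinearMap.ker_eq_bot]
  exact Submodule.eq_bot_of_subsingleton

/-- the main theorem, with `Tor` taken with `M` in the second variable. -/
theorem main {r : ℕ} (f : Fin r → A)
    (h1 : ∀ i, Module.Flat (Localization.Away (f i))
      (LocalizedModule (Submonoid.powers (f i)) M))
    (h2 : Module.Flat (A ⧸ Ideal.span (Set.range f)) ((A ⧸ Ideal.span (Set.range f)) ⊗[A] M))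
    (h3 : V A M (r + 1) (A ⧸ Ideal.span (Set.range f))) : Module.Flat A M := by
  apply flat_of_tor_one
  intro N _ _
  have hA := fun (N : Type u) [AddCommGroup N] [Module A N] =>
    stepA M (Ideal.span (Set.range f)) h2 (r + 1) h3 N
  have hB := fun n => stepB M (Ideal.span (Set.range f)) (r + 1) hA n
  have hC := fun (N : Type u) [AddCommGroup N] [Module A N] =>
    stepC M (Ideal.span (Set.range f)) (r + 1) hB N
  exact stepE M f h1 hC r 0 (by omega) N (fun j hj => absurd hj (Nat.not_lt_zero _)) 1
    le_rfl le_rfl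

end stepE

end Groth.Agent.H19.FlatCech
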