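import Groth.Prelude.Def_ega3
import Mathlib
import Groth.Agent.H19.FlatCxLib
import Groth.Agent.H19.FlatCxCmp
import Groth.Agent.S2446

set_option autoImplicit false
universe u

/-!
Finiteness of `T_n(M)` by dévissage over a Noetherian ring, for a bounded below complex of flat
modules with finitely generated `T_n(A)`.
-/

namespace Groth.Agent.H19.FlatCxFin

open CategoryTheory CategoryTheory.Limits MonoidalCategory TensorProduct
open Groth.Agent.H19.FlatCxLib

variable {A : Type u} [CommRing A]

/-- `T_n(M) = 0` when `P_n = 0`. -/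
theorem isZero_T_of_isZero {ι : Type} {c : ComplexShape ι}
    (P : HomologicalComplex (ModuleCat.{u} A) c) (n : ι) (h : IsZero (P.X n))
    (M : ModuleCat.{u} A) : IsZero ((CohIII.TFun P n).obj M) := by
  have h1 : IsZero ((CohIII.tensorObj P M).X n) := (tensorRight M).map_isZero h
  exact ((CohIII.tensorObj P M).sc n).isZero_homology_of_isZero_X₂ h1

variable [IsNoetherianRing A] (P : ChainComplex (ModuleCat.{u} A) ℤ)
  (hP : ∀ i, Module.Flat A (P.X i)) (i₀ : ℤ) (hb : ∀ i < i₀, IsZero (P.X i))
  (hfg : ∀ n : ℤ, Module.Finite A (CohIII.T P n (ModuleCat.of A A)))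

include hP hb hfg in
theorem isNoetherian_T_aux : ∀ (k : ℕ) (n : ℤ), n < i₀ + k →
    ∀ (M : Type u) [AddCommGroup M] [Module A M] [Module.Finite A M],
      IsNoetherian A ((CohIII.TFun P n).obj (ModuleCat.of A M)) := by
  intro k
  induction k with
  | zero =>
    intro n hn M _ _ _
    have hz := isZero_T_of_isZero P n (hb n (by simpa using hn)) (ModuleCat.of A M)
    haveI : Subsingleton ((CohIII.TFun P n).obj (ModuleCat.of A M)) :=
      ModuleCat.subsingleton_of_isZero hz
    infer_instance
  | succ k ih =>
    intro n hn M _ _ hM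
    refine IsNoetherianRing.induction_on_isQuotientEquivQuotientPrime A hM
      (motive := fun N _ _ _ => IsNoetherian A ((CohIII.TFun P n).obj (ModuleCat.of A N))) ?_ ?_ ?_
    · intro N _ _ _ _
      have h0 : IsZero (ModuleCat.of A N) := ModuleCat.isZero_of_subsingleton _
      have hz : IsZero ((CohIII.TFun P n).obj (ModuleCat.of A N)) :=
        (CohIII.TFun P n).map_isZero h0
      haveI : Subsingleton ((CohIII.TFun P n).obj (ModuleCat.of A N)) :=
        ModuleCat.subsingleton_of_isZero hz
      infer_instance
    · intro N _ _ _ p e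
      let φ : A →ₗ[A] N := e.symm.toLinearMap ∘ₗ (Submodule.mkQ p.1)
      have hφ : Function.Surjective φ := e.symm.surjective.comp (Submodule.mkQ_surjective _)
      have hS := LinearMap.shortExact_shortComplexKer hφ
      have hex := exact_g_δ P hP _ hS n (n - 1) (by omega)
      haveI : IsNoetherian A ((CohIII.TFun P n).obj (ModuleCat.of A A)) := by
        haveI : Module.Finite A ((CohIII.TFun P n).obj (ModuleCat.of A A)) := hfg n
        exact isNoetherian_of_isNoetherianRing_of_finite A _
      haveI : IsNoetherian A ((CohIII.TFun P (n - 1)).obj (ModuleCat.of A (LinearMap.ker φ))) :=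
        ih (n - 1) (by push_cast at hn; omega) (LinearMap.ker φ)
      exact isNoetherian_of_range_eq_ker _ _ hex.moduleCat_range_eq_ker
    · intro N₁ _ _ _ N₂ _ _ _ N₃ _ _ _ f g hf hg hfg' h₁ h₃
      let S : ShortComplex (ModuleCat.{u} A) :=
        ShortComplex.mk (ModuleCat.ofHom f) (ModuleCat.ofHom g) (by
          apply ModuleCat.hom_ext
          apply LinearMap.ext
          intro x
          exact hfg'.apply_apply_eq_zero x)
      have hS : S.ShortExact := ModuleCat.shortComplex_shortExact S hfg' hf hg
      have hex := exact_f_g P hP S hS n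
      haveI : IsNoetherian A (S.map (CohIII.TFun P n)).X₁ := h₁
      haveI : IsNoetherian A (S.map (CohIII.TFun P n)).X₃ := h₃
      exact isNoetherian_of_range_eq_ker _ _ hex.moduleCat_range_eq_ker

include hP hb hfg in
/-- finiteness of `T_n(M)` for finitely generated `M`. -/
theorem finite_T (n : ℤ) (M : ModuleCat.{u} A) [Module.Finite A M] :
    Module.Finite A ((CohIII.TFun P n).obj M) := by
  have hk : n < i₀ + ((n - i₀ + 1).toNat : ℕ) := by
    have := Int.self_le_toNat (n - i₀ + 1)
    omega
  haveI := isNoetherian_T_aux P hP i₀ hb hfg _ n hk M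
  exact Module.IsNoetherian.finite A ((CohIII.TFun P n).obj (ModuleCat.of A M))


section bc

open Groth.Agent.H19.FlatCxCmp

variable (B : Type u) [CommRing B] [Algebra A B]

omit [IsNoetherianRing A] in
/-- boundedness below is preserved by base change. -/
theorem isZero_bc (i : ℤ) (h : IsZero (P.X i)) :
    IsZero ((CohIII.bcCx (algebraMap A B) P).X i) :=
  (ModuleCat.extendScalars (algebraMap A B)).map_isZero h

include hP hb hfg in
/-- finiteness of `T_n(B)` over `B` for the base-changed complex, `B` a finite `A`-algebra. -/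
theorem finite_unit_bc_of_finite [Module.Finite A B] (n : ℤ) :
    Module.Finite B (CohIII.T (CohIII.bcCx (algebraMap A B) P) n (ModuleCat.of B B)) := by
  let V := (CohIII.bcCx (algebraMap A B) P).homology n
  suffices h : Module.Finite B V from
    Module.Finite.equiv (Groth.Agent.S2446.TUnitIso (CohIII.bcCx (algebraMap A B) P) n).toLinearEquiv.symm
  letI : Module A V := Module.compHom V (algebraMap A B)
  haveI : IsScalarTower A B V := ⟨fun a b v => by
    show (a • b) • v = algebraMap A B a • (b • v)
    rw [Algebra.smul_def, mul_smul]⟩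
  let e1 : V ≃ₗ[A] (CohIII.TFun P n).obj (ModuleCat.of A B) :=
    (cmpHomologyIso B P n).toLinearEquiv
  haveI : Module.Finite A ((CohIII.TFun P n).obj (ModuleCat.of A B)) :=
    finite_T P hP i₀ hb hfg n (ModuleCat.of A B)
  haveI : Module.Finite A V := Module.Finite.equiv e1.symm
  exact Module.Finite.of_restrictScalars_finite A B V

omit [IsNoetherianRing A] in
include hfg in
/-- finiteness of `T_n(B)` over `B` for the base-changed complex, `B` a flat `A`-algebra. -/
theorem finite_unit_bc_of_flat [Module.Flat A B] (n : ℤ) :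
    Module.Finite B (CohIII.T (CohIII.bcCx (algebraMap A B) P) n (ModuleCat.of B B)) := by
  have e1 := (Groth.Agent.S2446.TUnitIso (CohIII.bcCx (algebraMap A B) P) n).toLinearEquiv
  have e2 := bcHomologyEquiv B P n
  haveI : Module.Finite A (P.homology n) := by
    haveI : Module.Finite A ((CohIII.TFun P n).obj (ModuleCat.of A A)) := hfg n
    exact Module.Finite.equiv (Groth.Agent.S2446.TUnitIso P n).toLinearEquiv
  haveI : Module.Finite B (B ⊗[A] P.homology n) := inferInstance
  exact Module.Finite.equiv (e1 ≪≫ₗ e2).symm

end bc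

end Groth.Agent.H19.FlatCxFin
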