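import Groth.Prelude.Def_GrSyz
import Mathlib

set_option autoImplicit false
universe u

namespace Groth.Agent.H19.FreeResProj
open CategoryTheory

variable {R : Type u} [CommRing R] {σ' : Type u} [SetLike σ' R] [AddSubgroupClass σ' R]
  {𝒜 : ℤ → σ'}
  {M : Type u} [AddCommGroup M] [Module R M] {τ : Type u} [SetLike τ M] [AddSubgroupClass τ M]
  {ℳ : ℤ → τ} [DirectSum.Decomposition ℳ] [SetLike.GradedSMul 𝒜 ℳ] (F : GrSyz.FreeRes 𝒜 ℳ)

theorem d_comp_d (i : ℕ) : F.dLin i ∘ₗ F.dLin (i + 1) = 0 := by
  refine LinearMap.ext fun v => ?_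
  have : F.dLin (i + 1) v ∈ LinearMap.ker (F.dLin i) := by
    rw [F.exact_succ i]; exact ⟨v, rfl⟩
  exact this

theorem aug_comp_d : F.augLin ∘ₗ F.dLin 0 = 0 := by
  refine LinearMap.ext fun v => ?_
  have : F.dLin 0 v ∈ LinearMap.ker F.augLin := by
    rw [F.exact_zero]; exact ⟨v, rfl⟩
  exact this

/-- The chain complex of free modules of a graded free resolution. -/
noncomputable def complex : ChainComplex (ModuleCat.{u} R) ℕ :=
  ChainComplex.of (fun i => ModuleCat.of R (Fin (F.rk i) → R)) (fun i => ModuleCat.ofHom (F.dLin i))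
    (fun i => by
      rw [← ModuleCat.ofHom_comp, d_comp_d]
      rfl)

theorem complex_d (i : ℕ) : (complex F).d (i + 1) i = ModuleCat.ofHom (F.dLin i) := by
  unfold complex
  simp


/-- The augmentation as a chain map to the single complex. -/
noncomputable def π : complex F ⟶ (ChainComplex.single₀ (ModuleCat.{u} R)).obj (ModuleCat.of R M) :=
  ((complex F).toSingle₀Equiv _).symm ⟨ModuleCat.ofHom F.augLin, by
    rw [complex_d]
    apply ModuleCat.hom_ext
    exact aug_comp_d F⟩

theorem π_f_zero : (π F).f 0 = ModuleCat.ofHom F.augLin := by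
  unfold π
  exact ChainComplex.toSingle₀Equiv_symm_apply_f_zero _ _

theorem exactAt_succ (m : ℕ) : (complex F).ExactAt (m + 1) := by
  rw [HomologicalComplex.exactAt_iff' _ (m + 2) (m + 1) m (by simp) (by simp)]
  rw [ShortComplex.moduleCat_exact_iff_range_eq_ker]
  change LinearMap.range ((complex F).d (m + 2) (m + 1)).hom = LinearMap.ker ((complex F).d (m + 1) m).hom
  rw [complex_d, complex_d]
  exact (F.exact_succ m).symm

theorem quasiIso_π : QuasiIso (π F) where
  quasiIsoAt m := by
    cases m with
    | zero =>
      rw [ChainComplex.quasiIsoAt₀_iff, ShortComplex.quasiIso_iff_of_zeros' _ ((complex F).shape 0 0 (by simp)) rfl rfl]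
      constructor
      · rw [ShortComplex.moduleCat_exact_iff_range_eq_ker]
        change LinearMap.range ((complex F).d 1 0).hom = LinearMap.ker ((π F).f 0).hom
        rw [complex_d, π_f_zero]
        exact F.exact_zero.symm
      · change Epi ((π F).f 0)
        rw [π_f_zero]
        exact (ModuleCat.epi_iff_surjective (ModuleCat.ofHom F.augLin)).mpr F.aug_surjective
    | succ m =>
      rw [quasiIsoAt_iff_exactAt' (hL := ChainComplex.exactAt_succ_single_obj ..)]
      exact exactAt_succ F m

/-- The projective resolution attached to a graded free resolution. -/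
noncomputable def projRes : ProjectiveResolution (ModuleCat.of R M) where
  complex := complex F
  projective := fun n => by
    change Projective (ModuleCat.of R (Fin (F.rk n) → R))
    exact (IsProjective.iff_projective _).mp inferInstance
  π := π F
  quasiIso := quasiIso_π F

end Groth.Agent.H19.FreeResProj
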