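import Groth.Prelude.Def_GLin
import Mathlib

set_option autoImplicit false

namespace Groth.Agent.H19.GITMu

open TensorProduct LaurentPolynomial Polynomial

universe u

section Laurent
variable {k : Type u} [Field k]

theorem coeff_toLaurent_nat (P : k[X]) (n : ℕ) :
    (toLaurent P).coeff (n : ℤ) = P.coeff n := by
  rw [LaurentPolynomial.coeff_toLaurent]
  have := Finsupp.mapDomain_apply (Nat.castEmbedding (R := ℤ)).injective P.toFinsupp.coeff n
  exact this

theorem coeff_toLaurent_neg (P : k[X]) (a : ℤ) (ha : a < 0) :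
    (toLaurent P).coeff a = 0 := by
  rw [LaurentPolynomial.coeff_toLaurent]
  apply Finsupp.mapDomain_of_notMem_range
  rintro ⟨n, hn⟩
  have : (n : ℤ) = a := hn
  omega

theorem coeff_T_mul (f : k[T;T⁻¹]) (m n : ℤ) :
    (T m * f).coeff n = f.coeff (n - m) := by
  unfold T
  rw [AddMonoidAlgebra.coeff_single_mul_apply, one_mul]
  congr 1
  ring

theorem exists_poly_iff (f : k[T;T⁻¹]) :
    (∃ P : k[X], toLaurent P = f) ↔ ∀ n : ℤ, f.coeff n ≠ 0 → 0 ≤ n := by
  constructor
  · rintro ⟨P, rfl⟩ n hn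
    by_contra hlt
    push Not at hlt
    exact hn (coeff_toLaurent_neg P n hlt)
  · intro h
    refine ⟨∑ n ∈ f.coeff.support, monomial n.toNat (f.coeff n), ?_⟩
    apply LaurentPolynomial.ext
    intro a
    rw [map_sum]
    simp only [Polynomial.toLaurent_C_mul_T]
    rw [AddMonoidAlgebra.coeff_sum, Finsupp.finsetSum_apply]
    have hterm : ∀ n ∈ f.coeff.support,
        (LaurentPolynomial.C (f.coeff n) * T ((n.toNat : ℕ) : ℤ) : k[T;T⁻¹]).coeff a =
          if n = a then f.coeff n else 0 := by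
      intro n hn
      have hn0 : 0 ≤ n := h n (Finsupp.mem_support_iff.mp hn)
      rw [Int.toNat_of_nonneg hn0, ← single_eq_C_mul_T, AddMonoidAlgebra.coeff_single,
        Finsupp.single_apply]
    rw [Finset.sum_congr rfl hterm, Finset.sum_ite_eq']
    split_ifs with ha
    · rfl
    · exact (Finsupp.notMem_support_iff.mp ha).symm

theorem eval_zero_of_toLaurent (P : k[X]) (f : k[T;T⁻¹]) (m : ℤ) (h : toLaurent P = T m * f) :
    P.eval 0 = f.coeff (-m) := by
  rw [← Polynomial.coeff_zero_eq_eval_zero, ← coeff_toLaurent_nat, h, Nat.cast_zero, coeff_T_mul,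
    zero_sub]

variable {ι : Type u} [Fintype ι]

/-- union of supports -/
noncomputable def supp (w : ι → k[T;T⁻¹]) : Finset ℤ :=
  Finset.univ.biUnion fun i => (w i).coeff.support

theorem mem_supp (w : ι → k[T;T⁻¹]) (n : ℤ) : n ∈ supp w ↔ ∃ i, (w i).coeff n ≠ 0 := by
  simp [supp]

theorem supp_nonempty (w : ι → k[T;T⁻¹]) (h : ∃ i, w i ≠ 0) : (supp w).Nonempty := by
  obtain ⟨i, hi⟩ := h
  have : ∃ n, (w i).coeff n ≠ 0 := by
    by_contra hcon
    push Not at hcon
    apply hi
    apply LaurentPolynomial.ext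
    intro a
    rw [hcon a]
    rfl
  obtain ⟨n, hn⟩ := this
  exact ⟨n, (mem_supp w n).mpr ⟨i, hn⟩⟩

theorem polyCond (w : ι → k[T;T⁻¹]) (m : ℤ) :
    (∀ i, ∃ P : k[X], toLaurent P = T m * w i) ↔ ∀ n ∈ supp w, 0 ≤ n + m := by
  constructor
  · intro h n hn
    obtain ⟨i, hi⟩ := (mem_supp w n).mp hn
    have := (exists_poly_iff (T m * w i)).mp (h i) (n + m)
    rw [coeff_T_mul, add_sub_cancel_right] at this
    exact this hi
  · intro h i
    rw [exists_poly_iff]
    intro n hn
    rw [coeff_T_mul] at hn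
    have := h (n - m) ((mem_supp w _).mpr ⟨i, hn⟩)
    omega

/-- abstract form of `IsMu` -/
def MuProp (w : ι → k[T;T⁻¹]) (m : ℤ) : Prop :=
  ∃ P : ι → k[X], (∀ i, toLaurent (P i) = T m * w i) ∧ ∃ i, (P i).eval 0 ≠ 0

theorem muProp_iff (w : ι → k[T;T⁻¹]) (hS : (supp w).Nonempty) (m : ℤ) :
    MuProp w m ↔ m = -(supp w).min' hS := by
  constructor
  · rintro ⟨P, hP, i, hi⟩
    rw [eval_zero_of_toLaurent (P i) (w i) m (hP i)] at hi
    have h1 : -m ∈ supp w := (mem_supp w _).mpr ⟨i, hi⟩
    have h2 := Finset.min'_le _ _ h1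
    have h3 := (polyCond w m).mp (fun i => ⟨P i, hP i⟩) _ (Finset.min'_mem _ hS)
    omega
  · rintro rfl
    have h1 : ∀ n ∈ supp w, 0 ≤ n + -(supp w).min' hS := by
      intro n hn
      have := Finset.min'_le _ _ hn
      omega
    have h2 := (polyCond w _).mpr h1
    choose P hP using h2
    obtain ⟨i, hi⟩ := (mem_supp w _).mp (Finset.min'_mem _ hS)
    refine ⟨P, hP, i, ?_⟩
    rw [eval_zero_of_toLaurent (P i) (w i) _ (hP i), neg_neg]
    exact hi

/-- abstract form of `HasLimit` -/
theorem hasLim_iff (w : ι → k[T;T⁻¹]) (hS : (supp w).Nonempty) :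
    (∀ i, ∃ P : k[X], toLaurent P = w i) ↔ 0 ≤ (supp w).min' hS := by
  have h0 : ∀ i, T (0 : ℤ) * w i = w i := fun i => by rw [T_zero, one_mul]
  have := polyCond w 0
  simp only [h0, add_zero] at this
  rw [this]
  constructor
  · intro h
    exact h _ (Finset.min'_mem _ hS)
  · intro h n hn
    exact h.trans (Finset.min'_le _ _ hn)

/-- abstract form of `IsLimit` to the origin -/
theorem limZero_iff (w : ι → k[T;T⁻¹]) (hS : (supp w).Nonempty) :
    (∃ P : ι → k[X], (∀ i, toLaurent (P i) = w i) ∧ ∀ i, (P i).eval 0 = 0) ↔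
      0 < (supp w).min' hS := by
  have h0 : ∀ i, T (0 : ℤ) * w i = w i := fun i => by rw [T_zero, one_mul]
  constructor
  · rintro ⟨P, hP, hP0⟩
    have h1 := (hasLim_iff w hS).mp (fun i => ⟨P i, hP i⟩)
    rcases h1.lt_or_eq with h | h
    · exact h
    · exfalso
      obtain ⟨i, hi⟩ := (mem_supp w _).mp (Finset.min'_mem _ hS)
      rw [← h] at hi
      apply hi
      have := eval_zero_of_toLaurent (P i) (w i) 0 (by rw [h0]; exact hP i)
      rw [neg_zero] at this
      rw [← this, hP0]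
  · intro h
    have h1 := (hasLim_iff w hS).mpr h.le
    choose P hP using h1
    refine ⟨P, hP, fun i => ?_⟩
    have := eval_zero_of_toLaurent (P i) (w i) 0 (by rw [h0]; exact hP i)
    rw [this, neg_zero]
    by_contra hne
    have h2 := Finset.min'_le _ _ ((mem_supp w 0).mpr ⟨i, hne⟩)
    omega

end Laurent

section GLinPart

variable (k : Type u) [Field k] (A : Type u) [CommRing A] [Bialgebra k A]

theorem counit_orbitHom (R : Type u) [CommRing R] [Algebra k R] [HopfRep.Comod k A R]
    [GLin.IsCoactAlg k A R] (x : R →ₐ[k] k) (f : R) :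
    Coalgebra.counit (R := k) (A := A) (GLin.orbitHom k A x f) = x f := by
  let Φ₁ : R ⊗[k] A →ₗ[k] k := (Coalgebra.counit (R := k) (A := A)) ∘ₗ
    (TensorProduct.lid k A).toLinearMap ∘ₗ (TensorProduct.map x.toLinearMap LinearMap.id)
  let Φ₂ : R ⊗[k] A →ₗ[k] k := (TensorProduct.lid k k).toLinearMap ∘ₗ
    (TensorProduct.map x.toLinearMap LinearMap.id) ∘ₗ
      ((Coalgebra.counit (R := k) (A := A)).lTensor R)
  have h12 : Φ₁ = Φ₂ := by
    apply TensorProduct.ext'
    intro r a
    simp [Φ₁, Φ₂]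
  have hgen : ∀ c : R ⊗[k] A, (Algebra.TensorProduct.lid k A)
      (Algebra.TensorProduct.map x (AlgHom.id k A) c) =
      (TensorProduct.lid k A) (TensorProduct.map x.toLinearMap LinearMap.id c) := by
    intro c
    induction c using TensorProduct.induction_on with
    | zero => simp
    | tmul r a => simp
    | add c₁ c₂ h₁ h₂ => simp only [map_add, h₁, h₂]
  have h1 : Coalgebra.counit (R := k) (A := A) (GLin.orbitHom k A x f) =
      Φ₁ (HopfRep.Comod.coact (k := k) (A := A) f) := by
    change Coalgebra.counit (R := k) (A := A) ((Algebra.TensorProduct.lid k A)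
      (Algebra.TensorProduct.map x (AlgHom.id k A) (HopfRep.Comod.coact (k := k) (A := A) f))) = _
    rw [hgen]
    rfl
  rw [h1, h12]
  change (TensorProduct.lid k k) (TensorProduct.map x.toLinearMap LinearMap.id
    ((((Coalgebra.counit (R := k) (A := A)).lTensor R) ∘ₗ
      (HopfRep.Comod.coact (k := k) (A := A))) f)) = x f
  rw [HopfRep.Comod.counit_comp]
  simp

variable (ι : Type u) [Fintype ι] [HopfRep.Comod k A (MvPolynomial ι k)]
  [GLin.IsCoactAlg k A (MvPolynomial ι k)] (lam : A →ₐc[k] k[T;T⁻¹]) (v : ι → k)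

/-- the coordinates of the orbit -/
noncomputable def w : ι → k[T;T⁻¹] := fun i =>
  GLin.lamOrbit k A lam (GLin.vecPt k ι v) (MvPolynomial.X i)

theorem counit_w (i : ι) : Coalgebra.counit (R := k) (A := k[T;T⁻¹]) (w k A ι lam v i) = v i := by
  change Coalgebra.counit (R := k) (A := k[T;T⁻¹])
    (lam (GLin.orbitHom k A (GLin.vecPt k ι v) (MvPolynomial.X i))) = v i
  rw [CoalgHomClass.counit_comp_apply, counit_orbitHom]
  simp [GLin.vecPt]

theorem exists_w_ne_zero (hv : v ≠ 0) : ∃ i, w k A ι lam v i ≠ 0 := by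
  obtain ⟨i, hi⟩ : ∃ i, v i ≠ 0 := by
    by_contra hcon
    push Not at hcon
    exact hv (funext hcon)
  refine ⟨i, fun h0 => hi ?_⟩
  rw [← counit_w k A ι lam v i, h0, map_zero]

theorem isMu_iff_muProp (m : ℤ) : GLin.IsMu k A lam v m ↔ MuProp (w k A ι lam v) m := by
  constructor
  · rintro ⟨h, hh, hne⟩
    refine ⟨fun i => h (MvPolynomial.X i), fun i => ?_, ?_⟩
    · have := congrArg (fun φ : MvPolynomial ι k →ₐ[k] k[T;T⁻¹] => φ (MvPolynomial.X i)) hh
      simp only [AlgHom.comp_apply, GLin.shiftedOrbit, MvPolynomial.aeval_X] at this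
      exact this
    · by_contra hcon
      push Not at hcon
      apply hne
      apply MvPolynomial.algHom_ext
      intro i
      simp only [AlgHom.comp_apply, MvPolynomial.aeval_X, Polynomial.coe_aeval_eq_eval]
      exact hcon i
  · rintro ⟨P, hP, i, hi⟩
    refine ⟨MvPolynomial.aeval P, ?_, ?_⟩
    · apply MvPolynomial.algHom_ext
      intro j
      simp only [AlgHom.comp_apply, GLin.shiftedOrbit, MvPolynomial.aeval_X]
      exact hP j
    · intro heq
      have := congrArg (fun φ : MvPolynomial ι k →ₐ[k] k => φ (MvPolynomial.X i)) heq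
      simp only [AlgHom.comp_apply, MvPolynomial.aeval_X, Polynomial.coe_aeval_eq_eval] at this
      exact hi this

theorem hasLimit_iff : GLin.HasLimit k A lam (GLin.vecPt k ι v) ↔
    ∀ i, ∃ P : k[X], toLaurent P = w k A ι lam v i := by
  constructor
  · rintro ⟨h, hh⟩ i
    refine ⟨h (MvPolynomial.X i), ?_⟩
    have := congrArg (fun φ : MvPolynomial ι k →ₐ[k] k[T;T⁻¹] => φ (MvPolynomial.X i)) hh
    exact this
  · intro h
    choose P hP using h
    refine ⟨MvPolynomial.aeval P, ?_⟩
    apply MvPolynomial.algHom_ext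
    intro j
    simp only [AlgHom.comp_apply, MvPolynomial.aeval_X]
    exact hP j

theorem isLimit_zero_iff :
    GLin.IsLimit k A lam (GLin.vecPt k ι v) (GLin.vecPt k ι (fun _ => (0 : k))) ↔
    ∃ P : ι → k[X], (∀ i, toLaurent (P i) = w k A ι lam v i) ∧ ∀ i, (P i).eval 0 = 0 := by
  constructor
  · rintro ⟨h, hh, h0⟩
    refine ⟨fun i => h (MvPolynomial.X i), fun i => ?_, fun i => ?_⟩
    · have := congrArg (fun φ : MvPolynomial ι k →ₐ[k] k[T;T⁻¹] => φ (MvPolynomial.X i)) hh
      exact this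
    · have := congrArg (fun φ : MvPolynomial ι k →ₐ[k] k => φ (MvPolynomial.X i)) h0
      simp only [AlgHom.comp_apply, GLin.vecPt, MvPolynomial.aeval_X,
        Polynomial.coe_aeval_eq_eval] at this
      exact this
  · rintro ⟨P, hP, hP0⟩
    refine ⟨MvPolynomial.aeval P, ?_, ?_⟩
    · apply MvPolynomial.algHom_ext
      intro j
      simp only [AlgHom.comp_apply, MvPolynomial.aeval_X]
      exact hP j
    · apply MvPolynomial.algHom_ext
      intro j
      simp only [AlgHom.comp_apply, GLin.vecPt, MvPolynomial.aeval_X, Polynomial.coe_aeval_eq_eval]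
      exact hP0 j

end GLinPart

end Groth.Agent.H19.GITMu
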