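import Mathlib
import Groth.Agent.H19.TorFirst
import Groth.Agent.H19.FlatCech
import Groth.Agent.H19.Node1

set_option autoImplicit false
universe u v

namespace Groth.Agent.H19.HilbSyz

open CategoryTheory CategoryTheory.Limits

section general

variable {A : Type u} [CommRing A]

theorem isZero_X3 (S : ShortComplex (ModuleCat.{u} A)) (hS : S.ShortExact) (M : ModuleCat.{u} A)
    (n : ℕ) (h2 : IsZero (((Tor (ModuleCat.{u} A) (n + 1)).obj S.X₂).obj M))
    (h1 : IsZero (((Tor (ModuleCat.{u} A) n).obj S.X₁).obj M)) :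
    IsZero (((Tor (ModuleCat.{u} A) (n + 1)).obj S.X₃).obj M) :=
  (Groth.Agent.H19.TorFirst.exact₃ S hS M n).isZero_of_both_zeros (h2.eq_of_src _ _)
    (h1.eq_of_tgt _ _)

variable (I : Ideal A) (x : A)

/-- multiplication by `x` on `A ⧸ I`. -/
noncomputable abbrev fMul : (A ⧸ I) →ₗ[A] (A ⧸ I) := x • LinearMap.id

/-- the projection `A ⧸ I → A ⧸ (I ⊔ (x))`. -/
noncomputable abbrev gProj : (A ⧸ I) →ₗ[A] (A ⧸ (I ⊔ Ideal.span {x})) :=
  Submodule.mapQ I (I ⊔ Ideal.span {x}) LinearMap.id (by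
    intro a ha
    exact (le_sup_left : I ≤ I ⊔ Ideal.span {x}) ha)

theorem exact_fMul_gProj : Function.Exact (fMul I x) (gProj I x) := by
  intro q
  obtain ⟨p, rfl⟩ := Submodule.Quotient.mk_surjective _ q
  constructor
  · intro h
    rw [Submodule.mapQ_apply, LinearMap.id_apply, Submodule.Quotient.mk_eq_zero] at h
    obtain ⟨a, ha, b, hb, rfl⟩ := Submodule.mem_sup.mp h
    obtain ⟨c, rfl⟩ := Ideal.mem_span_singleton'.mp hb
    refine ⟨Submodule.Quotient.mk c, ?_⟩
    rw [LinearMap.smul_apply, LinearMap.id_apply, ← Submodule.Quotient.mk_smul, eq_comm,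
      ← sub_eq_zero, ← Submodule.Quotient.mk_sub, Submodule.Quotient.mk_eq_zero]
    have : a + c * x - x • c = a := by rw [smul_eq_mul]; ring
    rw [this]
    exact ha
  · rintro ⟨q', hq'⟩
    obtain ⟨c, rfl⟩ := Submodule.Quotient.mk_surjective _ q'
    rw [← hq', LinearMap.smul_apply, LinearMap.id_apply, ← Submodule.Quotient.mk_smul,
      Submodule.mapQ_apply, LinearMap.id_apply, Submodule.Quotient.mk_eq_zero]
    refine (le_sup_right : Ideal.span {x} ≤ I ⊔ Ideal.span {x}) ?_
    rw [smul_eq_mul]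
    exact Ideal.mul_mem_right _ _ (Ideal.mem_span_singleton_self x)

theorem fMul_injective (hreg : ∀ p, x * p ∈ I → p ∈ I) : Function.Injective (fMul I x) := by
  rw [injective_iff_map_eq_zero]
  intro q hq
  obtain ⟨p, rfl⟩ := Submodule.Quotient.mk_surjective _ q
  rw [LinearMap.smul_apply, LinearMap.id_apply, ← Submodule.Quotient.mk_smul,
    Submodule.Quotient.mk_eq_zero, smul_eq_mul] at hq
  rw [Submodule.Quotient.mk_eq_zero]
  exact hreg p hq

theorem gProj_surjective : Function.Surjective (gProj I x) := by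
  intro q
  obtain ⟨p, rfl⟩ := Submodule.Quotient.mk_surjective _ q
  exact ⟨Submodule.Quotient.mk p, rfl⟩

theorem step (hreg : ∀ p, x * p ∈ I → p ∈ I) (M : ModuleCat.{u} A) (n : ℕ)
    (h2 : IsZero (((Tor (ModuleCat.{u} A) (n + 1)).obj (ModuleCat.of A (A ⧸ I))).obj M))
    (h1 : IsZero (((Tor (ModuleCat.{u} A) n).obj (ModuleCat.of A (A ⧸ I))).obj M)) :
    IsZero (((Tor (ModuleCat.{u} A) (n + 1)).obj
      (ModuleCat.of A (A ⧸ (I ⊔ Ideal.span {x})))).obj M) :=
  isZero_X3 (Groth.Agent.H19.FlatCech.scOf (fMul I x) (gProj I x) (exact_fMul_gProj I x))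
    (Groth.Agent.H19.FlatCech.scOf_shortExact _ _ (exact_fMul_gProj I x)
      (fMul_injective I x hreg) (gProj_surjective I x)) M n h2 h1

end general

section poly

variable {k : Type u} [CommRing k] {σ : Type v}

theorem X_reg (s : Set σ) (a : σ) (ha : a ∉ s) (p : MvPolynomial σ k)
    (hp : MvPolynomial.X a * p ∈ Ideal.span (MvPolynomial.X '' s : Set (MvPolynomial σ k))) :
    p ∈ Ideal.span (MvPolynomial.X '' s : Set (MvPolynomial σ k)) := by
  classical
  rw [MvPolynomial.mem_ideal_span_X_image] at hp ⊢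
  intro m hm
  have h1 : m + Finsupp.single a 1 ∈ (MvPolynomial.X a * p).support := by
    rw [mul_comm, MvPolynomial.support_mul_X]
    exact Finset.mem_map_of_mem _ hm
  obtain ⟨i, his, hi⟩ := hp _ h1
  refine ⟨i, his, ?_⟩
  have hia : i ≠ a := fun h => ha (h ▸ his)
  rw [Finsupp.add_apply, Finsupp.single_apply, if_neg (Ne.symm hia), add_zero] at hi
  exact hi

theorem isZero_tor_span_X [DecidableEq σ] (M : ModuleCat.{max u v} (MvPolynomial σ k)) (s : Finset σ) :
    ∀ i : ℕ, s.card < i →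
    IsZero (((Tor (ModuleCat.{max u v} (MvPolynomial σ k)) i).obj
      (ModuleCat.of (MvPolynomial σ k) (MvPolynomial σ k ⧸
        Ideal.span (MvPolynomial.X '' (s : Set σ) : Set (MvPolynomial σ k))))).obj M) := by
  induction s using Finset.induction_on with
  | empty =>
    intro i hi
    obtain ⟨j, rfl⟩ : ∃ j, i = j + 1 := ⟨i - 1, by simp at hi; omega⟩
    have h0 : Ideal.span (MvPolynomial.X '' ((∅ : Finset σ) : Set σ) : Set (MvPolynomial σ k)) = ⊥ := by
      simp
    rw [h0]
    haveI : Module.Projective (MvPolynomial σ k) (MvPolynomial σ k ⧸ (⊥ : Ideal (MvPolynomial σ k))) :=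
      Module.Projective.of_equiv (Submodule.quotEquivOfEqBot (⊥ : Ideal (MvPolynomial σ k)) rfl).symm
    haveI : Projective (ModuleCat.of (MvPolynomial σ k)
        (MvPolynomial σ k ⧸ (⊥ : Ideal (MvPolynomial σ k)))) :=
      (IsProjective.iff_projective _).mp inferInstance
    exact Groth.Agent.H19.NodeTor.isZero_tor_of_projective _ M j
  | insert a s ha ih =>
    intro i hi
    rw [Finset.card_insert_of_notMem ha] at hi
    obtain ⟨j, rfl⟩ : ∃ j, i = j + 1 := ⟨i - 1, by omega⟩
    have h0 : Ideal.span (MvPolynomial.X '' ((insert a s : Finset σ) : Set σ) :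
        Set (MvPolynomial σ k)) =
        Ideal.span (MvPolynomial.X '' (s : Set σ) : Set (MvPolynomial σ k)) ⊔
          Ideal.span {MvPolynomial.X a} := by
      rw [Finset.coe_insert, Set.image_insert_eq, Ideal.span_insert, sup_comm]
    rw [h0]
    exact step _ _ (X_reg (s : Set σ) a (by simpa using ha)) M j (ih (j + 1) (by omega))
      (ih j (by omega))

end poly

end Groth.Agent.H19.HilbSyz
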