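import Mathlib
import Groth.Prelude.Def_GrSyz

set_option autoImplicit false
universe u

namespace Groth.Agent.H19.GrHilb

open DirectSum

section general

variable {k : Type u} [Field k] {R : Type u} [CommRing R] [Algebra k R]
  (𝒜 : ℤ → Submodule k R) [GradedAlgebra 𝒜]
  {M : Type u} [AddCommGroup M] [Module k M] [Module R M] [IsScalarTower k R M]
  (ℳ : ℤ → Submodule k M) [DirectSum.Decomposition ℳ] [SetLike.GradedSMul 𝒜 ℳ]

theorem coe_decompose_smul_of_mem (s : R) {x : M} {e : ℤ} (hx : x ∈ ℳ e) (j : ℤ) :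
    (DirectSum.decompose ℳ (s • x) (j + e) : M) = (DirectSum.decompose 𝒜 s j : R) • x := by
  classical
  conv_lhs => rw [← DirectSum.sum_support_decompose 𝒜 s, Finset.sum_smul, DirectSum.decompose_sum]
  rw [DFinsupp.finsetSum_apply, AddSubmonoidClass.coe_finsetSum]
  have hmem : ∀ i : ℤ, ((DirectSum.decompose 𝒜 s i : R) • x) ∈ ℳ (i + e) := fun i =>
    SetLike.GradedSMul.smul_mem (A := 𝒜) (i := i) (SetLike.coe_mem (DirectSum.decompose 𝒜 s i)) hx
  rw [Finset.sum_eq_single j]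
  · exact DirectSum.decompose_of_mem_same ℳ (hmem j)
  · intro i _ hij
    exact DirectSum.decompose_of_mem_ne ℳ (hmem i) (by omega)
  · intro hj
    rw [DFinsupp.notMem_support_iff] at hj
    simp [hj]

/-- degree-`d` piece of the free module with basis degrees `deg`. -/
def V {n : ℕ} (deg : Fin n → ℤ) (d : ℤ) : Submodule k (Fin n → R) :=
  Submodule.pi Set.univ (fun b => 𝒜 (d - deg b))

theorem mem_V {n : ℕ} (deg : Fin n → ℤ) (d : ℤ) (v : Fin n → R) :
    v ∈ V 𝒜 deg d ↔ ∀ b, v b ∈ 𝒜 (d - deg b) := by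
  simp [V, Submodule.mem_pi]

/-- componentwise projection onto the degree-`d` piece. -/
def projV {n : ℕ} (deg : Fin n → ℤ) (d : ℤ) (w : Fin n → R) : Fin n → R :=
  fun b => (DirectSum.decompose 𝒜 (w b) (d - deg b) : R)

theorem projV_mem {n : ℕ} (deg : Fin n → ℤ) (d : ℤ) (w : Fin n → R) :
    projV 𝒜 deg d w ∈ V 𝒜 deg d := by
  rw [mem_V]
  intro b
  exact SetLike.coe_mem _

theorem projV_of_mem {n : ℕ} (deg : Fin n → ℤ) (d : ℤ) (v : Fin n → R) (hv : v ∈ V 𝒜 deg d) :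
    projV 𝒜 deg d v = v := by
  funext b
  exact DirectSum.decompose_of_mem_same 𝒜 ((mem_V 𝒜 deg d v).mp hv b)

theorem mulVec_projV {n₀ n₁ : ℕ} (deg₀ : Fin n₀ → ℤ) (deg₁ : Fin n₁ → ℤ)
    (D : Matrix (Fin n₀) (Fin n₁) R) (hD : ∀ a b, D a b ∈ 𝒜 (deg₁ b - deg₀ a)) (d : ℤ)
    (w : Fin n₁ → R) :
    D.mulVec (projV 𝒜 deg₁ d w) = projV 𝒜 deg₀ d (D.mulVec w) := by
  funext a
  simp only [Matrix.mulVec, dotProduct, projV]
  rw [DirectSum.decompose_sum, DFinsupp.finsetSum_apply, AddSubmonoidClass.coe_finsetSum]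
  refine Finset.sum_congr rfl (fun b _ => ?_)
  have h : d - deg₀ a = (deg₁ b - deg₀ a) + (d - deg₁ b) := by ring
  rw [h]
  exact (DirectSum.coe_decompose_mul_add_of_left_mem 𝒜 (hD a b)).symm

theorem mulVec_mem_V {n₀ n₁ : ℕ} (deg₀ : Fin n₀ → ℤ) (deg₁ : Fin n₁ → ℤ)
    (D : Matrix (Fin n₀) (Fin n₁) R) (hD : ∀ a b, D a b ∈ 𝒜 (deg₁ b - deg₀ a)) (d : ℤ)
    (v : Fin n₁ → R) (hv : v ∈ V 𝒜 deg₁ d) : D.mulVec v ∈ V 𝒜 deg₀ d := by
  rw [← projV_of_mem 𝒜 deg₁ d v hv, mulVec_projV 𝒜 deg₀ deg₁ D hD]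
  exact projV_mem 𝒜 deg₀ d _

theorem linearCombination_projV {n : ℕ} (deg : Fin n → ℤ) (aug : Fin n → M)
    (haug : ∀ b, aug b ∈ ℳ (deg b)) (d : ℤ) (w : Fin n → R) :
    Fintype.linearCombination R aug (projV 𝒜 deg d w) =
      (DirectSum.decompose ℳ (Fintype.linearCombination R aug w) d : M) := by
  simp only [Fintype.linearCombination_apply, projV]
  rw [DirectSum.decompose_sum, DFinsupp.finsetSum_apply, AddSubmonoidClass.coe_finsetSum]
  refine Finset.sum_congr rfl (fun b _ => ?_)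
  have h : d = (d - deg b) + deg b := by ring
  conv_rhs => rw [h]
  exact (coe_decompose_smul_of_mem 𝒜 ℳ (w b) (haug b) (d - deg b)).symm

theorem linearCombination_mem {n : ℕ} (deg : Fin n → ℤ) (aug : Fin n → M)
    (haug : ∀ b, aug b ∈ ℳ (deg b)) (d : ℤ) (v : Fin n → R) (hv : v ∈ V 𝒜 deg d) :
    Fintype.linearCombination R aug v ∈ ℳ d := by
  rw [← projV_of_mem 𝒜 deg d v hv, linearCombination_projV 𝒜 ℳ deg aug haug]
  exact SetLike.coe_mem _

/-- rank–nullity for the restriction of a linear map to a finite-dimensional subspace. -/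
theorem finrank_eq_map_add_inf_ker {E E' : Type*} [AddCommGroup E] [Module k E] [AddCommGroup E']
    [Module k E'] (f : E →ₗ[k] E') (W : Submodule k E) [FiniteDimensional k W] :
    Module.finrank k W = Module.finrank k (W.map f) + Module.finrank k (W ⊓ LinearMap.ker f : Submodule k E) := by
  have h := LinearMap.finrank_range_add_finrank_ker (f.domRestrict W)
  rw [LinearMap.range_domRestrict, LinearMap.ker_domRestrict] at h
  have e : (Submodule.comap W.subtype (LinearMap.ker f)) ≃ₗ[k] (W ⊓ LinearMap.ker f : Submodule k E) := by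
    have h1 : Submodule.comap W.subtype (LinearMap.ker f) =
        Submodule.comap W.subtype (W ⊓ LinearMap.ker f) := by
      rw [Submodule.comap_inf, Submodule.comap_subtype_self, top_inf_eq]
    rw [h1]
    exact Submodule.comapSubtypeEquivOfLe inf_le_left
  rw [← e.finrank_eq, ← h]

/-- The degree-`d` piece as a product of graded pieces of the ring. -/
def VEquiv {n : ℕ} (deg : Fin n → ℤ) (d : ℤ) :
    V 𝒜 deg d ≃ₗ[k] (∀ b : Fin n, 𝒜 (d - deg b)) where
  toFun v := fun b => ⟨v.1 b, (mem_V 𝒜 deg d v.1).mp v.2 b⟩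
  invFun w := ⟨fun b => (w b : R), (mem_V 𝒜 deg d _).mpr (fun b => (w b).2)⟩
  map_add' := fun _ _ => rfl
  map_smul' := fun _ _ => rfl
  left_inv := fun _ => rfl
  right_inv := fun _ => rfl

theorem finite_V (hfin : ∀ e, Module.Finite k (𝒜 e)) {n : ℕ} (deg : Fin n → ℤ) (d : ℤ) :
    Module.Finite k (V 𝒜 deg d) := by
  haveI := hfin
  exact Module.Finite.equiv (VEquiv 𝒜 deg d).symm

theorem finrank_V (hfin : ∀ e, Module.Finite k (𝒜 e)) {n : ℕ} (deg : Fin n → ℤ) (d : ℤ) :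
    Module.finrank k (V 𝒜 deg d) = ∑ b, Module.finrank k (𝒜 (d - deg b)) := by
  haveI := hfin
  rw [(VEquiv 𝒜 deg d).finrank_eq, Module.finrank_pi_fintype]

end general

section resolution

variable {k : Type u} [Field k] {R : Type u} [CommRing R] [Algebra k R]
  {𝒜 : ℤ → Submodule k R} [GradedAlgebra 𝒜]
  {M : Type u} [AddCommGroup M] [Module k M] [Module R M] [IsScalarTower k R M]
  {ℳ : ℤ → Submodule k M} [DirectSum.Decomposition ℳ] [SetLike.GradedSMul 𝒜 ℳ]
  (F : GrSyz.FreeRes 𝒜 ℳ)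

/-- degree-`d` piece of the `i`-th term. -/
abbrev W (i : ℕ) (d : ℤ) : Submodule k (Fin (F.rk i) → R) := V 𝒜 (F.deg i) d

/-- the differential as a `k`-linear map. -/
abbrev fk (i : ℕ) : (Fin (F.rk (i + 1)) → R) →ₗ[k] (Fin (F.rk i) → R) :=
  (F.dLin i).restrictScalars k

/-- the augmentation as a `k`-linear map. -/
abbrev εk : (Fin (F.rk 0) → R) →ₗ[k] M := (F.augLin).restrictScalars k

theorem exact_deg_succ (i : ℕ) (d : ℤ) :
    W F (i + 1) d ⊓ LinearMap.ker (fk F i) = (W F (i + 1 + 1) d).map (fk F (i + 1)) := by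
  apply le_antisymm
  · rintro v ⟨hvW, hvker⟩
    have hv : v ∈ LinearMap.ker (Matrix.mulVecLin (F.d i)) := by
      rw [SetLike.mem_coe, LinearMap.mem_ker] at hvker
      rw [LinearMap.mem_ker]
      exact hvker
    rw [F.exact_succ i] at hv
    obtain ⟨w, rfl⟩ := hv
    refine ⟨projV 𝒜 (F.deg (i + 1 + 1)) d w, projV_mem 𝒜 _ d w, ?_⟩
    show (F.d (i + 1)).mulVec (projV 𝒜 (F.deg (i + 1 + 1)) d w) = (F.d (i + 1)).mulVec w
    rw [mulVec_projV 𝒜 (F.deg (i + 1)) (F.deg (i + 1 + 1)) (F.d (i + 1)) (F.d_mem (i + 1))]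
    exact projV_of_mem 𝒜 _ d _ hvW
  · rintro _ ⟨w, hw, rfl⟩
    refine ⟨?_, ?_⟩
    · exact mulVec_mem_V 𝒜 (F.deg (i + 1)) (F.deg (i + 1 + 1)) (F.d (i + 1)) (F.d_mem (i + 1)) d w hw
    · have : (Matrix.mulVecLin (F.d (i + 1))) w ∈ LinearMap.ker (Matrix.mulVecLin (F.d i)) := by
        rw [F.exact_succ i]
        exact ⟨w, rfl⟩
      rw [LinearMap.mem_ker] at this
      rw [SetLike.mem_coe, LinearMap.mem_ker]
      exact this

theorem exact_deg_zero (d : ℤ) :
    W F 0 d ⊓ LinearMap.ker (εk F) = (W F 1 d).map (fk F 0) := by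
  apply le_antisymm
  · rintro v ⟨hvW, hvker⟩
    have hv : v ∈ LinearMap.ker (Fintype.linearCombination R F.aug) := by
      rw [SetLike.mem_coe, LinearMap.mem_ker] at hvker
      rw [LinearMap.mem_ker]
      exact hvker
    rw [F.exact_zero] at hv
    obtain ⟨w, rfl⟩ := hv
    refine ⟨projV 𝒜 (F.deg 1) d w, projV_mem 𝒜 _ d w, ?_⟩
    show (F.d 0).mulVec (projV 𝒜 (F.deg (0 + 1)) d w) = (F.d 0).mulVec w
    rw [mulVec_projV 𝒜 (F.deg 0) (F.deg (0 + 1)) (F.d 0) (F.d_mem 0)]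
    exact projV_of_mem 𝒜 _ d _ hvW
  · rintro _ ⟨w, hw, rfl⟩
    refine ⟨?_, ?_⟩
    · exact mulVec_mem_V 𝒜 (F.deg 0) (F.deg (0 + 1)) (F.d 0) (F.d_mem 0) d w hw
    · have : (Matrix.mulVecLin (F.d 0)) w ∈ LinearMap.ker (Fintype.linearCombination R F.aug) := by
        rw [F.exact_zero]
        exact ⟨w, rfl⟩
      rw [LinearMap.mem_ker] at this
      rw [SetLike.mem_coe, LinearMap.mem_ker]
      exact this

theorem map_aug_eq (d : ℤ) : (W F 0 d).map (εk F) = ℳ d := by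
  apply le_antisymm
  · rintro _ ⟨v, hv, rfl⟩
    exact linearCombination_mem 𝒜 ℳ (F.deg 0) F.aug F.aug_mem d v hv
  · intro x hx
    obtain ⟨w, rfl⟩ := F.aug_surjective x
    refine ⟨projV 𝒜 (F.deg 0) d w, projV_mem 𝒜 _ d w, ?_⟩
    show Fintype.linearCombination R F.aug (projV 𝒜 (F.deg 0) d w) = _
    rw [linearCombination_projV 𝒜 ℳ (F.deg 0) F.aug F.aug_mem]
    exact DirectSum.decompose_of_mem_same ℳ hx

theorem euler_aux (hfin : ∀ e, Module.Finite k (𝒜 e)) (d : ℤ) (j : ℕ) :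
    ∑ i ∈ Finset.range (j + 1), (-1 : ℤ) ^ i * (Module.finrank k (W F i d) : ℤ) =
      (Module.finrank k (ℳ d) : ℤ) +
        (-1 : ℤ) ^ j * (Module.finrank k ((W F (j + 1) d).map (fk F j)) : ℤ) := by
  haveI : ∀ i, FiniteDimensional k (W F i d) := fun i => finite_V 𝒜 hfin (F.deg i) d
  induction j with
  | zero =>
    rw [Finset.sum_range_one, pow_zero, one_mul, one_mul,
      finrank_eq_map_add_inf_ker (εk F) (W F 0 d), exact_deg_zero F d, map_aug_eq F d]
    push_cast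
    ring
  | succ j ih =>
    rw [Finset.sum_range_succ, ih, finrank_eq_map_add_inf_ker (fk F j) (W F (j + 1) d),
      exact_deg_succ F j d]
    push_cast
    ring

theorem euler (hfin : ∀ e, Module.Finite k (𝒜 e)) (m : ℕ) (hF : F.HasLengthLE m) (d : ℤ) :
    (Module.finrank k (ℳ d) : ℤ) =
      ∑ i ∈ Finset.range (m + 1), (-1 : ℤ) ^ i * ∑ b : Fin (F.rk i),
        (Module.finrank k (𝒜 (d - F.deg i b)) : ℤ) := by
  have h := euler_aux F hfin d m
  have hz : Module.finrank k ((W F (m + 1) d).map (fk F m)) = 0 := by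
    have hrk : F.rk (m + 1) = 0 := hF (m + 1) (Nat.lt_succ_self m)
    haveI : IsEmpty (Fin (F.rk (m + 1))) := by rw [hrk]; exact Fin.isEmpty
    have hbot : W F (m + 1) d = ⊥ := Submodule.eq_bot_of_subsingleton
    rw [hbot, Submodule.map_bot]
    exact finrank_bot k _
  rw [hz] at h
  simp only [Nat.cast_zero, mul_zero, add_zero] at h
  rw [← h]
  refine Finset.sum_congr rfl (fun i _ => ?_)
  rw [finrank_V 𝒜 hfin (F.deg i) d]
  push_cast
  rfl

end resolution

section std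

variable (k : Type u) [Field k] (r : ℕ)

theorem weight_one_eq (d : Fin (r + 1) →₀ ℕ) :
    Finsupp.weight (fun _ : Fin (r + 1) => (1 : ℤ)) d = ((∑ i, d i : ℕ) : ℤ) := by
  rw [Finsupp.weight_apply, Finsupp.sum_fintype _ _ (fun i => by simp)]
  simp

theorem weightSet_eq_of_nonneg (n : ℕ) :
    {d : Fin (r + 1) →₀ ℕ | Finsupp.weight (fun _ : Fin (r + 1) => (1 : ℤ)) d = (n : ℤ)} =
      ↑((Finset.univ : Finset (Fin (r + 1))).finsuppAntidiag n) := by
  ext d
  simp only [Set.mem_ofPred_eq, Finset.mem_coe, Finset.mem_finsuppAntidiag, Finset.subset_univ,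
    and_true, weight_one_eq]
  exact_mod_cast Iff.rfl

theorem weightSet_eq_of_neg (e : ℤ) (he : e < 0) :
    {d : Fin (r + 1) →₀ ℕ | Finsupp.weight (fun _ : Fin (r + 1) => (1 : ℤ)) d = e} = ∅ := by
  ext d
  simp only [Set.mem_ofPred_eq, Set.mem_empty_iff_false, iff_false, weight_one_eq]
  omega

theorem finite_weightSet (e : ℤ) :
    Finite {d : Fin (r + 1) →₀ ℕ | Finsupp.weight (fun _ : Fin (r + 1) => (1 : ℤ)) d = e} := by
  rcases lt_or_ge e 0 with he | he
  · rw [weightSet_eq_of_neg r e he]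
    infer_instance
  · obtain ⟨n, rfl⟩ := Int.eq_ofNat_of_zero_le he
    rw [weightSet_eq_of_nonneg r n]
    exact Finset.finite_toSet _ |>.to_subtype

theorem stdGr_eq (e : ℤ) : GrSyz.stdGr k (Fin (r + 1)) e =
    MvPolynomial.restrictSupport k
      {d : Fin (r + 1) →₀ ℕ | Finsupp.weight (fun _ : Fin (r + 1) => (1 : ℤ)) d = e} :=
  MvPolynomial.weightedHomogeneousSubmodule_eq_finsupp_supported k _ e

theorem finite_stdGr (e : ℤ) : Module.Finite k (GrSyz.stdGr k (Fin (r + 1)) e) := by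
  rw [stdGr_eq]
  haveI := finite_weightSet r e
  exact Module.Finite.of_basis (MvPolynomial.basisRestrictSupport k _)

theorem finrank_stdGr (e : ℤ) : Module.finrank k (GrSyz.stdGr k (Fin (r + 1)) e) =
    if 0 ≤ e then Nat.choose (r + e.toNat) r else 0 := by
  rw [stdGr_eq, Module.finrank_eq_nat_card_basis (MvPolynomial.basisRestrictSupport k _)]
  split_ifs with he
  · obtain ⟨n, rfl⟩ := Int.eq_ofNat_of_zero_le he
    rw [weightSet_eq_of_nonneg r n, Int.toNat_natCast]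
    rw [Nat.card_coe_set_eq, Set.ncard_coe_finset, Finset.card_finsuppAntidiag_nat_eq_choose]
    simp only [Finset.card_univ, Fintype.card_fin]
    rw [show r + 1 + n - 1 = r + n by omega, Nat.choose_symm_add]
  · rw [weightSet_eq_of_neg r e (by omega)]
    simp

end std

end Groth.Agent.H19.GrHilb
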