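import Mathlib
import Groth.Agent.H19.GrHilb

set_option autoImplicit false
universe u

namespace Groth.Agent.H19.MinRes

open Groth.Agent.H19.GrHilb

/-- A finitely generated submodule spanned by its elements satisfying `P` has a finite irredundant
generating family of elements satisfying `P`. -/
theorem exists_irredundant_generators {R E : Type*} [CommRing R] [AddCommGroup E] [Module R E]
    (K : Submodule R E) (hK : K.FG) (P : E → Prop)
    (hP : K = Submodule.span R {x | x ∈ K ∧ P x}) :
    ∃ (n : ℕ) (g : Fin n → E), (∀ b, g b ∈ K ∧ P (g b)) ∧ Submodule.span R (Set.range g) = K ∧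
      ∀ b, g b ∉ Submodule.span R (g '' {b' | b' ≠ b}) := by
  classical
  have hfg : (Submodule.span R {x | x ∈ K ∧ P x}).FG := hP ▸ hK
  obtain ⟨T₀, hT₀sub, hT₀span⟩ := (Submodule.fg_span_iff_fg_span_finset_subset _).mp hfg
  -- minimal cardinality
  let Q : ℕ → Prop := fun n => ∃ T : Finset E, T.card = n ∧ (↑T : Set E) ⊆ {x | x ∈ K ∧ P x} ∧
    Submodule.span R (↑T : Set E) = K
  have hQ : ∃ n, Q n := ⟨T₀.card, T₀, rfl, hT₀sub, by rw [← hT₀span, ← hP]⟩
  obtain ⟨T, hTcard, hTsub, hTspan⟩ := Nat.find_spec hQ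
  have hmin : ∀ n, n < Nat.find hQ → ¬ Q n := fun n hn => Nat.find_min hQ hn
  have hirr : ∀ x ∈ T, x ∉ Submodule.span R (↑(T.erase x) : Set E) := by
    intro x hx hmem
    apply hmin (T.erase x).card
    · rw [Finset.card_erase_of_mem hx, ← hTcard]
      exact Nat.sub_lt (Finset.card_pos.mpr ⟨x, hx⟩) Nat.one_pos
    · refine ⟨T.erase x, rfl, ?_, ?_⟩
      · exact fun y hy => hTsub (Finset.mem_of_mem_erase hy)
      · apply le_antisymm
        · rw [← hTspan]
          exact Submodule.span_mono (Finset.coe_subset.mpr (Finset.erase_subset x T))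
        · rw [← hTspan, Submodule.span_le]
          intro y hy
          by_cases hyx : y = x
          · rw [hyx]; exact hmem
          · exact Submodule.subset_span (Finset.mem_coe.mpr (Finset.mem_erase.mpr ⟨hyx, hy⟩))
  let e := T.equivFin
  refine ⟨T.card, fun b => (e.symm b : E), ?_, ?_, ?_⟩
  · intro b
    exact hTsub (e.symm b).2
  · have : Set.range (fun b => (e.symm b : E)) = (↑T : Set E) := by
      ext y
      constructor
      · rintro ⟨b, rfl⟩
        exact (e.symm b).2
      · intro hy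
        exact ⟨e ⟨y, hy⟩, by simp⟩
    rw [this, hTspan]
  · intro b hb
    apply hirr (e.symm b : E) (e.symm b).2
    refine Submodule.span_mono ?_ hb
    rintro _ ⟨b', hb', rfl⟩
    rw [Finset.mem_coe, Finset.mem_erase]
    refine ⟨?_, (e.symm b').2⟩
    intro h
    apply hb'
    exact e.symm.injective (Subtype.ext h)

section general

variable {k : Type u} [Field k] {R : Type u} [CommRing R] [Algebra k R]
  (𝒜 : ℤ → Submodule k R) [GradedAlgebra 𝒜]
  {M : Type u} [AddCommGroup M] [Module k M] [Module R M] [IsScalarTower k R M]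
  (ℳ : ℤ → Submodule k M) [DirectSum.Decomposition ℳ] [SetLike.GradedSMul 𝒜 ℳ]

/-- every vector is a finite sum of its homogeneous projections. -/
theorem exists_finset_sum_projV {n : ℕ} (deg : Fin n → ℤ) (v : Fin n → R) :
    ∃ D : Finset ℤ, v = ∑ d ∈ D, projV 𝒜 deg d v := by
  classical
  let s : Fin n → Finset ℤ := fun b => (DirectSum.decompose 𝒜 (v b)).support
  let D : Finset ℤ := Finset.univ.biUnion (fun b => (s b).image (· + deg b))
  refine ⟨D, ?_⟩
  funext b
  rw [Finset.sum_apply]
  simp only [projV]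
  have hsub : (s b).image (· + deg b) ⊆ D := by
    intro d hd
    exact Finset.mem_biUnion.mpr ⟨b, Finset.mem_univ b, hd⟩
  rw [← Finset.sum_subset hsub]
  · rw [Finset.sum_image (fun x _ y _ h => by simpa using h)]
    conv_lhs => rw [← DirectSum.sum_support_decompose 𝒜 (v b)]
    refine Finset.sum_congr rfl (fun e _ => ?_)
    rw [add_sub_cancel_right]
  · intro d _ hd
    have : d - deg b ∉ s b := by
      intro h
      apply hd
      exact Finset.mem_image.mpr ⟨d - deg b, h, by ring⟩
    rw [DFinsupp.notMem_support_iff] at this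
    rw [this]
    rfl

/-- a submodule of a graded free module stable under the projections is spanned by its
homogeneous elements. -/
theorem eq_span_homogeneous {n : ℕ} (deg : Fin n → ℤ) (K : Submodule R (Fin n → R))
    (hK : ∀ d v, v ∈ K → projV 𝒜 deg d v ∈ K) :
    K = Submodule.span R {x | x ∈ K ∧ ∃ d, x ∈ V 𝒜 deg d} := by
  apply le_antisymm
  · intro v hv
    obtain ⟨D, hD⟩ := exists_finset_sum_projV 𝒜 deg v
    rw [hD]
    refine Submodule.sum_mem _ (fun d _ => Submodule.subset_span ⟨hK d v hv, d, projV_mem 𝒜 deg d v⟩)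
  · rw [Submodule.span_le]
    exact fun x hx => hx.1

/-- the whole graded module is spanned by its homogeneous elements. -/
theorem top_eq_span_homogeneous :
    (⊤ : Submodule R M) = Submodule.span R {x | x ∈ (⊤ : Submodule R M) ∧ ∃ d, x ∈ ℳ d} := by
  classical
  apply le_antisymm
  · intro m _
    rw [← DirectSum.sum_support_decompose ℳ m]
    exact Submodule.sum_mem _ (fun d _ => Submodule.subset_span ⟨Submodule.mem_top, d, SetLike.coe_mem _⟩)
  · exact le_top

end general

section construction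

variable {k : Type u} [Field k] {R : Type u} [CommRing R] [Algebra k R] [IsNoetherianRing R]
  (𝒜 : ℤ → Submodule k R) [GradedAlgebra 𝒜]

/-- A graded free module of finite rank with a homogeneous submodule. -/
structure St where
  n : ℕ
  deg : Fin n → ℤ
  K : Submodule R (Fin n → R)
  hK : ∀ d v, v ∈ K → projV 𝒜 deg d v ∈ K

/-- One step of the construction: irredundant homogeneous generators of `s.K`. -/
structure StepOut (s : St 𝒜) where
  next : St 𝒜
  D : Matrix (Fin s.n) (Fin next.n) R
  d_mem : ∀ a b, D a b ∈ 𝒜 (next.deg b - s.deg a)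
  range_eq : LinearMap.range (Matrix.mulVecLin D) = s.K
  next_K : next.K = LinearMap.ker (Matrix.mulVecLin D)
  irred : ∀ b, (fun a => D a b) ∉ Submodule.span R ((fun b' a => D a b') '' {b' | b' ≠ b})

theorem projV_zero {n : ℕ} (deg : Fin n → ℤ) (d : ℤ) : projV 𝒜 deg d (0 : Fin n → R) = 0 := by
  funext b
  simp [projV]

theorem nonempty_stepOut (s : St 𝒜) : Nonempty (StepOut 𝒜 s) := by
  classical
  have hfg : s.K.FG := IsNoetherian.noetherian s.K
  obtain ⟨n', g, hg, hspan, hirr⟩ := exists_irredundant_generators s.K hfg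
    (fun x => ∃ d, x ∈ V 𝒜 s.deg d) (eq_span_homogeneous 𝒜 s.deg s.K s.hK)
  choose hgK deg' hdeg' using hg
  let D : Matrix (Fin s.n) (Fin n') R := Matrix.of (fun a b => g b a)
  have hcol : ∀ b, D.col b = g b := fun b => rfl
  have hDmem : ∀ a b, D a b ∈ 𝒜 (deg' b - s.deg a) := fun a b =>
    (mem_V 𝒜 s.deg (deg' b) (g b)).mp (hdeg' b) a
  refine ⟨⟨⟨n', deg', LinearMap.ker (Matrix.mulVecLin D), ?_⟩, D, hDmem, ?_, rfl, ?_⟩⟩
  · intro d v hv
    rw [LinearMap.mem_ker, Matrix.mulVecLin_apply] at hv ⊢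
    rw [mulVec_projV 𝒜 s.deg deg' D hDmem, hv, projV_zero]
  · rw [Matrix.range_mulVecLin]
    have : Set.range D.col = Set.range g := by
      ext x; constructor
      · rintro ⟨b, rfl⟩; exact ⟨b, rfl⟩
      · rintro ⟨b, rfl⟩; exact ⟨b, rfl⟩
    rw [this, hspan]
  · intro b
    exact hirr b

/-- a chosen step. -/
noncomputable def step (s : St 𝒜) : StepOut 𝒜 s := Classical.choice (nonempty_stepOut 𝒜 s)

/-- the sequence of states. -/
noncomputable def seq (s₀ : St 𝒜) : ℕ → St 𝒜
  | 0 => s₀
  | (i + 1) => (step 𝒜 (seq s₀ i)).next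

end construction

section final

variable {k : Type u} [Field k] {R : Type u} [CommRing R] [Algebra k R] [IsNoetherianRing R]
  (𝒜 : ℤ → Submodule k R) [GradedAlgebra 𝒜]
  {M : Type u} [AddCommGroup M] [Module k M] [Module R M] [IsScalarTower k R M]
  (ℳ : ℤ → Submodule k M) [DirectSum.Decomposition ℳ] [SetLike.GradedSMul 𝒜 ℳ]

theorem exists_freeRes_irredundant [Module.Finite R M] :
    ∃ F : GrSyz.FreeRes 𝒜 ℳ,
      (∀ b : Fin (F.rk 0), F.aug b ∉ Submodule.span R (F.aug '' {b' | b' ≠ b})) ∧
      ∀ (i : ℕ) (b : Fin (F.rk (i + 1))),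
        (fun a => F.d i a b) ∉ Submodule.span R ((fun b' a => F.d i a b') '' {b' | b' ≠ b}) := by
  classical
  obtain ⟨n₀, aug, haug, hspan, hirr⟩ := exists_irredundant_generators (⊤ : Submodule R M)
    Module.Finite.fg_top (fun x => ∃ d, x ∈ ℳ d) (top_eq_span_homogeneous (R := R) ℳ)
  choose _ deg₀ hdeg₀ using haug
  let s₀ : St 𝒜 := ⟨n₀, deg₀, LinearMap.ker (Fintype.linearCombination R aug), by
    intro d v hv
    rw [LinearMap.mem_ker] at hv ⊢
    rw [linearCombination_projV 𝒜 ℳ deg₀ aug hdeg₀, hv]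
    simp⟩
  have hsurj : Function.Surjective (Fintype.linearCombination R aug) := by
    rw [← LinearMap.range_eq_top, Fintype.range_linearCombination]
    exact hspan
  have hex0 : LinearMap.ker (Fintype.linearCombination R aug) =
      LinearMap.range (Matrix.mulVecLin (step 𝒜 s₀).D) := ((step 𝒜 s₀).range_eq).symm
  have hexs : ∀ i, LinearMap.ker (Matrix.mulVecLin (step 𝒜 (seq 𝒜 s₀ i)).D) =
      LinearMap.range (Matrix.mulVecLin (step 𝒜 (step 𝒜 (seq 𝒜 s₀ i)).next).D) := fun i =>
    ((step 𝒜 (seq 𝒜 s₀ i)).next_K).symm.trans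
      ((step 𝒜 (step 𝒜 (seq 𝒜 s₀ i)).next).range_eq).symm
  refine ⟨{ rk := fun i => (seq 𝒜 s₀ i).n
            deg := fun i => (seq 𝒜 s₀ i).deg
            d := fun i => (step 𝒜 (seq 𝒜 s₀ i)).D
            aug := aug
            d_mem := fun i a b => (step 𝒜 (seq 𝒜 s₀ i)).d_mem a b
            aug_mem := hdeg₀
            aug_surjective := hsurj
            exact_zero := hex0
            exact_succ := hexs }, ?_, ?_⟩
  · exact hirr
  · intro i b
    exact (step 𝒜 (seq 𝒜 s₀ i)).irred b

end final

end Groth.Agent.H19.MinRes
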