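import Mathlib
import Groth.Agent.H19.HilbSyz
import Groth.Agent.S15416
import Groth.Agent.S15436

set_option autoImplicit false
universe u

namespace Groth.Agent.H19.HilbSyz

open CategoryTheory CategoryTheory.Limits

theorem irrel_eq_span (k : Type u) [Field k] (σ : Type) [Fintype σ] :
    (GrSyz.irrel (GrSyz.stdGr k σ)).toIdeal =
      Ideal.span (MvPolynomial.X '' ((Finset.univ : Finset σ) : Set σ) : Set (MvPolynomial σ k)) := by
  rw [Groth.Agent.S15436.irrel_eq_ker]
  ext p
  rw [RingHom.mem_ker, MvPolynomial.mem_ideal_span_X_image, MvPolynomial.constantCoeff_eq]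
  constructor
  · intro h m hm
    have hm0 : m ≠ 0 := by
      rintro rfl
      rw [MvPolynomial.mem_support_iff] at hm
      exact hm h
    obtain ⟨i, hi⟩ := Finsupp.ne_iff.mp hm0
    exact ⟨i, by simp, by simpa using hi⟩
  · intro h
    by_contra h0
    have : (0 : σ →₀ ℕ) ∈ p.support := MvPolynomial.mem_support_iff.mpr h0
    obtain ⟨i, -, hi⟩ := h 0 this
    exact hi rfl

theorem hilbert_syzygy (k : Type u) [Field k] (n : ℕ)
    (M : Type u) [AddCommGroup M] [Module k M] [Module (MvPolynomial (Fin (n + 1)) k) M]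
    [IsScalarTower k (MvPolynomial (Fin (n + 1)) k) M] [Module.Finite (MvPolynomial (Fin (n + 1)) k) M]
    (ℳ : ℤ → Submodule k M) [DirectSum.Decomposition ℳ]
    [SetLike.GradedSMul (GrSyz.stdGr k (Fin (n + 1))) ℳ] :
    ∃ F : GrSyz.FreeRes (GrSyz.stdGr k (Fin (n + 1))) ℳ,
      F.IsMinimal (GrSyz.irrel (GrSyz.stdGr k (Fin (n + 1)))).toIdeal ∧ F.HasLengthLE (n + 1) := by
  obtain ⟨F, hF⟩ := Groth.Agent.S15416.result k n M ℳ
  refine ⟨F, hF, fun i hi => ?_⟩
  have h1 := Groth.Agent.S15436.result k n M ℳ F hF i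
  have h2 := isZero_tor_span_X (k := k) (σ := Fin (n + 1))
    (ModuleCat.of (MvPolynomial (Fin (n + 1)) k) M) Finset.univ i (by simpa using hi)
  rw [← irrel_eq_span] at h2
  haveI : Subsingleton (((Tor (ModuleCat.{u} (MvPolynomial (Fin (n + 1)) k)) i).obj
      (ModuleCat.of (MvPolynomial (Fin (n + 1)) k) ((MvPolynomial (Fin (n + 1)) k) ⧸
        (GrSyz.irrel (GrSyz.stdGr k (Fin (n + 1)))).toIdeal))).obj
      (ModuleCat.of (MvPolynomial (Fin (n + 1)) k) M)) :=
    ModuleCat.subsingleton_of_isZero h2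
  rw [Module.length_eq_zero] at h1
  exact_mod_cast h1.symm

end Groth.Agent.H19.HilbSyz
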