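import Mathlib
import Groth.Prelude.Def_CAlg
import Groth.Prelude.Def_GrSyz
import Groth.Agent.H19.GrAB
import Groth.Agent.H19.HilbSyz2
import Groth.Agent.H29.DepthMore
import Groth.Agent.H29.Depth
import Groth.Agent.S15427

set_option autoImplicit false
universe u

namespace Groth.Agent.H19.GrAB

open CategoryTheory Abelian RingTheory.Sequence Groth.Agent.H29

section poly

variable {k : Type u} [Field k] {σ : Type}

theorem nodup_getElem_notMem_take {α : Type*} (l : List α) (hl : l.Nodup) (i : ℕ) (hi : i < l.length) :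
    l[i] ∉ l.take i := by
  intro h
  rw [List.mem_take_iff_getElem] at h
  obtain ⟨j, hj, hji⟩ := h
  have hj' : j < i := lt_of_lt_of_le hj (min_le_left _ _)
  have := (List.Nodup.getElem_inj_iff hl).mp hji
  omega

theorem ofList_map_X (l : List σ) :
    Ideal.ofList (l.map (MvPolynomial.X (R := k))) =
      Ideal.span (MvPolynomial.X '' {c | c ∈ l} : Set (MvPolynomial σ k)) := by
  unfold Ideal.ofList
  congr 1
  ext p
  simp [List.mem_map]

theorem isWeaklyRegular_X (l : List σ) (hl : l.Nodup) :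
    IsWeaklyRegular (MvPolynomial σ k) (l.map (MvPolynomial.X (R := k))) := by
  refine ⟨fun i hi => ?_⟩
  rw [List.length_map] at hi
  rw [isSMulRegular_quotient_iff_mem_of_smul_mem]
  intro p hp
  rw [← List.map_take, ofList_map_X] at hp ⊢
  rw [smul_eq_mul, Ideal.mul_top] at hp ⊢
  rw [List.getElem_map, smul_eq_mul] at hp
  exact Groth.Agent.H19.HilbSyz.X_reg _ l[i] (nodup_getElem_notMem_take l hl i hi) p hp


variable (k) in
theorem irrel_eq_ofList (n : ℕ) :
    (GrSyz.irrel (GrSyz.stdGr k (Fin (n + 1)))).toIdeal =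
      Ideal.ofList ((List.finRange (n + 1)).map (MvPolynomial.X (R := k))) := by
  rw [ofList_map_X, Groth.Agent.H19.HilbSyz.irrel_eq_span]
  congr 2

variable (k) in
theorem idealDepth_irrel_self (n : ℕ) :
    LocCoh.idealDepth (GrSyz.irrel (GrSyz.stdGr k (Fin (n + 1)))).toIdeal
      (MvPolynomial (Fin (n + 1)) k) = ((n + 1 : ℕ) : ℕ∞) := by
  set S := MvPolynomial (Fin (n + 1)) k
  set 𝔪 := (GrSyz.irrel (GrSyz.stdGr k (Fin (n + 1)))).toIdeal with h𝔪
  set xs := (List.finRange (n + 1)).map (MvPolynomial.X (R := k)) with hxs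
  have h1 : (1 : S) ∉ 𝔪 := Groth.Agent.S15427.one_not_mem_irrel k (Fin (n + 1))
  have hI : 𝔪 • (⊤ : Submodule S S) ≠ ⊤ := by
    rw [smul_eq_mul, Ideal.mul_top]
    intro h
    exact h1 (h ▸ Submodule.mem_top)
  have hmem : ∀ x ∈ xs, x ∈ 𝔪 := by
    intro x hx
    rw [h𝔪, irrel_eq_ofList]
    exact Ideal.subset_span hx
  have hreg : IsWeaklyRegular S xs := isWeaklyRegular_X _ (List.nodup_finRange _)
  have h2 := idealDepth_quotient_ofList_add_length 𝔪 xs S hI hmem hreg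
  rw [← h2]
  have hlen : xs.length = n + 1 := by simp [hxs]
  rw [hlen]
  have h𝔪xs : 𝔪 = Ideal.ofList xs := irrel_eq_ofList k n
  have hkill : ∀ x ∈ 𝔪, ∀ q : S ⧸ Ideal.ofList xs • (⊤ : Submodule S S), x • q = 0 := by
    intro x hx q
    obtain ⟨p, rfl⟩ := Submodule.Quotient.mk_surjective _ q
    rw [← Submodule.Quotient.mk_smul, Submodule.Quotient.mk_eq_zero]
    exact Submodule.smul_mem_smul (h𝔪xs ▸ hx) trivial
  have hne : (Submodule.Quotient.mk 1 : S ⧸ Ideal.ofList xs • (⊤ : Submodule S S)) ≠ 0 := by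
    rw [Ne, Submodule.Quotient.mk_eq_zero, smul_eq_mul, Ideal.mul_top, ← h𝔪xs]
    exact h1
  have hQ : 𝔪 • (⊤ : Submodule S (S ⧸ Ideal.ofList xs • (⊤ : Submodule S S))) ≠ ⊤ := by
    intro h
    have h3 : (Submodule.Quotient.mk 1 : S ⧸ Ideal.ofList xs • (⊤ : Submodule S S)) ∈
        𝔪 • (⊤ : Submodule S (S ⧸ Ideal.ofList xs • (⊤ : Submodule S S))) := by
      rw [h]; trivial
    apply hne
    refine Submodule.smul_induction_on (p := fun q => q = 0) h3 ?_ ?_
    · intro x hx q _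
      exact hkill x hx q
    · intro a b ha hb
      rw [ha, hb, add_zero]
  have h0 : LocCoh.idealDepth 𝔪 (S ⧸ Ideal.ofList xs • (⊤ : Submodule S S)) = 0 := by
    rw [idealDepth_eq_zero_iff 𝔪 _ hQ]
    intro x hx hreg
    apply hne
    apply hreg
    show x • _ = x • _
    rw [hkill x hx, smul_zero]
  rw [h0, zero_add]


theorem graded_AB (n : ℕ)
    (M : Type u) [AddCommGroup M] [Module k M] [Module (MvPolynomial (Fin (n + 1)) k) M]
    [IsScalarTower k (MvPolynomial (Fin (n + 1)) k) M]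
    (ℳ : ℤ → Submodule k M) [DirectSum.Decomposition ℳ]
    [SetLike.GradedSMul (GrSyz.stdGr k (Fin (n + 1))) ℳ]
    (F : GrSyz.FreeRes (GrSyz.stdGr k (Fin (n + 1))) ℳ)
    (hF : F.IsMinimal (GrSyz.irrel (GrSyz.stdGr k (Fin (n + 1)))).toIdeal)
    (ℓ : ℕ) (hℓ : F.HasLengthLE ℓ) (hℓ' : F.rk ℓ ≠ 0) :
    (ℓ : ℕ∞) + LocCoh.idealDepth (GrSyz.irrel (GrSyz.stdGr k (Fin (n + 1)))).toIdeal M =
      ((n + 1 : ℕ) : ℕ∞) := by
  have h := chain (GrSyz.irrel (GrSyz.stdGr k (Fin (n + 1)))).toIdeal F.rk F.d F.exact_succ hF ℓ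
    hℓ hℓ' (n + 1) (idealDepth_irrel_self k n) ℓ 0 (by omega) M F.augLin F.aug_surjective
    F.exact_zero
  rw [add_comm]
  exact h

end poly

end Groth.Agent.H19.GrAB
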