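import Mathlib
import Groth.Prelude.Def_GrSyz
import Groth.Agent.H19.GrHilb
import Groth.Agent.H19.FreeResProj

set_option autoImplicit false
universe u

namespace Groth.Agent.H19.GrComp

open DirectSum Groth.Agent.H19.GrHilb

section general

variable {k : Type u} [Field k] {R : Type u} [CommRing R] [Algebra k R]
  (𝒜 : ℤ → Submodule k R) [GradedAlgebra 𝒜]
  {M : Type u} [AddCommGroup M] [Module k M] [Module R M] [IsScalarTower k R M]
  (ℳ : ℤ → Submodule k M) [DirectSum.Decomposition ℳ] [SetLike.GradedSMul 𝒜 ℳ]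

/-- A matrix is graded w.r.t. row degrees `deg₀` and column degrees `deg₁`. -/
def IsGr {n₀ n₁ : ℕ} (deg₀ : Fin n₀ → ℤ) (deg₁ : Fin n₁ → ℤ) (D : Matrix (Fin n₀) (Fin n₁) R) : Prop :=
  ∀ a b, D a b ∈ 𝒜 (deg₁ b - deg₀ a)

theorem IsGr.mul {n₀ n₁ n₂ : ℕ} {deg₀ : Fin n₀ → ℤ} {deg₁ : Fin n₁ → ℤ} {deg₂ : Fin n₂ → ℤ}
    {A : Matrix (Fin n₀) (Fin n₁) R} {B : Matrix (Fin n₁) (Fin n₂) R}
    (hA : IsGr 𝒜 deg₀ deg₁ A) (hB : IsGr 𝒜 deg₁ deg₂ B) : IsGr 𝒜 deg₀ deg₂ (A * B) := by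
  intro a c
  rw [Matrix.mul_apply]
  refine Submodule.sum_mem _ (fun b _ => ?_)
  have h : deg₂ c - deg₀ a = (deg₁ b - deg₀ a) + (deg₂ c - deg₁ b) := by ring
  rw [h]
  exact SetLike.mul_mem_graded (hA a b) (hB b c)

theorem col_mem_V {n₀ n₁ : ℕ} {deg₀ : Fin n₀ → ℤ} {deg₁ : Fin n₁ → ℤ}
    {A : Matrix (Fin n₀) (Fin n₁) R} (hA : IsGr 𝒜 deg₀ deg₁ A) (c : Fin n₁) :
    A.col c ∈ V 𝒜 deg₀ (deg₁ c) := by
  rw [mem_V]
  intro a
  exact hA a c

/-- ungraded lifting of a matrix through a matrix. -/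
theorem exists_lift {n₀ n₁ m : ℕ} (D : Matrix (Fin n₀) (Fin n₁) R) (N : Matrix (Fin n₀) (Fin m) R)
    (hN : ∀ v, N.mulVec v ∈ LinearMap.range (Matrix.mulVecLin D)) :
    ∃ h : Matrix (Fin n₁) (Fin m) R, D * h = N := by
  classical
  have h1 : ∀ c : Fin m, ∃ w : Fin n₁ → R, D.mulVec w = N.col c := by
    intro c
    obtain ⟨w, hw⟩ := hN (Pi.single c 1)
    refine ⟨w, ?_⟩
    rw [← Matrix.mulVec_single_one]
    exact hw
  choose w hw using h1
  refine ⟨Matrix.of (fun b c => w c b), ?_⟩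
  ext a c
  have := congrFun (hw c) a
  rw [Matrix.mul_apply]
  simpa [Matrix.mulVec, dotProduct] using this

/-- graded lifting of a graded matrix through a graded matrix. -/
theorem exists_gr_lift {n₀ n₁ m : ℕ} (deg₀ : Fin n₀ → ℤ) (deg₁ : Fin n₁ → ℤ) (degm : Fin m → ℤ)
    (D : Matrix (Fin n₀) (Fin n₁) R) (hD : IsGr 𝒜 deg₀ deg₁ D)
    (N : Matrix (Fin n₀) (Fin m) R) (hNg : IsGr 𝒜 deg₀ degm N)
    (hN : ∀ v, N.mulVec v ∈ LinearMap.range (Matrix.mulVecLin D)) :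
    ∃ P : Matrix (Fin n₁) (Fin m) R, IsGr 𝒜 deg₁ degm P ∧ D * P = N := by
  classical
  have h1 : ∀ c : Fin m, ∃ w : Fin n₁ → R, D.mulVec w = N.col c := by
    intro c
    obtain ⟨w, hw⟩ := hN (Pi.single c 1)
    refine ⟨w, ?_⟩
    rw [← Matrix.mulVec_single_one]
    exact hw
  choose w hw using h1
  refine ⟨Matrix.of (fun b c => projV 𝒜 deg₁ (degm c) (w c) b), ?_, ?_⟩
  · intro b c
    exact (mem_V 𝒜 deg₁ (degm c) _).mp (projV_mem 𝒜 deg₁ (degm c) (w c)) b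
  · ext a c
    have h2 := congrFun (mulVec_projV 𝒜 deg₀ deg₁ D hD (degm c) (w c)) a
    rw [hw c, projV_of_mem 𝒜 deg₀ (degm c) _ (col_mem_V 𝒜 hNg c)] at h2
    rw [Matrix.mul_apply]
    simpa [Matrix.mulVec, dotProduct] using h2

/-- graded lifting of homogeneous elements through a graded surjection. -/
theorem exists_gr_lift_aug {n m : ℕ} (deg : Fin n → ℤ) (degm : Fin m → ℤ)
    (aug : Fin n → M) (haug : ∀ b, aug b ∈ ℳ (deg b))
    (hsurj : Function.Surjective (Fintype.linearCombination R aug))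
    (x : Fin m → M) (hx : ∀ c, x c ∈ ℳ (degm c)) :
    ∃ P : Matrix (Fin n) (Fin m) R, IsGr 𝒜 deg degm P ∧
      ∀ c, Fintype.linearCombination R aug (P.col c) = x c := by
  classical
  choose w hw using fun c => hsurj (x c)
  refine ⟨Matrix.of (fun b c => projV 𝒜 deg (degm c) (w c) b), ?_, ?_⟩
  · intro b c
    exact (mem_V 𝒜 deg (degm c) _).mp (projV_mem 𝒜 deg (degm c) (w c)) b
  · intro c
    have h2 := linearCombination_projV 𝒜 ℳ deg aug haug (degm c) (w c)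
    rw [hw c, DirectSum.decompose_of_mem_same ℳ (hx c)] at h2
    exact h2

theorem linearCombination_mulVec {n m : ℕ} (aug : Fin n → M) (x : Fin m → M)
    (P : Matrix (Fin n) (Fin m) R)
    (hP : ∀ c, Fintype.linearCombination R aug (P.col c) = x c) (v : Fin m → R) :
    Fintype.linearCombination R aug (P.mulVec v) = Fintype.linearCombination R x v := by
  classical
  simp only [Fintype.linearCombination_apply] at hP ⊢
  simp only [Matrix.mulVec, dotProduct, Finset.sum_smul]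
  rw [Finset.sum_comm]
  refine Finset.sum_congr rfl (fun c _ => ?_)
  rw [← hP c, Finset.smul_sum]
  refine Finset.sum_congr rfl (fun b _ => ?_)
  simp only [Matrix.col_apply, smul_smul, mul_comm]

end general


section resolution

variable {k : Type u} [Field k] {R : Type u} [CommRing R] [Algebra k R]
  {𝒜 : ℤ → Submodule k R} [GradedAlgebra 𝒜]
  {M : Type u} [AddCommGroup M] [Module k M] [Module R M] [IsScalarTower k R M]
  {ℳ : ℤ → Submodule k M} [DirectSum.Decomposition ℳ] [SetLike.GradedSMul 𝒜 ℳ]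
  (F F' : GrSyz.FreeRes 𝒜 ℳ)

theorem d_mul_d (i : ℕ) : F.d i * F.d (i + 1) = 0 := by
  have h := FreeResProj.d_comp_d F i
  apply Matrix.toLin'.injective
  rw [Matrix.toLin'_mul]
  simpa [Matrix.toLin'_apply', GrSyz.FreeRes.dLin] using h

theorem aug_mulVec_d (v : Fin (F.rk 1) → R) : F.augLin ((F.d 0).mulVec v) = 0 := by
  have h := FreeResProj.aug_comp_d F
  exact LinearMap.congr_fun h v

theorem mem_range_of_mul_eq_zero (i : ℕ) {m : ℕ} (N : Matrix (Fin (F.rk (i + 1))) (Fin m) R)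
    (h : F.d i * N = 0) (v : Fin m → R) :
    N.mulVec v ∈ LinearMap.range (Matrix.mulVecLin (F.d (i + 1))) := by
  rw [← F.exact_succ i, LinearMap.mem_ker, Matrix.mulVecLin_apply, Matrix.mulVec_mulVec, h,
    Matrix.zero_mulVec]

theorem mem_range_of_aug_eq_zero {m : ℕ} (N : Matrix (Fin (F.rk 0)) (Fin m) R)
    (h : ∀ v, F.augLin (N.mulVec v) = 0) (v : Fin m → R) :
    N.mulVec v ∈ LinearMap.range (Matrix.mulVecLin (F.d 0)) := by
  rw [← F.exact_zero, LinearMap.mem_ker]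
  exact h v

theorem mul_mem_left {n₀ n₁ n₂ : ℕ} (𝔪 : Ideal R) (A : Matrix (Fin n₀) (Fin n₁) R)
    (B : Matrix (Fin n₁) (Fin n₂) R) (hA : ∀ a b, A a b ∈ 𝔪) (a : Fin n₀) (c : Fin n₂) :
    (A * B) a c ∈ 𝔪 := by
  rw [Matrix.mul_apply]
  exact Ideal.sum_mem _ (fun b _ => Ideal.mul_mem_right _ _ (hA a b))

theorem mul_mem_right {n₀ n₁ n₂ : ℕ} (𝔪 : Ideal R) (A : Matrix (Fin n₀) (Fin n₁) R)
    (B : Matrix (Fin n₁) (Fin n₂) R) (hB : ∀ a b, B a b ∈ 𝔪) (a : Fin n₀) (c : Fin n₂) :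
    (A * B) a c ∈ 𝔪 := by
  rw [Matrix.mul_apply]
  exact Ideal.sum_mem _ (fun b _ => Ideal.mul_mem_left _ _ (hB b c))

/-- The inductive statement. -/
def T (𝔪 : Ideal R) (i : ℕ) : Prop :=
  ∃ (P : Matrix (Fin (F'.rk i)) (Fin (F.rk i)) R) (Q : Matrix (Fin (F.rk i)) (Fin (F'.rk i)) R)
    (h : Matrix (Fin (F.rk (i + 1))) (Fin (F.rk i)) R),
    IsGr 𝒜 (F'.deg i) (F.deg i) P ∧ IsGr 𝒜 (F.deg i) (F'.deg i) Q ∧
    (∀ v, (P * F.d i).mulVec v ∈ LinearMap.range (Matrix.mulVecLin (F'.d i))) ∧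
    (∀ v, (Q * F'.d i).mulVec v ∈ LinearMap.range (Matrix.mulVecLin (F.d i))) ∧
    (Q * P - 1 - F.d i * h) * F.d i = 0 ∧
    ∀ a b, (Q * P - 1 : Matrix _ _ R) a b ∈ 𝔪

theorem T_zero (𝔪 : Ideal R) (hF : F.IsMinimal 𝔪) : T F F' 𝔪 0 := by
  obtain ⟨P, hPg, hP⟩ := exists_gr_lift_aug 𝒜 ℳ (F'.deg 0) (F.deg 0) F'.aug F'.aug_mem
    F'.aug_surjective F.aug F.aug_mem
  obtain ⟨Q, hQg, hQ⟩ := exists_gr_lift_aug 𝒜 ℳ (F.deg 0) (F'.deg 0) F.aug F.aug_mem
    F.aug_surjective F'.aug F'.aug_mem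
  have hP' := linearCombination_mulVec F'.aug F.aug P hP
  have hQ' := linearCombination_mulVec F.aug F'.aug Q hQ
  have hg : ∀ v, F.augLin ((Q * P - 1).mulVec v) = 0 := by
    intro v
    rw [Matrix.sub_mulVec, map_sub, Matrix.one_mulVec, ← Matrix.mulVec_mulVec]
    change Fintype.linearCombination R F.aug _ - Fintype.linearCombination R F.aug _ = 0
    rw [hQ', hP', sub_self]
  obtain ⟨h, hh⟩ := exists_lift (F.d 0) (Q * P - 1) (mem_range_of_aug_eq_zero F _ hg)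
  refine ⟨P, Q, h, hPg, hQg, ?_, ?_, ?_, ?_⟩
  · refine mem_range_of_aug_eq_zero F' _ (fun v => ?_)
    rw [← Matrix.mulVec_mulVec]
    change Fintype.linearCombination R F'.aug _ = 0
    rw [hP']
    exact aug_mulVec_d F v
  · refine mem_range_of_aug_eq_zero F _ (fun v => ?_)
    rw [← Matrix.mulVec_mulVec]
    change Fintype.linearCombination R F.aug _ = 0
    rw [hQ']
    exact aug_mulVec_d F' v
  · rw [hh, sub_self, Matrix.zero_mul]
  · intro a b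
    rw [← hh]
    exact mul_mem_left 𝔪 _ _ (hF 0) a b

theorem T_succ (𝔪 : Ideal R) (hF : F.IsMinimal 𝔪) (i : ℕ) (hi : T F F' 𝔪 i) : T F F' 𝔪 (i + 1) := by
  obtain ⟨P, Q, h, hPg, hQg, hPr, hQr, hh, -⟩ := hi
  obtain ⟨P', hP'g, hP'⟩ := exists_gr_lift 𝒜 (F'.deg i) (F'.deg (i + 1)) (F.deg (i + 1)) (F'.d i)
    (F'.d_mem i) (P * F.d i) (hPg.mul 𝒜 (F.d_mem i)) hPr
  obtain ⟨Q', hQ'g, hQ'⟩ := exists_gr_lift 𝒜 (F.deg i) (F.deg (i + 1)) (F'.deg (i + 1)) (F.d i)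
    (F.d_mem i) (Q * F'.d i) (hQg.mul 𝒜 (F'.d_mem i)) hQr
  have hg : F.d i * (Q' * P' - 1) = (Q * P - 1) * F.d i := by
    rw [Matrix.mul_sub, Matrix.mul_one, ← Matrix.mul_assoc, hQ', Matrix.mul_assoc, hP',
      Matrix.sub_mul, Matrix.one_mul, Matrix.mul_assoc]
  have hker : F.d i * (Q' * P' - 1 - h * F.d i) = 0 := by
    rw [Matrix.mul_sub, hg, ← Matrix.mul_assoc, ← Matrix.sub_mul]
    exact hh
  obtain ⟨h', hh'⟩ := exists_lift (F.d (i + 1)) (Q' * P' - 1 - h * F.d i)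
    (mem_range_of_mul_eq_zero F i _ hker)
  refine ⟨P', Q', h', hP'g, hQ'g, ?_, ?_, ?_, ?_⟩
  · refine mem_range_of_mul_eq_zero F' i _ ?_
    rw [← Matrix.mul_assoc, hP', Matrix.mul_assoc, d_mul_d, Matrix.mul_zero]
  · refine mem_range_of_mul_eq_zero F i _ ?_
    rw [← Matrix.mul_assoc, hQ', Matrix.mul_assoc, d_mul_d, Matrix.mul_zero]
  · rw [hh']
    have : Q' * P' - 1 - (Q' * P' - 1 - h * F.d i) = h * F.d i := by abel
    rw [this, Matrix.mul_assoc, d_mul_d, Matrix.mul_zero]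
  · intro a b
    have : Q' * P' - 1 = F.d (i + 1) * h' + h * F.d i := by rw [hh']; abel
    rw [this, Matrix.add_apply]
    exact 𝔪.add_mem (mul_mem_left 𝔪 _ _ (hF (i + 1)) a b) (mul_mem_right 𝔪 _ _ (hF i) a b)

theorem T_all (𝔪 : Ideal R) (hF : F.IsMinimal 𝔪) (i : ℕ) : T F F' 𝔪 i := by
  induction i with
  | zero => exact T_zero F F' 𝔪 hF
  | succ i ih => exact T_succ F F' 𝔪 hF i ih

/-- comparison of a minimal resolution with any resolution: graded maps both ways whose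
composite is the identity modulo `𝔪`. -/
theorem exists_comparison (𝔪 : Ideal R) (hF : F.IsMinimal 𝔪) (i : ℕ) :
    ∃ (P : Matrix (Fin (F'.rk i)) (Fin (F.rk i)) R) (Q : Matrix (Fin (F.rk i)) (Fin (F'.rk i)) R),
      IsGr 𝒜 (F'.deg i) (F.deg i) P ∧ IsGr 𝒜 (F.deg i) (F'.deg i) Q ∧
      ∀ a b, (Q * P - 1 : Matrix _ _ R) a b ∈ 𝔪 := by
  obtain ⟨P, Q, -, hP, hQ, -, -, -, hm⟩ := T_all F F' 𝔪 hF i
  exact ⟨P, Q, hP, hQ, hm⟩

end resolution

end Groth.Agent.H19.GrComp
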