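import Mathlib
import Groth.Prelude.Def_GrSyz
import Groth.Agent.H19.GrComp

set_option autoImplicit false
universe u

namespace Groth.Agent.H19.GrComp

open DirectSum Groth.Agent.H19.GrHilb

section linalg

variable {k : Type u} [Field k]

theorem card_le_of_blocks {r r' : ℕ} (deg : Fin r → ℤ) (deg' : Fin r' → ℤ)
    (P : Matrix (Fin r') (Fin r) k) (Q : Matrix (Fin r) (Fin r') k)
    (hP : ∀ a b, deg b ≠ deg' a → P a b = 0) (hQP : Q * P = 1) (j : ℤ) :
    (Finset.univ.filter fun b : Fin r => deg b = j).card ≤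
      (Finset.univ.filter fun a : Fin r' => deg' a = j).card := by
  classical
  rw [← Fintype.card_subtype, ← Fintype.card_subtype]
  set Pj : Matrix {a : Fin r' // deg' a = j} {b : Fin r // deg b = j} k :=
    P.submatrix Subtype.val Subtype.val with hPj
  set Qj : Matrix {b : Fin r // deg b = j} {a : Fin r' // deg' a = j} k :=
    Q.submatrix Subtype.val Subtype.val with hQj
  have h1 : Qj * Pj = 1 := by
    ext b b'
    rw [Matrix.mul_apply]
    have h2 : (Q * P) b.1 b'.1 = (1 : Matrix (Fin r) (Fin r) k) b.1 b'.1 := by rw [hQP]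
    rw [Matrix.mul_apply] at h2
    have h3 : ∑ a : Fin r', Q b.1 a * P a b'.1 =
        ∑ a ∈ Finset.univ.filter (fun a : Fin r' => deg' a = j), Q b.1 a * P a b'.1 := by
      rw [Finset.sum_filter]
      refine Finset.sum_congr rfl (fun a _ => ?_)
      split_ifs with ha
      · rfl
      · rw [hP a b'.1 (by rw [b'.2]; exact fun h => ha h.symm), mul_zero]
    rw [h3, ← Finset.sum_subtype_eq_sum_filter] at h2
    simp only [hPj, hQj, Matrix.submatrix_apply]
    rw [Finset.subtype_univ] at h2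
    rw [h2, Matrix.one_apply, Matrix.one_apply]
    simp only [Subtype.ext_iff]
  have hinj : Function.Injective (Matrix.mulVecLin Pj) := by
    intro v w hvw
    have := congrArg (Matrix.mulVecLin Qj) hvw
    simpa [Matrix.mulVec_mulVec, h1] using this
  have := LinearMap.finrank_le_finrank_of_injective hinj
  simpa using this

end linalg


section poly

variable {k : Type u} [Field k] (r : ℕ)

theorem constantCoeff_eq_zero_of_mem_stdGr {e : ℤ} (he : e ≠ 0)
    {p : MvPolynomial (Fin (r + 1)) k} (hp : p ∈ GrSyz.stdGr k (Fin (r + 1)) e) :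
    MvPolynomial.constantCoeff p = 0 := by
  rw [GrSyz.mem_stdGr_iff] at hp
  by_contra h
  rw [MvPolynomial.constantCoeff_eq] at h
  have := hp h
  simp at this
  exact he this.symm

theorem constantCoeff_eq_zero_of_mem_irrel
    {p : MvPolynomial (Fin (r + 1)) k}
    (hp : p ∈ (GrSyz.irrel (GrSyz.stdGr k (Fin (r + 1)))).toIdeal) :
    MvPolynomial.constantCoeff p = 0 := by
  have h1 : (GrSyz.irrel (GrSyz.stdGr k (Fin (r + 1)))).toIdeal ≤
      RingHom.ker (MvPolynomial.constantCoeff (R := k) (σ := Fin (r + 1))) := by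
    change Ideal.span _ ≤ _
    rw [Ideal.span_le]
    rintro q ⟨n, hn, hq⟩
    exact constantCoeff_eq_zero_of_mem_stdGr r (ne_of_gt hn) hq
  exact h1 hp

variable {M : Type u} [AddCommGroup M] [Module k M] [Module (MvPolynomial (Fin (r + 1)) k) M]
  [IsScalarTower k (MvPolynomial (Fin (r + 1)) k) M]
  {ℳ : ℤ → Submodule k M} [DirectSum.Decomposition ℳ]
  [SetLike.GradedSMul (GrSyz.stdGr k (Fin (r + 1))) ℳ]
  (F F' : GrSyz.FreeRes (GrSyz.stdGr k (Fin (r + 1))) ℳ)

theorem betti_le (hF : F.IsMinimal (GrSyz.irrel (GrSyz.stdGr k (Fin (r + 1)))).toIdeal)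
    (i : ℕ) (j : ℤ) : F.betti i j ≤ F'.betti i j := by
  obtain ⟨P, Q, hP, hQ, hm⟩ := exists_comparison F F' _ hF i
  have hQP : (Q.map MvPolynomial.constantCoeff) * (P.map MvPolynomial.constantCoeff) = 1 := by
    rw [← Matrix.map_mul]
    ext a b
    have h1 := constantCoeff_eq_zero_of_mem_irrel r (hm a b)
    rw [Matrix.sub_apply, map_sub, sub_eq_zero] at h1
    rw [Matrix.map_apply, h1, Matrix.one_apply, Matrix.one_apply]
    split_ifs <;> simp
  exact card_le_of_blocks (F.deg i) (F'.deg i) _ _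
    (fun a b hab => constantCoeff_eq_zero_of_mem_stdGr r (sub_ne_zero.mpr hab) (hP a b)) hQP j

theorem betti_eq (hF : F.IsMinimal (GrSyz.irrel (GrSyz.stdGr k (Fin (r + 1)))).toIdeal)
    (hF' : F'.IsMinimal (GrSyz.irrel (GrSyz.stdGr k (Fin (r + 1)))).toIdeal)
    (i : ℕ) (j : ℤ) : F.betti i j = F'.betti i j :=
  le_antisymm (betti_le r F F' hF i j) (betti_le r F' F hF' i j)

end poly

end Groth.Agent.H19.GrComp
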