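import Mathlib

/-!
# The quotient of a graded algebra by a homogeneous ideal is a graded module (any index type)
(adapted from H21/GrQuot, which is for `ℕ`-gradings)
-/

set_option autoImplicit false

namespace Groth.Agent.H19.GrQuotZ

open DirectSum

variable {ι : Type*} [DecidableEq ι] [AddMonoid ι]
variable {R A : Type*} [CommRing R] [CommRing A] [Algebra R A]
variable (𝒜 : ι → Submodule R A) [GradedAlgebra 𝒜] (J : Ideal A)

/-- The induced grading on the quotient. -/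
def quotGrading (d : ι) : Submodule R (A ⧸ J) :=
  (𝒜 d).map (Ideal.Quotient.mkₐ R J).toLinearMap

omit [DecidableEq ι] [AddMonoid ι] [GradedAlgebra 𝒜] in
lemma mem_quotGrading {d : ι} {x : A ⧸ J} :
    x ∈ quotGrading 𝒜 J d ↔ ∃ a ∈ 𝒜 d, Ideal.Quotient.mk J a = x := by
  unfold quotGrading
  rw [Submodule.mem_map]
  rfl

omit [DecidableEq ι] [AddMonoid ι] [GradedAlgebra 𝒜] in
lemma mk_mem_quotGrading {d : ι} {a : A} (ha : a ∈ 𝒜 d) :
    Ideal.Quotient.mk J a ∈ quotGrading 𝒜 J d :=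
  (mem_quotGrading 𝒜 J).2 ⟨a, ha, rfl⟩

/-- the componentwise quotient maps -/
def compMap (d : ι) : 𝒜 d →ₗ[R] quotGrading 𝒜 J d :=
  ((Ideal.Quotient.mkₐ R J).toLinearMap.domRestrict (𝒜 d)).codRestrict (quotGrading 𝒜 J d)
    (fun a => mk_mem_quotGrading 𝒜 J a.2)

omit [DecidableEq ι] [AddMonoid ι] [GradedAlgebra 𝒜] in
lemma compMap_coe (d : ι) (a : 𝒜 d) : (compMap 𝒜 J d a : A ⧸ J) = Ideal.Quotient.mk J (a : A) := rfl

/-- the decomposition map before passing to the quotient -/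
noncomputable def decAux : A →ₗ[R] ⨁ d, quotGrading 𝒜 J d :=
  (DirectSum.lmap (compMap 𝒜 J)) ∘ₗ (decomposeLinearEquiv 𝒜).toLinearMap

lemma decAux_of_mem {d : ι} {a : A} (ha : a ∈ 𝒜 d) :
    decAux 𝒜 J a = DirectSum.of (fun d => quotGrading 𝒜 J d) d
      ⟨Ideal.Quotient.mk J a, mk_mem_quotGrading 𝒜 J ha⟩ := by
  unfold decAux
  rw [LinearMap.comp_apply, LinearEquiv.coe_coe, decomposeLinearEquiv_apply,
    DirectSum.decompose_of_mem 𝒜 ha, DirectSum.lmap_of]
  rfl

lemma coe_decAux (a : A) :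
    DirectSum.coeLinearMap (quotGrading 𝒜 J) (decAux 𝒜 J a) = Ideal.Quotient.mk J a := by
  have h : (DirectSum.coeLinearMap (quotGrading 𝒜 J)) ∘ₗ (DirectSum.lmap (compMap 𝒜 J))
      = (Ideal.Quotient.mkₐ R J).toLinearMap ∘ₗ (DirectSum.coeLinearMap 𝒜) := by
    apply DirectSum.linearMap_ext
    intro d
    ext a
    simp [compMap_coe]
  unfold decAux
  have := LinearMap.congr_fun h (decomposeLinearEquiv 𝒜 a)
  simp only [LinearMap.comp_apply] at this
  rw [LinearMap.comp_apply, LinearEquiv.coe_coe, this]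
  have h2 : (coeLinearMap 𝒜) ((decomposeLinearEquiv 𝒜) a) = a :=
    Decomposition.left_inv (ℳ := 𝒜) a
  rw [h2]
  rfl

variable {𝒜 J}

lemma decAux_eq_zero (hJ : J.IsHomogeneous 𝒜) {a : A} (ha : a ∈ J) : decAux 𝒜 J a = 0 := by
  unfold decAux
  rw [LinearMap.comp_apply, LinearEquiv.coe_coe, decomposeLinearEquiv_apply]
  ext d
  rw [DirectSum.lmap_apply, compMap_coe]
  simp only [DirectSum.zero_apply, ZeroMemClass.coe_zero]
  exact Ideal.Quotient.eq_zero_iff_mem.2 (hJ d ha)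

/-- the decomposition map of the quotient -/
noncomputable def dec (hJ : J.IsHomogeneous 𝒜) : (A ⧸ J) →+ ⨁ d, quotGrading 𝒜 J d :=
  QuotientAddGroup.lift J.toAddSubgroup (decAux 𝒜 J).toAddMonoidHom
    (fun a ha => decAux_eq_zero hJ ha)

lemma dec_mk (hJ : J.IsHomogeneous 𝒜) (a : A) :
    dec hJ (Ideal.Quotient.mk J a) = decAux 𝒜 J a := rfl

/-- The quotient of a graded algebra by a homogeneous ideal is graded. -/
@[instance_reducible]
noncomputable def decomposition (hJ : J.IsHomogeneous 𝒜) :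
    DirectSum.Decomposition (quotGrading 𝒜 J) :=
  Decomposition.ofAddHom (quotGrading 𝒜 J) (dec hJ)
      (by
        ext x
        obtain ⟨a, rfl⟩ := Ideal.Quotient.mk_surjective x
        rw [AddMonoidHom.comp_apply, dec_mk]
        exact coe_decAux 𝒜 J a)
      (by
        apply DirectSum.addHom_ext
        intro d ⟨y, hy⟩
        obtain ⟨a, ha, rfl⟩ := (mem_quotGrading 𝒜 J).1 hy
        rw [AddMonoidHom.comp_apply, DirectSum.coeAddMonoidHom_of]
        simp only []
        rw [dec_mk, decAux_of_mem 𝒜 J ha]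
        rfl)

variable (𝒜 J)

theorem gradedSMul : SetLike.GradedSMul 𝒜 (quotGrading 𝒜 J) where
  smul_mem := by
    intro i j a m ha hm
    obtain ⟨b, hb, rfl⟩ := (mem_quotGrading 𝒜 J).1 hm
    refine (mem_quotGrading 𝒜 J).2 ⟨a * b, SetLike.GradedMul.mul_mem ha hb, ?_⟩
    rfl

end Groth.Agent.H19.GrQuotZ
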