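import Mathlib
import Groth.Prelude.Def_GrSyz
import Groth.Agent.H19.GrComp2

set_option autoImplicit false
universe u

namespace Groth.Agent.H19.GrComp

theorem eq_bot_of_forall_le (X : WithBot (WithTop ℤ))
    (h : ∀ s : ℤ, X ≤ ((s : WithTop ℤ) : WithBot (WithTop ℤ))) : X = ⊥ := by
  induction X using WithBot.recBotCoe with
  | bot => rfl
  | coe x =>
    exfalso
    induction x using WithTop.recTopCoe with
    | top =>
      have := h 0
      rw [WithBot.coe_le_coe] at this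
      simp at this
    | coe n =>
      have := h (n - 1)
      rw [WithBot.coe_le_coe, WithTop.coe_le_coe] at this
      omega

theorem map_le_iff (x : WithBot ℤ) (i s : ℤ) :
    WithBot.map (fun t : ℤ => ((t - i : ℤ) : WithTop ℤ)) x ≤ ((s : WithTop ℤ) : WithBot (WithTop ℤ)) ↔
      x ≤ ((s + i : ℤ) : WithBot ℤ) := by
  induction x using WithBot.recBotCoe with
  | bot => simp
  | coe t =>
    rw [WithBot.map_coe, WithBot.coe_le_coe, WithTop.coe_le_coe, WithBot.coe_le_coe]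
    omega

section poly

variable {k : Type u} [Field k] (r : ℕ)
variable {M : Type u} [AddCommGroup M] [Module k M] [Module (MvPolynomial (Fin (r + 1)) k) M]
  [IsScalarTower k (MvPolynomial (Fin (r + 1)) k) M]
  {ℳ : ℤ → Submodule k M} [DirectSum.Decomposition ℳ]
  [SetLike.GradedSMul (GrSyz.stdGr k (Fin (r + 1))) ℳ]
  (F F' : GrSyz.FreeRes (GrSyz.stdGr k (Fin (r + 1))) ℳ)

theorem isGenLE_of_isGenLE (hF : F.IsMinimal (GrSyz.irrel (GrSyz.stdGr k (Fin (r + 1)))).toIdeal)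
    (hF' : F'.IsMinimal (GrSyz.irrel (GrSyz.stdGr k (Fin (r + 1)))).toIdeal)
    (s : ℤ) (h : F'.IsGenLE s) : F.IsGenLE s := by
  intro i b
  have h1 : 0 < F.betti i (F.deg i b) := by
    unfold GrSyz.FreeRes.betti
    rw [Finset.card_pos]
    exact ⟨b, by simp⟩
  rw [betti_eq r F F' hF hF'] at h1
  unfold GrSyz.FreeRes.betti at h1
  rw [Finset.card_pos] at h1
  obtain ⟨b', hb'⟩ := h1
  rw [Finset.mem_filter] at hb'
  rw [← hb'.2]
  exact h i b'

theorem isRegLE_iff (hF : F.IsMinimal (GrSyz.irrel (GrSyz.stdGr k (Fin (r + 1)))).toIdeal) (s : ℤ) :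
    GrSyz.IsRegLE (GrSyz.stdGr k (Fin (r + 1))) ℳ
      (GrSyz.irrel (GrSyz.stdGr k (Fin (r + 1)))).toIdeal s ↔ F.IsGenLE s := by
  constructor
  · rintro ⟨F', hF', hg⟩
    exact isGenLE_of_isGenLE r F F' hF hF' s hg
  · intro h
    exact ⟨F, hF, h⟩

theorem iSup_le_iff_isGenLE (s : ℤ) :
    (⨆ i : ℕ, WithBot.map (fun t : ℤ => ((t - (i : ℤ) : ℤ) : WithTop ℤ)) (F.maxGenDeg i)) ≤
      ((s : WithTop ℤ) : WithBot (WithTop ℤ)) ↔ F.IsGenLE s := by
  rw [iSup_le_iff]
  refine forall_congr' (fun i => ?_)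
  rw [map_le_iff]
  unfold GrSyz.FreeRes.maxGenDeg
  rw [Finset.sup_le_iff]
  simp only [Finset.mem_univ, true_implies, WithBot.coe_le_coe]

theorem reg_eq (hF : F.IsMinimal (GrSyz.irrel (GrSyz.stdGr k (Fin (r + 1)))).toIdeal) :
    GrSyz.reg (GrSyz.stdGr k (Fin (r + 1))) ℳ (GrSyz.irrel (GrSyz.stdGr k (Fin (r + 1)))).toIdeal =
      ⨆ i : ℕ, WithBot.map (fun t : ℤ => ((t - (i : ℤ) : ℤ) : WithTop ℤ)) (F.maxGenDeg i) := by
  unfold GrSyz.reg
  simp only [isRegLE_iff r F hF]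
  set a := ⨆ i : ℕ, WithBot.map (fun t : ℤ => ((t - (i : ℤ) : ℤ) : WithTop ℤ)) (F.maxGenDeg i)
    with ha
  have key : ∀ s : ℤ, a ≤ ((s : WithTop ℤ) : WithBot (WithTop ℤ)) ↔ F.IsGenLE s :=
    iSup_le_iff_isGenLE r F
  apply le_antisymm
  · -- reg ≤ a
    induction hx : a using WithBot.recBotCoe with
    | bot =>
      have h1 : ∀ s : ℤ, F.IsGenLE s := fun s => (key s).mp (by rw [hx]; exact bot_le)
      rw [le_bot_iff]
      apply eq_bot_of_forall_le
      intro s
      exact iInf₂_le s (h1 s)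
    | coe x =>
      induction x using WithTop.recTopCoe with
      | top => exact le_top
      | coe n =>
        have h1 : F.IsGenLE n := (key n).mp (by rw [hx])
        exact iInf₂_le n h1
  · exact le_iInf₂ (fun s hs => (key s).mpr hs)

end poly

end Groth.Agent.H19.GrComp
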