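import Mathlib
import Groth.Agent.S15431
import Groth.Agent.S15427
import Groth.Agent.H19.GrHilb
import Groth.Prelude.Def_GrLC

set_option autoImplicit false
universe u

namespace Groth.Agent.H19.HBCyc

open GrSyz

section grsurj

variable {k : Type u} [Field k] {R : Type u} [CommRing R] [Algebra k R]
  {𝒜 : ℤ → Submodule k R} [GradedAlgebra 𝒜]
  {M : Type u} [AddCommGroup M] [Module k M] [Module R M] [IsScalarTower k R M]
  {ℳ : ℤ → Submodule k M} [DirectSum.Decomposition ℳ] [SetLike.GradedSMul 𝒜 ℳ]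

theorem map_decompose (π : R →ₗ[R] M) (hπg : GrLC.IsGrHom 𝒜 ℳ π) (s : R) (d : ℤ) :
    ((DirectSum.decompose ℳ (π s) d : ℳ d) : M) = π (DirectSum.decompose 𝒜 s d : R) := by
  classical
  have h1 : π s = ∑ j ∈ (DirectSum.decompose 𝒜 s).support, π (DirectSum.decompose 𝒜 s j : R) := by
    conv_lhs => rw [← DirectSum.sum_support_decompose 𝒜 s]
    rw [map_sum]
  rw [h1, DirectSum.decompose_sum, DFinsupp.finset_sum_apply, AddSubmonoidClass.coe_finset_sum]
  by_cases hd : d ∈ (DirectSum.decompose 𝒜 s).support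
  · rw [Finset.sum_eq_single_of_mem d hd]
    · exact DirectSum.decompose_of_mem_same ℳ (hπg d _ (SetLike.coe_mem _))
    · intro j _ hj
      exact DirectSum.decompose_of_mem_ne ℳ (hπg j _ (SetLike.coe_mem _)) hj
  · rw [DFinsupp.notMem_support_iff] at hd
    rw [hd, ZeroMemClass.coe_zero, map_zero]
    refine Finset.sum_eq_zero (fun j hj => ?_)
    have hjd : j ≠ d := by
      rintro rfl
      exact (DFinsupp.mem_support_iff.mp hj) hd
    exact DirectSum.decompose_of_mem_ne ℳ (hπg j _ (SetLike.coe_mem _)) hjd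

theorem exists_mem_of_surjective (π : R →ₗ[R] M) (hπ : Function.Surjective π)
    (hπg : GrLC.IsGrHom 𝒜 ℳ π) (d : ℤ) (m : M) (hm : m ∈ ℳ d) : ∃ s ∈ 𝒜 d, π s = m := by
  obtain ⟨s, rfl⟩ := hπ m
  refine ⟨(DirectSum.decompose 𝒜 s d : R), SetLike.coe_mem _, ?_⟩
  rw [← map_decompose π hπg s d]
  exact DirectSum.decompose_of_mem_same ℳ hm

end grsurj

section cyclic

variable {k : Type u} [Field k] (r : ℕ)
  {M : Type u} [AddCommGroup M] [Module k M] [Module (MvPolynomial (Fin (r + 1)) k) M]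
  [IsScalarTower k (MvPolynomial (Fin (r + 1)) k) M]
  {ℳ : ℤ → Submodule k M} [DirectSum.Decomposition ℳ]
  [SetLike.GradedSMul (GrSyz.stdGr k (Fin (r + 1))) ℳ]

theorem deg_eq_zero_of_unit (s : MvPolynomial (Fin (r + 1)) k) (j : ℤ)
    (hs : s ∈ GrSyz.stdGr k (Fin (r + 1)) j)
    (hsm : s ∉ (GrSyz.irrel (GrSyz.stdGr k (Fin (r + 1)))).toIdeal) : j = 0 := by
  have hj : ¬ 0 < j := fun hj => hsm (Ideal.subset_span ⟨j, hj, hs⟩)
  have hs0 : s ≠ 0 := fun h => hsm (h ▸ zero_mem _)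
  obtain ⟨d, hd⟩ := MvPolynomial.ne_zero_iff.mp hs0
  have hs' : s.IsWeightedHomogeneous (fun _ : Fin (r + 1) => (1 : ℤ)) j := hs
  have h1 := hs' hd
  rw [Groth.Agent.H19.GrHilb.weight_one_eq] at h1
  omega

theorem rk_zero_eq_one (π : MvPolynomial (Fin (r + 1)) k →ₗ[MvPolynomial (Fin (r + 1)) k] M)
    (hπ : Function.Surjective π)
    (hπg : GrLC.IsGrHom (GrSyz.stdGr k (Fin (r + 1))) ℳ π)
    (hker : LinearMap.ker π ≤ (GrSyz.irrel (GrSyz.stdGr k (Fin (r + 1)))).toIdeal)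
    (F : GrSyz.FreeRes (GrSyz.stdGr k (Fin (r + 1))) ℳ)
    (hF : F.IsMinimal (GrSyz.irrel (GrSyz.stdGr k (Fin (r + 1)))).toIdeal) :
    F.rk 0 = 1 ∧ ∀ b, F.deg 0 b = 0 := by
  classical
  haveI : Module.Finite (MvPolynomial (Fin (r + 1)) k) M := Module.Finite.of_surjective π hπ
  have hirr := ((Groth.Agent.S15427.result k r M ℳ F).mp hF).1
  set u : M := π 1 with hu
  choose s hs hπs using fun b => exists_mem_of_surjective π hπ hπg (F.deg 0 b) (F.aug b) (F.aug_mem b)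
  have haug : ∀ b, F.aug b = s b • u := by
    intro b
    rw [hu, ← map_smul, smul_eq_mul, mul_one, hπs]
  obtain ⟨c, hc⟩ := F.aug_surjective u
  rw [Fintype.linearCombination_apply] at hc
  have h1 : (1 - ∑ b, c b * s b) ∈ LinearMap.ker π := by
    rw [LinearMap.mem_ker, map_sub, ← hu, sub_eq_zero, map_sum, ← hc]
    refine Finset.sum_congr rfl (fun b _ => ?_)
    rw [← smul_eq_mul, map_smul, hπs]
  have h2 : ∃ b₀, s b₀ ∉ (GrSyz.irrel (GrSyz.stdGr k (Fin (r + 1)))).toIdeal := by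
    by_contra hcon
    push Not at hcon
    have h3 : ∑ b, c b * s b ∈ (GrSyz.irrel (GrSyz.stdGr k (Fin (r + 1)))).toIdeal :=
      Ideal.sum_mem _ (fun b _ => Ideal.mul_mem_left _ _ (hcon b))
    have h4 := Ideal.add_mem _ (hker h1) h3
    rw [sub_add_cancel] at h4
    exact Groth.Agent.S15427.one_not_mem_irrel k _ h4
  obtain ⟨b₀, hb₀⟩ := h2
  obtain ⟨v, hv⟩ := Groth.Agent.S15427.isUnit_of_mem_stdGr_of_not_mem_irrel k _ _ _ (hs b₀) hb₀
  have hu' : u = (↑v⁻¹ : MvPolynomial (Fin (r + 1)) k) • F.aug b₀ := by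
    rw [haug b₀, smul_smul, ← hv, Units.inv_mul, one_smul]
  have hall : ∀ b, b = b₀ := by
    intro b
    by_contra hne
    apply hirr b
    rw [haug b, hu', smul_smul]
    exact Submodule.smul_mem _ _ (Submodule.subset_span ⟨b₀, fun h => hne h.symm, rfl⟩)
  constructor
  · have : Fintype.card (Fin (F.rk 0)) = 1 := Fintype.card_eq_one_iff.mpr ⟨b₀, hall⟩
    simpa using this
  · intro b
    rw [hall b]
    exact deg_eq_zero_of_unit r (s b₀) _ (hs b₀) hb₀

end cyclic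

end Groth.Agent.H19.HBCyc
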