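import Mathlib
import Groth.Agent.H29.DepthMore

set_option autoImplicit false
universe u

namespace Groth.Agent.H19.HBMat

open Matrix Pointwise

section general

variable {R : Type u} [CommRing R]

/-- An injective matrix cannot have a set of columns supported on a smaller set of rows. -/
theorem card_le_of_zero_block [Nontrivial R] {α β : Type*} [Fintype α] [Fintype β]
    [DecidableEq α] [DecidableEq β]
    (Ψ : Matrix α β R) (hinj : Function.Injective Ψ.mulVecLin) (Rw : Finset α) (C : Finset β)
    (h0 : ∀ a, a ∉ Rw → ∀ b ∈ C, Ψ a b = 0) : C.card ≤ Rw.card := by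
  classical
  set g : (C → R) →ₗ[R] (Rw → R) :=
    (Ψ.submatrix (Subtype.val : Rw → α) (Subtype.val : C → β)).mulVecLin with hg
  have hginj : Function.Injective g := by
    rw [injective_iff_map_eq_zero]
    intro v hv
    set w : β → R := fun b => if h : b ∈ C then v ⟨b, h⟩ else 0 with hw
    have hsum : ∀ a, (Ψ.mulVec w) a = ∑ c : C, Ψ a c.1 * v c := by
      intro a
      change ∑ b, Ψ a b * w b = _
      have h1 : ∑ b, Ψ a b * w b = ∑ b ∈ C, Ψ a b * w b := by
        symm
        refine Finset.sum_subset (Finset.subset_univ _) (fun b _ hb => ?_)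
        simp only [hw, dif_neg hb, mul_zero]
      rw [h1, ← Finset.sum_coe_sort C]
      refine Finset.sum_congr rfl (fun c _ => ?_)
      simp only [hw, dif_pos c.2]
    have hΨw : Ψ.mulVecLin w = 0 := by
      funext a
      rw [Matrix.mulVecLin_apply, hsum]
      by_cases ha : a ∈ Rw
      · have := congrFun hv ⟨a, ha⟩
        rw [hg, Matrix.mulVecLin_apply] at this
        exact this
      · exact Finset.sum_eq_zero (fun c _ => by rw [h0 a ha c.1 c.2, zero_mul])
    have hw0 : w = 0 := hinj (hΨw.trans (map_zero _).symm)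
    funext c
    have := congrFun hw0 c.1
    simp only [hw, dif_pos c.2] at this
    exact this
  have := card_le_of_injective R g hginj
  simpa using this

/-- If a matrix over a domain has a nonzero kernel vector, then all its maximal minors vanish. -/
theorem det_submatrix_eq_zero_of_mulVec_eq_zero [IsDomain R] {α : Type*} [Fintype α] {t : ℕ}
    (Ψ : Matrix α (Fin t) R) (w : Fin t → R) (hw : w ≠ 0) (hΨw : Ψ.mulVec w = 0)
    (f : Fin t → α) (g : Fin t → Fin t) : (Ψ.submatrix f g).det = 0 := by
  classical
  by_cases hg : Function.Injective g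
  · have hbij : Function.Bijective g := Finite.injective_iff_bijective.mp hg
    refine Matrix.exists_mulVec_eq_zero_iff.mp ⟨w ∘ g, ?_, ?_⟩
    · intro h
      apply hw
      funext b
      obtain ⟨c, rfl⟩ := hbij.2 b
      exact congrFun h c
    · funext i
      change ∑ j, Ψ (f i) (g j) * w (g j) = 0
      rw [Function.Bijective.sum_comp hbij (fun b => Ψ (f i) b * w b)]
      exact congrFun hΨw (f i)
  · rw [Function.Injective] at hg
    push Not at hg
    obtain ⟨i, j, hij, hne⟩ := hg
    exact Matrix.det_zero_of_column_eq hne (fun c => by simp [hij])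

/-- In a domain, an ideal contained in a proper principal ideal has depth at most one. -/
theorem not_two_le_idealDepth_of_le_span [IsDomain R] (J : Ideal R) (ℓ : R) (hℓ : ¬ IsUnit ℓ)
    (hJ : J ≤ Ideal.span {ℓ}) : ¬ (2 : ℕ∞) ≤ LocCoh.idealDepth J R := by
  intro h2
  have hJtop : J • (⊤ : Submodule R R) ≠ ⊤ := by
    rw [smul_eq_mul, Ideal.mul_top]
    intro h
    rw [h, top_le_iff, Ideal.span_singleton_eq_top] at hJ
    exact hℓ hJ
  obtain ⟨rs, hlen, hreg, hmem⟩ := (Groth.Agent.H29.le_idealDepth_iff J R hJtop 2).mp h2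
  match rs, hlen with
  | [x, y], _ =>
    rw [RingTheory.Sequence.isWeaklyRegular_cons_iff] at hreg
    obtain ⟨hx, hreg⟩ := hreg
    rw [RingTheory.Sequence.isWeaklyRegular_cons_iff] at hreg
    obtain ⟨hy, -⟩ := hreg
    obtain ⟨x', hx'⟩ := Ideal.mem_span_singleton'.mp (hJ (hmem x (by simp)))
    obtain ⟨y', hy'⟩ := Ideal.mem_span_singleton'.mp (hJ (hmem y (by simp)))
    have hx0 : x ≠ 0 := by
      rintro rfl
      have := hx (show (0 : R) • (1 : R) = (0 : R) • (0 : R) by simp)
      exact one_ne_zero this
    have hx'0 : x' ≠ 0 := by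
      rintro rfl
      rw [zero_mul] at hx'
      exact hx0 hx'.symm
    have hmem1 : y • x' ∈ (x • (⊤ : Submodule R R)) := by
      rw [Submodule.mem_smul_pointwise_iff_exists]
      refine ⟨y', Submodule.mem_top, ?_⟩
      rw [smul_eq_mul, smul_eq_mul, ← hx', ← hy']
      ring
    have h1 : y • (Submodule.Quotient.mk x' : QuotSMulTop x R) = y • 0 := by
      rw [smul_zero, ← Submodule.Quotient.mk_smul]
      exact (Submodule.Quotient.mk_eq_zero _).mpr hmem1
    have h2 := hy h1
    rw [Submodule.Quotient.mk_eq_zero, Submodule.mem_smul_pointwise_iff_exists] at h2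
    obtain ⟨s, -, hs⟩ := h2
    rw [smul_eq_mul, ← hx'] at hs
    have h3 : x' * (ℓ * s - 1) = 0 := by
      rw [mul_sub, mul_one, sub_eq_zero, ← mul_assoc]
      exact hs
    rcases mul_eq_zero.mp h3 with h4 | h4
    · exact hx'0 h4
    · exact hℓ (IsUnit.of_mul_eq_one s (sub_eq_zero.mp h4))

end general

end Groth.Agent.H19.HBMat
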