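import Mathlib
import Groth.Agent.H19.HBMat
import Groth.Agent.S15431
import Groth.Agent.S15427
import Groth.Prelude.Def_CAlgX

set_option autoImplicit false
universe u

namespace Groth.Agent.H19.HBDeg

open Matrix Pointwise GrSyz Groth.Agent.H19.HBMat

section poly

variable {k : Type u} [Field k] {σ : Type*}

local notation "S" => MvPolynomial σ k

variable {t : ℕ} (Ψ : Matrix (Fin (t + 1)) (Fin t) (MvPolynomial σ k))

/-- kernel vector transfer: if the square block has vanishing determinant after applying `φ`,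
all maximal minors of `Ψ` are killed by `φ`. -/
theorem map_minor_eq_zero {A : Type*} [CommRing A] [IsDomain A] (φ : MvPolynomial σ k →+* A)
    (i : Fin t) (h0 : ∀ p : Fin (t + 1), p ≤ i.castSucc → ∀ q : Fin t, i ≤ q → Ψ p q = 0)
    (hD : φ (Matrix.det (Ψ.submatrix (fun q : {q : Fin t // i ≤ q} => q.1.succ) Subtype.val)) = 0)
    (f : Fin t → Fin (t + 1)) (g : Fin t → Fin t) :
    φ (Matrix.det (Ψ.submatrix f g)) = 0 := by
  classical
  set Cb : Matrix {q : Fin t // i ≤ q} {q : Fin t // i ≤ q} (MvPolynomial σ k) :=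
    Ψ.submatrix (fun q : {q : Fin t // i ≤ q} => q.1.succ) Subtype.val with hCb
  have hdet : (φ.mapMatrix Cb).det = 0 := by rw [← RingHom.map_det]; exact hD
  obtain ⟨v, hv0, hv⟩ := Matrix.exists_mulVec_eq_zero_iff.mpr hdet
  set w : Fin t → A := fun q => if h : i ≤ q then v ⟨q, h⟩ else 0 with hw
  have hw0 : w ≠ 0 := by
    intro h
    apply hv0
    funext c
    have := congrFun h c.1
    simp only [hw, dif_pos c.2] at this
    exact this
  have hsum : ∀ p, ((Ψ.map φ).mulVec w) p = ∑ c : {q : Fin t // i ≤ q}, φ (Ψ p c.1) * v c := by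
    intro p
    change ∑ q, φ (Ψ p q) * w q = _
    have h1 : ∑ q, φ (Ψ p q) * w q = ∑ q ∈ Finset.univ.filter (fun q => i ≤ q), φ (Ψ p q) * w q := by
      symm
      refine Finset.sum_subset (Finset.subset_univ _) (fun q _ hq => ?_)
      have hq' : ¬ i ≤ q := fun h => hq (Finset.mem_filter.mpr ⟨Finset.mem_univ _, h⟩)
      simp only [hw, dif_neg hq', mul_zero]
    rw [h1, Finset.sum_subtype (p := fun q => i ≤ q) _ (by simp)]
    refine Finset.sum_congr rfl (fun c _ => ?_)
    simp only [hw, dif_pos c.2]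
  have hΨw : (Ψ.map φ).mulVec w = 0 := by
    funext p
    rw [hsum]
    by_cases hp : p ≤ i.castSucc
    · exact Finset.sum_eq_zero (fun c _ => by rw [h0 p hp c.1 c.2, map_zero, zero_mul])
    · push Not at hp
      have hp0 : p ≠ 0 := by
        rintro rfl
        exact absurd hp (by simp)
      obtain ⟨j, rfl⟩ := Fin.exists_succ_eq.mpr hp0
      have hij : i ≤ j := by
        rw [Fin.lt_def] at hp
        rw [Fin.le_def]
        simp at hp
        omega
      exact congrFun hv ⟨j, hij⟩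
  have := det_submatrix_eq_zero_of_mulVec_eq_zero (Ψ.map φ) w hw0 hΨw f g
  rw [RingHom.map_det, RingHom.mapMatrix_apply, ← Matrix.submatrix_map]
  exact this

theorem exists_nonunit_minorIdeal_le
    (hmin : ∀ p q, Ψ p q ∈ (irrel (stdGr k σ)).toIdeal)
    (i : Fin t) (h0 : ∀ p : Fin (t + 1), p ≤ i.castSucc → ∀ q : Fin t, i ≤ q → Ψ p q = 0) :
    ∃ ℓ : MvPolynomial σ k, ¬ IsUnit ℓ ∧ CAlgX.minorIdeal Ψ t ≤ Ideal.span {ℓ} := by
  classical
  set D := Matrix.det (Ψ.submatrix (fun q : {q : Fin t // i ≤ q} => q.1.succ) Subtype.val) with hDdef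
  have hDm : D ∈ (irrel (stdGr k σ)).toIdeal := by
    rw [hDdef, Matrix.det_apply']
    refine Ideal.sum_mem _ (fun τ _ => Ideal.mul_mem_left _ _ ?_)
    exact Ideal.prod_mem _ (Finset.mem_univ (⟨i, le_refl i⟩ : {q : Fin t // i ≤ q})) (hmin _ _)
  have hDu : ¬ IsUnit D := by
    intro hu
    have htop := Ideal.eq_top_of_isUnit_mem _ hDm hu
    exact Groth.Agent.S15427.one_not_mem_irrel k σ (htop ▸ Submodule.mem_top)
  by_cases hD0 : D = 0
  · refine ⟨0, not_isUnit_zero, ?_⟩
    unfold CAlgX.minorIdeal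
    rw [Ideal.span_le]
    rintro _ ⟨fg, rfl⟩
    have := map_minor_eq_zero Ψ (RingHom.id _) i h0 (by rw [RingHom.id_apply]; exact hD0) fg.1 fg.2
    rw [RingHom.id_apply] at this
    simp only [this]
    exact zero_mem _
  · obtain ⟨ℓ, hℓirr, hℓD⟩ := WfDvdMonoid.exists_irreducible_factor hDu hD0
    have hℓp : Prime ℓ := UniqueFactorizationMonoid.irreducible_iff_prime.mp hℓirr
    refine ⟨ℓ, hℓirr.not_isUnit, ?_⟩
    haveI : (Ideal.span {ℓ}).IsPrime := (Ideal.span_singleton_prime hℓp.ne_zero).mpr hℓp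
    unfold CAlgX.minorIdeal
    rw [Ideal.span_le]
    rintro _ ⟨fg, rfl⟩
    have hD' : (Ideal.Quotient.mk (Ideal.span {ℓ})) D = 0 := by
      rw [Ideal.Quotient.eq_zero_iff_mem, Ideal.mem_span_singleton]
      exact hℓD
    have := map_minor_eq_zero Ψ (Ideal.Quotient.mk (Ideal.span {ℓ})) i h0 hD' fg.1 fg.2
    rw [Ideal.Quotient.eq_zero_iff_mem] at this
    exact this

theorem degrees_pos (a : Fin (t + 1) → ℤ) (b : Fin t → ℤ)
    (ha : ∀ i j : Fin (t + 1), i ≤ j → a j ≤ a i) (hb : ∀ i j : Fin t, i ≤ j → b j ≤ b i)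
    (hdeg : ∀ p q, Ψ p q ∈ stdGr k σ (b q - a p))
    (hmin : ∀ p q, Ψ p q ∈ (irrel (stdGr k σ)).toIdeal)
    (hinj : Function.Injective Ψ.mulVecLin)
    (hdepth : (2 : ℕ∞) ≤ LocCoh.idealDepth (CAlgX.minorIdeal Ψ t) (MvPolynomial σ k)) :
    ∀ i : Fin t, 1 ≤ b i - a i.castSucc ∧ 1 ≤ b i - a i.succ := by
  classical
  have hzero : ∀ (p : Fin (t + 1)) (q : Fin t), b q - a p ≤ 0 → Ψ p q = 0 := fun p q h =>
    Groth.Agent.S15431.eq_zero_of_mem_stdGr_nonpos_of_mem_irrel k σ _ _ h (hdeg p q) (hmin p q)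
  intro i
  constructor
  · by_contra hcon
    push Not at hcon
    have h0 : ∀ p : Fin (t + 1), p ≤ i.castSucc → ∀ q : Fin t, i ≤ q → Ψ p q = 0 := by
      intro p hp q hq
      apply hzero
      have h1 := ha p i.castSucc hp
      have h2 := hb i q hq
      omega
    obtain ⟨ℓ, hℓ, hle⟩ := exists_nonunit_minorIdeal_le Ψ hmin i h0
    exact not_two_le_idealDepth_of_le_span _ ℓ hℓ hle hdepth
  · by_contra hcon
    push Not at hcon
    have h0 : ∀ p : Fin (t + 1), p ∉ Finset.Ioi i.succ → ∀ q ∈ Finset.Ici i, Ψ p q = 0 := by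
      intro p hp q hq
      rw [Finset.mem_Ioi, not_lt] at hp
      rw [Finset.mem_Ici] at hq
      apply hzero
      have h1 := ha p i.succ hp
      have h2 := hb i q hq
      omega
    have hcard := card_le_of_zero_block Ψ hinj (Finset.Ioi i.succ) (Finset.Ici i) h0
    rw [Fin.card_Ici, Fin.card_Ioi, Fin.val_succ] at hcard
    have := i.2
    omega

end poly

end Groth.Agent.H19.HBDeg
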