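import Mathlib
import Groth.Agent.H19.HBCyc

set_option autoImplicit false
universe u

namespace Groth.Agent.H19.HBHilb

open GrSyz Groth.Agent.H19.HBCyc

section hilb

variable {k : Type u} [Field k] (r : ℕ)

theorem homogeneousComponent_of_mem_stdGr (s : MvPolynomial (Fin (r + 1)) k) (d : ℤ)
    (hs : s ∈ GrSyz.stdGr k (Fin (r + 1)) d) (j : ℕ) :
    MvPolynomial.homogeneousComponent j s = if (j : ℤ) = d then s else 0 := by
  have hs' : s.IsWeightedHomogeneous (fun _ : Fin (r + 1) => (1 : ℤ)) d := hs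
  ext e
  rw [MvPolynomial.coeff_homogeneousComponent]
  by_cases he : MvPolynomial.coeff e s = 0
  · split_ifs <;> simp [he]
  · have h1 := hs' he
    rw [Groth.Agent.H19.GrHilb.weight_one_eq] at h1
    rw [Finsupp.degree_eq_sum]
    by_cases hj : (j : ℤ) = d
    · rw [if_pos hj, if_pos]
      rw [← h1] at hj
      exact_mod_cast hj.symm
    · rw [if_neg hj, if_neg, MvPolynomial.coeff_zero]
      intro h
      apply hj
      rw [← h1, ← h]

theorem eq_zero_of_mem_stdGr_neg (s : MvPolynomial (Fin (r + 1)) k) (d : ℤ) (hd : d < 0)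
    (hs : s ∈ GrSyz.stdGr k (Fin (r + 1)) d) : s = 0 := by
  have hs' : s.IsWeightedHomogeneous (fun _ : Fin (r + 1) => (1 : ℤ)) d := hs
  by_contra hs0
  obtain ⟨e, he⟩ := MvPolynomial.ne_zero_iff.mp hs0
  have h1 := hs' he
  rw [Groth.Agent.H19.GrHilb.weight_one_eq] at h1
  omega

variable (Z : Finset (Fin (r + 1) → k)) (I : Ideal (MvPolynomial (Fin (r + 1)) k))
    (hI : ∀ f : MvPolynomial (Fin (r + 1)) k, f ∈ I ↔
      ∀ p ∈ Z, ∀ j : ℕ, MvPolynomial.eval p (MvPolynomial.homogeneousComponent j f) = 0)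

include hI in
theorem mem_iff_of_mem_stdGr (s : MvPolynomial (Fin (r + 1)) k) (d : ℤ)
    (hs : s ∈ GrSyz.stdGr k (Fin (r + 1)) d) :
    s ∈ I ↔ ∀ p ∈ Z, MvPolynomial.eval p s = 0 := by
  rw [hI]
  constructor
  · intro h p hp
    rcases lt_or_ge d 0 with hd | hd
    · rw [eq_zero_of_mem_stdGr_neg r s d hd hs, map_zero]
    · have := h p hp d.toNat
      rw [homogeneousComponent_of_mem_stdGr r s d hs, if_pos (Int.toNat_of_nonneg hd)] at this
      exact this
  · intro h p hp j
    rw [homogeneousComponent_of_mem_stdGr r s d hs]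
    split_ifs
    · exact h p hp
    · exact map_zero _

variable {M : Type u} [AddCommGroup M] [Module k M] [Module (MvPolynomial (Fin (r + 1)) k) M]
  [IsScalarTower k (MvPolynomial (Fin (r + 1)) k) M]
  {ℳ : ℤ → Submodule k M} [DirectSum.Decomposition ℳ]
  [SetLike.GradedSMul (GrSyz.stdGr k (Fin (r + 1))) ℳ]

include hI in
theorem finrank_le_card (π : MvPolynomial (Fin (r + 1)) k →ₗ[MvPolynomial (Fin (r + 1)) k] M)
    (hπ : Function.Surjective π)
    (hπg : GrLC.IsGrHom (GrSyz.stdGr k (Fin (r + 1))) ℳ π)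
    (hker : LinearMap.ker π = I) (d : ℤ) :
    Module.finrank k (ℳ d) ≤ Z.card := by
  classical
  haveI : Module.Finite k (GrSyz.stdGr k (Fin (r + 1)) d) := Groth.Agent.H19.GrHilb.finite_stdGr k r d
  set φ : GrSyz.stdGr k (Fin (r + 1)) d →ₗ[k] ℳ d :=
    (π.restrictScalars k).restrict (fun s hs => hπg d s hs) with hφ
  set ψ : GrSyz.stdGr k (Fin (r + 1)) d →ₗ[k] (Z → k) :=
    { toFun := fun s p => MvPolynomial.eval p.1 s.1
      map_add' := fun s s' => by funext p; simp
      map_smul' := fun c s => by funext p; simp [MvPolynomial.smul_eval] } with hψ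
  have hφsurj : Function.Surjective φ := by
    rintro ⟨m, hm⟩
    obtain ⟨s, hs, hsm⟩ := exists_mem_of_surjective π hπ hπg d m hm
    exact ⟨⟨s, hs⟩, Subtype.ext hsm⟩
  have hkereq : LinearMap.ker φ = LinearMap.ker ψ := by
    ext s
    rw [LinearMap.mem_ker, LinearMap.mem_ker]
    have h1 : φ s = 0 ↔ s.1 ∈ I := by
      rw [← hker, LinearMap.mem_ker, ← Subtype.coe_inj]
      rfl
    rw [h1, mem_iff_of_mem_stdGr r Z I hI s.1 d s.2]
    constructor
    · intro h
      funext p
      exact h p.1 p.2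
    · intro h p hp
      exact congrFun h ⟨p, hp⟩
  have e1 := LinearMap.finrank_range_add_finrank_ker φ
  have e2 := LinearMap.finrank_range_add_finrank_ker ψ
  rw [hkereq] at e1
  have e3 : Module.finrank k (LinearMap.range φ) = Module.finrank k (ℳ d) := by
    rw [LinearMap.range_eq_top.mpr hφsurj, finrank_top]
  have e4 : Module.finrank k (LinearMap.range ψ) ≤ Module.finrank k (Z → k) :=
    Submodule.finrank_le _
  rw [Module.finrank_fintype_fun_eq_card, Fintype.card_coe] at e4
  omega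

end hilb

end Groth.Agent.H19.HBHilb
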