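import Mathlib
import Groth.Agent.H19.GrHilb

set_option autoImplicit false
universe u

namespace Groth.Agent.H19.HBSum

open GrSyz

section sums

variable {k : Type u} [Field k]

/-- the Hilbert function of `k[x,y,z]` as an integer. -/
noncomputable def f (k : Type u) [Field k] (e : ℤ) : ℤ :=
  (Module.finrank k (GrSyz.stdGr k (Fin 3) e) : ℤ)

theorem f_succ_sub (e : ℤ) (he : 0 ≤ e) : f k (e + 1) - f k e = e + 2 := by
  obtain ⟨n, rfl⟩ := Int.eq_ofNat_of_zero_le he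
  unfold f
  rw [Groth.Agent.H19.GrHilb.finrank_stdGr k 2, Groth.Agent.H19.GrHilb.finrank_stdGr k 2,
    if_pos (by omega), if_pos (by omega)]
  have h1 : ((n : ℤ) + 1).toNat = n + 1 := by omega
  rw [h1, Int.toNat_natCast]
  have h2 : Nat.choose (2 + (n + 1)) 2 = Nat.choose (2 + n) 2 + (2 + n) := by
    rw [show 2 + (n + 1) = (2 + n) + 1 by ring, Nat.choose_succ_succ' (2 + n) 1, Nat.choose_one_right]
    ring
  rw [h2]
  push_cast
  ring

variable {M : Type u} [AddCommGroup M] [Module k M] [Module (MvPolynomial (Fin 3) k) M]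
  [IsScalarTower k (MvPolynomial (Fin 3) k) M]
  {ℳ : ℤ → Submodule k M} [DirectSum.Decomposition ℳ]
  [SetLike.GradedSMul (GrSyz.stdGr k (Fin 3)) ℳ]
  (F : GrSyz.FreeRes (GrSyz.stdGr k (Fin 3)) ℳ)

theorem hilb_eq (hlen : F.HasLengthLE 2) (h0 : F.rk 0 = 1) (hd0 : ∀ b, F.deg 0 b = 0) (d : ℤ) :
    (Module.finrank k (ℳ d) : ℤ) =
      f k d - ∑ b : Fin (F.rk 1), f k (d - F.deg 1 b) + ∑ b : Fin (F.rk 2), f k (d - F.deg 2 b) := by
  rw [Groth.Agent.H19.GrHilb.euler F (Groth.Agent.H19.GrHilb.finite_stdGr k 2) 2 hlen d]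
  rw [Finset.sum_range_succ, Finset.sum_range_succ, Finset.sum_range_one]
  have h1 : ∑ b : Fin (F.rk 0), (Module.finrank k (GrSyz.stdGr k (Fin (2 + 1)) (d - F.deg 0 b)) : ℤ)
      = f k d := by
    have : ∀ b : Fin (F.rk 0),
        (Module.finrank k (GrSyz.stdGr k (Fin (2 + 1)) (d - F.deg 0 b)) : ℤ) = f k d := by
      intro b
      rw [hd0 b, sub_zero]
      rfl
    rw [Finset.sum_congr rfl (fun b _ => this b), Finset.sum_const, Finset.card_univ,
      Fintype.card_fin, h0, one_smul]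
  rw [h1]
  simp only [pow_zero, pow_one, one_mul, neg_one_mul, neg_one_sq]
  unfold f
  ring

theorem sum_diff {n : ℕ} (a : Fin n → ℤ) (d : ℤ) (hd : ∀ b, a b ≤ d) :
    ∑ b : Fin n, f k (d + 1 - a b) - ∑ b : Fin n, f k (d - a b) = n * (d + 2) - ∑ b, a b := by
  rw [← Finset.sum_sub_distrib]
  have : ∀ b : Fin n, f k (d + 1 - a b) - f k (d - a b) = (d + 2) - a b := by
    intro b
    have := f_succ_sub (k := k) (d - a b) (by have := hd b; omega)
    rw [show d - a b + 1 = d + 1 - a b by ring] at this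
    rw [this]
    ring
  rw [Finset.sum_congr rfl (fun b _ => this b), Finset.sum_sub_distrib, Finset.sum_const,
    Finset.card_univ, Fintype.card_fin, nsmul_eq_mul]

theorem sum_deg_eq (hlen : F.HasLengthLE 2) (h0 : F.rk 0 = 1) (hd0 : ∀ b, F.deg 0 b = 0)
    (h12 : F.rk 1 = F.rk 2 + 1) (N : ℕ) (hN : ∀ d, Module.finrank k (ℳ d) ≤ N) :
    ∑ b : Fin (F.rk 1), F.deg 1 b = ∑ b : Fin (F.rk 2), F.deg 2 b := by
  classical
  set D : ℤ := ∑ b : Fin (F.rk 1), |F.deg 1 b| + ∑ b : Fin (F.rk 2), |F.deg 2 b| with hD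
  have hD1 : ∀ b, F.deg 1 b ≤ D := by
    intro b
    have h1 : |F.deg 1 b| ≤ ∑ b : Fin (F.rk 1), |F.deg 1 b| :=
      Finset.single_le_sum (f := fun b => |F.deg 1 b|) (fun _ _ => abs_nonneg _) (Finset.mem_univ b)
    have h2 : 0 ≤ ∑ b : Fin (F.rk 2), |F.deg 2 b| := Finset.sum_nonneg (fun _ _ => abs_nonneg _)
    have h3 := le_abs_self (F.deg 1 b)
    omega
  have hD2 : ∀ b, F.deg 2 b ≤ D := by
    intro b
    have h1 : |F.deg 2 b| ≤ ∑ b : Fin (F.rk 2), |F.deg 2 b| :=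
      Finset.single_le_sum (f := fun b => |F.deg 2 b|) (fun _ _ => abs_nonneg _) (Finset.mem_univ b)
    have h2 : 0 ≤ ∑ b : Fin (F.rk 1), |F.deg 1 b| := Finset.sum_nonneg (fun _ _ => abs_nonneg _)
    have h3 := le_abs_self (F.deg 2 b)
    omega
  have hD0 : 0 ≤ D := by
    have h1 : 0 ≤ ∑ b : Fin (F.rk 1), |F.deg 1 b| := Finset.sum_nonneg (fun _ _ => abs_nonneg _)
    have h2 : 0 ≤ ∑ b : Fin (F.rk 2), |F.deg 2 b| := Finset.sum_nonneg (fun _ _ => abs_nonneg _)
    omega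
  set δ : ℤ := ∑ b : Fin (F.rk 1), F.deg 1 b - ∑ b : Fin (F.rk 2), F.deg 2 b with hδ
  have hstep : ∀ d : ℤ, D ≤ d →
      (Module.finrank k (ℳ (d + 1)) : ℤ) = (Module.finrank k (ℳ d) : ℤ) + δ := by
    intro d hd
    rw [hilb_eq F hlen h0 hd0 (d + 1), hilb_eq F hlen h0 hd0 d]
    have e0 := f_succ_sub (k := k) d (by omega)
    have e1 := sum_diff (k := k) (F.deg 1) d (fun b => (hD1 b).trans hd)
    have e2 := sum_diff (k := k) (F.deg 2) d (fun b => (hD2 b).trans hd)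
    have h12' : (F.rk 1 : ℤ) = (F.rk 2 : ℤ) + 1 := by exact_mod_cast h12
    rw [hδ]
    linear_combination e0 - e1 + e2 - (d + 2) * h12'
  have hall : ∀ n : ℕ, (Module.finrank k (ℳ (D + n)) : ℤ) = (Module.finrank k (ℳ D) : ℤ) + n * δ := by
    intro n
    induction n with
    | zero => rw [Nat.cast_zero, add_zero, zero_mul, add_zero]
    | succ n ih =>
      have := hstep (D + n) (by omega)
      rw [show D + ((n + 1 : ℕ) : ℤ) = D + n + 1 by push_cast; ring, this, ih]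
      push_cast
      ring
  have hδ0 : δ = 0 := by
    have h1 := hall (N + 1)
    have h2 : (Module.finrank k (ℳ (D + ((N + 1 : ℕ) : ℤ))) : ℤ) ≤ N := by exact_mod_cast hN _
    have h3 : (0 : ℤ) ≤ (Module.finrank k (ℳ (D + ((N + 1 : ℕ) : ℤ))) : ℤ) := Int.natCast_nonneg _
    have h4 : (Module.finrank k (ℳ D) : ℤ) ≤ N := by exact_mod_cast hN _
    have h5 : (0 : ℤ) ≤ (Module.finrank k (ℳ D) : ℤ) := Int.natCast_nonneg _
    rw [h1] at h2 h3
    push_cast at h2 h3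
    by_contra hne
    rcases lt_or_gt_of_ne hne with hlt | hgt
    · have : ((N : ℤ) + 1) * δ ≤ ((N : ℤ) + 1) * (-1) := by
        apply mul_le_mul_of_nonneg_left (by omega) (by omega)
      omega
    · have : ((N : ℤ) + 1) * 1 ≤ ((N : ℤ) + 1) * δ := by
        apply mul_le_mul_of_nonneg_left (by omega) (by omega)
      omega
  rw [hδ] at hδ0
  exact sub_eq_zero.mp hδ0

end sums

end Groth.Agent.H19.HBSum
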