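import Mathlib
import Groth.Agent.H19.HBDeg
import Groth.Agent.H19.HBCyc
import Groth.Agent.H19.HBHilb
import Groth.Agent.H19.HBSum
import Groth.Agent.S12907
import Groth.Agent.S15436

set_option autoImplicit false
universe u

namespace Groth.Agent.H19.HBFinal

open GrSyz Matrix

theorem main (k : Type u) [Field k]
    (Z : Finset (Fin 3 → k)) (hZne : Z.Nonempty) (I : Ideal (MvPolynomial (Fin 3) k))
    (hI : ∀ f : MvPolynomial (Fin 3) k, f ∈ I ↔
      ∀ p ∈ Z, ∀ j : ℕ, MvPolynomial.eval p (MvPolynomial.homogeneousComponent j f) = 0)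
    (M : Type u) [AddCommGroup M] [Module k M] [Module (MvPolynomial (Fin 3) k) M] [IsScalarTower k (MvPolynomial (Fin 3) k) M]
    (ℳ : ℤ → Submodule k M) [DirectSum.Decomposition ℳ] [SetLike.GradedSMul (GrSyz.stdGr k (Fin 3)) ℳ]
    (π : MvPolynomial (Fin 3) k →ₗ[MvPolynomial (Fin 3) k] M) (hπ : Function.Surjective π)
    (hπg : GrLC.IsGrHom (GrSyz.stdGr k (Fin 3)) ℳ π) (hker : LinearMap.ker π = I)
    (F : GrSyz.FreeRes (GrSyz.stdGr k (Fin 3)) ℳ) (hF : F.IsMinimal (GrSyz.irrel (GrSyz.stdGr k (Fin 3))).toIdeal) (hlen : F.HasLengthLE 2)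
    (t : ℕ) (h1 : F.rk 1 = t + 1) (h2 : F.rk 2 = t)
    (ha : ∀ i j : Fin (t + 1), i ≤ j → F.deg 1 (Fin.cast h1.symm j) ≤ F.deg 1 (Fin.cast h1.symm i))
    (hb : ∀ i j : Fin t, i ≤ j → F.deg 2 (Fin.cast h2.symm j) ≤ F.deg 2 (Fin.cast h2.symm i)) :
    (∀ i : Fin t, 1 ≤ F.deg 2 (Fin.cast h2.symm i) - F.deg 1 (Fin.cast h1.symm i.castSucc) ∧
        1 ≤ F.deg 2 (Fin.cast h2.symm i) - F.deg 1 (Fin.cast h1.symm i.succ)) ∧
      ∑ i : Fin (t + 1), F.deg 1 (Fin.cast h1.symm i) = ∑ j : Fin t, F.deg 2 (Fin.cast h2.symm j) := by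
  classical
  -- ker π ≤ 𝔪
  have hkerle : LinearMap.ker π ≤ (GrSyz.irrel (GrSyz.stdGr k (Fin 3))).toIdeal := by
    intro f hf
    rw [hker, hI] at hf
    obtain ⟨p, hp⟩ := hZne
    have := hf p hp 0
    rw [MvPolynomial.homogeneousComponent_zero, MvPolynomial.eval_C] at this
    rw [Groth.Agent.S15436.irrel_eq_ker, RingHom.mem_ker]
    exact this
  obtain ⟨hrk0, hdeg0⟩ := Groth.Agent.H19.HBCyc.rk_zero_eq_one 2 π hπ hπg hkerle F hF
  refine ⟨?_, ?_⟩
  · set Ψ : Matrix (Fin (t + 1)) (Fin t) (MvPolynomial (Fin 3) k) :=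
      (F.d 1).submatrix (finCongr h1.symm) (finCongr h2.symm) with hΨ
    have hmulVec : ∀ w : Fin t → MvPolynomial (Fin 3) k,
        Ψ.mulVec w = ((F.d 1).mulVec (w ∘ (finCongr h2))) ∘ (finCongr h1.symm) :=
      fun w => Matrix.submatrix_mulVec_equiv _ _ _ _
    have hker1 : ∀ x : Fin (F.rk 2) → MvPolynomial (Fin 3) k, (F.d 1).mulVec x = 0 → x = 0 := by
      intro x hx
      have hx' : x ∈ LinearMap.ker (F.dLin 1) := hx
      rw [F.exact_succ 1] at hx'
      obtain ⟨y, hy⟩ := hx'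
      have hrk3 : F.rk (1 + 1 + 1) = 0 := hlen 3 (by norm_num)
      haveI : IsEmpty (Fin (F.rk (1 + 1 + 1))) := by rw [hrk3]; exact Fin.isEmpty
      rw [Subsingleton.elim y 0, map_zero] at hy
      exact hy.symm
    have hinj : Function.Injective Ψ.mulVecLin := by
      rw [injective_iff_map_eq_zero]
      intro w hw
      rw [Matrix.mulVecLin_apply, hmulVec] at hw
      have h3 : (F.d 1).mulVec (w ∘ (finCongr h2)) = 0 := by
        funext a
        have := congrFun hw (finCongr h1 a)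
        simpa using this
      have h4 := hker1 _ h3
      funext q
      have := congrFun h4 (finCongr h2.symm q)
      simpa using this
    set b₀ : Fin (F.rk 0) := Fin.cast hrk0.symm 0 with hb₀
    have hb₀all : ∀ b : Fin (F.rk 0), b = b₀ := by
      intro b
      apply Fin.ext
      have := b.2
      have := b₀.2
      omega
    set π' : (Fin (t + 1) → MvPolynomial (Fin 3) k) →ₗ[MvPolynomial (Fin 3) k] MvPolynomial (Fin 3) k :=
      (LinearMap.proj b₀) ∘ₗ (F.dLin 0) ∘ₗ
        (LinearMap.funLeft (MvPolynomial (Fin 3) k) (MvPolynomial (Fin 3) k) (finCongr h1)) with hπ'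
    have hπ'app : ∀ v, π' v = (F.d 0).mulVec (v ∘ (finCongr h1)) b₀ := fun v => rfl
    have hex : LinearMap.ker π' = LinearMap.range Ψ.mulVecLin := by
      ext v
      rw [LinearMap.mem_ker, hπ'app, LinearMap.mem_range]
      constructor
      · intro hv
        have hv' : (v ∘ (finCongr h1)) ∈ LinearMap.ker (F.dLin 0) := by
          rw [LinearMap.mem_ker]
          funext b
          rw [hb₀all b]
          exact hv
        rw [F.exact_succ 0] at hv'
        obtain ⟨w, hw⟩ := hv'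
        refine ⟨w ∘ (finCongr h2.symm), ?_⟩
        rw [Matrix.mulVecLin_apply, hmulVec]
        have h5 : (w ∘ (finCongr h2.symm)) ∘ (finCongr h2) = w := by
          funext q; simp
        rw [h5]
        have hw' : (F.d 1).mulVec w = v ∘ (finCongr h1) := hw
        rw [hw']
        funext p; simp
      · rintro ⟨w, rfl⟩
        rw [Matrix.mulVecLin_apply, hmulVec]
        have h6 : ((F.d 1).mulVec (w ∘ (finCongr h2)) ∘ (finCongr h1.symm)) ∘ (finCongr h1) =
            (F.d 1).mulVec (w ∘ (finCongr h2)) := by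
          funext p; simp
        rw [h6]
        have h7 : (F.d 1).mulVec (w ∘ (finCongr h2)) ∈ LinearMap.ker (F.dLin 0) := by
          rw [F.exact_succ 0]
          exact ⟨_, rfl⟩
        exact congrFun h7 b₀
    have hIne : LinearMap.range π' ≠ ⊥ := by
      intro hbot
      rw [LinearMap.range_eq_bot] at hbot
      have htop : LinearMap.range Ψ.mulVecLin = ⊤ := by
        rw [← hex, hbot, LinearMap.ker_zero]
      have := card_le_of_surjective (MvPolynomial (Fin 3) k) Ψ.mulVecLin (LinearMap.range_eq_top.mp htop)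
      simp at this
    have hdepth := (Groth.Agent.S12907.result t (t + 1) Ψ π' (LinearMap.ker_eq_bot.mpr hinj) hex hIne).2.2
    exact Groth.Agent.H19.HBDeg.degrees_pos Ψ (fun i => F.deg 1 (Fin.cast h1.symm i))
      (fun j => F.deg 2 (Fin.cast h2.symm j)) ha hb (fun p q => F.d_mem 1 _ _) (fun p q => hF 1 _ _)
      hinj hdepth
  · have hN := Groth.Agent.H19.HBHilb.finrank_le_card 2 Z I hI π hπ hπg hker
    have := Groth.Agent.H19.HBSum.sum_deg_eq F hlen hrk0 hdeg0 (by rw [h1, h2]) Z.card hN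
    rw [← Equiv.sum_comp (finCongr h1.symm) (F.deg 1), ← Equiv.sum_comp (finCongr h2.symm) (F.deg 2)] at this
    exact this

end Groth.Agent.H19.HBFinal
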