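import Mathlib
import Groth.Agent.H19.HilbDim3

set_option autoImplicit false
universe u

namespace Groth.Agent.H19.HilbDim

open Polynomial MvPolynomial Groth.Agent.H19.HilbSec Groth.Agent.H19.PolyDiff

attribute [local instance] MvPolynomial.gradedAlgebra

theorem hilb_deg_lt {k : Type u} [Field k] (d : ℕ) (hd : 0 < d)
    (I : HomogeneousIdeal (MvPolynomial.homogeneousSubmodule (Fin d) k)) (hI : I ≠ ⊥) :
    ∃ P : Polynomial ℚ, P.degree < ((d - 1 : ℕ) : WithBot ℕ) ∧ ∃ N : ℕ, ∀ n : ℕ, N ≤ n →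
      ((Module.finrank k ↥(MvPolynomial.homogeneousSubmodule (Fin d) k n) : ℚ) -
        (Module.finrank k ↥(I.toIdeal.restrictScalars k ⊓
          MvPolynomial.homogeneousSubmodule (Fin d) k n) : ℚ)) = P.eval (n : ℚ) := by
  obtain ⟨P, ⟨N, hN⟩, hgood⟩ := claim I.toIdeal I.isHomogeneous
  refine ⟨P, ?_, N, fun n hn => (hN n hn).symm⟩
  have hne : I.toIdeal ≠ ⊥ := fun h => hI ((HomogeneousIdeal.eq_bot_iff I).mpr h)
  obtain ⟨r, hr, hr0⟩ := Submodule.exists_mem_ne_zero_of_ne_bot hne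
  have h1 : ringKrullDim (MvPolynomial (Fin d) k ⧸ Ideal.span {r}) + 1 ≤
      ringKrullDim (MvPolynomial (Fin d) k) :=
    ringKrullDim_quotient_succ_le_of_nonZeroDivisor (mem_nonZeroDivisors_of_ne_zero hr0)
  have hle : Ideal.span {r} ≤ I.toIdeal := by
    rw [Ideal.span_le, Set.singleton_subset_iff]; exact hr
  have h2 : ringKrullDim (MvPolynomial (Fin d) k ⧸ I.toIdeal) ≤
      ringKrullDim (MvPolynomial (Fin d) k ⧸ Ideal.span {r}) :=
    ringKrullDim_le_of_surjective (Ideal.Quotient.factor hle) (Ideal.Quotient.factor_surjective hle)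
  rw [MvPolynomial.ringKrullDim_of_isNoetherianRing, ringKrullDim_eq_zero_of_field, zero_add,
    Nat.card_fin] at h1
  have h3 : ringKrullDim (MvPolynomial (Fin d) k ⧸ I.toIdeal) + 1 ≤ (d : WithBot ℕ∞) :=
    (add_le_add_left h2 1).trans h1
  rcases withBot_trichotomy _ (dim_ne_top I.toIdeal) with h0 | ⟨D, hD⟩
  · rw [hgood.1 h0, degree_zero]
    exact WithBot.bot_lt_coe _
  · obtain ⟨hdeg, hlc⟩ := hgood.2 D hD
    have hP0 : P ≠ 0 := fun h => by rw [h, leadingCoeff_zero] at hlc; exact lt_irrefl _ hlc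
    rw [degree_eq_natDegree hP0, hdeg]
    rw [hD] at h3
    have h4 : ((D + 1 + 1 : ℕ) : WithBot ℕ∞) ≤ ((d : ℕ) : WithBot ℕ∞) := by push_cast; exact h3
    have h5 : D + 1 + 1 ≤ d := by exact_mod_cast h4
    exact_mod_cast (show D < d - 1 by omega)

end Groth.Agent.H19.HilbDim
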