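import Mathlib
import Groth.Agent.H19.HilbLower
import Groth.Prelude.Def_LefPen

set_option autoImplicit false
universe u

namespace Groth.Agent.H19.HilbDim

open Polynomial MvPolynomial Groth.Agent.H19.HilbSec Groth.Agent.H19.PolyDiff
  Groth.Agent.H19.LinForms

attribute [local instance] MvPolynomial.gradedAlgebra

theorem le_choose_of_le : ∀ (n j : ℕ), 1 ≤ j → j + 1 ≤ n → n ≤ Nat.choose n j := by
  intro n
  induction n with
  | zero => intro j h1 h2; omega
  | succ n ih =>
    intro j h1 h2
    rcases Nat.lt_or_ge 1 j with hj | hj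
    · rcases Nat.lt_or_ge j n with hjn | hjn
      · obtain ⟨j', rfl⟩ : ∃ j', j = j' + 1 := ⟨j - 1, by omega⟩
        rw [Nat.choose_succ_succ']
        have h3 := ih (j' + 1) (by omega) (by omega)
        have h4 : 0 < Nat.choose n j' := Nat.choose_pos (by omega)
        omega
      · have : j = n := by omega
        subst this
        rw [Nat.choose_succ_self_right]
    · have : j = 1 := by omega
      subst this
      rw [Nat.choose_one_right]

theorem ringKrullDim_quotient_radical {R : Type*} [CommRing R] (I : Ideal R) :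
    ringKrullDim (R ⧸ I.radical) = ringKrullDim (R ⧸ I) := by
  rw [ringKrullDim_quotient, ringKrullDim_quotient, PrimeSpectrum.zeroLocus_radical]

theorem main_lower (k : Type u) [Field k] (m d : ℕ) (hd : 1 ≤ d) (hdm : d + 1 ≤ m)
    (I : Ideal (MvPolynomial (Fin (m + 1)) k))
    (hI : I.IsHomogeneous (CohB1.polyGrading m k))
    (hirr : I.radical.IsPrime)
    (hdim : ringKrullDim (MvPolynomial (Fin (m + 1)) k ⧸ I) = ((m + 1 - d : ℕ) : WithBot ℕ∞)) :
    m + 1 + Module.finrank k ↥(CohB1.polyGrading m k (d + 1) ⊓ Submodule.restrictScalars k I)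
      ≤ Module.finrank k (LefPen.Form m k (d + 1)) := by
  haveI := hirr
  have hPh : I.radical.IsHomogeneous (homogeneousSubmodule (Fin (m + 1)) k) :=
    Ideal.IsHomogeneous.radical hI
  have hdimP : ringKrullDim (MvPolynomial (Fin (m + 1)) k ⧸ I.radical) =
      (((m - d) + 1 : ℕ) : WithBot ℕ∞) := by
    rw [ringKrullDim_quotient_radical, hdim]
    congr 2
    omega
  have h1 := hf_lower (m - d) I.radical hPh hdimP (d + 1)
  have h2 := hf_anti (Ideal.le_radical : I ≤ I.radical) (d + 1)
  have h3 : m + 1 ≤ Nat.choose (m - d + (d + 1)) (d + 1) := by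
    rw [show m - d + (d + 1) = m + 1 by omega]
    exact le_choose_of_le (m + 1) (d + 1) (by omega) (by omega)
  have h4 : ((m + 1 : ℕ) : ℚ) ≤ hf I (d + 1) := by
    refine le_trans ?_ (h1.trans h2)
    exact_mod_cast h3
  unfold hf piece at h4
  rw [inf_comm]
  have h5 : ((m + 1 + Module.finrank k ↥(Submodule.restrictScalars k I ⊓
      CohB1.polyGrading m k (d + 1)) : ℕ) : ℚ) ≤
      ((Module.finrank k (LefPen.Form m k (d + 1)) : ℕ) : ℚ) := by
    push_cast
    push_cast at h4
    linarith
  exact_mod_cast h5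

end Groth.Agent.H19.HilbDim
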