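import Mathlib
import Groth.Prelude.Def_KZero
import Groth.Agent.H19.HilbSerre7

set_option autoImplicit false
universe u v

namespace Groth.Agent.H19.HilbSerre

open Groth.Agent.H19.NumPoly CategoryTheory

/-- the class in `K'₀(A)` as an additive function -/
noncomputable def kFun (A : Type u) [CommRing A] :
    AddFun A (KZero.K0sub (fun X : ModuleCat.{u} A => Module.Finite A X)) where
  adm Y _ _ := Module.Finite A Y
  val Y _ _ := KZero.clSub (fun X : ModuleCat.{u} A => Module.Finite A X) (ModuleCat.of A Y)
  adm_of_surj f hf h := by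
    haveI := h
    exact Module.Finite.of_surjective f hf
  val_exact := by
    intro Y₁ Y₂ Y₃ _ _ _ _ _ _ f g hf hg hfg h1 h2 h3
    have h0 : g.comp f = 0 := by
      ext y
      exact hfg.apply_apply_eq_zero y
    let S := ModuleCat.shortComplexOfCompEqZero f g h0
    have hS : S.ShortExact := ModuleCat.shortComplex_shortExact S hfg hf hg
    have hrel : (FreeAbelianGroup.of (⟨S.X₂, h2⟩ : Subtype
        (fun X : ModuleCat.{u} A => Module.Finite A X)) -
        FreeAbelianGroup.of ⟨S.X₁, h1⟩ - FreeAbelianGroup.of ⟨S.X₃, h3⟩) ∈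
        KZero.relSub (fun X : ModuleCat.{u} A => Module.Finite A X) :=
      AddSubgroup.subset_closure ⟨S, h1, h2, h3, hS, rfl⟩
    have hq := (QuotientAddGroup.eq_zero_iff _).mpr hrel
    unfold KZero.clSub
    rw [dif_pos (show Module.Finite A (ModuleCat.of A Y₂) from h2),
      dif_pos (show Module.Finite A (ModuleCat.of A Y₁) from h1),
      dif_pos (show Module.Finite A (ModuleCat.of A Y₃) from h3)]
    rw [QuotientAddGroup.mk_sub, QuotientAddGroup.mk_sub, sub_sub, sub_eq_zero] at hq
    exact hq

end Groth.Agent.H19.HilbSerre
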