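import Mathlib
import Groth.Prelude.Def_KZero
import Groth.Agent.H19.HilbSerreK
import Groth.Agent.H19.HilbSerre4

set_option autoImplicit false
universe u v

namespace Groth.Agent.H19.HilbSerre

open Groth.Agent.H19.NumPoly CategoryTheory

theorem exists_generators {A S : Type u} [CommRing A] [CommRing S] [Algebra A S]
    [IsNoetherianRing S] (𝒜 : ℕ → Submodule A S) [GradedAlgebra 𝒜]
    (h0 : ∀ s ∈ 𝒜 0, s ∈ Set.range (algebraMap A S))
    (h1 : (HomogeneousIdeal.irrelevant 𝒜).toIdeal = Ideal.span (𝒜 1 : Set S)) :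
    ∃ X : Finset S, (∀ x ∈ X, x ∈ 𝒜 1) ∧ Algebra.adjoin A (X : Set S) = ⊤ := by
  classical
  have hfg : (Ideal.span (𝒜 1 : Set S)).FG := IsNoetherian.noetherian _
  obtain ⟨X, hX1, hXspan⟩ := (Submodule.fg_span_iff_fg_span_finset_subset _).mp hfg
  refine ⟨X, fun x hx => hX1 hx, ?_⟩
  have hmem : ∀ n : ℕ, ∀ s ∈ 𝒜 n, s ∈ Algebra.adjoin A (X : Set S) := by
    intro n
    induction n with
    | zero =>
      intro s hs
      obtain ⟨a, rfl⟩ := h0 s hs
      exact Subalgebra.algebraMap_mem _ a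
    | succ n ih =>
      intro s hs
      have hsirr : s ∈ (HomogeneousIdeal.irrelevant 𝒜).toIdeal := by
        rw [HomogeneousIdeal.mem_iff, HomogeneousIdeal.mem_irrelevant_iff, GradedRing.proj_apply]
        exact DirectSum.decompose_of_mem_ne 𝒜 hs (by omega)
      rw [h1] at hsirr
      have hsX : s ∈ Ideal.span (X : Set S) := by
        have : Ideal.span (𝒜 1 : Set S) = Ideal.span (X : Set S) := hXspan
        rw [← this]; exact hsirr
      obtain ⟨f, -, hf⟩ := Submodule.mem_span_finset.mp hsX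
      have h2 : s = ∑ x ∈ X, (DirectSum.decompose 𝒜 (f x) n : S) * x := by
        have h3 : (DirectSum.decompose 𝒜 s (n + 1) : S) = s :=
          DirectSum.decompose_of_mem_same 𝒜 hs
        rw [← h3, ← hf, DirectSum.decompose_sum, DFinsupp.finsetSum_apply,
          AddSubmonoidClass.coe_finsetSum]
        apply Finset.sum_congr rfl
        intro x hx
        rw [smul_eq_mul, DirectSum.coe_decompose_mul_of_right_mem_of_le 𝒜 (hX1 hx) (by omega),
          Nat.add_sub_cancel]
      rw [h2]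
      apply Subalgebra.sum_mem
      intro x hx
      exact Subalgebra.mul_mem _ (ih _ (SetLike.coe_mem _)) (Algebra.subset_adjoin hx)
  rw [eq_top_iff]
  intro s _
  rw [← DirectSum.sum_support_decompose 𝒜 s]
  apply Subalgebra.sum_mem
  intro i _
  exact hmem i _ (SetLike.coe_mem _)

theorem main_K {A S : Type u} [CommRing A] [CommRing S] [Algebra A S] [IsNoetherianRing S]
    (𝒜 : ℕ → Submodule A S) [GradedAlgebra 𝒜]
    (h0 : ∀ s ∈ 𝒜 0, s ∈ Set.range (algebraMap A S))
    (h1 : (HomogeneousIdeal.irrelevant 𝒜).toIdeal = Ideal.span (𝒜 1 : Set S))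
    (M : Type u) [AddCommGroup M] [Module A M] [Module S M] [IsScalarTower A S M]
    [Module.Finite S M] (ℳ : ℕ → Submodule A M) [DirectSum.Decomposition ℳ]
    [SetLike.GradedSMul 𝒜 ℳ] :
    ∃ (r : ℕ) (a : Fin r → KZero.K0sub (fun X : ModuleCat.{u} A => Module.Finite A X)) (N : ℕ),
      ∀ n : ℕ, N ≤ n →
      KZero.clSub (fun X : ModuleCat.{u} A => Module.Finite A X) (ModuleCat.of A ↥(ℳ n)) =
        ∑ i : Fin r, ((n.choose (i : ℕ) : ℕ) : ℤ) • a i := by
  classical
  obtain ⟨X, hX, hgen⟩ := exists_generators 𝒜 h0 h1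
  have hgr := isGr_of_decomposition 𝒜 ℳ X hX hgen
  haveI : IsNoetherian S M := isNoetherian_of_isNoetherianRing_of_finite _ _
  have hfg := fg_piece' hgr
  have hbot : ∀ i, Submodule.comap (ℳ i).subtype
      ((⊥ : Submodule S M).restrictScalars A) = ⊥ := by
    intro i
    rw [eq_bot_iff]
    intro n hn
    simp only [Submodule.mem_comap, Submodule.subtype_apply, Submodule.restrictScalars_mem,
      Submodule.mem_bot] at hn
    exact (Submodule.mem_bot _).mpr (Subtype.ext hn)
  let e : ∀ i, Q ℳ (⊥ : Submodule S M) i ≃ₗ[A] ℳ i := fun i =>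
    Submodule.quotEquivOfEqBot _ (hbot i)
  have hfin : ∀ i, Module.Finite A (ℳ i) := fun i => Module.Finite.iff_fg.mpr (hfg i)
  have hadm : ∀ i, (kFun A).adm (Q ℳ (⊥ : Submodule S M) i) := fun i => by
    haveI := hfin i
    exact Module.Finite.of_surjective (e i).symm.toLinearMap (e i).symm.surjective
  have hhom : IsHomog (proj ℳ) (⊥ : Submodule S M) := by
    intro n hn i
    rw [Submodule.mem_bot] at hn
    rw [hn, map_zero]
    exact Submodule.zero_mem _
  have hNP := isNP_H hgr (kFun A) ⊥ hhom hadm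
  obtain ⟨c, N, hc⟩ := hNP.exists_choose
  refine ⟨X.card, fun k => c k, N, fun n hn => ?_⟩
  have h2 : H ℳ (kFun A) (⊥ : Submodule S M) n =
      KZero.clSub (fun X : ModuleCat.{u} A => Module.Finite A X) (ModuleCat.of A ↥(ℳ n)) :=
    (kFun A).val_congr (e n) (hadm n)
  rw [← h2, hc n hn, Finset.sum_range]
  apply Finset.sum_congr rfl
  intro k _
  rw [natCast_zsmul]

end Groth.Agent.H19.HilbSerre
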