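import Mathlib
namespace Groth.Agent.H19

open scoped IntermediateField.algebraAdjoinAdjoin TensorProduct

/-- If `x` is algebraically independent over `k` and `F` is separable algebraic over `k(x)`, then
`F` is formally étale over the polynomial ring `k[x]` (with the algebra structure given by `aeval x`). -/
theorem formallyEtale_mvPolynomial_of_separating {k F ι : Type*} [Field k] [Field F] [Algebra k F]
    {x : ι → F} (hb : AlgebraicIndependent k x)
    [Algebra.IsSeparable (IntermediateField.adjoin k (Set.range x)) F] :
    @Algebra.FormallyEtale (MvPolynomial ι k) F _ _ (MvPolynomial.aeval x).toAlgebra := by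
  letI algPF : Algebra (MvPolynomial ι k) F := (MvPolynomial.aeval x).toAlgebra
  let A := Algebra.adjoin k (Set.range x)
  let L := IntermediateField.adjoin k (Set.range x)
  have h1 : Algebra.FormallyEtale A L := .of_isLocalization (nonZeroDivisors A)
  have h2 : Algebra.FormallyEtale L F := .of_isSeparable L F
  have h3 : Algebra.FormallyEtale A F := .comp A L F
  letI algPA : Algebra (MvPolynomial ι k) A := hb.aevalEquiv.toAlgHom.toRingHom.toAlgebra
  haveI : IsScalarTower (MvPolynomial ι k) A F := IsScalarTower.of_algebraMap_eq (fun p => by
    show MvPolynomial.aeval x p = algebraMap A F (hb.aevalEquiv p)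
    rw [hb.algebraMap_aevalEquiv])
  let e : MvPolynomial ι k ≃ₐ[MvPolynomial ι k] A :=
    AlgEquiv.ofRingEquiv (f := hb.aevalEquiv.toRingEquiv) (fun p => rfl)
  have h4 : Algebra.FormallyEtale (MvPolynomial ι k) A := Algebra.FormallyEtale.of_equiv e
  exact .comp (MvPolynomial ι k) A F

/-- For a separating transcendence family `x`, the differentials `d (x i)` form a basis of `Ω[F/k]`. -/
theorem exists_basis_kaehler_of_separating {k F ι : Type*} [Field k] [Field F] [Algebra k F]
    {x : ι → F} (hb : AlgebraicIndependent k x)
    [Algebra.IsSeparable (IntermediateField.adjoin k (Set.range x)) F] :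
    ∃ b : Module.Basis ι F (Ω[F⁄k]), ∀ i, b i = KaehlerDifferential.D k F (x i) := by
  letI algPF : Algebra (MvPolynomial ι k) F := (MvPolynomial.aeval x).toAlgebra
  haveI : IsScalarTower k (MvPolynomial ι k) F :=
    IsScalarTower.of_algebraMap_eq' (MvPolynomial.aeval x).comp_algebraMap.symm
  haveI : Algebra.FormallyEtale (MvPolynomial ι k) F := formallyEtale_mvPolynomial_of_separating hb
  let e := KaehlerDifferential.tensorKaehlerEquivOfFormallyEtale k (MvPolynomial ι k) F
  let b0 := (KaehlerDifferential.mvPolynomialBasis k ι).baseChange F
  refine ⟨b0.map e, fun i => ?_⟩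
  simp only [b0, e, Module.Basis.map_apply, Module.Basis.baseChange_apply,
    KaehlerDifferential.mvPolynomialBasis_apply,
    KaehlerDifferential.tensorKaehlerEquivOfFormallyEtale_apply,
    KaehlerDifferential.mapBaseChange_tmul, one_smul, KaehlerDifferential.map_D]
  congr 1
  exact MvPolynomial.aeval_X x i

/-- Over a perfect field, the Kähler differentials of a finitely generated field extension form a
finite-dimensional vector space of dimension the transcendence degree. -/
theorem finrank_kaehler_eq_card {k F ι : Type*} [Field k] [PerfectField k] [Field F] [Algebra k F]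
    [Algebra.EssFiniteType k F] [Fintype ι] {x : ι → F} (hx : IsTranscendenceBasis k x) :
    Module.Finite F (Ω[F⁄k]) ∧ Module.finrank F (Ω[F⁄k]) = Fintype.card ι := by
  obtain ⟨s, hs, hsep⟩ := exists_isTranscendenceBasis_and_isSeparable_of_perfectField k F
  have hrange : Set.range (Subtype.val : {y // y ∈ s} → F) = (s : Set F) := by
    ext y; simp
  have hsep' : Algebra.IsSeparable
      (IntermediateField.adjoin k (Set.range (Subtype.val : {y // y ∈ s} → F))) F := by
    rw [hrange]; exact hsep
  obtain ⟨b, -⟩ := exists_basis_kaehler_of_separating (k := k) (F := F) hs.1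
  refine ⟨Module.Finite.of_basis b, ?_⟩
  rw [Module.finrank_eq_card_basis b]
  have h1 := hs.lift_cardinalMk_eq hx
  simp only [Cardinal.mk_fintype, Cardinal.lift_natCast, Nat.cast_inj] at h1
  exact h1

end Groth.Agent.H19
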