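import Mathlib

set_option autoImplicit false
universe u

/-!
Localization of a module as a filtered colimit of copies of the module, and the consequence for
linear functors preserving filtered colimits.
-/

namespace Groth.Agent.H19.LocFilt

open CategoryTheory CategoryTheory.Limits

variable {A : Type u} [CommRing A] (S : Submonoid A)

/-- the index category: elements of `S`, with morphisms `s ⟶ s'` the `t` with `s * t = s'`. -/
structure SCat where
  val : S

instance : SmallCategory (SCat S) where
  Hom s s' := {t : S // s.val * t = s'.val}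
  id s := ⟨1, mul_one _⟩
  comp f g := ⟨f.1 * g.1, by rw [← mul_assoc, f.2, g.2]⟩
  id_comp f := Subtype.ext (one_mul _)
  comp_id f := Subtype.ext (mul_one _)
  assoc f g h := Subtype.ext (mul_assoc _ _ _)

variable {S}

theorem comp_val {s s' s'' : SCat S} (f : s ⟶ s') (g : s' ⟶ s'') : (f ≫ g).1 = f.1 * g.1 := rfl

theorem hom_ext' {s s' : SCat S} (f g : s ⟶ s') (h : f.1 = g.1) : f = g := Subtype.ext h

instance : IsFiltered (SCat S) where
  cocone_objs X Y := ⟨⟨X.val * Y.val⟩, ⟨Y.val, rfl⟩, ⟨X.val, mul_comm _ _⟩, trivial⟩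
  cocone_maps X Y f g := ⟨⟨Y.val * X.val⟩, ⟨X.val, rfl⟩, by
    apply hom_ext'
    rw [comp_val, comp_val]
    show f.1 * X.val = g.1 * X.val
    rw [mul_comm f.1, mul_comm g.1, f.2, g.2]⟩
  nonempty := ⟨⟨1⟩⟩

variable (S) (M : ModuleCat.{u} A)

/-- the diagram of copies of `M`. -/
noncomputable def diag : SCat S ⥤ ModuleCat.{u} A where
  obj _ := M
  map f := ModuleCat.ofHom ((f.1 : A) • (LinearMap.id : M →ₗ[A] M))
  map_id s := by
    apply ModuleCat.hom_ext
    apply LinearMap.ext
    intro m
    show ((1 : S) : A) • m = m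
    simp
  map_comp f g := by
    apply ModuleCat.hom_ext
    apply LinearMap.ext
    intro m
    show ((f.1 * g.1 : S) : A) • m = (g.1 : A) • ((f.1 : A) • m)
    rw [Submonoid.coe_mul, mul_comm, mul_smul]

theorem diag_map_apply {s s' : SCat S} (f : s ⟶ s') (m : M) :
    ((diag S M).map f).hom m = (f.1 : A) • m := rfl

/-- `m ↦ m / s`. -/
noncomputable def incl (s : S) : M →ₗ[A] LocalizedModule S M :=
  (LocalizedModule.divBy s) ∘ₗ (LocalizedModule.mkLinearMap S M)

theorem incl_apply (s : S) (m : M) : incl S M s m = LocalizedModule.mk m s := by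
  show LocalizedModule.divBy s (LocalizedModule.mkLinearMap S M m) = _
  rw [LocalizedModule.mkLinearMap_apply, LocalizedModule.divBy_apply]
  rw [LocalizedModule.liftOn_mk]
  simp

/-- the cocone with point the localization. -/
noncomputable def cocone : Cocone (diag S M) where
  pt := ModuleCat.of A (LocalizedModule S M)
  ι :=
    { app := fun s => ModuleCat.ofHom (incl S M s.val)
      naturality := fun s s' f => by
        apply ModuleCat.hom_ext
        apply LinearMap.ext
        intro (m : M)
        show incl S M s'.val ((f.1 : A) • m) = incl S M s.val m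
        rw [incl_apply S M s'.val, incl_apply S M s.val]
        have h := LocalizedModule.mk_cancel_common_right s.val f.1 m
        have h2 : s.val * f.1 = s'.val := f.2
        rw [h2] at h
        exact h }

section desc

variable {S M} (σ : Cocone (diag S M))

/-- the components of a cocone, as linear maps out of `M`. -/
noncomputable def σapp (s : S) : M →ₗ[A] σ.pt := (σ.ι.app ⟨s⟩).hom

theorem σ_nat (s t : S) (m : M) : σapp σ (s * t) ((t : A) • m) = σapp σ s m := by
  have := σ.w (show (⟨s⟩ : SCat S) ⟶ ⟨s * t⟩ from ⟨t, rfl⟩)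
  exact congrArg (fun φ => φ.hom m) this

theorem σ_wd (m m' : M) (s s' : S) (h : LocalizedModule.mk m s = LocalizedModule.mk m' s') :
    σapp σ s m = σapp σ s' m' := by
  obtain ⟨u, hu⟩ := LocalizedModule.mk_eq.1 h
  have h1 := σ_nat σ s (s' * u) m
  have h2 := σ_nat σ s' (s * u) m'
  have e0 : s' * (s * u) = s * (s' * u) := by
    rw [← mul_assoc, mul_comm s' s, mul_assoc]
  rw [e0] at h2
  rw [← h1, ← h2]
  congr 1
  have e1 : ((s' * u : S) : A) • m = u • s' • m := by
    rw [mul_comm, Submonoid.coe_mul, mul_smul]
    rfl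
  have e2 : ((s * u : S) : A) • m' = u • s • m' := by
    rw [mul_comm, Submonoid.coe_mul, mul_smul]
    rfl
  rw [e1, e2, hu]

theorem exists_rep (x : LocalizedModule S M) : ∃ p : M × S, LocalizedModule.mk p.1 p.2 = x := by
  induction x using LocalizedModule.induction_on with
  | h m s => exact ⟨(m, s), rfl⟩

/-- the descent map as a function. -/
noncomputable def descFun (x : LocalizedModule S M) : σ.pt :=
  σapp σ (Classical.choose (exists_rep x)).2 (Classical.choose (exists_rep x)).1

theorem descFun_mk (m : M) (s : S) : descFun σ (LocalizedModule.mk m s) = σapp σ s m :=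
  σ_wd σ _ _ _ _ (Classical.choose_spec (exists_rep (LocalizedModule.mk m s)))

/-- the descent map. -/
noncomputable def descLin : LocalizedModule S M →ₗ[A] σ.pt where
  toFun := descFun σ
  map_add' x y := by
    induction x using LocalizedModule.induction_on with
    | h m s =>
    induction y using LocalizedModule.induction_on with
    | h m' s' =>
    rw [LocalizedModule.mk_add_mk, descFun_mk, descFun_mk, descFun_mk, map_add]
    have h1 := σ_nat σ s s' m
    have h2 := σ_nat σ s' s m'
    rw [mul_comm s' s] at h2
    rw [← h1, ← h2]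
    rfl
  map_smul' a x := by
    induction x using LocalizedModule.induction_on with
    | h m s =>
    rw [LocalizedModule.smul'_mk, descFun_mk, descFun_mk, map_smul]
    rfl

end desc

/-- the localization is the colimit. -/
noncomputable def isColimit : IsColimit (cocone S M) where
  desc σ := ModuleCat.ofHom (descLin σ)
  fac σ s := by
    apply ModuleCat.hom_ext
    apply LinearMap.ext
    intro (m : M)
    show descFun σ (incl S M s.val m) = σapp σ s.val m
    rw [incl_apply S M s.val, descFun_mk]
  uniq σ φ hφ := by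
    apply ModuleCat.hom_ext
    apply LinearMap.ext
    intro x
    induction x using LocalizedModule.induction_on with
    | h m s =>
    show φ.hom (LocalizedModule.mk m s) = descFun σ (LocalizedModule.mk m s)
    rw [descFun_mk, ← incl_apply S M s]
    exact congrArg (fun ψ => ψ.hom m) (hφ ⟨s⟩)

section functor

variable (T : ModuleCat.{u} A ⥤ ModuleCat.{u} A) [T.Additive] [T.Linear A]

omit [T.Additive] in
theorem T_map_smul {M N : ModuleCat.{u} A} (a : A) (f : M ⟶ N) (x : T.obj M) :
    (T.map (a • f)).hom x = a • (T.map f).hom x := by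
  rw [Functor.map_smul]
  rfl

omit [T.Additive] in
theorem T_map_smul_id {M : ModuleCat.{u} A} (a : A) (x : T.obj M) :
    (T.map (ModuleCat.ofHom (a • (LinearMap.id : M →ₗ[A] M)))).hom x = a • x := by
  have : ModuleCat.ofHom (a • (LinearMap.id : M →ₗ[A] M)) = a • 𝟙 M := rfl
  rw [this, T_map_smul, CategoryTheory.Functor.map_id]
  rfl

omit [T.Additive] in
theorem isLocalizedModule_map
    (hT : ∀ (J : Type u) [SmallCategory J] [IsFiltered J], PreservesColimitsOfShape J T) :
    IsLocalizedModule S (T.map (ModuleCat.ofHom (LocalizedModule.mkLinearMap S M) :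
      M ⟶ ModuleCat.of A (LocalizedModule S M))).hom := by
  haveI := hT (SCat S)
  have hc : IsColimit (T.mapCocone (cocone S M)) := isColimitOfPreserves T (isColimit S M)
  have hι1 : (cocone S M).ι.app ⟨1⟩ = ModuleCat.ofHom (LocalizedModule.mkLinearMap S M) := by
    apply ModuleCat.hom_ext
    apply LinearMap.ext
    intro (m : M)
    show incl S M 1 m = LocalizedModule.mkLinearMap S M m
    rw [incl_apply S M 1, LocalizedModule.mkLinearMap_apply]
  -- `s • ι_s = ι_1`
  have hsι : ∀ s : S, (s : A) • (ModuleCat.ofHom (incl S M s) :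
      M ⟶ ModuleCat.of A (LocalizedModule S M)) =
      ModuleCat.ofHom (LocalizedModule.mkLinearMap S M) := by
    intro s
    apply ModuleCat.hom_ext
    apply LinearMap.ext
    intro (m : M)
    show (s : A) • incl S M s m = LocalizedModule.mkLinearMap S M m
    rw [incl_apply S M s, LocalizedModule.mkLinearMap_apply, LocalizedModule.smul'_mk]
    exact LocalizedModule.mk_cancel s m
  refine ⟨?_, ?_, ?_⟩
  · -- units
    intro s
    rw [Module.End.isUnit_iff]
    -- multiplication by `s` on `S⁻¹M` is an isomorphism
    let μ : ModuleCat.of A (LocalizedModule S M) ⟶ ModuleCat.of A (LocalizedModule S M) :=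
      ModuleCat.ofHom ((s : A) • (LinearMap.id : LocalizedModule S M →ₗ[A] LocalizedModule S M))
    let ν : ModuleCat.of A (LocalizedModule S M) ⟶ ModuleCat.of A (LocalizedModule S M) :=
      ModuleCat.ofHom (LocalizedModule.divBy s)
    have h1 : μ ≫ ν = 𝟙 _ := by
      apply ModuleCat.hom_ext
      apply LinearMap.ext
      intro x
      show LocalizedModule.divBy s ((s : A) • x) = x
      exact LocalizedModule.divBy_mul_by s x
    have h2 : ν ≫ μ = 𝟙 _ := by
      apply ModuleCat.hom_ext
      apply LinearMap.ext
      intro x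
      show (s : A) • LocalizedModule.divBy s x = x
      exact LocalizedModule.mul_by_divBy s x
    have h3 : T.map μ ≫ T.map ν = 𝟙 _ := by rw [← T.map_comp, h1, T.map_id]
    have h4 : T.map ν ≫ T.map μ = 𝟙 _ := by rw [← T.map_comp, h2, T.map_id]
    have hμ : ∀ y, (T.map μ).hom y = (s : A) • y := fun y => T_map_smul_id T (s : A) y
    constructor
    · intro y y' hyy'
      have e1 : (s : A) • y = (s : A) • y' := hyy'
      rw [← hμ, ← hμ] at e1
      have := congrArg (T.map ν).hom e1
      have k1 : ∀ z, (T.map ν).hom ((T.map μ).hom z) = z := fun z =>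
        congrArg (fun φ => φ.hom z) h3
      rwa [k1, k1] at this
    · intro y
      refine ⟨(T.map ν).hom y, ?_⟩
      show (s : A) • (T.map ν).hom y = y
      rw [← hμ]
      exact congrArg (fun φ => φ.hom y) h4
  · -- surjectivity up to denominators
    intro y
    obtain ⟨j, x, hx⟩ := Concrete.isColimit_exists_rep _ hc y
    have key : ∀ x' : T.obj M, (T.map (ModuleCat.ofHom (incl S M j.val) :
        M ⟶ ModuleCat.of A (LocalizedModule S M))).hom x' = y →
        (j.val : A) • y = (T.map (ModuleCat.ofHom (LocalizedModule.mkLinearMap S M) :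
          M ⟶ ModuleCat.of A (LocalizedModule S M))).hom x' := by
      intro x' hx'
      rw [← hsι j.val, T_map_smul, hx']
    exact ⟨((x : T.obj M), j.val), key x hx⟩
  · -- kernel
    intro x₁ x₂ h
    have h' : (T.mapCocone (cocone S M)).ι.app ⟨1⟩ x₁ = (T.mapCocone (cocone S M)).ι.app ⟨1⟩ x₂ := by
      show (T.map ((cocone S M).ι.app ⟨1⟩)).hom x₁ = (T.map ((cocone S M).ι.app ⟨1⟩)).hom x₂
      rw [hι1]
      exact h
    obtain ⟨k, f, g, hfg⟩ := (Concrete.isColimit_rep_eq_iff_exists _ hc x₁ x₂).1 h'
    refine ⟨f.1, ?_⟩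
    have hf : ((diag S M ⋙ T).map f) x₁ = (f.1 : A) • x₁ := T_map_smul_id T (f.1 : A) x₁
    have hg : ((diag S M ⋙ T).map g) x₂ = (g.1 : A) • x₂ := T_map_smul_id T (g.1 : A) x₂
    have hfg1 : f.1 = g.1 := by
      have e1 := f.2
      have e2 := g.2
      have : (1 : S) * f.1 = (1 : S) * g.1 := e1.trans e2.symm
      rwa [one_mul, one_mul] at this
    rw [hf, hg, ← hfg1] at hfg
    exact hfg

end functor

end Groth.Agent.H19.LocFilt
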