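import Mathlib
import Groth.Agent.H19.LocFilt

set_option autoImplicit false
universe u

/-!
Exactness of a linear functor preserving filtered colimits can be tested on the localizations at
maximal ideals.
-/

namespace Groth.Agent.H19.LocExact

open CategoryTheory CategoryTheory.Limits

variable {A : Type u} [CommRing A] (P : Ideal A) [P.IsPrime]

/-- localization at `P`, on objects. -/
noncomputable def Lobj (M : ModuleCat.{u} A) : ModuleCat.{u} (Localization.AtPrime P) :=
  ModuleCat.of _ (LocalizedModule P.primeCompl M)

/-- localization at `P`, on morphisms. -/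
noncomputable def Lmap {M N : ModuleCat.{u} A} (φ : M ⟶ N) : Lobj P M ⟶ Lobj P N :=
  ModuleCat.ofHom (LocalizedModule.map P.primeCompl φ.hom)

theorem Lmap_mk {M N : ModuleCat.{u} A} (φ : M ⟶ N) (m : M) (s : P.primeCompl) :
    (Lmap P φ).hom (LocalizedModule.mk m s) = LocalizedModule.mk (φ.hom m) s :=
  LocalizedModule.map_mk _ _ _ _

/-- the restricted localized module is the localized module. -/
noncomputable def eIso (M : ModuleCat.{u} A) :
    (ModuleCat.restrictScalars (algebraMap A (Localization.AtPrime P))).obj (Lobj P M) ≅
      ModuleCat.of A (LocalizedModule P.primeCompl M) :=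
  LinearEquiv.toModuleIso
    ({ toFun := fun x => x
       invFun := fun x => x
       map_add' := fun _ _ => rfl
       map_smul' := fun a x => by
         let x' : LocalizedModule P.primeCompl M := x
         show (algebraMap A (Localization.AtPrime P) a) • x' = a • x'
         exact algebraMap_smul (Localization.AtPrime P) a x'
       left_inv := fun _ => rfl
       right_inv := fun _ => rfl } :
      ((ModuleCat.restrictScalars (algebraMap A (Localization.AtPrime P))).obj (Lobj P M)) ≃ₗ[A]
        LocalizedModule P.primeCompl M)

/-- the localization map, into the restriction of scalars of the localized module. -/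
noncomputable def ι' (M : ModuleCat.{u} A) :
    M ⟶ (ModuleCat.restrictScalars (algebraMap A (Localization.AtPrime P))).obj (Lobj P M) :=
  (ModuleCat.ofHom (LocalizedModule.mkLinearMap P.primeCompl M) :
    M ⟶ ModuleCat.of A (LocalizedModule P.primeCompl M)) ≫ (eIso P M).inv

theorem ι'_apply (M : ModuleCat.{u} A) (m : M) :
    ((ι' P M).hom m : LocalizedModule P.primeCompl M) = LocalizedModule.mk m 1 := rfl

theorem ι'_natural {M N : ModuleCat.{u} A} (φ : M ⟶ N) :
    ι' P M ≫ (ModuleCat.restrictScalars (algebraMap A (Localization.AtPrime P))).map (Lmap P φ) =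
      φ ≫ ι' P N := by
  apply ModuleCat.hom_ext
  apply LinearMap.ext
  intro m
  show (Lmap P φ).hom (LocalizedModule.mk m 1) = LocalizedModule.mk (φ.hom m) 1
  exact Lmap_mk P φ m 1

section functor

variable (T : ModuleCat.{u} A ⥤ ModuleCat.{u} A) [T.Additive] [T.Linear A]
  (hT : ∀ (J : Type u) [SmallCategory J] [IsFiltered J], PreservesColimitsOfShape J T)

include hT in
omit [T.Additive] in
theorem isLocalizedModule_ι' (M : ModuleCat.{u} A) :
    IsLocalizedModule P.primeCompl (T.map (ι' P M)).hom := by
  haveI := Groth.Agent.H19.LocFilt.isLocalizedModule_map P.primeCompl M T hT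
  have h : (T.map (ι' P M)).hom = ((T.mapIso (eIso P M).symm).toLinearEquiv.toLinearMap) ∘ₗ
      (T.map (ModuleCat.ofHom (LocalizedModule.mkLinearMap P.primeCompl M) :
        M ⟶ ModuleCat.of A (LocalizedModule P.primeCompl M))).hom := by
    unfold ι'
    rw [T.map_comp]
    rfl
  rw [h]
  exact IsLocalizedModule.of_linearEquiv P.primeCompl _ _

/-- the functor on `A_P`-modules. -/
noncomputable abbrev TP : ModuleCat.{u} (Localization.AtPrime P) ⥤ ModuleCat.{u} A :=
  ModuleCat.restrictScalars (algebraMap A (Localization.AtPrime P)) ⋙ T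

include hT in
omit [T.Additive] in
/-- the induced map on localizations is `T_P` of the localized map. -/
theorem map_eq {M N : ModuleCat.{u} A} (φ : M ⟶ N) :
    haveI := isLocalizedModule_ι' P T hT M
    haveI := isLocalizedModule_ι' P T hT N
    IsLocalizedModule.map P.primeCompl (T.map (ι' P M)).hom (T.map (ι' P N)).hom (T.map φ).hom =
      ((TP P T).map (Lmap P φ)).hom := by
  haveI := isLocalizedModule_ι' P T hT M
  haveI := isLocalizedModule_ι' P T hT N
  apply IsLocalizedModule.linearMap_ext P.primeCompl (T.map (ι' P M)).hom (T.map (ι' P N)).hom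
  rw [IsLocalizedModule.map_comp]
  have h := congrArg (fun ψ => (T.map ψ).hom) (ι'_natural P φ)
  simp only [T.map_comp] at h
  exact h.symm

end functor

section shortExact

/-- the localized short complex. -/
noncomputable def LS (S : ShortComplex (ModuleCat.{u} A)) :
    ShortComplex (ModuleCat.{u} (Localization.AtPrime P)) :=
  ShortComplex.mk (Lmap P S.f) (Lmap P S.g) (by
    apply ModuleCat.hom_ext
    apply LinearMap.ext
    intro x
    induction x using LocalizedModule.induction_on with
    | h m s =>
    show (Lmap P S.g).hom ((Lmap P S.f).hom (LocalizedModule.mk m s)) = 0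
    rw [Lmap_mk, Lmap_mk]
    have : S.g.hom (S.f.hom m) = 0 := S.moduleCat_zero_apply m
    rw [this, LocalizedModule.zero_mk]
    rfl)

theorem LS_shortExact (S : ShortComplex (ModuleCat.{u} A)) (hS : S.ShortExact) :
    (LS P S).ShortExact := by
  apply ModuleCat.shortComplex_shortExact
  · have hex : Function.Exact S.f.hom S.g.hom :=
      (ShortComplex.ShortExact.moduleCat_exact_iff_function_exact S).1 hS.exact
    exact LocalizedModule.map_exact P.primeCompl S.f.hom S.g.hom hex
  · exact LocalizedModule.map_injective P.primeCompl S.f.hom hS.moduleCat_injective_f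
  · exact LocalizedModule.map_surjective P.primeCompl S.g.hom hS.moduleCat_surjective_g

end shortExact

section localGlobal

variable (T : ModuleCat.{u} A ⥤ ModuleCat.{u} A) [T.Linear A]
  (hT : ∀ (J : Type u) [SmallCategory J] [IsFiltered J], PreservesColimitsOfShape J T)

include hT

theorem exact_of_local {M N L : ModuleCat.{u} A} (F : M ⟶ N) (G : N ⟶ L)
    (H : ∀ (P : Ideal A) [P.IsMaximal], Function.Exact ((TP P T).map (Lmap P F)).hom
      ((TP P T).map (Lmap P G)).hom) : Function.Exact (T.map F).hom (T.map G).hom := by
  refine @exact_of_isLocalized_maximal A _ _ _ _ _ _ _ _ _ _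
    (fun P _ => T.obj ((ModuleCat.restrictScalars (algebraMap A (Localization.AtPrime P))).obj
      (Lobj P M))) _ _
    (fun P _ => (T.map (ι' P M)).hom) (fun P _ => isLocalizedModule_ι' P T hT M)
    (fun P _ => T.obj ((ModuleCat.restrictScalars (algebraMap A (Localization.AtPrime P))).obj
      (Lobj P N))) _ _
    (fun P _ => (T.map (ι' P N)).hom) (fun P _ => isLocalizedModule_ι' P T hT N)
    (fun P _ => T.obj ((ModuleCat.restrictScalars (algebraMap A (Localization.AtPrime P))).obj
      (Lobj P L))) _ _
    (fun P _ => (T.map (ι' P L)).hom) (fun P _ => isLocalizedModule_ι' P T hT L)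
    (T.map F).hom (T.map G).hom ?_
  intro P _
  have e1 := map_eq P T hT F
  have e2 := map_eq P T hT G
  haveI := isLocalizedModule_ι' P T hT M
  haveI := isLocalizedModule_ι' P T hT N
  haveI := isLocalizedModule_ι' P T hT L
  show Function.Exact
    (IsLocalizedModule.map P.primeCompl (T.map (ι' P M)).hom (T.map (ι' P N)).hom (T.map F).hom)
    (IsLocalizedModule.map P.primeCompl (T.map (ι' P N)).hom (T.map (ι' P L)).hom (T.map G).hom)
  rw [e1, e2]
  exact H P

theorem injective_of_local {M N : ModuleCat.{u} A} (F : M ⟶ N)
    (H : ∀ (P : Ideal A) [P.IsMaximal], Function.Injective ((TP P T).map (Lmap P F)).hom) :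
    Function.Injective (T.map F).hom := by
  refine @injective_of_isLocalized_maximal A _ _ _ _ _ _ _
    (fun P _ => T.obj ((ModuleCat.restrictScalars (algebraMap A (Localization.AtPrime P))).obj
      (Lobj P M))) _ _
    (fun P _ => (T.map (ι' P M)).hom) (fun P _ => isLocalizedModule_ι' P T hT M)
    (fun P _ => T.obj ((ModuleCat.restrictScalars (algebraMap A (Localization.AtPrime P))).obj
      (Lobj P N))) _ _
    (fun P _ => (T.map (ι' P N)).hom) (fun P _ => isLocalizedModule_ι' P T hT N)
    (T.map F).hom ?_
  intro P _
  have e1 := map_eq P T hT F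
  haveI := isLocalizedModule_ι' P T hT M
  haveI := isLocalizedModule_ι' P T hT N
  show Function.Injective (IsLocalizedModule.map P.primeCompl (T.map (ι' P M)).hom (T.map (ι' P N)).hom (T.map F).hom)
  rw [e1]
  exact H P

theorem surjective_of_local {M N : ModuleCat.{u} A} (F : M ⟶ N)
    (H : ∀ (P : Ideal A) [P.IsMaximal], Function.Surjective ((TP P T).map (Lmap P F)).hom) :
    Function.Surjective (T.map F).hom := by
  refine @surjective_of_isLocalized_maximal A _ _ _ _ _ _ _
    (fun P _ => T.obj ((ModuleCat.restrictScalars (algebraMap A (Localization.AtPrime P))).obj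
      (Lobj P M))) _ _
    (fun P _ => (T.map (ι' P M)).hom) (fun P _ => isLocalizedModule_ι' P T hT M)
    (fun P _ => T.obj ((ModuleCat.restrictScalars (algebraMap A (Localization.AtPrime P))).obj
      (Lobj P N))) _ _
    (fun P _ => (T.map (ι' P N)).hom) (fun P _ => isLocalizedModule_ι' P T hT N)
    (T.map F).hom ?_
  intro P _
  have e1 := map_eq P T hT F
  haveI := isLocalizedModule_ι' P T hT M
  haveI := isLocalizedModule_ι' P T hT N
  show Function.Surjective (IsLocalizedModule.map P.primeCompl (T.map (ι' P M)).hom (T.map (ι' P N)).hom (T.map F).hom)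
  rw [e1]
  exact H P

end localGlobal

end Groth.Agent.H19.LocExact
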