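import Mathlib
import Groth.Prelude.Def_EtMil
import Groth.Agent.H19.FlatCech
import Groth.Agent.H19.TorZero
import Groth.Agent.S14422

set_option autoImplicit false
universe u

/-!
Milnor squares and `Tor_1`: the unit of the glueing adjunction is injective iff
`Tor_1(L', B) ⊕ Tor_1(L', A') → Tor_1(L', A)` is surjective.
-/

namespace Groth.Agent.H19.Milnor

open CategoryTheory CategoryTheory.Limits TensorProduct Function MonoidalCategory

section general

variable {R : Type u} [CommRing R] (L : ModuleCat.{u} R)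

theorem tor0_nat_apply {X Y : ModuleCat.{u} R} (f : X ⟶ Y)
    (y : ((Tor (ModuleCat.{u} R) 0).obj L).obj X) :
    ((Groth.Agent.H19.TorZero.tor0Iso L).hom.app Y).hom
        ((((Tor (ModuleCat.{u} R) 0).obj L).map f).hom y) =
      f.hom.lTensor L (((Groth.Agent.H19.TorZero.tor0Iso L).hom.app X).hom y) :=
  congrArg (fun g => g.hom y) ((Groth.Agent.H19.TorZero.tor0Iso L).hom.naturality f)

/-- `Tor_0(L, f)` is mono iff `L ⊗ f` is injective. -/
theorem mono_tor_zero_iff {X Y : ModuleCat.{u} R} (f : X ⟶ Y) :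
    Mono (((Tor (ModuleCat.{u} R) 0).obj L).map f) ↔ Injective (f.hom.lTensor L) := by
  rw [ModuleCat.mono_iff_injective]
  constructor
  · intro h t t' htt'
    obtain ⟨y, rfl⟩ := (Groth.Agent.H19.TorZero.tor0Iso_bijective L X).2 t
    obtain ⟨y', rfl⟩ := (Groth.Agent.H19.TorZero.tor0Iso_bijective L X).2 t'
    rw [← tor0_nat_apply, ← tor0_nat_apply] at htt'
    have := h ((Groth.Agent.H19.TorZero.tor0Iso_bijective L Y).1 htt')
    rw [this]
  · intro h y y' hyy'
    apply (Groth.Agent.H19.TorZero.tor0Iso_bijective L X).1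
    apply h
    rw [← tor0_nat_apply, ← tor0_nat_apply, hyy']


/-- joint surjectivity of a `biprod.desc`. -/
theorem epi_biprod_desc_iff {X Y Z : ModuleCat.{u} R} (u : X ⟶ Z) (v : Y ⟶ Z) :
    Epi (biprod.desc u v) ↔ ∀ z : Z, ∃ (x : X) (y : Y), u.hom x + v.hom y = z := by
  rw [ModuleCat.epi_iff_surjective]
  constructor
  · intro h z
    obtain ⟨w, hw⟩ := h z
    refine ⟨(biprod.fst : X ⊞ Y ⟶ X).hom w, (biprod.snd : X ⊞ Y ⟶ Y).hom w, ?_⟩
    have htot : (biprod.fst ≫ biprod.inl + biprod.snd ≫ biprod.inr : X ⊞ Y ⟶ X ⊞ Y) = 𝟙 _ :=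
      biprod.total
    have h1 : (biprod.desc u v).hom w =
        ((biprod.fst ≫ biprod.inl + biprod.snd ≫ biprod.inr : X ⊞ Y ⟶ X ⊞ Y) ≫
          biprod.desc u v).hom w := by
      rw [htot, Category.id_comp]
    rw [← hw, h1, Preadditive.add_comp, Category.assoc, Category.assoc, biprod.inl_desc,
      biprod.inr_desc]
    rfl
  · intro h z
    obtain ⟨x, y, hxy⟩ := h z
    refine ⟨(biprod.inl : X ⟶ X ⊞ Y).hom x + (biprod.inr : Y ⟶ X ⊞ Y).hom y, ?_⟩
    rw [map_add]
    have h1 : (biprod.desc u v).hom ((biprod.inl : X ⟶ X ⊞ Y).hom x) = u.hom x := by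
      have := congrArg (fun t => t.hom x) (biprod.inl_desc u v)
      exact this
    have h2 : (biprod.desc u v).hom ((biprod.inr : Y ⟶ X ⊞ Y).hom y) = v.hom y := by
      have := congrArg (fun t => t.hom y) (biprod.inr_desc u v)
      exact this
    rw [h1, h2, hxy]

end general

section general

variable {R : Type u} [CommRing R] (L : ModuleCat.{u} R)

/-- the functor `Tor_1(L, -)`. -/
noncomputable abbrev T1 : ModuleCat.{u} R ⥤ ModuleCat.{u} R := (Tor (ModuleCat.{u} R) 1).obj L

theorem epi_iff_mono (S : ShortComplex (ModuleCat.{u} R)) (hS : S.ShortExact) :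
    Epi (((Tor (ModuleCat.{u} R) 1).obj L).map S.g) ↔
      Mono (((Tor (ModuleCat.{u} R) 0).obj L).map S.f) := by
  obtain ⟨_, _, δ, w₁, w₂, h₁, h₂⟩ := Groth.Agent.S14422.result R L S hS 0
  have e1 : Epi (((Tor (ModuleCat.{u} R) 1).obj L).map S.g) ↔ δ = 0 := h₁.epi_f_iff
  have e2 : Mono (((Tor (ModuleCat.{u} R) 0).obj L).map S.f) ↔ δ = 0 := h₂.mono_g_iff
  rw [e1, e2]

variable (X Y : Type u) [AddCommGroup X] [Module R X] [AddCommGroup Y] [Module R Y]

theorem decomp (w : (T1 L).obj (ModuleCat.of R (X × Y))) :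
    ∃ (x : (T1 L).obj (ModuleCat.of R X)) (y : (T1 L).obj (ModuleCat.of R Y)),
      w = ((T1 L).map (ModuleCat.ofHom (LinearMap.inl R X Y))).hom x +
        ((T1 L).map (ModuleCat.ofHom (LinearMap.inr R X Y))).hom y := by
  have hS := Groth.Agent.H19.FlatCech.scOf_shortExact (LinearMap.inl R X Y) (LinearMap.snd R X Y)
    Function.Exact.inl_snd LinearMap.inl_injective LinearMap.snd_surjective
  obtain ⟨⟨w₀, hex⟩, _, _⟩ := Groth.Agent.S14422.result R L _ hS 1
  rw [ShortComplex.moduleCat_exact_iff] at hex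
  let y := ((T1 L).map (ModuleCat.ofHom (LinearMap.snd R X Y))).hom w
  have hrs : ModuleCat.ofHom (LinearMap.inr R X Y) ≫ ModuleCat.ofHom (LinearMap.snd R X Y) =
      𝟙 (ModuleCat.of R Y) := by
    apply ModuleCat.hom_ext
    apply LinearMap.ext
    intro t
    rfl
  have h1 : ((T1 L).map (ModuleCat.ofHom (LinearMap.snd R X Y))).hom
      (w - ((T1 L).map (ModuleCat.ofHom (LinearMap.inr R X Y))).hom y) = 0 := by
    rw [map_sub]
    have h2 : ((T1 L).map (ModuleCat.ofHom (LinearMap.snd R X Y))).hom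
        (((T1 L).map (ModuleCat.ofHom (LinearMap.inr R X Y))).hom y) = y := by
      have := congrArg (fun t => t.hom y) ((T1 L).map_comp (ModuleCat.ofHom (LinearMap.inr R X Y))
        (ModuleCat.ofHom (LinearMap.snd R X Y)))
      rw [hrs, CategoryTheory.Functor.map_id] at this
      exact this.symm
    rw [h2]
    exact sub_self _
  obtain ⟨x, hx⟩ := hex _ h1
  refine ⟨x, y, ?_⟩
  have hx' : ((T1 L).map (ModuleCat.ofHom (LinearMap.inl R X Y))).hom x =
      w - ((T1 L).map (ModuleCat.ofHom (LinearMap.inr R X Y))).hom y := hx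
  rw [hx']
  abel

end general


section general

variable {R : Type u} [CommRing R] (L : ModuleCat.{u} R)

variable (X Y Z : Type u) [AddCommGroup X] [Module R X] [AddCommGroup Y] [Module R Y]
  [AddCommGroup Z] [Module R Z]

theorem epi_coprod_iff (u : X →ₗ[R] Z) (v : Y →ₗ[R] Z) :
    Epi ((T1 L).map (ModuleCat.ofHom (u.coprod v))) ↔
      ∀ z : (T1 L).obj (ModuleCat.of R Z), ∃ (x : (T1 L).obj (ModuleCat.of R X))
        (y : (T1 L).obj (ModuleCat.of R Y)),
        ((T1 L).map (ModuleCat.ofHom u)).hom x + ((T1 L).map (ModuleCat.ofHom v)).hom y = z := by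
  have hu : ModuleCat.ofHom (LinearMap.inl R X Y) ≫ ModuleCat.ofHom (u.coprod v) =
      ModuleCat.ofHom u := by
    apply ModuleCat.hom_ext
    apply LinearMap.ext
    intro t
    simp
  have hv : ModuleCat.ofHom (LinearMap.inr R X Y) ≫ ModuleCat.ofHom (u.coprod v) =
      ModuleCat.ofHom v := by
    apply ModuleCat.hom_ext
    apply LinearMap.ext
    intro t
    simp
  have hu' : ∀ x, ((T1 L).map (ModuleCat.ofHom (u.coprod v))).hom
      (((T1 L).map (ModuleCat.ofHom (LinearMap.inl R X Y))).hom x) =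
      ((T1 L).map (ModuleCat.ofHom u)).hom x := by
    intro x
    have := congrArg (fun t => t.hom x) ((T1 L).map_comp (ModuleCat.ofHom (LinearMap.inl R X Y))
      (ModuleCat.ofHom (u.coprod v)))
    rw [hu] at this
    exact this.symm
  have hv' : ∀ y, ((T1 L).map (ModuleCat.ofHom (u.coprod v))).hom
      (((T1 L).map (ModuleCat.ofHom (LinearMap.inr R X Y))).hom y) =
      ((T1 L).map (ModuleCat.ofHom v)).hom y := by
    intro y
    have := congrArg (fun t => t.hom y) ((T1 L).map_comp (ModuleCat.ofHom (LinearMap.inr R X Y))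
      (ModuleCat.ofHom (u.coprod v)))
    rw [hv] at this
    exact this.symm
  rw [ModuleCat.epi_iff_surjective]
  constructor
  · intro h z
    obtain ⟨w, hw⟩ := h z
    obtain ⟨x, y, hxy⟩ := decomp L X Y w
    refine ⟨x, y, ?_⟩
    rw [← hw, hxy, map_add, hu', hv']
  · intro h z
    obtain ⟨x, y, hxy⟩ := h z
    refine ⟨((T1 L).map (ModuleCat.ofHom (LinearMap.inl R X Y))).hom x +
      ((T1 L).map (ModuleCat.ofHom (LinearMap.inr R X Y))).hom y, ?_⟩
    rw [map_add, hu', hv', hxy]

end general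


section milnor

variable (B' B A' A : Type u) [CommRing B'] [CommRing B] [CommRing A'] [CommRing A]
    [Algebra B' B] [Algebra B' A'] [Algebra B A] [Algebra A' A] [Algebra B' A]
    [IsScalarTower B' B A] [IsScalarTower B' A' A]

/-- `b' ↦ (b', -b')`. -/
noncomputable def fM : B' →ₗ[B'] B × A' :=
  (Algebra.linearMap B' B).prod (-(Algebra.linearMap B' A'))

/-- `(b, a') ↦ b + a'` in `A`. -/
noncomputable def gM : B × A' →ₗ[B'] A :=
  ((IsScalarTower.toAlgHom B' B A).toLinearMap).coprod ((IsScalarTower.toAlgHom B' A' A).toLinearMap)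

theorem fM_apply (b' : B') : fM B' B A' b' = (algebraMap B' B b', -algebraMap B' A' b') := rfl

theorem gM_apply (x : B × A') : gM B' B A' A x = algebraMap B A x.1 + algebraMap A' A x.2 := by
  simp [gM]

variable {B' B A' A}

theorem exact_fg (hsq : EtMil.IsFibreSquare B' B A' A) :
    Function.Exact (fM B' B A') (gM B' B A' A) := by
  intro y
  rw [gM_apply]
  constructor
  · intro h
    have h' : algebraMap B A y.1 = algebraMap A' A (-y.2) := by
      rw [map_neg]
      exact eq_neg_of_add_eq_zero_left h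
    obtain ⟨b', ⟨hb1, hb2⟩, -⟩ := hsq.2 y.1 (-y.2) h'
    refine ⟨b', ?_⟩
    rw [fM_apply, hb1, hb2, neg_neg]
  · rintro ⟨b', rfl⟩
    rw [fM_apply]
    simp only [map_neg]
    rw [← IsScalarTower.algebraMap_apply, ← IsScalarTower.algebraMap_apply, add_neg_cancel]

theorem inj_f (hsq : EtMil.IsFibreSquare B' B A' A) : Injective (fM B' B A') := by
  rw [injective_iff_map_eq_zero]
  intro b' hb'
  rw [fM_apply, Prod.mk_eq_zero, neg_eq_zero] at hb'
  obtain ⟨c, -, hc⟩ := hsq.2 0 0 (by simp)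
  rw [hc b' hb', hc 0 ⟨map_zero _, map_zero _⟩]

theorem surj_g (hsq : EtMil.IsFibreSquare B' B A' A) : Surjective (gM B' B A' A) := by
  intro a
  obtain ⟨a', ha'⟩ := hsq.1 a
  refine ⟨(0, a'), ?_⟩
  rw [gM_apply]
  simp [ha']

variable (B' B A')

theorem lTensor_inj_iff (L' : Type u) [AddCommGroup L'] [Module B' L'] :
    Injective ((fM B' B A').lTensor L') ↔
      (∀ l : L', ((1 : B) ⊗ₜ[B'] l : B ⊗[B'] L') = 0 → ((1 : A') ⊗ₜ[B'] l : A' ⊗[B'] L') = 0 →
        l = 0) := by
  have key : ∀ l : L', (fM B' B A').lTensor L' (l ⊗ₜ[B'] (1 : B')) = 0 ↔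
      (((1 : B) ⊗ₜ[B'] l : B ⊗[B'] L') = 0 ∧ ((1 : A') ⊗ₜ[B'] l : A' ⊗[B'] L') = 0) := by
    intro l
    rw [LinearMap.lTensor_tmul, fM_apply, map_one, map_one,
      ← (TensorProduct.prodRight B' B' L' B A').map_eq_zero_iff, TensorProduct.prodRight_tmul,
      Prod.mk_eq_zero, ← (TensorProduct.comm B' L' B).map_eq_zero_iff,
      ← (TensorProduct.comm B' L' A').map_eq_zero_iff, TensorProduct.comm_tmul,
      TensorProduct.comm_tmul, TensorProduct.neg_tmul, neg_eq_zero]
  rw [injective_iff_map_eq_zero]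
  constructor
  · intro h l h1 h2
    have := h (l ⊗ₜ[B'] (1 : B')) ((key l).2 ⟨h1, h2⟩)
    have h3 := congrArg (TensorProduct.rid B' L') this
    rw [TensorProduct.rid_tmul, one_smul, map_zero] at h3
    exact h3
  · intro h t ht
    obtain ⟨l, rfl⟩ := (TensorProduct.rid B' L').symm.surjective t
    rw [TensorProduct.rid_symm_apply] at ht ⊢
    obtain ⟨h1, h2⟩ := (key l).1 ht
    rw [h l h1 h2, TensorProduct.zero_tmul]

end milnor

end Groth.Agent.H19.Milnor
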