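import Mathlib
import Groth.Agent.H19.Samuel11
import Groth.Agent.H19.Reduction2

set_option autoImplicit false
universe u

namespace Groth.Agent.H19.MultPos

open Groth.Agent.H19.Samuel Groth.Agent.H19.Reduction Polynomial Filter Topology

theorem tendsto_eval_div_pow (P : ℚ[X]) (r : ℕ) (hP : P.natDegree = r) (hP0 : P ≠ 0) :
    Tendsto (fun m : ℕ => ((P.eval (m : ℚ) : ℚ) : ℝ) / (m : ℝ) ^ r) atTop
      (𝓝 ((P.leadingCoeff : ℚ) : ℝ)) := by
  have hdeg : (P.map (algebraMap ℚ ℝ)).degree = ((X : ℝ[X]) ^ r).degree := by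
    rw [Polynomial.degree_X_pow, Polynomial.degree_map, Polynomial.degree_eq_natDegree hP0, hP]
  have h2 := Polynomial.div_tendsto_leadingCoeff_div_of_degree_eq _ _ hdeg
  have h3 := h2.comp (tendsto_natCast_atTop_atTop (R := ℝ))
  have hlc : (P.map (algebraMap ℚ ℝ)).leadingCoeff / ((X : ℝ[X]) ^ r).leadingCoeff =
      ((P.leadingCoeff : ℚ) : ℝ) := by
    rw [Polynomial.leadingCoeff_X_pow, div_one, Polynomial.leadingCoeff_map]
    rfl
  rw [hlc] at h3
  refine h3.congr ?_
  intro m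
  simp only [Function.comp_apply, Polynomial.eval_pow, Polynomial.eval_X]
  congr 1
  rw [Polynomial.eval_map]
  have : ((m : ℕ) : ℝ) = algebraMap ℚ ℝ (m : ℚ) := by simp
  rw [this, Polynomial.eval₂_at_apply]
  rfl

theorem main_S19208 (O : Type u) [CommRing O] [IsNoetherianRing O]
    [IsLocalRing O] (r : ℕ) (hr : ringKrullDim O = r)
    (ε : ℝ) (hε : 0 < ε) :
    ∃ (I : Ideal O) (e : ℝ), I ≤ IsLocalRing.maximalIdeal O ∧
      (∃ N : ℕ, IsLocalRing.maximalIdeal O ^ N ≤ I) ∧
      Tendsto (fun n : ℕ => (r.factorial : ℝ) * ((Module.length O (O ⧸ I ^ n)).toNat : ℝ) / (n : ℝ) ^ r)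
        atTop (nhds e) ∧
      (1 - ε) * ((r.factorial : ℝ) * ((Module.length O (O ⧸ I)).toNat : ℝ)) ≤ e := by
  have hJ : Ring.jacobson O = IsLocalRing.maximalIdeal O := IsLocalRing.ringJacobson_eq_maximalIdeal O
  set P := spoly (Ring.jacobson O) O isDefIdeal_jacobson with hP
  obtain ⟨N₀, hN₀⟩ := spoly_spec (Ring.jacobson O) O isDefIdeal_jacobson
  have hsd : Module.supportDim O O = (r : WithBot ℕ∞) := by
    rw [Module.supportDim_self_eq_ringKrullDim, hr]
  have hdeg : P.natDegree = r :=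
    le_antisymm (natDegree_spoly_le_of_supportDim_le r O hsd.le) (le_natDegree_spoly O r hsd.ge)
  have hpos : 0 < P.leadingCoeff := spoly_leadingCoeff_pos (Ring.jacobson O) O isDefIdeal_jacobson le_rfl
  have hP0 : P ≠ 0 := by
    intro h
    rw [h] at hpos
    simp at hpos
  -- u(n) → r! a
  set u : ℕ → ℝ := fun n => (r.factorial : ℝ) *
    ((Module.length O (O ⧸ (IsLocalRing.maximalIdeal O) ^ n)).toNat : ℝ) / (n : ℝ) ^ r with hu
  set e₀ : ℝ := (r.factorial : ℝ) * ((P.leadingCoeff : ℚ) : ℝ) with he₀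
  have he₀pos : 0 < e₀ := by
    apply mul_pos (by positivity)
    exact_mod_cast hpos
  have hulim : Tendsto u atTop (𝓝 e₀) := by
    have h1 := (tendsto_eval_div_pow P r hdeg hP0).const_mul (r.factorial : ℝ)
    refine h1.congr' ?_
    filter_upwards [eventually_ge_atTop N₀] with n hn
    rw [hu]
    simp only
    rw [hN₀ n hn, ← lenQ_pow_eq_samuel, hJ]
    unfold lenQ
    push_cast
    ring
  -- choose N
  have hlim2 : Tendsto (fun n => (1 - ε) * u n) atTop (𝓝 ((1 - ε) * e₀)) := hulim.const_mul _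
  have hlt : (1 - ε) * e₀ < e₀ := by nlinarith
  have hev := hlim2.eventually (eventually_lt_nhds hlt)
  obtain ⟨N, hN, hN1⟩ := (hev.and (eventually_ge_atTop 1)).exists
  refine ⟨IsLocalRing.maximalIdeal O ^ N, (N : ℝ) ^ r * e₀, ?_, ⟨N, le_rfl⟩, ?_, ?_⟩
  · exact Ideal.pow_le_self (by omega)
  · have hmul : Tendsto (fun n : ℕ => N * n) atTop atTop :=
      Filter.tendsto_atTop_mono (fun n => Nat.le_mul_of_pos_left n (by omega)) tendsto_id
    have h1 := (hulim.comp hmul).const_mul ((N : ℝ) ^ r)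
    refine h1.congr ?_
    intro n
    simp only [Function.comp_apply, hu]
    rw [← pow_mul]
    have hNr : ((N : ℝ) ^ r) ≠ 0 := by positivity
    push_cast
    rw [mul_pow]
    by_cases hn : ((n : ℝ) ^ r) = 0
    · rw [hn]; simp
    · field_simp
  · have h1 : (1 - ε) * u N < e₀ := hN
    have hNr : (0 : ℝ) < (N : ℝ) ^ r := by positivity
    have h2 : u N * (N : ℝ) ^ r = (r.factorial : ℝ) *
        ((Module.length O (O ⧸ (IsLocalRing.maximalIdeal O) ^ N)).toNat : ℝ) := by
      rw [hu]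
      simp only
      field_simp
    rw [← h2]
    nlinarith

end Groth.Agent.H19.MultPos
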