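import Mathlib
import Groth.Agent.H19.TorFlip
import Groth.Agent.H19.TorZero
import Groth.Agent.H19.TorFirst
import Groth.Agent.H19.Node1

set_option autoImplicit false
universe u

namespace Groth.Agent.H19.NodeTor

open CategoryTheory CategoryTheory.Limits

section lengths

variable {A : Type u} [CommRing A]

/-- the length of a module in `ModuleCat`. -/
noncomputable abbrev len (X : ModuleCat.{u} A) : ℕ∞ := Module.length A X

theorem len_eq_of_iso {X Y : ModuleCat.{u} A} (e : X ≅ Y) : len X = len Y :=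
  e.toLinearEquiv.length_eq

variable (S : ShortComplex (ModuleCat.{u} A)) (hS : S.ShortExact) (M : ModuleCat.{u} A) (i : ℕ)

include hS in
/-- if `Tor_{i+1}(X₂, M) = 0` and `Tor_i(f, M) = 0` then `Tor_{i+1}(X₃, M) ≅ Tor_i(X₁, M)`. -/
theorem len_δ (h2 : IsZero (((Tor (ModuleCat.{u} A) (i + 1)).obj S.X₂).obj M))
    (hf : ((Tor (ModuleCat.{u} A) i).map S.f).app M = 0) :
    len (((Tor (ModuleCat.{u} A) (i + 1)).obj S.X₃).obj M) =
      len (((Tor (ModuleCat.{u} A) i).obj S.X₁).obj M) := by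
  have e3 := Groth.Agent.H19.TorFirst.exact₃ S hS M i
  have e1 := Groth.Agent.H19.TorFirst.exact₁ S hS M i
  haveI : Mono (Groth.Agent.H19.TorFirst.δ S hS M i) := e3.mono_g (h2.eq_of_src _ _)
  haveI : Epi (Groth.Agent.H19.TorFirst.δ S hS M i) := e1.epi_f hf
  haveI : IsIso (Groth.Agent.H19.TorFirst.δ S hS M i) := isIso_of_mono_of_epi _
  exact len_eq_of_iso (asIso (Groth.Agent.H19.TorFirst.δ S hS M i))

include hS in
/-- if `Tor_{i+1}(f, M) = 0` and `Tor_i(f, M) = 0` then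
`ℓ Tor_{i+1}(X₃, M) = ℓ Tor_{i+1}(X₂, M) + ℓ Tor_i(X₁, M)`. -/
theorem len_add (hf' : ((Tor (ModuleCat.{u} A) (i + 1)).map S.f).app M = 0)
    (hf : ((Tor (ModuleCat.{u} A) i).map S.f).app M = 0) :
    len (((Tor (ModuleCat.{u} A) (i + 1)).obj S.X₃).obj M) =
      len (((Tor (ModuleCat.{u} A) (i + 1)).obj S.X₂).obj M) +
        len (((Tor (ModuleCat.{u} A) i).obj S.X₁).obj M) := by
  have e2 := Groth.Agent.H19.TorFirst.exact₂ S hS M (i + 1)
  have e3 := Groth.Agent.H19.TorFirst.exact₃ S hS M i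
  have e1 := Groth.Agent.H19.TorFirst.exact₁ S hS M i
  haveI : Mono (((Tor (ModuleCat.{u} A) (i + 1)).map S.g).app M) := e2.mono_g hf'
  haveI : Epi (Groth.Agent.H19.TorFirst.δ S hS M i) := e1.epi_f hf
  refine Module.length_eq_add_of_exact (((Tor (ModuleCat.{u} A) (i + 1)).map S.g).app M).hom
    (Groth.Agent.H19.TorFirst.δ S hS M i).hom ?_ ?_ ?_
  · exact (ModuleCat.mono_iff_injective _).1 inferInstance
  · exact (ModuleCat.epi_iff_surjective _).1 inferInstance
  · exact (ShortComplex.ShortExact.moduleCat_exact_iff_function_exact _).1 e3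

/-- `Tor_0(φ, X) = 0` if `φ ⊗ X = 0`. -/
theorem tor0_map_eq_zero {L L' : ModuleCat.{u} A} (φ : L ⟶ L') (X : ModuleCat.{u} A)
    (h : φ.hom.rTensor X = 0) : ((Tor (ModuleCat.{u} A) 0).map φ).app X = 0 := by
  ext y
  apply (Groth.Agent.H19.TorZero.tor0Iso_bijective L' X).1
  have h1 := Groth.Agent.H19.TorZero.tor0Iso_naturality_apply φ X y
  rw [h1]
  have h2 : (MonoidalCategory.whiskerRight φ X).hom
      (((Groth.Agent.H19.TorZero.tor0Iso L).hom.app X).hom y) =
      φ.hom.rTensor X (((Groth.Agent.H19.TorZero.tor0Iso L).hom.app X).hom y) := rfl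
  rw [h2, h]
  simp

end lengths

end Groth.Agent.H19.NodeTor
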