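import Mathlib
import Groth.Agent.H19.FlatCech
import Groth.Agent.H19.Node2

set_option autoImplicit false
universe u

namespace Groth.Agent.H19.NodeTor

open CategoryTheory CategoryTheory.Limits TensorProduct

section abstract

variable {A : Type u} [CommRing A] (x y : A)

/-- `A/(y) → A`, multiplication by `x` (when `y * x = 0`). -/
noncomputable def mulMap (hyx : y * x = 0) : (A ⧸ Ideal.span {y}) →ₗ[A] A :=
  Submodule.liftQ (Ideal.span {y}) (LinearMap.toSpanSingleton A A x) (by
    rw [Ideal.span, Submodule.span_le]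
    intro a ha
    rw [Set.mem_singleton_iff] at ha
    subst ha
    show LinearMap.toSpanSingleton A A x a = 0
    rw [LinearMap.toSpanSingleton_apply, smul_eq_mul, hyx])

theorem mulMap_mk (hyx : y * x = 0) (a : A) :
    mulMap x y hyx (Submodule.Quotient.mk a) = a * x := rfl

theorem mulMap_exact (hyx : y * x = 0) :
    Function.Exact (mulMap x y hyx) (Submodule.mkQ (Ideal.span {x})) := by
  intro a
  rw [Submodule.mkQ_apply, Submodule.Quotient.mk_eq_zero]
  constructor
  · intro h
    obtain ⟨b, hb⟩ := Ideal.mem_span_singleton'.1 h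
    exact ⟨Submodule.Quotient.mk b, by rw [mulMap_mk, hb]⟩
  · rintro ⟨q, rfl⟩
    obtain ⟨b, rfl⟩ := Submodule.Quotient.mk_surjective _ q
    rw [mulMap_mk]
    exact Ideal.mem_span_singleton'.2 ⟨b, rfl⟩

theorem mulMap_injective (hyx : y * x = 0) (hann : ∀ a : A, a * x = 0 → a ∈ Ideal.span {y}) :
    Function.Injective (mulMap x y hyx) := by
  rw [injective_iff_map_eq_zero]
  intro q hq
  obtain ⟨b, rfl⟩ := Submodule.Quotient.mk_surjective _ q
  rw [mulMap_mk] at hq
  exact (Submodule.Quotient.mk_eq_zero _).2 (hann b hq)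

variable (K : Type u) [AddCommGroup K] [Module A K]

theorem mulMap_rTensor_eq_zero (hyx : y * x = 0) (hxK : ∀ k : K, x • k = 0) :
    (mulMap x y hyx).rTensor K = 0 := by
  apply TensorProduct.ext'
  intro q k
  obtain ⟨b, rfl⟩ := Submodule.Quotient.mk_surjective _ q
  rw [LinearMap.rTensor_tmul, mulMap_mk, LinearMap.zero_apply, mul_comm, ← smul_eq_mul,
    TensorProduct.smul_tmul, hxK, TensorProduct.tmul_zero]

/-- `ℓ Tor_{i+1}(A/x, K) = ℓ Tor_i(A/y, K)`. -/
theorem len_step (hyx : y * x = 0) (hann : ∀ a : A, a * x = 0 → a ∈ Ideal.span {y})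
    (hxK : ∀ k : K, x • k = 0) (i : ℕ) :
    len (((Tor (ModuleCat.{u} A) (i + 1)).obj (ModuleCat.of A (A ⧸ Ideal.span {x}))).obj
        (ModuleCat.of A K)) =
      len (((Tor (ModuleCat.{u} A) i).obj (ModuleCat.of A (A ⧸ Ideal.span {y}))).obj
        (ModuleCat.of A K)) := by
  have hS := Groth.Agent.H19.FlatCech.scOf_shortExact (mulMap x y hyx)
    (Submodule.mkQ (Ideal.span {x})) (mulMap_exact x y hyx) (mulMap_injective x y hyx hann)
    (Submodule.mkQ_surjective _)
  haveI : Projective (ModuleCat.of A A) := ModuleCat.projective_of_categoryTheory_projective _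
  refine len_δ _ hS (ModuleCat.of A K) i (isZero_tor_of_projective (ModuleCat.of A A) _ i) ?_
  rcases Nat.eq_zero_or_pos i with hi | hi
  · subst hi
    exact tor0_map_eq_zero _ _ (mulMap_rTensor_eq_zero x y K hyx hxK)
  · obtain ⟨j, rfl⟩ : ∃ j, i = j + 1 := ⟨i - 1, by omega⟩
    exact (isZero_tor_of_projective (ModuleCat.of A A) (ModuleCat.of A K) j).eq_of_tgt _ _

/-- `ℓ Tor_0(A/x, K) = ℓ K` if `x K = 0`. -/
theorem len_zero (hxK : ∀ k : K, x • k = 0) :
    len (((Tor (ModuleCat.{u} A) 0).obj (ModuleCat.of A (A ⧸ Ideal.span {x}))).obj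
        (ModuleCat.of A K)) = Module.length A K := by
  have h1 := len_eq_of_iso ((Groth.Agent.H19.TorZero.tor0Iso
    (ModuleCat.of A (A ⧸ Ideal.span {x}))).app (ModuleCat.of A K))
  have hbot : (Ideal.span {x} • (⊤ : Submodule A K)) = ⊥ := by
    rw [eq_bot_iff, Submodule.smul_le]
    intro r hr n _
    obtain ⟨c, rfl⟩ := Ideal.mem_span_singleton'.1 hr
    rw [Submodule.mem_bot, mul_smul, hxK, smul_zero]
  have h2 : Module.length A ((A ⧸ Ideal.span {x}) ⊗[A] K) = Module.length A K :=
    ((TensorProduct.quotTensorEquivQuotSMul K (Ideal.span {x})).trans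
      (Submodule.quotEquivOfEqBot _ hbot)).length_eq
  exact h1.trans h2

/-- all `Tor_i(A/x, K)` and `Tor_i(A/y, K)` have the length of `K`. -/
theorem len_all (hyx : y * x = 0) (hannx : ∀ a : A, a * x = 0 → a ∈ Ideal.span {y})
    (hanny : ∀ a : A, a * y = 0 → a ∈ Ideal.span {x})
    (hxK : ∀ k : K, x • k = 0) (hyK : ∀ k : K, y • k = 0) (i : ℕ) :
    len (((Tor (ModuleCat.{u} A) i).obj (ModuleCat.of A (A ⧸ Ideal.span {x}))).obj
        (ModuleCat.of A K)) = Module.length A K ∧
    len (((Tor (ModuleCat.{u} A) i).obj (ModuleCat.of A (A ⧸ Ideal.span {y}))).obj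
        (ModuleCat.of A K)) = Module.length A K := by
  induction i with
  | zero => exact ⟨len_zero x K hxK, len_zero y K hyK⟩
  | succ i ih =>
    refine ⟨(len_step x y K hyx hannx hxK i).trans ih.2, ?_⟩
    exact (len_step y x K (by rw [mul_comm]; exact hyx) hanny hyK i).trans ih.1

end abstract

end Groth.Agent.H19.NodeTor
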