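import Mathlib
import Groth.Agent.H19.FlatCech
import Groth.Agent.H19.Node3

set_option autoImplicit false
universe u

namespace Groth.Agent.H19.NodeTor

open CategoryTheory CategoryTheory.Limits TensorProduct

section abstract2

variable {A : Type u} [CommRing A] (x y : A)

/-- `A/(x) → A/(x, y)`. -/
noncomputable def factorMap : (A ⧸ Ideal.span {x}) →ₗ[A] (A ⧸ Ideal.span {x, y}) :=
  Submodule.liftQ (Ideal.span {x}) (Submodule.mkQ (Ideal.span {x, y})) (by
    rw [Submodule.ker_mkQ]
    exact Ideal.span_mono (by simp))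

theorem factorMap_mk (a : A) :
    factorMap x y (Submodule.Quotient.mk a) = Submodule.Quotient.mk a := rfl

theorem factorMap_surjective : Function.Surjective (factorMap x y) := by
  intro q
  obtain ⟨a, rfl⟩ := Submodule.Quotient.mk_surjective _ q
  exact ⟨Submodule.Quotient.mk a, rfl⟩

theorem smul_exact :
    Function.Exact (y • LinearMap.id : (A ⧸ Ideal.span {x}) →ₗ[A] (A ⧸ Ideal.span {x}))
      (factorMap x y) := by
  intro q
  obtain ⟨a, rfl⟩ := Submodule.Quotient.mk_surjective _ q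
  rw [factorMap_mk, Submodule.Quotient.mk_eq_zero]
  constructor
  · intro h
    obtain ⟨b, c, hbc⟩ := Ideal.mem_span_pair.1 h
    refine ⟨Submodule.Quotient.mk c, ?_⟩
    rw [LinearMap.smul_apply, LinearMap.id_apply, ← Submodule.Quotient.mk_smul, eq_comm,
      ← sub_eq_zero, ← Submodule.Quotient.mk_sub, Submodule.Quotient.mk_eq_zero]
    refine Ideal.mem_span_singleton'.2 ⟨b, ?_⟩
    rw [← hbc, smul_eq_mul]
    ring
  · rintro ⟨q, hq⟩
    obtain ⟨c, rfl⟩ := Submodule.Quotient.mk_surjective _ q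
    rw [LinearMap.smul_apply, LinearMap.id_apply, ← Submodule.Quotient.mk_smul, eq_comm,
      ← sub_eq_zero, ← Submodule.Quotient.mk_sub, Submodule.Quotient.mk_eq_zero] at hq
    obtain ⟨b, hb⟩ := Ideal.mem_span_singleton'.1 hq
    refine Ideal.mem_span_pair.2 ⟨b, c, ?_⟩
    rw [hb, smul_eq_mul]
    ring

theorem smul_injective (hreg : ∀ a : A, a * y ∈ Ideal.span {x} → a ∈ Ideal.span {x}) :
    Function.Injective (y • LinearMap.id : (A ⧸ Ideal.span {x}) →ₗ[A] (A ⧸ Ideal.span {x})) := by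
  rw [injective_iff_map_eq_zero]
  intro q hq
  obtain ⟨a, rfl⟩ := Submodule.Quotient.mk_surjective _ q
  rw [LinearMap.smul_apply, LinearMap.id_apply, ← Submodule.Quotient.mk_smul,
    Submodule.Quotient.mk_eq_zero, smul_eq_mul, mul_comm] at hq
  exact (Submodule.Quotient.mk_eq_zero _).2 (hreg a hq)

variable (K : Type u) [AddCommGroup K] [Module A K]

theorem tor_smul_map_eq_zero (hyK : ∀ k : K, y • k = 0) (j : ℕ) :
    ((Tor (ModuleCat.{u} A) j).map (ModuleCat.ofHom
      (y • LinearMap.id : (A ⧸ Ideal.span {x}) →ₗ[A] (A ⧸ Ideal.span {x})))).app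
        (ModuleCat.of A K) = 0 := by
  ext t
  have h := Groth.Agent.H19.TorFirst.TorF_map_smul_id_apply (ModuleCat.of A K) j
    (ModuleCat.of A (A ⧸ Ideal.span {x})) y t
  have h2 := smul_tor_eq_zero (ModuleCat.of A (A ⧸ Ideal.span {x})) (ModuleCat.of A K) y hyK j t
  exact h.trans h2

/-- `ℓ Tor_{i+1}(A/(x,y), K) = 2 ℓ K`. -/
theorem len_main (hyx : y * x = 0) (hannx : ∀ a : A, a * x = 0 → a ∈ Ideal.span {y})
    (hanny : ∀ a : A, a * y = 0 → a ∈ Ideal.span {x})
    (hreg : ∀ a : A, a * y ∈ Ideal.span {x} → a ∈ Ideal.span {x})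
    (hxK : ∀ k : K, x • k = 0) (hyK : ∀ k : K, y • k = 0) (i : ℕ) :
    len (((Tor (ModuleCat.{u} A) (i + 1)).obj (ModuleCat.of A (A ⧸ Ideal.span {x, y}))).obj
        (ModuleCat.of A K)) = Module.length A K + Module.length A K := by
  have hS := Groth.Agent.H19.FlatCech.scOf_shortExact
    (y • LinearMap.id : (A ⧸ Ideal.span {x}) →ₗ[A] (A ⧸ Ideal.span {x})) (factorMap x y)
    (smul_exact x y) (smul_injective x y hreg) (factorMap_surjective x y)
  have h := len_add _ hS (ModuleCat.of A K) i (tor_smul_map_eq_zero x y K hyK (i + 1))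
    (tor_smul_map_eq_zero x y K hyK i)
  have h1 := (len_all x y K hyx hannx hanny hxK hyK (i + 1)).1
  have h2 := (len_all x y K hyx hannx hanny hxK hyK i).1
  exact h.trans (by rw [h1, h2])

end abstract2

end Groth.Agent.H19.NodeTor
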