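import Mathlib
import Groth.Agent.H19.Node4

set_option autoImplicit false
universe u

namespace Groth.Agent.H19.NodeTor

open CategoryTheory CategoryTheory.Limits TensorProduct

section abstract3

variable {A : Type u} [CommRing A] (x y : A)

theorem main (hyx : y * x = 0) (hannx : ∀ a : A, a * x = 0 → a ∈ Ideal.span {y})
    (hanny : ∀ a : A, a * y = 0 → a ∈ Ideal.span {x})
    (hreg : ∀ a : A, a * y ∈ Ideal.span {x} → a ∈ Ideal.span {x})
    (hsimple : Module.length A (A ⧸ Ideal.span {x, y}) = 1) :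
    (∀ i : ℕ, 1 ≤ i → Module.length A ((((Tor (ModuleCat.{u} A) i).obj
      (ModuleCat.of A (A ⧸ Ideal.span {x, y}))).obj
        (ModuleCat.of A (A ⧸ Ideal.span {x, y}))) : Type u) = 2) ∧
    ∀ n : ℕ, ¬ HasProjectiveDimensionLT (ModuleCat.of A (A ⧸ Ideal.span {x, y})) n := by
  have hxK : ∀ k : A ⧸ Ideal.span {x, y}, x • k = 0 := by
    intro k
    obtain ⟨a, rfl⟩ := Submodule.Quotient.mk_surjective _ k
    rw [← Submodule.Quotient.mk_smul, Submodule.Quotient.mk_eq_zero, smul_eq_mul]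
    exact Ideal.mul_mem_right _ _ (Ideal.subset_span (by simp))
  have hyK : ∀ k : A ⧸ Ideal.span {x, y}, y • k = 0 := by
    intro k
    obtain ⟨a, rfl⟩ := Submodule.Quotient.mk_surjective _ k
    rw [← Submodule.Quotient.mk_smul, Submodule.Quotient.mk_eq_zero, smul_eq_mul]
    exact Ideal.mul_mem_right _ _ (Ideal.subset_span (by simp))
  have key : ∀ i : ℕ, Module.length A ((((Tor (ModuleCat.{u} A) (i + 1)).obj
      (ModuleCat.of A (A ⧸ Ideal.span {x, y}))).obj
        (ModuleCat.of A (A ⧸ Ideal.span {x, y}))) : Type u) = 2 := by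
    intro i
    have h := len_main x y (A ⧸ Ideal.span {x, y}) hyx hannx hanny hreg hxK hyK i
    rw [hsimple] at h
    exact h.trans (by norm_num)
  refine ⟨?_, ?_⟩
  · intro i hi
    obtain ⟨j, rfl⟩ : ∃ j, i = j + 1 := ⟨i - 1, by omega⟩
    exact key j
  · intro n hn
    have hn' : HasProjectiveDimensionLT (ModuleCat.of A (A ⧸ Ideal.span {x, y})) (n + 1) :=
      hasProjectiveDimensionLT_of_ge _ n (n + 1) (Nat.le_succ n)
    have hz := isZero_tor_of_pdLT (ModuleCat.of A (A ⧸ Ideal.span {x, y})) (n + 1) _ hn' (n + 1)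
      le_rfl
    haveI : Subsingleton ((((Tor (ModuleCat.{u} A) (n + 1)).obj
      (ModuleCat.of A (A ⧸ Ideal.span {x, y}))).obj
        (ModuleCat.of A (A ⧸ Ideal.span {x, y}))) : Type u) :=
      ModuleCat.subsingleton_of_isZero hz
    have h0 := key n
    rw [Module.length_eq_zero] at h0
    exact absurd h0 (by norm_num)

end abstract3

section concrete

open MvPolynomial

variable (k : Type u) [Field k]

/-- the node. -/
noncomputable abbrev Inode : Ideal (MvPolynomial (Fin 2) k) :=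
  Ideal.span {(MvPolynomial.X 0 * MvPolynomial.X 1 : MvPolynomial (Fin 2) k)}

theorem node_yx : (Ideal.Quotient.mk (Inode k) (X 1)) * (Ideal.Quotient.mk (Inode k) (X 0)) = 0 := by
  rw [← map_mul, Ideal.Quotient.eq_zero_iff_mem, mul_comm]
  exact Ideal.subset_span rfl

theorem node_ann (i j : Fin 2)
    (hdvd : ∀ f : MvPolynomial (Fin 2) k, f * X i ∈ Inode k → X j ∣ f)
    (a : MvPolynomial (Fin 2) k ⧸ Inode k) (ha : a * Ideal.Quotient.mk (Inode k) (X i) = 0) :
    a ∈ Ideal.span {Ideal.Quotient.mk (Inode k) (X j)} := by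
  obtain ⟨f, rfl⟩ := Ideal.Quotient.mk_surjective a
  rw [← map_mul, Ideal.Quotient.eq_zero_iff_mem] at ha
  obtain ⟨g, rfl⟩ := hdvd f ha
  rw [map_mul]
  exact Ideal.mul_mem_right _ _ (Ideal.subset_span rfl)

theorem dvd_of_mul_X0_mem (f : MvPolynomial (Fin 2) k) (h : f * X 0 ∈ Inode k) : X 1 ∣ f := by
  obtain ⟨g, hg⟩ := Ideal.mem_span_singleton'.1 h
  refine ⟨g, ?_⟩
  have h1 : f * X 0 = (X 1 * g) * X 0 := by rw [← hg]; ring
  exact mul_right_cancel₀ (X_ne_zero (0 : Fin 2)) h1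

theorem dvd_of_mul_X1_mem (f : MvPolynomial (Fin 2) k) (h : f * X 1 ∈ Inode k) : X 0 ∣ f := by
  obtain ⟨g, hg⟩ := Ideal.mem_span_singleton'.1 h
  refine ⟨g, ?_⟩
  have h1 : f * X 1 = (X 0 * g) * X 1 := by rw [← hg]; ring
  exact mul_right_cancel₀ (X_ne_zero (1 : Fin 2)) h1

theorem not_X0_dvd_X1 : ¬ ((X 0 : MvPolynomial (Fin 2) k) ∣ X 1) := by
  rintro ⟨q, hq⟩
  have h := congrArg (MvPolynomial.eval (fun i : Fin 2 => if i = 0 then (0 : k) else 1)) hq
  rw [map_mul, eval_X, eval_X] at h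
  simp at h

theorem node_reg (a : MvPolynomial (Fin 2) k ⧸ Inode k)
    (ha : a * Ideal.Quotient.mk (Inode k) (X 1) ∈
      Ideal.span {Ideal.Quotient.mk (Inode k) (X 0)}) :
    a ∈ Ideal.span {Ideal.Quotient.mk (Inode k) (X 0)} := by
  obtain ⟨f, rfl⟩ := Ideal.Quotient.mk_surjective a
  obtain ⟨b, hb⟩ := Ideal.mem_span_singleton'.1 ha
  obtain ⟨g, rfl⟩ := Ideal.Quotient.mk_surjective b
  rw [← map_mul, ← map_mul, ← sub_eq_zero, ← map_sub, Ideal.Quotient.eq_zero_iff_mem] at hb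
  obtain ⟨h, hh⟩ := Ideal.mem_span_singleton'.1 hb
  have hdvd : (X 0 : MvPolynomial (Fin 2) k) ∣ f * X 1 := by
    refine ⟨g - h * X 1, ?_⟩
    have : f * X 1 = g * X 0 - h * (X 0 * X 1) := by rw [hh]; ring
    rw [this]
    ring
  rcases (X_prime (R := k) (i := (0 : Fin 2))).dvd_or_dvd hdvd with h1 | h1
  · obtain ⟨f', rfl⟩ := h1
    rw [mul_comm, map_mul]
    exact Ideal.mul_mem_left _ _ (Ideal.subset_span rfl)
  · exact absurd h1 (not_X0_dvd_X1 k)

/-- evaluation at the origin. -/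
noncomputable def nodeEv : (MvPolynomial (Fin 2) k ⧸ Inode k) →+* k :=
  Ideal.Quotient.lift (Inode k) (constantCoeff : MvPolynomial (Fin 2) k →+* k) (by
    intro a ha
    obtain ⟨g, rfl⟩ := Ideal.mem_span_singleton'.1 ha
    simp)

theorem nodeEv_mk (f : MvPolynomial (Fin 2) k) :
    nodeEv k (Ideal.Quotient.mk (Inode k) f) = constantCoeff f := rfl

theorem nodeEv_surjective : Function.Surjective (nodeEv k) := by
  intro c
  exact ⟨Ideal.Quotient.mk (Inode k) (C c), by rw [nodeEv_mk, constantCoeff_C]⟩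

theorem ker_nodeEv : RingHom.ker (nodeEv k) =
    Ideal.span {Ideal.Quotient.mk (Inode k) (X 0), Ideal.Quotient.mk (Inode k) (X 1)} := by
  apply le_antisymm
  · intro a ha
    obtain ⟨f, rfl⟩ := Ideal.Quotient.mk_surjective a
    rw [RingHom.mem_ker, nodeEv_mk] at ha
    have hf : f ∈ Ideal.span ((X : Fin 2 → MvPolynomial (Fin 2) k) '' ({0, 1} : Set (Fin 2))) := by
      rw [mem_ideal_span_X_image]
      intro m hm
      have hm0 : m ≠ 0 := by
        rintro rfl
        rw [mem_support_iff] at hm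
        exact hm ha
      obtain ⟨i, hi⟩ : ∃ i, m i ≠ 0 := by
        by_contra hcon
        push Not at hcon
        exact hm0 (Finsupp.ext hcon)
      refine ⟨i, ?_, hi⟩
      fin_cases i <;> simp
    have h2 := Ideal.mem_map_of_mem (Ideal.Quotient.mk (Inode k)) hf
    rw [Ideal.map_span, Set.image_image, Set.image_pair] at h2
    exact h2
  · rw [Ideal.span_le]
    intro a ha
    rcases ha with rfl | rfl
    · show nodeEv k _ = 0
      rw [nodeEv_mk]
      simp
    · show nodeEv k _ = 0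
      rw [nodeEv_mk]
      simp

theorem node_length : Module.length (MvPolynomial (Fin 2) k ⧸ Inode k)
    ((MvPolynomial (Fin 2) k ⧸ Inode k) ⧸
      Ideal.span {Ideal.Quotient.mk (Inode k) (X 0), Ideal.Quotient.mk (Inode k) (X 1)}) = 1 := by
  rw [Module.length_eq_one_iff, isSimpleModule_iff_isCoatom, ← Ideal.isMaximal_def, ← ker_nodeEv]
  exact RingHom.ker_isMaximal_of_surjective _ (nodeEv_surjective k)

end concrete

end Groth.Agent.H19.NodeTor
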