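import Mathlib
import Groth.Agent.H19.Node3

set_option autoImplicit false
universe u

namespace Groth.Agent.H19.NodeExt

open CategoryTheory CategoryTheory.Limits Abelian
open Groth.Agent.H19.NodeTor

section abstract

variable {k : Type u} [Field k] {A : Type u} [CommRing A] [Algebra k A] (x y : A)

/-- the short exact sequence `0 → A/(x) --y--> A → A/(y) → 0`. -/
noncomputable abbrev Ssc (hxy : x * y = 0) : ShortComplex (ModuleCat.{u} A) :=
  Groth.Agent.H19.FlatCech.scOf (mulMap y x hxy) (Submodule.mkQ (Ideal.span {y}))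
    (mulMap_exact y x hxy)

theorem Ssc_shortExact (hxy : x * y = 0) (hann : ∀ a : A, a * y = 0 → a ∈ Ideal.span {x}) :
    (Ssc x y hxy).ShortExact :=
  Groth.Agent.H19.FlatCech.scOf_shortExact _ _ (mulMap_exact y x hxy)
    (mulMap_injective y x hxy hann) (Submodule.mkQ_surjective _)

/-- homs out of a cyclic module are determined by the image of `1`. -/
theorem hom_ext_quot {I : Ideal A} {N : ModuleCat.{u} A} (f g : ModuleCat.of A (A ⧸ I) ⟶ N)
    (h : f.hom (Submodule.Quotient.mk 1) = g.hom (Submodule.Quotient.mk 1)) : f = g := by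
  apply ModuleCat.hom_ext
  apply LinearMap.ext
  intro q
  obtain ⟨a, rfl⟩ := Submodule.Quotient.mk_surjective _ q
  have h1 : (Submodule.Quotient.mk a : A ⧸ I) = a • Submodule.Quotient.mk 1 := by
    rw [← Submodule.Quotient.mk_smul, smul_eq_mul, mul_one]
  rw [h1, map_smul, map_smul, h]

open ModuleCat in
theorem smul_id_apply (I : Ideal A) (c : k) (q : A ⧸ I) :
    (c • 𝟙 (ModuleCat.of A (A ⧸ I))).hom q = algebraMap k A c • q := by
  rw [ModuleCat.hom_smul, LinearMap.smul_apply]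
  exact (algebraMap_smul (M := (ModuleCat.of A (A ⧸ I) : ModuleCat.{u} A)) A c q).symm

theorem extClass_ne_zero (hxy : x * y = 0) (hann : ∀ a : A, a * y = 0 → a ∈ Ideal.span {x})
    (hproper : (1 : A) ∉ Ideal.span {x, y}) :
    (Ssc_shortExact x y hxy hann).extClass ≠ 0 := by
  intro h0
  have hS := Ssc_shortExact x y hxy hann
  obtain ⟨x₂, hx₂⟩ := Ext.contravariant_sequence_exact₁ hS (ModuleCat.of A (A ⧸ Ideal.span {x}))
    (Ext.mk₀ (𝟙 _)) (n₁ := 1) (by norm_num) (by rw [h0, Ext.zero_comp])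
  obtain ⟨φ, rfl⟩ := (Ext.mk₀_bijective _ _).2 x₂
  rw [Ext.mk₀_comp_mk₀] at hx₂
  have h1 := (Ext.mk₀_bijective _ _).1 hx₂
  have h2 := congrArg (fun t => t.hom (Submodule.Quotient.mk 1)) h1
  simp only at h2
  obtain ⟨b, hb⟩ := Submodule.Quotient.mk_surjective _ (φ.hom (1 : A))
  have h2' : φ.hom (1 * y) = (Submodule.Quotient.mk 1 : A ⧸ Ideal.span {x}) := h2
  have h4 : φ.hom (1 * y) = (Submodule.Quotient.mk (y * b) : A ⧸ Ideal.span {x}) := by
    have hy : (1 * y : A) = y • (1 : A) := by rw [smul_eq_mul, mul_one, one_mul]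
    rw [hy, map_smul, ← hb]
    rfl
  have h3 : (Submodule.Quotient.mk (y * b) : A ⧸ Ideal.span {x}) = Submodule.Quotient.mk 1 :=
    h4.symm.trans h2'
  rw [← sub_eq_zero, ← Submodule.Quotient.mk_sub, Submodule.Quotient.mk_eq_zero] at h3
  obtain ⟨d, hd⟩ := Ideal.mem_span_singleton'.1 h3
  apply hproper
  rw [Ideal.mem_span_pair]
  refine ⟨-d, b, ?_⟩
  have : (1 : A) = y * b - d * x := by rw [hd]; ring
  rw [this]
  ring

end abstract

end Groth.Agent.H19.NodeExt
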