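import Mathlib
import Groth.Agent.H19.NodeExt1

set_option autoImplicit false
universe u

namespace Groth.Agent.H19.NodeExt

open CategoryTheory CategoryTheory.Limits Abelian
open Groth.Agent.H19.NodeTor

section gen

universe w v' u'

variable {k : Type*} [CommRing k] {C : Type u'} [Category.{v'} C] [Abelian C]
  [Linear k C]

/-- scalar multiplication on morphisms via the `Linear` structure. -/
def lsmul {X Y : C} (c : k) (g : X ⟶ Y) : X ⟶ Y := c • g

variable [HasExt.{w} C]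

theorem extClass_comp_formula {S : ShortComplex C} (hS : S.ShortExact) {Y : C} (c : k)
    (g : S.X₁ ⟶ Y) (φ : S.X₂ ⟶ Y) :
    hS.extClass.comp (Ext.mk₀ (lsmul c g + S.f ≫ φ)) (add_zero 1) =
      c • hS.extClass.comp (Ext.mk₀ g) (add_zero 1) := by
  unfold lsmul
  rw [Ext.mk₀_add, Ext.comp_add, Ext.mk₀_smul, Ext.comp_smul, ← Ext.mk₀_comp_mk₀,
    ShortComplex.ShortExact.extClass_comp_assoc, add_zero]

end gen

section abstract

variable {k : Type u} [Field k] {A : Type u} [CommRing A] [Algebra k A] (x y : A)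

theorem lsmul_id_apply (I : Ideal A) (c : k) (q : A ⧸ I) :
    (lsmul c (𝟙 (ModuleCat.of A (A ⧸ I)))).hom q = algebraMap k A c • q := rfl

theorem exists_decomp (hxy : x * y = 0)
    (hdec : ∀ a : A, ∃ c : k, a - algebraMap k A c ∈ Ideal.span {x, y})
    (f : (Ssc x y hxy).X₁ ⟶ ModuleCat.of A (A ⧸ Ideal.span {x})) :
    ∃ (c : k) (φ : (Ssc x y hxy).X₂ ⟶ ModuleCat.of A (A ⧸ Ideal.span {x})),
      f = lsmul c (𝟙 (Ssc x y hxy).X₁) + (Ssc x y hxy).f ≫ φ := by
  obtain ⟨u, hu⟩ := Submodule.Quotient.mk_surjective _ (f.hom (Submodule.Quotient.mk 1))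
  obtain ⟨c, hc⟩ := hdec u
  obtain ⟨b, d, hbd⟩ := Ideal.mem_span_pair.1 hc
  refine ⟨c, ModuleCat.ofHom (LinearMap.toSpanSingleton A (A ⧸ Ideal.span {x})
    (Submodule.Quotient.mk d)), ?_⟩
  apply hom_ext_quot
  rw [ModuleCat.hom_add, LinearMap.add_apply]
  have h1 : (lsmul c (𝟙 (ModuleCat.of A (A ⧸ Ideal.span {x})))).hom (Submodule.Quotient.mk 1) =
      Submodule.Quotient.mk (algebraMap k A c) := by
    rw [lsmul_id_apply, ← Submodule.Quotient.mk_smul, smul_eq_mul, mul_one]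
  have h2 : ((Ssc x y hxy).f ≫ ModuleCat.ofHom (LinearMap.toSpanSingleton A (A ⧸ Ideal.span {x})
      (Submodule.Quotient.mk d))).hom (Submodule.Quotient.mk 1) =
      (Submodule.Quotient.mk (y * d) : A ⧸ Ideal.span {x}) := by
    show (1 * y) • (Submodule.Quotient.mk d : A ⧸ Ideal.span {x}) = _
    rw [one_mul, ← Submodule.Quotient.mk_smul, smul_eq_mul]
  refine Eq.trans ?_ (congrArg₂ (· + ·) h1.symm h2.symm)
  rw [← hu, ← Submodule.Quotient.mk_add, eq_comm, ← sub_eq_zero,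
    ← Submodule.Quotient.mk_sub, Submodule.Quotient.mk_eq_zero]
  refine Ideal.mem_span_singleton'.2 ⟨-b, ?_⟩
  have : u = algebraMap k A c + (b * x + d * y) := by rw [hbd]; ring
  rw [this]
  ring

end abstract

end Groth.Agent.H19.NodeExt
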