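import Mathlib
import Groth.Agent.H19.NodeExt2

set_option autoImplicit false
universe u

namespace Groth.Agent.H19.NodeExt

open CategoryTheory CategoryTheory.Limits Abelian
open Groth.Agent.H19.NodeTor

section abstract

variable {k : Type u} [Field k] {A : Type u} [CommRing A] [Algebra k A] (x y : A)

theorem exists_smul_extClass (hxy : x * y = 0) (hann : ∀ a : A, a * y = 0 → a ∈ Ideal.span {x})
    (hdec : ∀ a : A, ∃ c : k, a - algebraMap k A c ∈ Ideal.span {x, y})
    (e : Ext (ModuleCat.of A (A ⧸ Ideal.span {y})) (ModuleCat.of A (A ⧸ Ideal.span {x})) 1) :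
    ∃ c : k, c • (Ssc_shortExact x y hxy hann).extClass = e := by
  have hS := Ssc_shortExact x y hxy hann
  haveI : Projective (Ssc x y hxy).X₂ :=
    (ModuleCat.projective_of_categoryTheory_projective (ModuleCat.of A A) :)
  obtain ⟨x₁, hx₁⟩ := Ext.contravariant_sequence_exact₃ hS
    (ModuleCat.of A (A ⧸ Ideal.span {x})) e (Ext.eq_zero_of_projective _) (n₀ := 0) (by norm_num)
  obtain ⟨f, rfl⟩ := (Ext.mk₀_bijective _ _).2 x₁
  obtain ⟨c, φ, hf⟩ := exists_decomp x y hxy hdec f
  refine ⟨c, ?_⟩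
  have h1 := extClass_comp_formula hS c (𝟙 (Ssc x y hxy).X₁) φ
  rw [Ext.comp_mk₀_id] at h1
  rw [← hx₁, hf]
  exact h1.symm

theorem finrank_ext_one (hxy : x * y = 0) (hann : ∀ a : A, a * y = 0 → a ∈ Ideal.span {x})
    (hdec : ∀ a : A, ∃ c : k, a - algebraMap k A c ∈ Ideal.span {x, y})
    (hproper : (1 : A) ∉ Ideal.span {x, y}) :
    Module.finrank k (Ext (ModuleCat.of A (A ⧸ Ideal.span {y}))
      (ModuleCat.of A (A ⧸ Ideal.span {x})) 1) = 1 := by
  rw [finrank_eq_one_iff_of_nonzero' _ (extClass_ne_zero x y hxy hann hproper)]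
  exact exists_smul_extClass x y hxy hann hdec

end abstract

end Groth.Agent.H19.NodeExt
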