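import Mathlib
import Groth.Agent.H19.NodeExt3

set_option autoImplicit false
universe u

namespace Groth.Agent.H19.NodeExt

open MvPowerSeries

section concrete

variable (k : Type u) [Field k]

/-- the node ideal in the power series ring. -/
noncomputable abbrev Jnode : Ideal (MvPowerSeries (Fin 2) k) :=
  Ideal.span {(MvPowerSeries.X (0 : Fin 2) : MvPowerSeries (Fin 2) k) * MvPowerSeries.X (1 : Fin 2)}

theorem X_ne_zero' (i : Fin 2) : (X i : MvPowerSeries (Fin 2) k) ≠ 0 := by
  intro h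
  have h1 := congrArg (coeff (Finsupp.single i 1)) h
  rw [coeff_X, if_pos rfl, map_zero] at h1
  exact one_ne_zero h1

theorem pnode_xy : (Ideal.Quotient.mk (Jnode k) (X 0)) * (Ideal.Quotient.mk (Jnode k) (X 1)) = 0 := by
  rw [← map_mul, Ideal.Quotient.eq_zero_iff_mem]
  exact Ideal.subset_span rfl

theorem pnode_ann (a : MvPowerSeries (Fin 2) k ⧸ Jnode k)
    (ha : a * Ideal.Quotient.mk (Jnode k) (X 1) = 0) :
    a ∈ Ideal.span {Ideal.Quotient.mk (Jnode k) (X 0)} := by
  obtain ⟨f, rfl⟩ := Ideal.Quotient.mk_surjective a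
  rw [← map_mul, Ideal.Quotient.eq_zero_iff_mem] at ha
  obtain ⟨g, hg⟩ := Ideal.mem_span_singleton'.1 ha
  have h1 : f * X 1 = (g * X 0) * X 1 := by rw [← hg]; ring
  have h2 := mul_right_cancel₀ (X_ne_zero' k 1) h1
  rw [h2, map_mul]
  exact Ideal.mul_mem_left _ _ (Ideal.subset_span rfl)

/-- evaluation at the origin. -/
noncomputable def pnodeEv : (MvPowerSeries (Fin 2) k ⧸ Jnode k) →+* k :=
  Ideal.Quotient.lift (Jnode k) (constantCoeff : MvPowerSeries (Fin 2) k →+* k) (by
    intro a ha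
    obtain ⟨g, rfl⟩ := Ideal.mem_span_singleton'.1 ha
    simp)

theorem pnodeEv_mk (f : MvPowerSeries (Fin 2) k) :
    pnodeEv k (Ideal.Quotient.mk (Jnode k) f) = constantCoeff f := rfl

theorem pnode_proper : (1 : MvPowerSeries (Fin 2) k ⧸ Jnode k) ∉
    Ideal.span {Ideal.Quotient.mk (Jnode k) (X 0), Ideal.Quotient.mk (Jnode k) (X 1)} := by
  intro h
  obtain ⟨b, d, hbd⟩ := Ideal.mem_span_pair.1 h
  have h1 := congrArg (pnodeEv k) hbd
  rw [map_add, map_mul, map_mul, pnodeEv_mk, pnodeEv_mk, constantCoeff_X, constantCoeff_X,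
    mul_zero, mul_zero, add_zero, map_one] at h1
  exact zero_ne_one h1

open Classical in
theorem mem_span_of_constantCoeff_eq_zero (f : MvPowerSeries (Fin 2) k)
    (hf : constantCoeff f = 0) :
    f ∈ Ideal.span {(X 0 : MvPowerSeries (Fin 2) k), X 1} := by
  let u : MvPowerSeries (Fin 2) k := fun m => if m 0 = 0 then coeff m f else 0
  have hu : ∀ m, coeff m u = if m 0 = 0 then coeff m f else 0 := fun m => rfl
  have h1 : (X 0 : MvPowerSeries (Fin 2) k) ∣ f - u := by
    rw [X_dvd_iff]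
    intro m hm
    rw [map_sub, hu, if_pos hm, sub_self]
  have h2 : (X 1 : MvPowerSeries (Fin 2) k) ∣ u := by
    rw [X_dvd_iff]
    intro m hm
    rw [hu]
    split_ifs with h0
    · have hm0 : m = 0 := by
        ext i
        fin_cases i
        · exact h0
        · exact hm
      rw [hm0]
      exact hf
    · rfl
  obtain ⟨g, hg⟩ := h1
  obtain ⟨h, hh⟩ := h2
  rw [Ideal.mem_span_pair]
  refine ⟨g, h, ?_⟩
  have : f = (f - u) + u := by ring
  rw [this, hg, hh]
  ring

theorem pnode_dec (a : MvPowerSeries (Fin 2) k ⧸ Jnode k) :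
    ∃ c : k, a - algebraMap k (MvPowerSeries (Fin 2) k ⧸ Jnode k) c ∈
      Ideal.span {Ideal.Quotient.mk (Jnode k) (X 0), Ideal.Quotient.mk (Jnode k) (X 1)} := by
  obtain ⟨f, rfl⟩ := Ideal.Quotient.mk_surjective a
  refine ⟨constantCoeff f, ?_⟩
  have h1 : algebraMap k (MvPowerSeries (Fin 2) k ⧸ Jnode k) (constantCoeff f) =
      Ideal.Quotient.mk (Jnode k) (C (constantCoeff f)) := rfl
  rw [h1, ← map_sub]
  have h2 := mem_span_of_constantCoeff_eq_zero k (f - C (constantCoeff f)) (by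
    rw [map_sub, constantCoeff_C, sub_self])
  have h3 := Ideal.mem_map_of_mem (Ideal.Quotient.mk (Jnode k)) h2
  rw [Ideal.map_span, Set.image_pair] at h3
  exact h3

end concrete

end Groth.Agent.H19.NodeExt
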