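import Mathlib

set_option autoImplicit false
universe u

/-!
Perfect rings of characteristic `p` (formulated without `CharP` so that quotients and tensor
products are covered uniformly).
-/

namespace Groth.Agent.H19.PerfTor

open TensorProduct

variable (p : ℕ) [hp : Fact p.Prime]

theorem add_pow_of_p_zero {R : Type*} [CommRing R] (h0 : (p : R) = 0) (x y : R) :
    (x + y) ^ p = x ^ p + y ^ p := by
  rcases subsingleton_or_nontrivial R with hs | hn
  · exact Subsingleton.elim _ _
  · haveI : CharP R p := (CharP.charP_iff_prime_eq_zero hp.out).2 h0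
    exact add_pow_char x y p

theorem sub_pow_of_p_zero {R : Type*} [CommRing R] (h0 : (p : R) = 0) (x y : R) :
    (x - y) ^ p = x ^ p - y ^ p := by
  have h := add_pow_of_p_zero p h0 (x - y) y
  rw [sub_add_cancel] at h
  rw [h, add_sub_cancel_right]

/-- a perfect ring of characteristic `p` (possibly the zero ring). -/
structure IsPerf (R : Type*) [CommRing R] : Prop where
  p_zero : (p : R) = 0
  bij : Function.Bijective (fun a : R => a ^ p)

namespace IsPerf

variable {p} {R : Type*} [CommRing R] (h : IsPerf p R)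

include h in
theorem add_pow (x y : R) : (x + y) ^ p = x ^ p + y ^ p := add_pow_of_p_zero p h.p_zero x y

include h in
theorem pow_inj {a b : R} (hab : a ^ p = b ^ p) : a = b := h.bij.1 hab

include h in
theorem eq_zero_of_pow {a : R} (ha : a ^ p = 0) : a = 0 :=
  h.pow_inj (ha.trans (zero_pow hp.out.ne_zero).symm)

/-- the `p`-th root. -/
noncomputable def root (a : R) : R := (h.bij.2 a).choose

@[simp]
theorem root_pow (a : R) : h.root a ^ p = a := (h.bij.2 a).choose_spec

theorem root_pow' (a : R) : h.root (a ^ p) = a := h.pow_inj (h.root_pow _)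

theorem root_add (a b : R) : h.root (a + b) = h.root a + h.root b := by
  apply h.pow_inj
  rw [h.add_pow, root_pow, root_pow, root_pow]

theorem root_mul (a b : R) : h.root (a * b) = h.root a * h.root b := by
  apply h.pow_inj
  rw [mul_pow, root_pow, root_pow, root_pow]

theorem root_zero : h.root 0 = 0 := by
  apply h.pow_inj
  rw [root_pow, zero_pow hp.out.ne_zero]

theorem root_algebraMap {S : Type*} [CommRing S] [Algebra R S] (hS : IsPerf p S) (r : R) :
    hS.root (algebraMap R S r) = algebraMap R S (h.root r) := by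
  apply hS.pow_inj
  rw [root_pow, ← map_pow, root_pow]

theorem root_smul {S : Type*} [CommRing S] [Algebra R S] (hS : IsPerf p S) (r : R) (s : S) :
    hS.root (r • s) = h.root r • hS.root s := by
  rw [Algebra.smul_def, root_mul, root_algebraMap h, Algebra.smul_def]

end IsPerf

section tensor

variable {p} {R S T : Type*} [CommRing R] [CommRing S] [CommRing T] [Algebra R S] [Algebra R T]
  (hR : IsPerf p R) (hS : IsPerf p S) (hT : IsPerf p T)

/-- `s ⊗ t ↦ s^{1/p} ⊗ t^{1/p}`, as a biadditive map. -/
noncomputable def rootTensorHom : S →+ T →+ S ⊗[R] T :=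
  AddMonoidHom.mk' (fun s => AddMonoidHom.mk' (fun t => hS.root s ⊗ₜ[R] hT.root t) (by
    intro t t'
    rw [hT.root_add, TensorProduct.tmul_add])) (by
    intro s s'
    ext t
    simp only [AddMonoidHom.mk'_apply, AddMonoidHom.add_apply]
    rw [hS.root_add, TensorProduct.add_tmul])

/-- the inverse of Frobenius on `S ⊗ T`. -/
noncomputable def rootTensor : S ⊗[R] T →+ S ⊗[R] T :=
  TensorProduct.liftAddHom (rootTensorHom hS hT) (by
    intro r s t
    show hS.root (r • s) ⊗ₜ[R] hT.root t = hS.root s ⊗ₜ[R] hT.root (r • t)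
    rw [hR.root_smul hS, hR.root_smul hT, TensorProduct.smul_tmul])

theorem rootTensor_tmul (s : S) (t : T) :
    rootTensor hR hS hT (s ⊗ₜ[R] t) = hS.root s ⊗ₜ[R] hT.root t := rfl

include hS in
theorem tensor_p_zero : ((p : ℕ) : S ⊗[R] T) = 0 := by
  have h1 : ((p : ℕ) : S ⊗[R] T) = algebraMap S (S ⊗[R] T) ((p : ℕ) : S) := (map_natCast _ p).symm
  rw [h1, hS.p_zero, map_zero]

theorem rootTensor_pow (x : S ⊗[R] T) : rootTensor hR hS hT (x ^ p) = x := by
  induction x using TensorProduct.induction_on with
  | zero => rw [zero_pow hp.out.ne_zero, map_zero]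
  | tmul s t =>
    rw [Algebra.TensorProduct.tmul_pow, rootTensor_tmul, hS.root_pow', hT.root_pow']
  | add x y hx hy =>
    rw [add_pow_of_p_zero p (tensor_p_zero hS) x y, map_add, hx, hy]

include hR hS hT in
theorem IsPerf.tensor : IsPerf p (S ⊗[R] T) where
  p_zero := tensor_p_zero hS
  bij := by
    constructor
    · intro x y hxy
      have hxy' : x ^ p = y ^ p := hxy
      rw [← rootTensor_pow hR hS hT x, ← rootTensor_pow hR hS hT y, hxy']
    · intro x
      induction x using TensorProduct.induction_on with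
      | zero => exact ⟨0, zero_pow hp.out.ne_zero⟩
      | tmul s t =>
        refine ⟨hS.root s ⊗ₜ[R] hT.root t, ?_⟩
        show (hS.root s ⊗ₜ[R] hT.root t) ^ p = s ⊗ₜ[R] t
        rw [Algebra.TensorProduct.tmul_pow, hS.root_pow, hT.root_pow]
      | add x y hx hy =>
        obtain ⟨x', hx'⟩ := hx
        obtain ⟨y', hy'⟩ := hy
        refine ⟨x' + y', ?_⟩
        show (x' + y') ^ p = x + y
        rw [add_pow_of_p_zero p (tensor_p_zero hS) x' y']
        exact congrArg₂ (· + ·) hx' hy'

end tensor

section quotient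

variable {p} {A : Type u} [CommRing A] (hA : IsPerf p A)

/-- an ideal closed under `p`-th roots. -/
def RootClosed (J : Ideal A) : Prop := ∀ a : A, a ^ p ∈ J → a ∈ J

include hA in
theorem IsPerf.quotient (J : Ideal A) (hJ : RootClosed (p := p) J) : IsPerf p (A ⧸ J) where
  p_zero := by
    have h1 : ((p : ℕ) : A ⧸ J) = Ideal.Quotient.mk J ((p : ℕ) : A) := (map_natCast _ p).symm
    rw [h1, hA.p_zero, map_zero]
  bij := by
    have h0 : ((p : ℕ) : A ⧸ J) = 0 := by
      have h1 : ((p : ℕ) : A ⧸ J) = Ideal.Quotient.mk J ((p : ℕ) : A) := (map_natCast _ p).symm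
      rw [h1, hA.p_zero, map_zero]
    constructor
    · intro x y hxy
      have hxy' : x ^ p = y ^ p := hxy
      obtain ⟨a, rfl⟩ := Ideal.Quotient.mk_surjective x
      obtain ⟨b, rfl⟩ := Ideal.Quotient.mk_surjective y
      rw [← sub_eq_zero, ← sub_pow_of_p_zero p h0, ← map_sub, ← map_pow,
        Ideal.Quotient.eq_zero_iff_mem] at hxy'
      rw [← sub_eq_zero, ← map_sub, Ideal.Quotient.eq_zero_iff_mem]
      exact hJ _ hxy'
    · intro x
      obtain ⟨a, rfl⟩ := Ideal.Quotient.mk_surjective x
      refine ⟨Ideal.Quotient.mk J (hA.root a), ?_⟩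
      show (Ideal.Quotient.mk J (hA.root a)) ^ p = _
      rw [← map_pow, hA.root_pow]

theorem rootClosed_ker {B : Type u} [CommRing B] (hB : IsPerf p B) (φ : A →+* B) :
    RootClosed (p := p) (RingHom.ker φ) := by
  intro a ha
  rw [RingHom.mem_ker, map_pow] at ha
  exact hB.eq_zero_of_pow ha

include hA in
theorem rootClosed_sup (J K : Ideal A) (hJ : RootClosed (p := p) J) (hK : RootClosed (p := p) K) :
    RootClosed (p := p) (J ⊔ K) := by
  intro a ha
  obtain ⟨u, hu, v, hv, huv⟩ := Submodule.mem_sup.1 ha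
  have h1 : a = hA.root u + hA.root v := by
    apply hA.pow_inj
    rw [hA.add_pow, hA.root_pow, hA.root_pow, huv]
  rw [h1]
  refine Submodule.add_mem_sup (hJ _ ?_) (hK _ ?_)
  · rw [hA.root_pow]; exact hu
  · rw [hA.root_pow]; exact hv

include hA in
theorem rootClosed_bot : RootClosed (p := p) (⊥ : Ideal A) := by
  intro a ha
  rw [Ideal.mem_bot] at ha ⊢
  exact hA.eq_zero_of_pow ha

end quotient

end Groth.Agent.H19.PerfTor
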