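import Mathlib
import Groth.Agent.H19.Perf0

set_option autoImplicit false
universe u

namespace Groth.Agent.H19.PerfTor

open TensorProduct

variable (p : ℕ) [hp : Fact p.Prime]

/-- a compatible system of `p`-power roots. -/
structure RootSys (A : Type u) [CommRing A] where
  g : ℕ → A
  hg : ∀ n, g (n + 1) ^ p = g n

namespace RootSys

variable {p} {A : Type u} [CommRing A] (G : RootSys p A)

include hp in
theorem g_eq (n : ℕ) : G.g n = G.g (n + 1) ^ (p - 1) * G.g (n + 1) := by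
  rw [← pow_succ, Nat.sub_add_cancel hp.out.one_le, G.hg]

include hp in
theorem dvd_succ (n : ℕ) : G.g (n + 1) ∣ G.g n := ⟨G.g (n + 1) ^ (p - 1), by
  rw [mul_comm]; exact G.g_eq n⟩

include hp in
theorem dvd_of_le {m n : ℕ} (h : m ≤ n) : G.g n ∣ G.g m := by
  induction n, h using Nat.le_induction with
  | base => exact dvd_rfl
  | succ n _ ih => exact (G.dvd_succ n).trans ih

/-- the ideal `(g^{1/p^∞})`. -/
def ideal : Ideal A where
  carrier := {a | ∃ n, G.g n ∣ a}
  zero_mem' := ⟨0, dvd_zero _⟩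
  add_mem' := by
    rintro a b ⟨n, hn⟩ ⟨m, hm⟩
    exact ⟨max n m, dvd_add ((G.dvd_of_le (le_max_left n m)).trans hn)
      ((G.dvd_of_le (le_max_right n m)).trans hm)⟩
  smul_mem' := by
    rintro c a ⟨n, hn⟩
    exact ⟨n, Dvd.dvd.mul_left hn c⟩

theorem mem_ideal {a : A} : a ∈ G.ideal ↔ ∃ n, G.g n ∣ a := Iff.rfl

theorem g_mem (n : ℕ) : G.g n ∈ G.ideal := ⟨n, dvd_rfl⟩

/-- the generator `g_n` as an element of the ideal. -/
def γ (n : ℕ) : G.ideal := ⟨G.g n, G.g_mem n⟩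

theorem γ_eq (n : ℕ) : G.γ n = G.g (n + 1) ^ (p - 1) • G.γ (n + 1) := by
  apply Subtype.ext
  exact G.g_eq n

/-- image of a root system under a ring hom. -/
def map {B : Type u} [CommRing B] (φ : A →+* B) : RootSys p B where
  g := fun n => φ (G.g n)
  hg := fun n => by rw [← map_pow, G.hg]

theorem map_ideal {B : Type u} [CommRing B] (φ : A →+* B) :
    G.ideal.map φ = (G.map φ).ideal := by
  apply le_antisymm
  · rw [Ideal.map_le_iff_le_comap]
    rintro a ⟨n, c, rfl⟩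
    exact ⟨n, φ c, by rw [map_mul]; rfl⟩
  · rintro b ⟨n, c, rfl⟩
    exact Ideal.mul_mem_right _ _ (Ideal.mem_map_of_mem φ (G.g_mem n))

/-- a module on which `g_n x = 0` implies `g_{n+1} x = 0`. -/
def Reduced (N : Type u) [AddCommGroup N] [Module A N] : Prop :=
  ∀ (n : ℕ) (x : N), G.g n • x = 0 → G.g (n + 1) • x = 0

variable (N : Type u) [AddCommGroup N] [Module A N]

theorem exists_rep (t : G.ideal ⊗[A] N) :
    ∃ n₀, ∀ n, n₀ ≤ n → ∃ x : N, t = G.γ n ⊗ₜ[A] x := by
  induction t using TensorProduct.induction_on with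
  | zero => exact ⟨0, fun n _ => ⟨0, (TensorProduct.tmul_zero _ _).symm⟩⟩
  | tmul a x =>
    obtain ⟨a, n₀, b, rfl⟩ := a
    refine ⟨n₀, fun n hn => ?_⟩
    obtain ⟨c, hc⟩ := G.dvd_of_le hn
    refine ⟨(c * b) • x, ?_⟩
    rw [TensorProduct.tmul_smul, TensorProduct.smul_tmul']
    congr 1
    apply Subtype.ext
    show G.g n₀ * b = (c * b) • G.g n
    rw [hc, smul_eq_mul]
    ring
  | add t t' h h' =>
    obtain ⟨n₀, h⟩ := h
    obtain ⟨n₁, h'⟩ := h'
    refine ⟨max n₀ n₁, fun n hn => ?_⟩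
    obtain ⟨x, hx⟩ := h n (le_trans (le_max_left _ _) hn)
    obtain ⟨x', hx'⟩ := h' n (le_trans (le_max_right _ _) hn)
    exact ⟨x + x', by rw [TensorProduct.tmul_add, hx, hx']⟩

include hp in
/-- `I_g ⊗ N → A ⊗ N` is injective for `g`-reduced `N`. -/
theorem rTensor_injective (hN : G.Reduced N) :
    Function.Injective (G.ideal.subtype.rTensor N) := by
  rw [injective_iff_map_eq_zero]
  intro t ht
  obtain ⟨n₀, h⟩ := G.exists_rep N t
  obtain ⟨x, rfl⟩ := h n₀ le_rfl
  rw [LinearMap.rTensor_tmul] at ht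
  have h1 : G.g n₀ • x = 0 := by
    have := congrArg (TensorProduct.lid A N) ht
    rw [map_zero] at this
    exact this
  have h2 := hN n₀ x h1
  rw [G.γ_eq, TensorProduct.smul_tmul]
  have h3 : G.g (n₀ + 1) ^ (p - 1) • x = 0 := by
    obtain ⟨k, hk⟩ : ∃ k, p - 1 = k + 1 := ⟨p - 2, by have := hp.out.two_le; omega⟩
    rw [hk, pow_succ, mul_smul, h2, smul_zero]
  rw [h3, TensorProduct.tmul_zero]

end RootSys

end Groth.Agent.H19.PerfTor
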