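import Mathlib
import Groth.Agent.H19.Perf1
import Groth.Agent.H19.FlatCech
import Groth.Agent.S3527

set_option autoImplicit false
universe u

namespace Groth.Agent.H19.PerfTor

open TensorProduct CategoryTheory CategoryTheory.Limits

variable {p : ℕ} [hp : Fact p.Prime]

namespace RootSys

variable {A : Type u} [CommRing A] (G : RootSys p A)

theorem reduced_of_algebra {C : Type u} [CommRing C] [Algebra A C]
    (hC : ∀ c : C, c ^ p = 0 → c = 0) : G.Reduced C := by
  intro n x hx
  apply hC
  have hxp : x ^ p = x ^ (p - 1) * x := by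
    rw [← pow_succ, Nat.sub_add_cancel hp.out.one_le]
  rw [Algebra.smul_def] at hx ⊢
  rw [mul_pow, ← map_pow, G.hg, hxp, ← mul_assoc, mul_comm _ (x ^ (p - 1)), mul_assoc, hx,
    mul_zero]

theorem reduced_submodule {N : Type u} [AddCommGroup N] [Module A N] (hN : G.Reduced N)
    (N' : Submodule A N) : G.Reduced N' := by
  intro n x hx
  apply Subtype.ext
  have h1 : G.g n • (x : N) = 0 := by
    have := congrArg Subtype.val hx
    exact this
  exact hN n x h1

include hp in
theorem flat (hA : ∀ a : A, a ^ p = 0 → a = 0) : Module.Flat A G.ideal := by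
  rw [Module.Flat.iff_lTensor_injective']
  intro J
  have hcomm : J.subtype ∘ₗ (TensorProduct.lid A J).toLinearMap ∘ₗ (G.ideal.subtype.rTensor J) =
      G.ideal.subtype ∘ₗ (TensorProduct.rid A G.ideal).toLinearMap ∘ₗ
        (J.subtype.lTensor G.ideal) := by
    apply TensorProduct.ext'
    intro a j
    simp [mul_comm]
  have hred : G.Reduced J := G.reduced_submodule (G.reduced_of_algebra (C := A) hA) J
  rw [injective_iff_map_eq_zero]
  intro t ht
  have h1 : (J.subtype ∘ₗ (TensorProduct.lid A J).toLinearMap ∘ₗ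
      (G.ideal.subtype.rTensor J)) t = 0 := by
    rw [hcomm]
    simp only [LinearMap.comp_apply]
    rw [ht]
    simp
  simp only [LinearMap.comp_apply] at h1
  have h2 : (TensorProduct.lid A J) ((G.ideal.subtype.rTensor J) t) = 0 :=
    Subtype.ext h1
  have h3 : (G.ideal.subtype.rTensor J) t = 0 := by
    have := (TensorProduct.lid A J).injective (h2.trans (map_zero _).symm)
    exact this
  exact (injective_iff_map_eq_zero _).1 (G.rTensor_injective J hred) t h3

include hp in
/-- `Tor_i(A/I_g, C) = 0` for `i ≥ 1`. -/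
theorem isZero_tor (hA : ∀ a : A, a ^ p = 0 → a = 0) {C : Type u} [CommRing C] [Algebra A C]
    (hC : ∀ c : C, c ^ p = 0 → c = 0) (i : ℕ) :
    IsZero (((Tor (ModuleCat.{u} A) (i + 1)).obj (ModuleCat.of A (A ⧸ G.ideal))).obj
      (ModuleCat.of A C)) := by
  haveI := G.flat hA
  have hex : Function.Exact G.ideal.subtype G.ideal.mkQ := LinearMap.exact_subtype_mkQ _
  have hinj : Function.Injective G.ideal.subtype := Submodule.injective_subtype _
  have hsurj : Function.Surjective G.ideal.mkQ := Submodule.mkQ_surjective _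
  have hAz : ∀ j, IsZero (Groth.Agent.H19.RegTor.T A C (j + 1) A) := fun j => by
    haveI : Subsingleton (Groth.Agent.H19.RegTor.T A C (j + 1) A) :=
      (Groth.Agent.S3527.result A A C (j + 1) (Nat.succ_pos j)).1
    exact ModuleCat.isZero_of_subsingleton _
  rcases Nat.eq_zero_or_pos i with hi | hi
  · subst hi
    exact Groth.Agent.H19.FlatCech.isZero_right_one C G.ideal.subtype G.ideal.mkQ hex hinj hsurj
      (hAz 0) (G.rTensor_injective C (G.reduced_of_algebra hC))
  · obtain ⟨j, rfl⟩ : ∃ j, i = j + 1 := ⟨i - 1, by omega⟩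
    refine Groth.Agent.H19.FlatCech.isZero_right C G.ideal.subtype G.ideal.mkQ hex hinj hsurj
      (j + 1) (hAz (j + 1)) ?_
    haveI : Subsingleton (Groth.Agent.H19.RegTor.T A C (j + 1) G.ideal) :=
      (Groth.Agent.S3527.result A G.ideal C (j + 1) (Nat.succ_pos j)).1
    exact ModuleCat.isZero_of_subsingleton _

end RootSys

end Groth.Agent.H19.PerfTor
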