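import Mathlib
import Groth.Agent.H19.Perf2
import Groth.Agent.H19.TorSymm
import Groth.Agent.H13.TorBC

set_option autoImplicit false
universe u

namespace Groth.Agent.H19.PerfTor

open TensorProduct CategoryTheory CategoryTheory.Limits

variable {p : ℕ} [hp : Fact p.Prime]

section good

variable {A : Type u} [CommRing A]

/-- symmetric vanishing. -/
theorem subsingleton_tor_symm (M N : Type u) [AddCommGroup M] [Module A M] [AddCommGroup N]
    [Module A N] (n : ℕ) (h : Subsingleton (DRing.Tor A n M N)) :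
    Subsingleton (DRing.Tor A n N M) := by
  obtain ⟨e⟩ := Groth.Agent.H19.TorSymm.tor_symm (A := A) M N n
  exact e.symm.injective.subsingleton

theorem subsingleton_tor_congr_right (M N N' : Type u) [AddCommGroup M] [Module A M]
    [AddCommGroup N] [Module A N] [AddCommGroup N'] [Module A N'] (e : N ≃ₗ[A] N') (n : ℕ)
    (h : Subsingleton (DRing.Tor A n M N)) : Subsingleton (DRing.Tor A n M N') := by
  have hz : IsZero (((Tor (ModuleCat.{u} A) n).obj (ModuleCat.of A M)).obj (ModuleCat.of A N)) :=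
    ModuleCat.isZero_of_subsingleton _
  have hz' := IsZero.of_iso hz
    (((Tor (ModuleCat.{u} A) n).obj (ModuleCat.of A M)).mapIso e.toModuleIso).symm
  exact ModuleCat.subsingleton_of_isZero hz'

/-- `J` is root-closed and `A/J` is Tor-independent of all perfect `A`-algebras. -/
def Good (J : Ideal A) : Prop :=
  RootClosed (p := p) J ∧ ∀ (C : Type u) [CommRing C] [Algebra A C], IsPerf p C → ∀ n : ℕ,
    0 < n → Subsingleton (DRing.Tor A n (A ⧸ J) C)

variable (hA : IsPerf p A)

include hA in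
theorem RootSys.rootClosed (G : RootSys p A) : RootClosed (p := p) G.ideal := by
  rintro a ⟨n, b, hb⟩
  refine ⟨n + 1, hA.root b, ?_⟩
  apply hA.pow_inj
  rw [hb, mul_pow, G.hg, hA.root_pow]

include hA in
theorem good_sup (J : Ideal A) (hJ : Good (p := p) J) (G : RootSys p A) :
    Good (p := p) (J ⊔ G.ideal) := by
  refine ⟨rootClosed_sup hA J G.ideal hJ.1 (G.rootClosed hA), ?_⟩
  intro C _ _ hC n hn
  have hA' : IsPerf p (A ⧸ J) := hA.quotient J hJ.1
  have hC' : IsPerf p ((A ⧸ J) ⊗[A] C) := IsPerf.tensor hA hA' hC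
  let G' : RootSys p (A ⧸ J) := G.map (Ideal.Quotient.mk J)
  -- vanishing over `A/J`
  have h1 : Subsingleton (DRing.Tor (A ⧸ J) n ((A ⧸ J) ⧸ G'.ideal) ((A ⧸ J) ⊗[A] C)) := by
    obtain ⟨j, rfl⟩ : ∃ j, n = j + 1 := ⟨n - 1, by omega⟩
    exact ModuleCat.subsingleton_of_isZero
      (G'.isZero_tor (fun a => hA'.eq_zero_of_pow) (fun c => hC'.eq_zero_of_pow) j)
  have h2 := subsingleton_tor_symm _ _ n h1
  -- base change
  have hP : ∀ q : ℕ, 0 < q → Subsingleton (DRing.Tor A q C (A ⧸ J)) := fun q hq =>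
    subsingleton_tor_symm _ _ q (hJ.2 C hC q hq)
  obtain ⟨φ, hφ⟩ := Groth.Agent.H13.TorBC.tor_bc₁ (A := A) (A' := A ⧸ J) C
    ((A ⧸ J) ⧸ G'.ideal) hP n
  have h3 : Subsingleton (DRing.Tor A n C ((A ⧸ J) ⧸ G'.ideal)) := hφ.1.subsingleton
  -- identify the quotient
  have hmap : G.ideal.map (Ideal.Quotient.mkₐ A J) = G'.ideal := by
    rw [← G.map_ideal]
    rfl
  let e : ((A ⧸ J) ⧸ G'.ideal) ≃ₗ[A] A ⧸ (J ⊔ G.ideal) :=
    ((Submodule.quotEquivOfEq _ _ hmap.symm).restrictScalars A).trans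
      (DoubleQuot.quotQuotEquivQuotSupₐ A J G.ideal).toLinearEquiv
  have h4 := subsingleton_tor_congr_right C _ _ e n h3
  exact subsingleton_tor_symm _ _ n h4

end good

end Groth.Agent.H19.PerfTor
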