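import Mathlib
import Groth.Agent.H19.Perf3

set_option autoImplicit false
universe u

namespace Groth.Agent.H19.PerfTor

open TensorProduct CategoryTheory CategoryTheory.Limits
open Groth.Agent.H19.RegTor Groth.Agent.H19.TorFirst

section colim

variable {A : Type u} [CommRing A] {ι : Type u} [Preorder ι] [IsDirected ι (· ≤ ·)] [Nonempty ι]
  (J : ι → Ideal A) (hJ : Monotone J)

/-- transition maps of the quotients. -/
noncomputable def qMap (s s' : ι) (h : s ≤ s') : (A ⧸ J s) →ₗ[A] (A ⧸ J s') :=
  Submodule.mapQ (J s) (J s') LinearMap.id (hJ h)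

instance qMap_directedSystem : DirectedSystem (fun s => A ⧸ J s) (fun s s' h => qMap J hJ s s' h) where
  map_self := by
    intro s x
    obtain ⟨a, rfl⟩ := Submodule.Quotient.mk_surjective _ x
    rfl
  map_map := by
    intro s s' s'' h h' x
    obtain ⟨a, rfl⟩ := Submodule.Quotient.mk_surjective _ x
    rfl

variable (I : Ideal A) (hI : ∀ a, a ∈ I ↔ ∃ s, a ∈ J s)

include hI in
theorem J_le (s : ι) : J s ≤ I := fun a ha => (hI a).2 ⟨s, ha⟩

open Classical in
/-- the comparison map from the direct limit of the quotients to the quotient by the union. -/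
noncomputable def qLift : Module.DirectLimit (fun s => A ⧸ J s) (fun s s' h => qMap J hJ s s' h)
    →ₗ[A] A ⧸ I :=
  Module.DirectLimit.lift A ι (fun s => A ⧸ J s) (fun s s' h => qMap J hJ s s' h)
    (fun s => Submodule.mapQ (J s) I LinearMap.id (J_le J I hI s)) (by
      intro s s' h x
      obtain ⟨a, rfl⟩ := Submodule.Quotient.mk_surjective _ x
      rfl)

open Classical in
theorem qLift_bijective : Function.Bijective (qLift J hJ I hI) := by
  constructor
  · rw [injective_iff_map_eq_zero]
    intro z hz
    obtain ⟨s, x, rfl⟩ := Module.DirectLimit.exists_of z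
    obtain ⟨a, rfl⟩ := Submodule.Quotient.mk_surjective _ x
    have h1 : (Submodule.Quotient.mk a : A ⧸ I) = 0 := by
      have := hz
      rw [qLift, Module.DirectLimit.lift_of] at this
      exact this
    rw [Submodule.Quotient.mk_eq_zero] at h1
    obtain ⟨s', hs'⟩ := (hI a).1 h1
    obtain ⟨s'', h1'', h2''⟩ := exists_ge_ge s s'
    rw [← Module.DirectLimit.of_f (hij := h1'')]
    have h2 : qMap J hJ s s'' h1'' (Submodule.Quotient.mk a) = 0 := by
      show (Submodule.Quotient.mk a : A ⧸ J s'') = 0
      rw [Submodule.Quotient.mk_eq_zero]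
      exact hJ h2'' hs'
    rw [h2, map_zero]
  · intro y
    obtain ⟨a, rfl⟩ := Submodule.Quotient.mk_surjective _ y
    obtain ⟨s⟩ := (inferInstance : Nonempty ι)
    refine ⟨Module.DirectLimit.of A ι (fun s => A ⧸ J s) (fun s s' h => qMap J hJ s s' h) s
      (Submodule.Quotient.mk a), ?_⟩
    rw [qLift, Module.DirectLimit.lift_of]
    rfl

open Classical in
include hJ hI in
/-- `Tor_n(A/I, M) = 0` if `Tor_n(A/J_s, M) = 0` for a directed family with union `I`. -/
theorem isZero_tor_iSup (M : Type u) [AddCommGroup M] [Module A M] (n : ℕ)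
    (h : ∀ s, IsZero (T A M n (A ⧸ J s))) : IsZero (T A M n (A ⧸ I)) := by
  let c := ModuleCat.directLimitCocone (R := A) (fun s => A ⧸ J s)
    (fun s s' h => qMap J hJ s s' h)
  have hc : IsColimit c := ModuleCat.directLimitIsColimit _ _
  haveI := TorF_preservesFiltered (ModuleCat.of A M) n ι
  have hTc : IsColimit ((TorF (ModuleCat.of A M) n).mapCocone c) :=
    isColimitOfPreserves (TorF (ModuleCat.of A M) n) hc
  have hz : IsZero ((TorF (ModuleCat.of A M) n).mapCocone c).pt := by
    rw [IsZero.iff_id_eq_zero]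
    apply hTc.hom_ext
    intro j
    exact (h j).eq_of_src _ _
  let e : Module.DirectLimit (fun s => A ⧸ J s) (fun s s' h => qMap J hJ s s' h) ≃ₗ[A] A ⧸ I :=
    LinearEquiv.ofBijective (qLift J hJ I hI) (qLift_bijective J hJ I hI)
  exact IsZero.of_iso hz ((TorF (ModuleCat.of A M) n).mapIso
    (e.symm.toModuleIso : ModuleCat.of A (A ⧸ I) ≅ ModuleCat.of A _))

end colim

end Groth.Agent.H19.PerfTor
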