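import Mathlib
import Groth.Agent.H19.Perf4

set_option autoImplicit false
universe u

namespace Groth.Agent.H19.PerfTor

open TensorProduct CategoryTheory CategoryTheory.Limits
open Groth.Agent.H19.RegTor Groth.Agent.H19.TorFirst

variable {p : ℕ} [hp : Fact p.Prime]

section fin

variable {A : Type u} [CommRing A] (hA : IsPerf p A)

/-- the root system of an element of a perfect ring. -/
noncomputable def rootSysOf (f : A) : RootSys p A where
  g := fun n => (hA.root)^[n] f
  hg := fun n => by
    rw [Function.iterate_succ_apply', hA.root_pow]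

theorem rootSysOf_zero (f : A) : (rootSysOf hA f).g 0 = f := rfl

theorem self_mem_rootSysOf (f : A) : f ∈ (rootSysOf hA f).ideal :=
  (rootSysOf hA f).g_mem 0

theorem rootSysOf_ideal_le (I : Ideal A) (hI : RootClosed (p := p) I) (f : A) (hf : f ∈ I) :
    (rootSysOf hA f).ideal ≤ I := by
  have hg : ∀ n, (rootSysOf hA f).g n ∈ I := by
    intro n
    induction n with
    | zero => exact hf
    | succ n ih =>
      apply hI
      rw [(rootSysOf hA f).hg]
      exact ih
  rintro a ⟨n, b, rfl⟩
  exact Ideal.mul_mem_right _ _ (hg n)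

include hA in
theorem good_bot : Good (p := p) (⊥ : Ideal A) := by
  refine ⟨rootClosed_bot hA, ?_⟩
  intro C _ _ hC n hn
  haveI : Module.Flat A (A ⧸ (⊥ : Ideal A)) :=
    Module.Flat.of_linearEquiv (Submodule.quotEquivOfEqBot (⊥ : Ideal A) rfl)
  exact (Groth.Agent.S3527.result A (A ⧸ (⊥ : Ideal A)) C n hn).1

variable (I : Ideal A)

/-- the ideal generated by the roots of finitely many elements of `I`. -/
noncomputable def finIdeal (S : Finset I) : Ideal A :=
  S.sup (fun f => (rootSysOf hA f.1).ideal)

theorem finIdeal_mono : Monotone (finIdeal hA I) := fun _ _ h => Finset.sup_mono h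

open Classical in
theorem good_finIdeal (S : Finset I) : Good (p := p) (finIdeal hA I S) := by
  induction S using Finset.induction_on with
  | empty => exact good_bot hA
  | insert f S _ ih =>
    have h1 : finIdeal hA I (insert f S) = finIdeal hA I S ⊔ (rootSysOf hA f.1).ideal := by
      rw [finIdeal, Finset.sup_insert, sup_comm]
      rfl
    rw [h1]
    exact good_sup hA _ ih _

theorem mem_iff_exists_finIdeal (hI : RootClosed (p := p) I) (a : A) :
    a ∈ I ↔ ∃ S, a ∈ finIdeal hA I S := by
  constructor
  · intro ha
    refine ⟨{⟨a, ha⟩}, ?_⟩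
    rw [finIdeal, Finset.sup_singleton]
    exact self_mem_rootSysOf hA a
  · rintro ⟨S, hS⟩
    have hle : finIdeal hA I S ≤ I :=
      Finset.sup_le (fun f _ => rootSysOf_ideal_le hA I hI f.1 f.2)
    exact hle hS

include hA in
/-- every root-closed ideal of a perfect ring is good. -/
theorem good_of_rootClosed (hI : RootClosed (p := p) I) : Good (p := p) I := by
  refine ⟨hI, ?_⟩
  intro C _ _ hC n hn
  have hz := isZero_tor_iSup (finIdeal hA I) (finIdeal_mono hA I) I
    (mem_iff_exists_finIdeal hA I hI) C n (fun S => by
      haveI := (good_finIdeal hA I S).2 C hC n hn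
      exact ModuleCat.isZero_of_subsingleton _)
  exact ModuleCat.subsingleton_of_isZero hz

end fin

end Groth.Agent.H19.PerfTor
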