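import Mathlib
import Groth.Agent.H19.Perf5

set_option autoImplicit false
universe u

namespace Groth.Agent.H19.PerfTor

open TensorProduct CategoryTheory CategoryTheory.Limits
open Groth.Agent.H19.RegTor Groth.Agent.H19.TorFirst

variable {p : ℕ} [hp : Fact p.Prime]

theorem isPerf_zmod : IsPerf p (ZMod p) where
  p_zero := ZMod.natCast_self p
  bij := by
    have h : (fun a : ZMod p => a ^ p) = id := by
      funext a
      exact ZMod.pow_card a
    rw [h]
    exact Function.bijective_id

section main

variable {A B C : Type u} [CommRing A] [CommRing B] [CommRing C] [Algebra A B] [Algebra A C]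
  [Algebra (ZMod p) A] [Algebra (ZMod p) B] [IsScalarTower (ZMod p) A B]
  (hA : IsPerf p A) (hB : IsPerf p B) (hC : IsPerf p C)

/-- the flat perfect `A`-algebra surjecting onto `B`. -/
abbrev PP (p : ℕ) (A B : Type u) [CommRing A] [CommRing B] [Algebra (ZMod p) A]
    [Algebra (ZMod p) B] : Type u := A ⊗[ZMod p] B

/-- the surjection `A ⊗ B → B`. -/
noncomputable def ππ : PP p A B →ₐ[ZMod p] B :=
  Algebra.TensorProduct.productMap (IsScalarTower.toAlgHom (ZMod p) A B) (AlgHom.id (ZMod p) B)

theorem ππ_tmul (a : A) (b : B) : ππ (p := p) (a ⊗ₜ[ZMod p] b) = algebraMap A B a * b := by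
  simp [ππ]

theorem ππ_surjective : Function.Surjective (ππ (p := p) (A := A) (B := B)) := by
  intro b
  exact ⟨1 ⊗ₜ b, by rw [ππ_tmul, map_one, one_mul]⟩

include hA hB hC in
theorem tor_perfect (n : ℕ) (hn : 0 < n) : Subsingleton (DRing.Tor A n B C) := by
  have hP : IsPerf p (PP p A B) := IsPerf.tensor (isPerf_zmod (p := p)) hA hB
  letI algPB : Algebra (PP p A B) B := (ππ (p := p) (A := A) (B := B)).toRingHom.toAlgebra
  haveI tower : IsScalarTower A (PP p A B) B := IsScalarTower.of_algebraMap_eq (fun a => by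
    show algebraMap A B a = ππ (p := p) (algebraMap A (PP p A B) a)
    rw [Algebra.TensorProduct.algebraMap_apply, ππ_tmul, mul_one]
    rfl)
  haveI : Module.Flat A (PP p A B) := inferInstance
  -- the kernel
  let I : Ideal (PP p A B) := LinearMap.ker (Algebra.linearMap (PP p A B) B)
  have hI : RootClosed (p := p) I := by
    intro a ha
    have ha' : algebraMap (PP p A B) B (a ^ p) = 0 := ha
    rw [map_pow] at ha'
    exact hB.eq_zero_of_pow ha'
  have hgood := good_of_rootClosed hP I hI
  have hC' : IsPerf p (PP p A B ⊗[A] C) := IsPerf.tensor hA hP hC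
  have h1 := hgood.2 (PP p A B ⊗[A] C) hC' n hn
  have hsurj : Function.Surjective (Algebra.linearMap (PP p A B) B) :=
    ππ_surjective (p := p) (A := A) (B := B)
  let e : (PP p A B ⧸ I) ≃ₗ[PP p A B] B :=
    LinearMap.quotKerEquivOfSurjective (Algebra.linearMap (PP p A B) B) hsurj
  have h2 : Subsingleton (DRing.Tor (PP p A B) n B (PP p A B ⊗[A] C)) := by
    have hz : IsZero (T (PP p A B) (PP p A B ⊗[A] C) n (PP p A B ⧸ I)) :=
      ModuleCat.isZero_of_subsingleton _
    exact ModuleCat.subsingleton_of_isZero (isZero_congr (PP p A B ⊗[A] C) e n hz)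
  obtain ⟨φ, hφ⟩ := Groth.Agent.H13.TorBC.tor_bc₂ (A := A) (A' := PP p A B) B C n
  exact hφ.1.subsingleton

end main

end Groth.Agent.H19.PerfTor
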