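import Mathlib
import Groth.Agent.H19.Perf6

set_option autoImplicit false
universe u

namespace Groth.Agent.H19.PerfTor

open TensorProduct CategoryTheory CategoryTheory.Limits

theorem main (p : ℕ) [Fact p.Prime] (A B C : Type u) [CommRing A] [CommRing B] [CommRing C]
    [CharP A p] [Algebra A B] [Algebra A C]
    (hA : Function.Bijective fun a : A => a ^ p) (hB : Function.Bijective fun b : B => b ^ p)
    (hC : Function.Bijective fun c : C => c ^ p) (i : ℕ) (hi : 0 < i) :
    Limits.IsZero (((Tor (ModuleCat.{u} A) i).obj (ModuleCat.of A B)).obj (ModuleCat.of A C)) := by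
  have hpA : ((p : ℕ) : A) = 0 := CharP.cast_eq_zero A p
  have hpB : ((p : ℕ) : B) = 0 := by
    rw [← map_natCast (algebraMap A B), hpA, map_zero]
  have hpC : ((p : ℕ) : C) = 0 := by
    rw [← map_natCast (algebraMap A C), hpA, map_zero]
  rcases subsingleton_or_nontrivial B with hs | hn
  · exact Groth.Agent.H19.FlatCech.isZero_of_subsingleton C i B
  · haveI : CharP B p := (CharP.charP_iff_prime_eq_zero Fact.out).2 hpB
    letI := ZMod.algebra A p
    letI := ZMod.algebra B p
    haveI : IsScalarTower (ZMod p) A B := IsScalarTower.of_algebraMap_eq' (Subsingleton.elim _ _)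
    haveI := tor_perfect (p := p) (A := A) (B := B) (C := C) ⟨hpA, hA⟩ ⟨hpB, hB⟩ ⟨hpC, hC⟩ i hi
    exact ModuleCat.isZero_of_subsingleton _

end Groth.Agent.H19.PerfTor
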