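import Mathlib

set_option autoImplicit false
universe u

namespace Groth.Agent.H19.Planar

open CategoryTheory CategoryTheory.Limits Abelian Function

section shift

variable {R : Type u} [CommRing R] (M N : Type u) [AddCommGroup M] [Module R M]
  [AddCommGroup N] [Module R N]
  (F₀ F₁ : Type u) [AddCommGroup F₀] [Module R F₀] [Module.Projective R F₀]
  [AddCommGroup F₁] [Module R F₁] [Module.Projective R F₁]

theorem ext_two_subsingleton_of_periodic
    (p : F₀ →ₗ[R] M) (hp : Surjective p) (φ : F₁ →ₗ[R] F₀) (hφ : Exact φ p)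
    (hH : ∀ g : LinearMap.ker φ →ₗ[R] N, g = 0) :
    Subsingleton (Ext (ModuleCat.of R M) (ModuleCat.of R N) 2) := by
  -- first short exact sequence
  have hS1 := LinearMap.shortExact_shortComplexKer hp
  -- corestriction of φ to ker p
  let φ' : F₁ →ₗ[R] LinearMap.ker p :=
    LinearMap.codRestrict _ φ (fun v => hφ.apply_apply_eq_zero v)
  have hφ' : Surjective φ' := by
    rintro ⟨w, hw⟩
    obtain ⟨v, rfl⟩ := (hφ w).1 hw
    exact ⟨v, rfl⟩
  have hS2 := LinearMap.shortExact_shortComplexKer hφ'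
  have hker : ∀ g : LinearMap.ker φ' →ₗ[R] N, g = 0 := by
    intro g
    have hle : LinearMap.ker φ ≤ LinearMap.ker φ' := by
      intro v hv
      rw [LinearMap.mem_ker] at hv ⊢
      exact Subtype.ext hv
    have hle' : LinearMap.ker φ' ≤ LinearMap.ker φ := by
      intro v hv
      rw [LinearMap.mem_ker] at hv ⊢
      exact congrArg Subtype.val hv
    have h1 := hH (g ∘ₗ Submodule.inclusion hle)
    apply LinearMap.ext
    intro v
    have := LinearMap.congr_fun h1 ⟨v.1, hle' v.2⟩
    exact this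
  haveI : Projective (ModuleCat.of R F₀) :=
    (IsProjective.iff_projective _).1 (inferInstanceAs (Module.Projective R F₀))
  haveI : Projective (ModuleCat.of R F₁) :=
    (IsProjective.iff_projective _).1 (inferInstanceAs (Module.Projective R F₁))
  haveI : Projective p.shortComplexKer.X₂ :=
    (inferInstance : Projective (ModuleCat.of R F₀))
  haveI : Projective φ'.shortComplexKer.X₂ :=
    (inferInstance : Projective (ModuleCat.of R F₁))
  refine subsingleton_of_forall_eq 0 ?_
  intro x₃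
  obtain ⟨x₁, hx₁⟩ := Ext.contravariant_sequence_exact₃ hS1 (ModuleCat.of R N)
    (x₃ : Ext p.shortComplexKer.X₃ (ModuleCat.of R N) 2) (Ext.eq_zero_of_projective _)
    (show 1 + 1 = 2 by norm_num)
  obtain ⟨x₀, hx₀⟩ := Ext.contravariant_sequence_exact₃ hS2 (ModuleCat.of R N)
    (x₁ : Ext φ'.shortComplexKer.X₃ (ModuleCat.of R N) 1) (Ext.eq_zero_of_projective _)
    (show 1 + 0 = 1 by norm_num)
  obtain ⟨g, rfl⟩ := (Ext.mk₀_bijective _ _).2 x₀
  have hg : g = 0 := by
    apply ModuleCat.hom_ext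
    exact hker g.hom
  rw [hg, Ext.mk₀_zero, Ext.comp_zero] at hx₀
  rw [← hx₀, Ext.comp_zero] at hx₁
  exact hx₁.symm

end shift

section homzero

variable {R : Type u} [CommRing R] [IsLocalRing R] (I J : Ideal R) (n : ℕ)
  (hIJ : IsLocalRing.maximalIdeal R ^ n ≤ I ⊔ J)
  (N : Type u) [AddCommGroup N] [Module R N] (hJ : J ≤ Module.annihilator R N)
  (y : R) (hy : y ∈ IsLocalRing.maximalIdeal R) (hyN : IsSMulRegular N y)

include hIJ hJ hy hyN in
theorem hom_eq_zero (K : Type u) [AddCommGroup K] [Module R K] (hK : ∀ i ∈ I, ∀ v : K, i • v = 0)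
    (g : K →ₗ[R] N) : g = 0 := by
  apply LinearMap.ext
  intro v
  have h1 : y ^ n ∈ I ⊔ J := hIJ (Ideal.pow_mem_pow hy n)
  obtain ⟨i, hi, j, hj, hij⟩ := Submodule.mem_sup.1 h1
  have h2 : y ^ n • g v = 0 := by
    rw [← hij, add_smul, ← map_smul, hK i hi v, map_zero, zero_add]
    exact Module.mem_annihilator.1 (hJ hj) (g v)
  have h3 : IsSMulRegular N (y ^ n) := hyN.pow n
  apply h3
  show y ^ n • g v = y ^ n • (0 : K →ₗ[R] N) v
  rw [h2, LinearMap.zero_apply, smul_zero]

end homzero

end Groth.Agent.H19.Planar
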