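import Mathlib
import Groth.Agent.H19.Node1
import Groth.Agent.H29.RegGlobalDim
import Groth.Agent.S5809

set_option autoImplicit false
universe u

namespace Groth.Agent.H19.Planar

open CategoryTheory CategoryTheory.Limits Function

variable (S : Type u) [CommRing S] [IsRegularLocalRing S] (hS : ringKrullDim S = 2)
  (M : Type u) [AddCommGroup M] [Module S M] [Module.Finite S M] (t : S)
  (ht : t ∈ IsLocalRing.maximalIdeal S) (hreg : IsSMulRegular M t)

/-- `0 → M → M → M/tM → 0` -/
noncomputable def scReg : ShortComplex (ModuleCat.{u} S) :=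
  ShortComplex.mk (ModuleCat.ofHom (t • (LinearMap.id : M →ₗ[S] M)))
    (ModuleCat.ofHom (LinearMap.range (t • (LinearMap.id : M →ₗ[S] M))).mkQ) (by
      apply ModuleCat.hom_ext
      apply LinearMap.ext
      intro m
      exact (LinearMap.exact_map_mkQ_range (t • (LinearMap.id : M →ₗ[S] M))).apply_apply_eq_zero m)

include hreg in
theorem scReg_shortExact : (scReg S M t).ShortExact := by
  have hex : (scReg S M t).Exact := by
    rw [ShortComplex.ShortExact.moduleCat_exact_iff_function_exact]
    exact LinearMap.exact_map_mkQ_range (t • (LinearMap.id : M →ₗ[S] M))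
  have hm : Mono (scReg S M t).f := (ModuleCat.mono_iff_injective _).2 (by
    intro a b hab
    exact hreg hab)
  have he : Epi (scReg S M t).g := (ModuleCat.epi_iff_surjective _).2 (Submodule.mkQ_surjective _)
  exact ShortComplex.ShortExact.mk' hex hm he

include hS ht hreg in
theorem pd_lt_two : HasProjectiveDimensionLT (ModuleCat.of S M) 2 := by
  let kM : ModuleCat.{u} S := ModuleCat.of S (IsLocalRing.ResidueField S)
  have hSE := scReg_shortExact S M t hreg
  have hpd3 : HasProjectiveDimensionLT (scReg S M t).X₃ (2 + 1) :=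
    Groth.Agent.H29.hasProjectiveDimensionLT_of_isRegularLocalRing S 2 hS _
  have hz3 : IsZero (((Tor (ModuleCat.{u} S) (2 + 1)).obj (scReg S M t).X₃).obj kM) :=
    Groth.Agent.H19.NodeTor.isZero_tor_of_pdLT kM 3 _ hpd3 3 le_rfl
  have hmono := Groth.Agent.H19.TorFirst.mono_map_f (scReg S M t) hSE kM 2 hz3
  have hinj := (ModuleCat.mono_iff_injective _).1 hmono
  have hkill : ∀ c : kM, t • c = 0 := by
    intro c
    obtain ⟨a, rfl⟩ := IsLocalRing.residue_surjective c
    show t • IsLocalRing.residue S a = 0
    rw [Algebra.smul_def, IsLocalRing.ResidueField.algebraMap_eq,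
      (IsLocalRing.residue_eq_zero_iff t).2 ht, zero_mul]
  -- the map is multiplication by `t`, which is zero
  have hzero : ∀ s : ((Tor (ModuleCat.{u} S) 2).obj (ModuleCat.of S M)).obj kM, s = 0 := by
    intro s
    apply hinj
    refine Eq.trans ?_ (map_zero _).symm
    show (((Tor (ModuleCat.{u} S) 2).map (scReg S M t).f).app kM).hom s = 0
    have h2 := Groth.Agent.H19.TorFirst.TorF_map_smul_id_apply kM 2 (ModuleCat.of S M) t s
    have h3 : t • s = 0 :=
      Groth.Agent.H19.NodeTor.smul_tor_eq_zero (ModuleCat.of S M) kM t hkill 2 s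
    exact h2.trans h3
  have hz : IsZero (((Tor (ModuleCat.{u} S) 2).obj (ModuleCat.of S M)).obj kM) := by
    haveI : Subsingleton (((Tor (ModuleCat.{u} S) 2).obj (ModuleCat.of S M)).obj kM) :=
      subsingleton_of_forall_eq 0 hzero
    exact ModuleCat.isZero_of_subsingleton _
  have hz' : IsZero (((Tor (ModuleCat.{u} S) (1 + 1)).obj kM).obj (ModuleCat.of S M)) :=
    hz.of_iso (Groth.Agent.H19.TorFlip.θ S 2 kM (ModuleCat.of S M))
  exact (Groth.Agent.S5809.result S M 1).2 hz'

end Groth.Agent.H19.Planar
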