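import Mathlib
import Groth.Agent.H19.Planar2

set_option autoImplicit false
universe u

namespace Groth.Agent.H19.Planar

open CategoryTheory CategoryTheory.Limits Function

theorem exists_periodic (S : Type u) [CommRing S] [IsRegularLocalRing S] (hS : ringKrullDim S = 2)
    (f : S) (R : Type u) [CommRing R] [IsLocalRing R] (π : S →+* R) (hπ : Surjective π)
    (hker : RingHom.ker π = Ideal.span {f})
    (I : Ideal R) (M : Type u) [AddCommGroup M] [Module R M] [Module.Finite R M]
    (hI : I ≤ Module.annihilator R M)
    (x : R) (hx : x ∈ IsLocalRing.maximalIdeal R) (hxM : IsSMulRegular M x) :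
    ∃ (a b : ℕ) (p : (Fin a → R) →ₗ[R] M) (φ : (Fin b → R) →ₗ[R] (Fin a → R)),
      Surjective p ∧ Exact φ p ∧ ∀ i ∈ I, ∀ v ∈ LinearMap.ker φ, i • v = 0 := by
  classical
  obtain ⟨a, g, hg⟩ := Module.Finite.exists_fin' R M
  letI : Module S M := Module.compHom M π
  have hsm : ∀ (s : S) (m : M), s • m = π s • m := fun _ _ => rfl
  have hπf : π f = 0 := by
    rw [← RingHom.mem_ker, hker]; exact Ideal.mem_span_singleton_self f
  let p : (Fin a → S) →ₗ[S] M :=
    { toFun := fun v => g (fun i => π (v i))
      map_add' := by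
        intro v w
        rw [← map_add]
        congr 1
        funext i
        simp
      map_smul' := by
        intro s v
        rw [RingHom.id_apply, hsm, ← map_smul]
        congr 1
        funext i
        simp }
  have hp : Surjective p := by
    intro m
    obtain ⟨vb, rfl⟩ := hg m
    choose v hv using fun i => hπ (vb i)
    refine ⟨v, ?_⟩
    show g _ = g _
    congr 1
    funext i
    exact hv i
  haveI : Module.Finite S M := Module.Finite.of_surjective p hp
  obtain ⟨t, rfl⟩ := hπ x
  have ht : t ∈ IsLocalRing.maximalIdeal S := by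
    by_contra hcon
    have hu : IsUnit t := by
      rw [IsLocalRing.mem_maximalIdeal, mem_nonunits_iff, not_not] at hcon
      exact hcon
    exact ((IsLocalRing.mem_maximalIdeal _).1 hx) (hu.map π)
  have hreg : IsSMulRegular M t := fun m₁ m₂ h => hxM h
  have hpd := pd_lt_two S hS M t ht hreg
  have hSE := LinearMap.shortExact_shortComplexKer hp
  have hproj2 : Projective p.shortComplexKer.X₂ :=
    (IsProjective.iff_projective _).1 (inferInstanceAs (Module.Projective S (Fin a → S)))
  have hK1 : HasProjectiveDimensionLT p.shortComplexKer.X₁ (0 + 1) :=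
    (hSE.hasProjectiveDimensionLT_X₃_iff 0 hproj2).1 hpd
  haveI hKp : Projective (ModuleCat.of S (LinearMap.ker p)) :=
    projective_iff_hasProjectiveDimensionLT_one.2 hK1
  haveI : Module.Projective S (LinearMap.ker p) := (IsProjective.iff_projective _).2 hKp
  haveI : Module.Free S (LinearMap.ker p) := Module.free_of_flat_of_isLocalRing
  let bs := Module.finBasis S (LinearMap.ker p)
  let φ : (Fin (Module.finrank S (LinearMap.ker p)) → S) →ₗ[S] (Fin a → S) :=
    (LinearMap.ker p).subtype ∘ₗ bs.equivFun.symm.toLinearMap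
  have hφinj : Injective φ := (Submodule.injective_subtype _).comp bs.equivFun.symm.injective
  have hφrange : ∀ v, p v = 0 → ∃ w, φ w = v := by
    intro v hv
    refine ⟨bs.equivFun ⟨v, hv⟩, ?_⟩
    show ((bs.equivFun.symm (bs.equivFun ⟨v, hv⟩) : LinearMap.ker p) : Fin a → S) = v
    rw [LinearEquiv.symm_apply_apply]
  have hpφ : ∀ w, p (φ w) = 0 := fun w => (bs.equivFun.symm w).2
  let Φ := LinearMap.toMatrix' φ
  let φ' : (Fin (Module.finrank S (LinearMap.ker p)) → R) →ₗ[R] (Fin a → R) :=
    Matrix.toLin' (Φ.map π)
  have hcompat : ∀ w : Fin (Module.finrank S (LinearMap.ker p)) → S,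
      φ' (fun j => π (w j)) = fun i => π (φ w i) := by
    intro w
    funext i
    have h1 := RingHom.map_mulVec π Φ w i
    rw [LinearMap.toMatrix'_mulVec] at h1
    rw [h1]
    rfl
  refine ⟨a, _, g, φ', hg, ?_, ?_⟩
  · intro v'
    choose v hv using fun i => hπ (v' i)
    have hv' : (fun i => π (v i)) = v' := funext hv
    constructor
    · intro h0
      have h1 : p v = 0 := by
        show g (fun i => π (v i)) = 0
        rw [hv']; exact h0
      obtain ⟨w, hw⟩ := hφrange v h1
      refine ⟨fun j => π (w j), ?_⟩
      rw [hcompat, hw, hv']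
    · rintro ⟨w', rfl⟩
      choose w hw using fun j => hπ (w' j)
      have hw' : (fun j => π (w j)) = w' := funext hw
      rw [← hw', hcompat]
      exact hpφ w
  · intro i hi w' hw0
    choose w hw using fun j => hπ (w' j)
    have hw' : (fun j => π (w j)) = w' := funext hw
    obtain ⟨s, rfl⟩ := hπ i
    rw [LinearMap.mem_ker, ← hw', hcompat] at hw0
    have hu : ∀ i', ∃ c, φ w i' = f * c := by
      intro i'
      have h1 : φ w i' ∈ RingHom.ker π := by
        rw [RingHom.mem_ker]; exact congrFun hw0 i'
      rw [hker] at h1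
      obtain ⟨c, hc⟩ := Ideal.mem_span_singleton'.1 h1
      exact ⟨c, by rw [← hc, mul_comm]⟩
    choose u hu using hu
    have hφw : φ w = f • u := funext (fun i' => hu i')
    have hsu : p (s • u) = 0 := by
      rw [map_smul, hsm]
      exact Module.mem_annihilator.1 (hI hi) _
    obtain ⟨w₂, hw₂⟩ := hφrange _ hsu
    have h5 : s • w = f • w₂ := by
      apply hφinj
      rw [map_smul, map_smul, hφw, hw₂, smul_comm]
    rw [← hw']
    funext j
    show π s * π (w j) = 0
    have h6 : s * w j = f * w₂ j := congrFun h5 j
    rw [← map_mul, h6, map_mul, hπf, zero_mul]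

end Groth.Agent.H19.Planar
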