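import Mathlib
import Groth.Agent.H19.Planar1
import Groth.Agent.H19.Planar3
import Groth.Agent.S0558

set_option autoImplicit false
universe u

namespace Groth.Agent.H19.Planar

open CategoryTheory CategoryTheory.Limits Function TensorProduct

theorem exists_periodic' (S : Type u) [CommRing S] [IsRegularLocalRing S] (hS : ringKrullDim S = 2)
    (f : S) (hf : f ≠ 0) (R : Type u) [CommRing R] [IsLocalRing R] (π : S →+* R) (hπ : Surjective π)
    (hker : RingHom.ker π = Ideal.span {f})
    (I : Ideal R) (M : Type u) [AddCommGroup M] [Module R M] [Module.Finite R M]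
    (hI : I ≤ Module.annihilator R M)
    (x : R) (hx : x ∈ IsLocalRing.maximalIdeal R) (hxM : IsSMulRegular M x) :
    ∃ (a b : ℕ) (p : (Fin a → R) →ₗ[R] M) (φ : (Fin b → R) →ₗ[R] (Fin a → R)),
      Surjective p ∧ Exact φ p ∧ (∀ i ∈ I, ∀ v ∈ LinearMap.ker φ, i • v = 0) ∧
        ∀ v ∈ LinearMap.ker φ, x • v = 0 → v = 0 := by
  classical
  haveI : IsDomain S := Groth.Agent.S0558.result S
  obtain ⟨a, g, hg⟩ := Module.Finite.exists_fin' R M
  letI : Module S M := Module.compHom M π
  have hsm : ∀ (s : S) (m : M), s • m = π s • m := fun _ _ => rfl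
  have hπf : π f = 0 := by
    rw [← RingHom.mem_ker, hker]; exact Ideal.mem_span_singleton_self f
  let p : (Fin a → S) →ₗ[S] M :=
    { toFun := fun v => g (fun i => π (v i))
      map_add' := by
        intro v w
        rw [← map_add]
        congr 1
        funext i
        simp
      map_smul' := by
        intro s v
        rw [RingHom.id_apply, hsm, ← map_smul]
        congr 1
        funext i
        simp }
  have hp : Surjective p := by
    intro m
    obtain ⟨vb, rfl⟩ := hg m
    choose v hv using fun i => hπ (vb i)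
    refine ⟨v, ?_⟩
    show g _ = g _
    congr 1
    funext i
    exact hv i
  haveI : Module.Finite S M := Module.Finite.of_surjective p hp
  obtain ⟨t, rfl⟩ := hπ x
  have ht : t ∈ IsLocalRing.maximalIdeal S := by
    by_contra hcon
    have hu : IsUnit t := by
      rw [IsLocalRing.mem_maximalIdeal, mem_nonunits_iff, not_not] at hcon
      exact hcon
    exact ((IsLocalRing.mem_maximalIdeal _).1 hx) (hu.map π)
  have hreg : IsSMulRegular M t := fun m₁ m₂ h => hxM h
  have hpd := pd_lt_two S hS M t ht hreg
  have hSE := LinearMap.shortExact_shortComplexKer hp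
  have hproj2 : Projective p.shortComplexKer.X₂ :=
    (IsProjective.iff_projective _).1 (inferInstanceAs (Module.Projective S (Fin a → S)))
  have hK1 : HasProjectiveDimensionLT p.shortComplexKer.X₁ (0 + 1) :=
    (hSE.hasProjectiveDimensionLT_X₃_iff 0 hproj2).1 hpd
  haveI hKp : Projective (ModuleCat.of S (LinearMap.ker p)) :=
    projective_iff_hasProjectiveDimensionLT_one.2 hK1
  haveI : Module.Projective S (LinearMap.ker p) := (IsProjective.iff_projective _).2 hKp
  haveI : Module.Free S (LinearMap.ker p) := Module.free_of_flat_of_isLocalRing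
  let bs := Module.finBasis S (LinearMap.ker p)
  let φ : (Fin (Module.finrank S (LinearMap.ker p)) → S) →ₗ[S] (Fin a → S) :=
    (LinearMap.ker p).subtype ∘ₗ bs.equivFun.symm.toLinearMap
  have hφinj : Injective φ := (Submodule.injective_subtype _).comp bs.equivFun.symm.injective
  have hφrange : ∀ v, p v = 0 → ∃ w, φ w = v := by
    intro v hv
    refine ⟨bs.equivFun ⟨v, hv⟩, ?_⟩
    show ((bs.equivFun.symm (bs.equivFun ⟨v, hv⟩) : LinearMap.ker p) : Fin a → S) = v
    rw [LinearEquiv.symm_apply_apply]
  have hpφ : ∀ w, p (φ w) = 0 := fun w => (bs.equivFun.symm w).2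
  let Φ := LinearMap.toMatrix' φ
  let φ' : (Fin (Module.finrank S (LinearMap.ker p)) → R) →ₗ[R] (Fin a → R) :=
    Matrix.toLin' (Φ.map π)
  have hcompat : ∀ w : Fin (Module.finrank S (LinearMap.ker p)) → S,
      φ' (fun j => π (w j)) = fun i => π (φ w i) := by
    intro w
    funext i
    have h1 := RingHom.map_mulVec π Φ w i
    rw [LinearMap.toMatrix'_mulVec] at h1
    rw [h1]
    rfl
  refine ⟨a, _, g, φ', hg, ?_, ?_, ?_⟩
  · intro v'
    choose v hv using fun i => hπ (v' i)
    have hv' : (fun i => π (v i)) = v' := funext hv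
    constructor
    · intro h0
      have h1 : p v = 0 := by
        show g (fun i => π (v i)) = 0
        rw [hv']; exact h0
      obtain ⟨w, hw⟩ := hφrange v h1
      refine ⟨fun j => π (w j), ?_⟩
      rw [hcompat, hw, hv']
    · rintro ⟨w', rfl⟩
      choose w hw using fun j => hπ (w' j)
      have hw' : (fun j => π (w j)) = w' := funext hw
      rw [← hw', hcompat]
      exact hpφ w
  · intro i hi w' hw0
    choose w hw using fun j => hπ (w' j)
    have hw' : (fun j => π (w j)) = w' := funext hw
    obtain ⟨s, rfl⟩ := hπ i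
    rw [LinearMap.mem_ker, ← hw', hcompat] at hw0
    have hu : ∀ i', ∃ c, φ w i' = f * c := by
      intro i'
      have h1 : φ w i' ∈ RingHom.ker π := by
        rw [RingHom.mem_ker]; exact congrFun hw0 i'
      rw [hker] at h1
      obtain ⟨c, hc⟩ := Ideal.mem_span_singleton'.1 h1
      exact ⟨c, by rw [← hc, mul_comm]⟩
    choose u hu using hu
    have hφw : φ w = f • u := funext (fun i' => hu i')
    have hsu : p (s • u) = 0 := by
      rw [map_smul, hsm]
      exact Module.mem_annihilator.1 (hI hi) _
    obtain ⟨w₂, hw₂⟩ := hφrange _ hsu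
    have h5 : s • w = f • w₂ := by
      apply hφinj
      rw [map_smul, map_smul, hφw, hw₂, smul_comm]
    rw [← hw']
    funext j
    show π s * π (w j) = 0
    have h6 : s * w j = f * w₂ j := congrFun h5 j
    rw [← map_mul, h6, map_mul, hπf, zero_mul]
  · intro w' hw0 hxw
    choose w hw using fun j => hπ (w' j)
    have hw' : (fun j => π (w j)) = w' := funext hw
    rw [LinearMap.mem_ker, ← hw', hcompat] at hw0
    have hu : ∀ i', ∃ c, φ w i' = f * c := by
      intro i'
      have h1 : φ w i' ∈ RingHom.ker π := by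
        rw [RingHom.mem_ker]; exact congrFun hw0 i'
      rw [hker] at h1
      obtain ⟨c, hc⟩ := Ideal.mem_span_singleton'.1 h1
      exact ⟨c, by rw [← hc, mul_comm]⟩
    choose u hu using hu
    have hφw : φ w = f • u := funext (fun i' => hu i')
    have hu2 : ∀ j, ∃ c, t * w j = f * c := by
      intro j
      have h1 : t * w j ∈ RingHom.ker π := by
        rw [RingHom.mem_ker, map_mul]
        have := congrFun hxw j
        rw [← hw'] at this
        exact this
      rw [hker] at h1
      obtain ⟨c, hc⟩ := Ideal.mem_span_singleton'.1 h1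
      exact ⟨c, by rw [← hc, mul_comm]⟩
    choose w₂ hw₂ using hu2
    have htw : t • w = f • w₂ := funext (fun j => hw₂ j)
    have h7 : f • (t • u) = f • φ w₂ := by
      rw [smul_comm, ← hφw, ← map_smul, htw, map_smul]
    have h8 : t • u = φ w₂ := by
      funext i'
      have := congrFun h7 i'
      exact mul_left_cancel₀ hf this
    have h9 : p u = 0 := by
      apply hreg
      show t • p u = t • (0 : M)
      rw [smul_zero, ← map_smul, h8]
      exact hpφ w₂
    obtain ⟨w₃, hw₃⟩ := hφrange u h9
    have h10 : w = f • w₃ := by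
      apply hφinj
      rw [hφw, map_smul, hw₃]
    rw [← hw', h10]
    funext j
    show π (f * w₃ j) = 0
    rw [map_mul, hπf, zero_mul]


section dual

variable {R : Type u} [CommRing R] (N : Type u) [AddCommGroup N] [Module R N]

noncomputable def EE (c : ℕ) :
    (Fin c → R) ⊗[R] Module.Dual R N ≃ₗ[R] (Fin c → Module.Dual R N) :=
  (TensorProduct.comm R (Fin c → R) (Module.Dual R N)).trans
    (TensorProduct.piScalarRight R R (Module.Dual R N) (Fin c))

theorem EE_tmul (c : ℕ) (v : Fin c → R) (l : Module.Dual R N) :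
    EE N c (v ⊗ₜ[R] l) = fun j => v j • l := by
  funext j
  simp [EE]

/-- the standard vectors, in the form used by `LinearMap.pi_apply_eq_sum_univ` -/
def ee (b : ℕ) (j : Fin b) : Fin b → R := fun j' => if j = j' then 1 else 0

noncomputable def Th (a b : ℕ) (φ : (Fin b → R) →ₗ[R] (Fin a → R)) :
    (Fin b → Module.Dual R N) →ₗ[R] (Fin a → Module.Dual R N) :=
  LinearMap.pi (fun i => ∑ j, (φ (ee b j) i) • LinearMap.proj j)

theorem Th_apply (a b : ℕ) (φ : (Fin b → R) →ₗ[R] (Fin a → R)) (l : Fin b → Module.Dual R N)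
    (i : Fin a) : Th N a b φ l i = ∑ j, (φ (ee b j) i) • l j := by
  simp [Th, LinearMap.sum_apply]

theorem phi_apply (a b : ℕ) (φ : (Fin b → R) →ₗ[R] (Fin a → R)) (v : Fin b → R) (i : Fin a) :
    φ v i = ∑ j, v j * φ (ee b j) i := by
  have h := LinearMap.pi_apply_eq_sum_univ φ v
  have h2 := congrFun h i
  rw [h2, Finset.sum_apply]
  rfl

theorem Th_comm (a b : ℕ) (φ : (Fin b → R) →ₗ[R] (Fin a → R)) :
    Th N a b φ ∘ₗ (EE N b).toLinearMap = (EE N a).toLinearMap ∘ₗ φ.rTensor (Module.Dual R N) := by
  apply TensorProduct.ext'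
  intro v l
  funext i
  show Th N a b φ (EE N b (v ⊗ₜ[R] l)) i = EE N a (φ v ⊗ₜ[R] l) i
  rw [EE_tmul, EE_tmul, Th_apply]
  show ∑ j, φ (ee b j) i • v j • l = φ v i • l
  rw [phi_apply, Finset.sum_smul]
  refine Finset.sum_congr rfl (fun j _ => ?_)
  rw [smul_smul, mul_comm]

theorem rTensor_dual_injective (a b : ℕ) (φ : (Fin b → R) →ₗ[R] (Fin a → R))
    (h : ∀ g : N →ₗ[R] LinearMap.ker φ, g = 0) :
    Injective (φ.rTensor (Module.Dual R N)) := by
  have hTh : Injective (Th N a b φ) := by
    rw [injective_iff_map_eq_zero]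
    intro l hl
    let g : N →ₗ[R] (Fin b → R) := LinearMap.pi (fun j => l j)
    have hg : ∀ n, g n ∈ LinearMap.ker φ := by
      intro n
      rw [LinearMap.mem_ker]
      funext i
      rw [phi_apply]
      have h1 : (Th N a b φ l i) n = 0 := by rw [hl]; rfl
      rw [Th_apply, LinearMap.sum_apply] at h1
      show ∑ j, g n j * φ (ee b j) i = 0
      rw [← h1]
      refine Finset.sum_congr rfl (fun j _ => ?_)
      show l j n * φ (ee b j) i = (φ (ee b j) i • l j) n
      rw [LinearMap.smul_apply, smul_eq_mul, mul_comm]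
    have h2 := h (LinearMap.codRestrict _ g hg)
    funext j
    apply LinearMap.ext
    intro n
    have h3 := LinearMap.congr_fun h2 n
    have h4 : g n = 0 := congrArg Subtype.val h3
    exact congrFun h4 j
  intro z z' hzz'
  apply (EE N b).injective
  apply hTh
  have h1 := LinearMap.congr_fun (Th_comm N a b φ) z
  have h2 := LinearMap.congr_fun (Th_comm N a b φ) z'
  simp only [LinearMap.comp_apply, LinearEquiv.coe_coe] at h1 h2
  rw [h1, h2, hzz']

end dual

end Groth.Agent.H19.Planar
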