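import Mathlib
import Groth.Agent.H19.Planar4
import Groth.Agent.H19.Node1

set_option autoImplicit false
universe u

namespace Groth.Agent.H19.Planar

open CategoryTheory CategoryTheory.Limits Function TensorProduct

theorem main_S13994 (S : Type u) [CommRing S] [IsRegularLocalRing S] (hS : ringKrullDim S = 2)
    (f : S) (hf : f ≠ 0) (R : Type u) [CommRing R] [IsLocalRing R] (π : S →+* R)
    (hπ : Function.Surjective π) (hker : RingHom.ker π = Ideal.span {f}) (I J : Ideal R) (n : ℕ)
    (hIJ : IsLocalRing.maximalIdeal R ^ n ≤ I ⊔ J) (M N : Type u) [AddCommGroup M] [Module R M]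
    [Module.Finite R M] [AddCommGroup N] [Module R N]
    (hI : I ≤ Module.annihilator R M) (hJ : J ≤ Module.annihilator R N) (x : R)
    (hx : x ∈ IsLocalRing.maximalIdeal R) (hxM : IsSMulRegular M x) :
    IsZero (((Tor (ModuleCat.{u} R) 1).obj (ModuleCat.of R M)).obj
      (ModuleCat.of R (Module.Dual R N))) := by
  obtain ⟨a, b, p, φ, hp, hex, hkill, hxreg⟩ :=
    exists_periodic' S hS f hf R π hπ hker I M hI x hx hxM
  -- Hom(N, ker φ) = 0
  have hhom : ∀ g : N →ₗ[R] LinearMap.ker φ, g = 0 := by
    intro g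
    refine hom_eq_zero J I n (by rw [sup_comm]; exact hIJ) (LinearMap.ker φ) ?_ x hx ?_ N ?_ g
    · intro i hi
      rw [Module.mem_annihilator]
      intro v
      exact Subtype.ext (hkill i hi v.1 v.2)
    · intro v v' hvv'
      have h1 : x • (v - v') = 0 := by rw [smul_sub]; exact sub_eq_zero.2 hvv'
      have h2 : ((v - v' : LinearMap.ker φ) : Fin b → R) = 0 :=
        hxreg _ (v - v').2 (congrArg Subtype.val h1)
      exact sub_eq_zero.1 (Subtype.ext h2)
    · intro j hj v
      exact Module.mem_annihilator.1 (hJ hj) v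
  have hφT := rTensor_dual_injective N a b φ hhom
  -- injectivity of the inclusion of `ker p` after tensoring
  let φ'' : (Fin b → R) →ₗ[R] LinearMap.ker p :=
    LinearMap.codRestrict _ φ (fun v => hex.apply_apply_eq_zero v)
  have hsurj : Surjective φ'' := by
    rintro ⟨w, hw⟩
    obtain ⟨v, rfl⟩ := (hex w).1 hw
    exact ⟨v, rfl⟩
  have hcomp : (LinearMap.ker p).subtype ∘ₗ φ'' = φ := LinearMap.ext (fun _ => rfl)
  have hι : Injective ((LinearMap.ker p).subtype.rTensor (Module.Dual R N)) := by
    have hs2 : Surjective (φ''.rTensor (Module.Dual R N)) :=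
      LinearMap.rTensor_surjective _ hsurj
    rw [injective_iff_map_eq_zero]
    intro z hz
    obtain ⟨z', rfl⟩ := hs2 z
    have h1 : φ.rTensor (Module.Dual R N) z' = 0 := by
      rw [← hcomp, LinearMap.rTensor_comp]; exact hz
    rw [(injective_iff_map_eq_zero _).1 hφT z' h1, map_zero]
  -- the long exact sequence
  have hS1 := LinearMap.shortExact_shortComplexKer hp
  let LL : ModuleCat.{u} R := ModuleCat.of R (Module.Dual R N)
  haveI : Projective (ModuleCat.of R (Fin a → R)) :=
    (IsProjective.iff_projective _).1 (inferInstanceAs (Module.Projective R (Fin a → R)))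
  haveI : Projective p.shortComplexKer.X₂ := (inferInstance : Projective (ModuleCat.of R (Fin a → R)))
  have h2 : IsZero (((Tor (ModuleCat.{u} R) (0 + 1)).obj p.shortComplexKer.X₂).obj LL) :=
    Groth.Agent.H19.NodeTor.isZero_tor_of_projective _ LL 0
  haveI hδmono : Mono (Groth.Agent.H19.TorFirst.δ p.shortComplexKer hS1 LL 0) :=
    (Groth.Agent.H19.TorFirst.exact₃ p.shortComplexKer hS1 LL 0).mono_g (h2.eq_of_src _ _)
  have hδinj := (ModuleCat.mono_iff_injective _).1 hδmono
  have hfinj : Injective (((Tor (ModuleCat.{u} R) 0).map p.shortComplexKer.f).app LL).hom :=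
    Groth.Agent.H19.TorZero.tor0_map_injective p.shortComplexKer.f LL hι
  have hzero : ∀ s : ((Tor (ModuleCat.{u} R) (0 + 1)).obj p.shortComplexKer.X₃).obj LL, s = 0 := by
    intro s
    apply hδinj
    refine Eq.trans ?_ (map_zero _).symm
    apply hfinj
    refine Eq.trans ?_ (map_zero _).symm
    exact congrArg (fun g => g.hom s)
      (Groth.Agent.H19.TorFirst.δ_map_f p.shortComplexKer hS1 LL 0)
  haveI : Subsingleton (((Tor (ModuleCat.{u} R) (0 + 1)).obj p.shortComplexKer.X₃).obj LL) :=
    subsingleton_of_forall_eq 0 hzero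
  exact ModuleCat.isZero_of_subsingleton _

end Groth.Agent.H19.Planar
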