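import Mathlib

set_option autoImplicit false
universe u

/-!
Projectivity of a cokernel from exactness of the fibres at all maximal ideals.
-/

namespace Groth.Agent.H19.ProjCoker

open TensorProduct

variable {A : Type u} [CommRing A]

section chase

variable {X₀ X₁ X₂ : Type u} [AddCommGroup X₀] [AddCommGroup X₁] [AddCommGroup X₂]
  [Module A X₀] [Module A X₁] [Module A X₂]
  (a : X₀ →ₗ[A] X₁) (b : X₁ →ₗ[A] X₂) (hba : b ∘ₗ a = 0)

/-- the induced map `X₁ / im a → X₂`. -/
noncomputable def f₀ : (X₁ ⧸ LinearMap.range a) →ₗ[A] X₂ :=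
  (LinearMap.range a).liftQ b (by
    rintro _ ⟨x, rfl⟩
    exact LinearMap.congr_fun hba x)

theorem f₀_mkQ (x : X₁) : f₀ a b hba ((LinearMap.range a).mkQ x) = b x := rfl

theorem exact_f₀_mkQ : Function.Exact (f₀ a b hba) (LinearMap.range b).mkQ := by
  intro y
  rw [Submodule.mkQ_apply, Submodule.Quotient.mk_eq_zero]
  constructor
  · rintro ⟨x, rfl⟩
    exact ⟨(LinearMap.range a).mkQ x, rfl⟩
  · rintro ⟨z, rfl⟩
    obtain ⟨x, rfl⟩ := (LinearMap.range a).mkQ_surjective z
    exact ⟨x, rfl⟩

/-- injectivity of `K ⊗ (X₁ / im a) → K ⊗ X₂` from exactness of `K ⊗ X₀ → K ⊗ X₁ → K ⊗ X₂`. -/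
theorem lTensor_f₀_injective (K : Type u) [AddCommGroup K] [Module A K]
    (h : Function.Exact (a.lTensor K) (b.lTensor K)) :
    Function.Injective ((f₀ a b hba).lTensor K) := by
  rw [injective_iff_map_eq_zero]
  intro z hz
  obtain ⟨z₁, rfl⟩ := LinearMap.lTensor_surjective K (LinearMap.range a).mkQ_surjective z
  have h1 : (b.lTensor K) z₁ = 0 := by
    rw [← hz, ← LinearMap.comp_apply, ← LinearMap.lTensor_comp]
    rfl
  obtain ⟨z₀, rfl⟩ := (h z₁).1 h1
  rw [← LinearMap.comp_apply, ← LinearMap.lTensor_comp]
  have : (LinearMap.range a).mkQ ∘ₗ a = 0 := by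
    ext x
    exact (Submodule.Quotient.mk_eq_zero _).2 ⟨x, rfl⟩
  rw [this, LinearMap.lTensor_zero, LinearMap.zero_apply]

end chase

section local_

variable {R : Type u} [CommRing R] [Algebra A R] [IsLocalRing R]

omit [IsLocalRing R] in
/-- naturality of `cancelBaseChange`. -/
theorem cancel_natural {M N : Type u} [AddCommGroup M] [AddCommGroup N] [Module A M] [Module A N]
    (K : Type u) [CommRing K] [Algebra R K] [Algebra A K] [IsScalarTower A R K]
    (f : M →ₗ[A] N) (z : K ⊗[R] (R ⊗[A] M)) :
    TensorProduct.AlgebraTensorModule.cancelBaseChange A R K K N ((f.baseChange R).lTensor K z) =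
      f.lTensor K (TensorProduct.AlgebraTensorModule.cancelBaseChange A R K K M z) := by
  induction z using TensorProduct.induction_on with
  | zero => simp
  | tmul x y =>
    induction y using TensorProduct.induction_on with
    | zero => simp
    | tmul r m =>
      rw [LinearMap.lTensor_tmul, LinearMap.baseChange_tmul,
        TensorProduct.AlgebraTensorModule.cancelBaseChange_tmul,
        TensorProduct.AlgebraTensorModule.cancelBaseChange_tmul, LinearMap.lTensor_tmul]
    | add y₁ y₂ h₁ h₂ =>
      rw [TensorProduct.tmul_add, map_add, map_add, h₁, h₂, map_add, map_add]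
  | add z₁ z₂ h₁ h₂ => rw [map_add, map_add, h₁, h₂, map_add, map_add]

end local_

section main

variable [IsNoetherianRing A] {X₀ X₁ X₂ : Type u} [AddCommGroup X₀] [AddCommGroup X₁]
  [AddCommGroup X₂] [Module A X₀] [Module A X₁] [Module A X₂]
  [Module.Finite A X₁] [Module.Finite A X₂] [Module.Projective A X₂]

/-- projectivity of the cokernel of `b` from exactness of `X₀ → X₁ → X₂` at all closed fibres. -/
theorem projective_coker (a : X₀ →ₗ[A] X₁) (b : X₁ →ₗ[A] X₂) (hba : b ∘ₗ a = 0)
    (h : ∀ (m : Ideal A) [m.IsMaximal], Function.Exact (a.lTensor (A ⧸ m)) (b.lTensor (A ⧸ m))) :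
    Module.Projective A (X₂ ⧸ LinearMap.range b) := by
  haveI : Module.FinitePresentation A (X₂ ⧸ LinearMap.range b) :=
    Module.finitePresentation_of_finite A _
  apply Module.projective_of_localization_maximal
  intro m hm
  let R := Localization.AtPrime m
  suffices hfree : Module.Free R (R ⊗[A] (X₂ ⧸ LinearMap.range b)) by
    haveI := hfree
    exact Module.Projective.of_equiv
      (LocalizedModule.equivTensorProduct m.primeCompl (X₂ ⧸ LinearMap.range b)).symm
  let k := IsLocalRing.ResidueField R
  let F := f₀ a b hba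
  let G := (LinearMap.range b).mkQ
  have hex : Function.Exact (F.baseChange R) (G.baseChange R) := by
    have := lTensor_exact R (exact_f₀_mkQ a b hba) (LinearMap.range b).mkQ_surjective
    exact this
  have hsurj : Function.Surjective (G.baseChange R) :=
    LinearMap.lTensor_surjective R (LinearMap.range b).mkQ_surjective
  haveI : Module.Free R (R ⊗[A] X₂) := Module.free_of_flat_of_isLocalRing
  -- injectivity over the residue field of `R`
  have hinjk : Function.Injective (F.lTensor k) := by
    -- transfer from `A ⧸ m`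
    let e : (A ⧸ m) ≃ₗ[A] k :=
      LinearEquiv.ofBijective (IsScalarTower.toAlgHom A (A ⧸ m) k).toLinearMap
        (Ideal.bijective_algebraMap_quotient_residueField m)
    have h1 := lTensor_f₀_injective a b hba (A ⧸ m) (h m)
    have hcomm : (F.lTensor k) ∘ₗ (e.toLinearMap.rTensor _) =
        (e.toLinearMap.rTensor _) ∘ₗ (F.lTensor (A ⧸ m)) := by
      rw [LinearMap.lTensor_comp_rTensor, LinearMap.rTensor_comp_lTensor]
    have h2 : Function.Injective ((F.lTensor k) ∘ₗ (e.toLinearMap.rTensor _)) := by
      rw [hcomm]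
      exact ((LinearEquiv.rTensor _ e).injective).comp h1
    intro z z' hzz'
    obtain ⟨w, rfl⟩ := (LinearEquiv.rTensor (X₁ ⧸ LinearMap.range a) e).surjective z
    obtain ⟨w', rfl⟩ := (LinearEquiv.rTensor (X₁ ⧸ LinearMap.range a) e).surjective z'
    have := h2 hzz'
    rw [this]
  have hinj : Function.Injective ((F.baseChange R).lTensor k) := by
    intro z z' hzz'
    apply (TensorProduct.AlgebraTensorModule.cancelBaseChange A R k k
      (X₁ ⧸ LinearMap.range a)).injective
    apply hinjk
    rw [← cancel_natural, ← cancel_natural, hzz']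
  exact Module.free_of_lTensor_residueField_injective (F.baseChange R) (G.baseChange R) hsurj hex hinj

end main

end Groth.Agent.H19.ProjCoker
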