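import Mathlib
import Groth.Agent.H19.HBHilb
import Groth.Agent.H19.GrQuotZ
import Groth.Agent.H29.DepthMore
import Groth.Agent.S15436

set_option autoImplicit false
universe u

namespace Groth.Agent.H19.PtsIdeal

open GrSyz

section ev

variable {k : Type u} [Field k] {σ : Type*}

/-- restriction of a polynomial to the line through `p`. -/
noncomputable def ev (p : σ → k) : MvPolynomial σ k →ₐ[k] Polynomial k :=
  MvPolynomial.aeval (fun i => Polynomial.C (p i) * Polynomial.X)

theorem ev_monomial (p : σ → k) (e : σ →₀ ℕ) (c : k) :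
    ev p (MvPolynomial.monomial e c) =
      Polynomial.C (c * e.prod fun i n => p i ^ n) * Polynomial.X ^ e.degree := by
  unfold ev
  rw [MvPolynomial.aeval_monomial, Polynomial.algebraMap_eq, map_mul, mul_assoc]
  congr 1
  simp only [mul_pow, Finsupp.prod_mul]
  congr 1
  · rw [map_finsuppProd]
    simp only [map_pow]
  · rw [Finsupp.prod, Finset.prod_pow_eq_pow_sum]
    rfl

theorem ev_coeff (p : σ → k) (f : MvPolynomial σ k) (j : ℕ) :
    (ev p f).coeff j = MvPolynomial.eval p (MvPolynomial.homogeneousComponent j f) := by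
  classical
  induction f using MvPolynomial.induction_on' with
  | monomial e c =>
    rw [ev_monomial, Polynomial.coeff_C_mul_X_pow,
      MvPolynomial.homogeneousComponent_of_mem (n := e.degree)
        ((MvPolynomial.mem_homogeneousSubmodule _ _).mpr (MvPolynomial.isHomogeneous_monomial _ rfl))]
    split_ifs
    · rw [MvPolynomial.eval_monomial]
    · rw [map_zero]
  | add f g hf hg =>
    rw [map_add, Polynomial.coeff_add, map_add, map_add, hf, hg]

theorem ev_eq_zero_iff (p : σ → k) (f : MvPolynomial σ k) :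
    ev p f = 0 ↔ ∀ j : ℕ, MvPolynomial.eval p (MvPolynomial.homogeneousComponent j f) = 0 := by
  rw [Polynomial.ext_iff]
  simp only [ev_coeff, Polynomial.coeff_zero]

theorem ev_X (p : σ → k) (i : σ) : ev p (MvPolynomial.X i) = Polynomial.C (p i) * Polynomial.X := by
  unfold ev
  rw [MvPolynomial.aeval_X]

end ev

section pts

variable {k : Type u} [Field k] (r : ℕ)

theorem decompose_eq_homogeneousComponent (f : MvPolynomial (Fin (r + 1)) k) (n : ℕ) :
    (DirectSum.decompose (GrSyz.stdGr k (Fin (r + 1))) f (n : ℤ) : MvPolynomial (Fin (r + 1)) k) =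
      MvPolynomial.homogeneousComponent n f := by
  classical
  conv_rhs => rw [← DirectSum.sum_support_decompose (GrSyz.stdGr k (Fin (r + 1))) f]
  rw [map_sum]
  have : ∀ i ∈ (DirectSum.decompose (GrSyz.stdGr k (Fin (r + 1))) f).support,
      MvPolynomial.homogeneousComponent n
        (DirectSum.decompose (GrSyz.stdGr k (Fin (r + 1))) f i : MvPolynomial (Fin (r + 1)) k) =
      if (n : ℤ) = i then
        (DirectSum.decompose (GrSyz.stdGr k (Fin (r + 1))) f i : MvPolynomial (Fin (r + 1)) k) else 0 :=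
    fun i _ => Groth.Agent.H19.HBHilb.homogeneousComponent_of_mem_stdGr r _ i (SetLike.coe_mem _) n
  rw [Finset.sum_congr rfl this, Finset.sum_ite_eq]
  split_ifs with h
  · rfl
  · rw [DFinsupp.notMem_support_iff] at h
    rw [h]
    rfl

variable (Z : Finset (Fin (r + 1) → k)) (I : Ideal (MvPolynomial (Fin (r + 1)) k))
    (hI : ∀ f : MvPolynomial (Fin (r + 1)) k, f ∈ I ↔
      ∀ p ∈ Z, ∀ j : ℕ, MvPolynomial.eval p (MvPolynomial.homogeneousComponent j f) = 0)

include hI in
theorem mem_iff_ev (f : MvPolynomial (Fin (r + 1)) k) : f ∈ I ↔ ∀ p ∈ Z, ev p f = 0 := by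
  rw [hI]
  simp only [ev_eq_zero_iff]

include hI in
theorem isHomogeneous : I.IsHomogeneous (GrSyz.stdGr k (Fin (r + 1))) := by
  intro i f hf
  rw [Groth.Agent.H19.HBHilb.mem_iff_of_mem_stdGr r Z I hI _ i (SetLike.coe_mem _)]
  intro p hp
  rcases lt_or_ge i 0 with hi | hi
  · rw [Groth.Agent.H19.HBHilb.eq_zero_of_mem_stdGr_neg r _ i hi (SetLike.coe_mem _), map_zero]
  · obtain ⟨n, rfl⟩ := Int.eq_ofNat_of_zero_le hi
    rw [decompose_eq_homogeneousComponent]
    exact (hI f).mp hf p hp n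

theorem X_mem_irrel (i : Fin (r + 1)) :
    (MvPolynomial.X i : MvPolynomial (Fin (r + 1)) k) ∈
      (GrSyz.irrel (GrSyz.stdGr k (Fin (r + 1)))).toIdeal := by
  rw [Groth.Agent.S15436.irrel_eq_ker, RingHom.mem_ker]
  simp

theorem exists_avoiding (hZ : ∀ p ∈ Z, p ≠ 0) :
    ∃ x ∈ (GrSyz.irrel (GrSyz.stdGr k (Fin (r + 1)))).toIdeal, ∀ p ∈ Z, ev p x ≠ 0 := by
  classical
  by_contra hcon
  push Not at hcon
  have hsub : (((GrSyz.irrel (GrSyz.stdGr k (Fin (r + 1)))).toIdeal : Ideal _) : Set (MvPolynomial (Fin (r + 1)) k)) ⊆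
      ⋃ p ∈ (↑Z : Set (Fin (r + 1) → k)), ((RingHom.ker (ev p).toRingHom : Ideal _) : Set _) := by
    intro x hx
    obtain ⟨p, hp, hpx⟩ := hcon x hx
    simp only [Set.mem_iUnion]
    exact ⟨p, hp, hpx⟩
  rw [Ideal.subset_union_prime (0 : Fin (r + 1) → k) 0
    (fun p _ _ _ => RingHom.ker_isPrime (ev p).toRingHom)] at hsub
  obtain ⟨p, hp, hle⟩ := hsub
  have hp0 := hZ p hp
  obtain ⟨i, hi⟩ : ∃ i, p i ≠ 0 := by
    by_contra h
    push Not at h
    exact hp0 (funext h)
  have := hle (X_mem_irrel r i)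
  rw [RingHom.mem_ker] at this
  change ev p (MvPolynomial.X i) = 0 at this
  rw [ev_X] at this
  have h2 := congrArg (fun q => Polynomial.coeff q 1) this
  simp at h2
  exact hi h2

include hI in
theorem isSMulRegular_of_ev_ne_zero (x : MvPolynomial (Fin (r + 1)) k) (hx : ∀ p ∈ Z, ev p x ≠ 0) :
    IsSMulRegular (MvPolynomial (Fin (r + 1)) k ⧸ I) x := by
  rw [isSMulRegular_iff_right_eq_zero_of_smul]
  intro m hm
  obtain ⟨f, rfl⟩ := Ideal.Quotient.mk_surjective m
  rw [Ideal.Quotient.eq_zero_iff_mem, mem_iff_ev r Z I hI]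
  have hm' : x * f ∈ I := by
    rw [← Ideal.Quotient.eq_zero_iff_mem]
    exact hm
  rw [mem_iff_ev r Z I hI] at hm'
  intro p hp
  have := hm' p hp
  rw [map_mul] at this
  exact (mul_eq_zero.mp this).resolve_left (hx p hp)

end pts

end Groth.Agent.H19.PtsIdeal
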