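import Mathlib
import Groth.Agent.H19.PtsIdeal
import Groth.Agent.H19.HBCyc
import Groth.Agent.H19.HilbSyz2
import Groth.Agent.H19.GrAB2
import Groth.Agent.H29.DepthFlat
import Groth.Agent.S12907

set_option autoImplicit false
universe u

namespace Groth.Agent.H19.PtsMain

open GrSyz Matrix Groth.Agent.H19.PtsIdeal Groth.Agent.H19.GrQuotZ

section

variable {k : Type u} [Field k]

/-- a `t × t` minor of a matrix with entries in `𝔪` lies in `𝔪 ^ t`. -/
theorem minorIdeal_le_pow {R : Type u} [CommRing R] (𝔪 : Ideal R) {m n : Type} [Fintype m] [Fintype n]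
    (Ψ : Matrix m n R) (hΨ : ∀ a b, Ψ a b ∈ 𝔪) (t : ℕ) : CAlgX.minorIdeal Ψ t ≤ 𝔪 ^ t := by
  classical
  unfold CAlgX.minorIdeal
  rw [Ideal.span_le]
  rintro _ ⟨fg, rfl⟩
  show (Ψ.submatrix fg.1 fg.2).det ∈ 𝔪 ^ t
  rw [Matrix.det_apply']
  refine Ideal.sum_mem _ (fun τ _ => Ideal.mul_mem_left _ _ ?_)
  have : ∏ i : Fin t, (Ψ.submatrix fg.1 fg.2) (τ i) i ∈ ∏ _i : Fin t, 𝔪 :=
    Ideal.prod_mem_prod (fun i _ => hΨ _ _)
  rw [Finset.prod_const, Finset.card_univ, Fintype.card_fin] at this
  exact this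

theorem spanFinrank_range_le {R : Type u} [CommRing R] {n : ℕ} (π' : (Fin n → R) →ₗ[R] R) :
    Submodule.spanFinrank (LinearMap.range π') ≤ n := by
  classical
  have h1 : LinearMap.range π' =
      Submodule.span R (↑(Finset.univ.image (fun i : Fin n => π' (Pi.basisFun R (Fin n) i))) : Set R) := by
    rw [LinearMap.range_eq_map, ← (Pi.basisFun R (Fin n)).span_eq, Submodule.map_span,
      ← Set.range_comp]
    congr 1
    ext x
    simp
  rw [h1]
  refine (Submodule.spanFinrank_span_le_ncard_of_finite (Finset.finite_toSet _)).trans ?_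
  rw [Set.ncard_coe_finset]
  exact Finset.card_image_le.trans (by simp)

theorem main (k : Type u) [Field k]
    (Z : Finset (Fin 3 → k)) (hZ : ∀ p ∈ Z, p ≠ 0) (I : Ideal (MvPolynomial (Fin 3) k))
    (hI : ∀ f : MvPolynomial (Fin 3) k, f ∈ I ↔
      ∀ p ∈ Z, ∀ j : ℕ, MvPolynomial.eval p (MvPolynomial.homogeneousComponent j f) = 0)
    (d : ℕ) (hf : ∃ f ∈ I, MvPolynomial.IsHomogeneous f d ∧ f ≠ 0) :
    Submodule.spanFinrank I ≤ d + 1 := by
  classical
  rcases Z.eq_empty_or_nonempty with hZe | hZne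
  · have hItop : I = ⊤ := by
      rw [Ideal.eq_top_iff_one, hI]
      intro p hp
      rw [hZe] at hp
      exact absurd hp (Finset.notMem_empty _)
    have h1 : I = Submodule.span (MvPolynomial (Fin 3) k) {1} := by
      rw [hItop]
      exact Ideal.span_singleton_one.symm
    rw [h1]
    calc _ ≤ ({1} : Set (MvPolynomial (Fin 3) k)).ncard :=
          Submodule.spanFinrank_span_le_ncard_of_finite (Set.finite_singleton _)
      _ = 1 := Set.ncard_singleton _
      _ ≤ d + 1 := by omega
  · have hhom := isHomogeneous 2 Z I hI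
    letI : DirectSum.Decomposition (quotGrading (GrSyz.stdGr k (Fin 3)) I) := decomposition hhom
    haveI : SetLike.GradedSMul (GrSyz.stdGr k (Fin 3)) (quotGrading (GrSyz.stdGr k (Fin 3)) I) :=
      gradedSMul _ I
    set π : MvPolynomial (Fin 3) k →ₗ[MvPolynomial (Fin 3) k] (MvPolynomial (Fin 3) k ⧸ I) :=
      Submodule.mkQ I with hπdef
    have hπ : Function.Surjective π := Submodule.mkQ_surjective I
    have hπg : GrLC.IsGrHom (GrSyz.stdGr k (Fin 3)) (quotGrading (GrSyz.stdGr k (Fin 3)) I) π :=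
      fun g m hm => mk_mem_quotGrading _ I hm
    have hker : LinearMap.ker π = I := Submodule.ker_mkQ I
    have hkerle : LinearMap.ker π ≤ (GrSyz.irrel (GrSyz.stdGr k (Fin 3))).toIdeal := by
      intro f hf
      rw [hker, hI] at hf
      obtain ⟨p, hp⟩ := hZne
      have := hf p hp 0
      rw [MvPolynomial.homogeneousComponent_zero, MvPolynomial.eval_C] at this
      rw [Groth.Agent.S15436.irrel_eq_ker, RingHom.mem_ker]
      exact this
    obtain ⟨F, hF, hlen3⟩ := Groth.Agent.H19.HilbSyz.hilbert_syzygy k 2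
      (MvPolynomial (Fin 3) k ⧸ I) (quotGrading (GrSyz.stdGr k (Fin 3)) I)
    -- depth ≥ 1
    have hdepth : LocCoh.idealDepth (GrSyz.irrel (GrSyz.stdGr k (Fin 3))).toIdeal
        (MvPolynomial (Fin 3) k ⧸ I) ≠ 0 := by
      obtain ⟨x, hx𝔪, hx⟩ := exists_avoiding 2 Z hZ
      have hreg := isSMulRegular_of_ev_ne_zero 2 Z I hI x hx
      by_cases htop : (GrSyz.irrel (GrSyz.stdGr k (Fin 3))).toIdeal •
          (⊤ : Submodule (MvPolynomial (Fin 3) k) (MvPolynomial (Fin 3) k ⧸ I)) = ⊤
      · rw [Groth.Agent.H29.idealDepth_eq_top_of_smul_top_eq_top _ _ htop]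
        exact ENat.top_ne_zero
      · intro h0
        exact (Groth.Agent.H29.idealDepth_eq_zero_iff _ _ htop).mp h0 x hx𝔪 hreg
    have hrk3 : F.rk 3 = 0 := by
      by_contra hne
      have hAB := Groth.Agent.H19.GrAB.graded_AB (k := k) 2 (MvPolynomial (Fin 3) k ⧸ I)
        (quotGrading (GrSyz.stdGr k (Fin 3)) I) F hF 3 hlen3 hne
      apply hdepth
      induction hx : LocCoh.idealDepth (GrSyz.irrel (GrSyz.stdGr k (Fin 3))).toIdeal
        (MvPolynomial (Fin 3) k ⧸ I) using ENat.recTopCoe with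
      | top => rw [hx] at hAB; simp at hAB
      | coe n =>
        rw [hx] at hAB
        have : (3 + n : ℕ) = 3 := by exact_mod_cast hAB
        have hn : n = 0 := by omega
        rw [hn]
        rfl
    have hlen : F.HasLengthLE 2 := by
      intro i hi
      rcases Nat.lt_or_ge 3 i with h | h
      · exact hlen3 i h
      · have : i = 3 := by omega
        rw [this]; exact hrk3
    obtain ⟨hrk0, hdeg0⟩ := Groth.Agent.H19.HBCyc.rk_zero_eq_one 2 π hπ hπg hkerle F hF
    -- injectivity of d 1
    have hker1 : LinearMap.ker (F.d 1).mulVecLin = ⊥ := by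
      rw [LinearMap.ker_eq_bot']
      intro x hx
      have hx' : x ∈ LinearMap.ker (F.dLin 1) := hx
      rw [F.exact_succ 1] at hx'
      obtain ⟨y, hy⟩ := hx'
      have hrk3' : F.rk (1 + 1 + 1) = 0 := hrk3
      haveI : IsEmpty (Fin (F.rk (1 + 1 + 1))) := by rw [hrk3']; exact Fin.isEmpty
      rw [Subsingleton.elim y 0, map_zero] at hy
      exact hy.symm
    set b₀ : Fin (F.rk 0) := Fin.cast hrk0.symm 0 with hb₀
    have hb₀all : ∀ b : Fin (F.rk 0), b = b₀ := by
      intro b
      apply Fin.ext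
      have := b.2
      have := b₀.2
      omega
    set π' : (Fin (F.rk 1) → MvPolynomial (Fin 3) k) →ₗ[MvPolynomial (Fin 3) k] MvPolynomial (Fin 3) k :=
      (LinearMap.proj b₀) ∘ₗ (F.dLin 0) with hπ'
    have hπ'app : ∀ v, π' v = (F.d 0).mulVec v b₀ := fun v => rfl
    have hex : LinearMap.ker π' = LinearMap.range (F.d 1).mulVecLin := by
      ext v
      rw [LinearMap.mem_ker, hπ'app]
      constructor
      · intro hv
        have hv' : v ∈ LinearMap.ker (F.dLin 0) := by
          rw [LinearMap.mem_ker]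
          funext b
          rw [hb₀all b]
          exact hv
        rw [F.exact_succ 0] at hv'
        exact hv'
      · intro hv
        have h7 : v ∈ LinearMap.ker (F.dLin 0) := by
          rw [F.exact_succ 0]
          exact hv
        exact congrFun h7 b₀
    -- the generator of F_0
    obtain ⟨s, hs, hπs⟩ := Groth.Agent.H19.HBCyc.exists_mem_of_surjective π hπ hπg (F.deg 0 b₀)
      (F.aug b₀) (F.aug_mem b₀)
    have hsunit : IsUnit s := by
      apply Groth.Agent.S15427.isUnit_of_mem_stdGr_of_not_mem_irrel k _ _ _ hs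
      intro hsm
      obtain ⟨c, hc⟩ := F.aug_surjective (π 1)
      rw [Fintype.linearCombination_apply] at hc
      have h1 : (1 - c b₀ * s) ∈ LinearMap.ker π := by
        rw [LinearMap.mem_ker, map_sub, sub_eq_zero, ← hc]
        rw [Finset.sum_eq_single b₀ (fun b _ hb => absurd (hb₀all b) hb)
          (fun h => absurd (Finset.mem_univ _) h)]
        rw [← smul_eq_mul, map_smul, hπs]
      have h4 := Ideal.add_mem _ (hkerle h1) (Ideal.mul_mem_left _ (c b₀) hsm)
      rw [sub_add_cancel] at h4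
      exact Groth.Agent.S15427.one_not_mem_irrel k _ h4
    have hkeraug : ∀ v : Fin (F.rk 0) → MvPolynomial (Fin 3) k,
        v ∈ LinearMap.ker F.augLin ↔ v b₀ ∈ I := by
      intro v
      rw [LinearMap.mem_ker, Fintype.linearCombination_apply,
        Finset.sum_eq_single b₀ (fun b _ hb => absurd (hb₀all b) hb)
          (fun h => absurd (Finset.mem_univ _) h), ← hπs, ← map_smul, smul_eq_mul,
        ← LinearMap.mem_ker, hker]
      exact Ideal.mul_unit_mem_iff_mem I hsunit
    have hrange : LinearMap.range π' = I := by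
      ext g
      constructor
      · rintro ⟨w, rfl⟩
        rw [hπ'app, ← hkeraug, F.exact_zero]
        exact ⟨w, rfl⟩
      · intro hg
        have : (fun _ => g : Fin (F.rk 0) → MvPolynomial (Fin 3) k) ∈ LinearMap.ker F.augLin :=
          (hkeraug _).mpr hg
        rw [F.exact_zero] at this
        obtain ⟨w, hw⟩ := this
        exact ⟨w, congrFun hw b₀⟩
    obtain ⟨f, hfI, hfh, hf0⟩ := hf
    have hIne : LinearMap.range π' ≠ ⊥ := by
      rw [hrange]
      intro hbot
      rw [hbot] at hfI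
      exact hf0 ((Submodule.mem_bot _).mp hfI)
    obtain ⟨hn, ⟨a, -, hIa⟩, -⟩ := Groth.Agent.S12907.result (F.rk 2) (F.rk 1) (F.d 1) π' hker1 hex hIne
    rw [hrange] at hIa
    have hIpow : I ≤ (GrSyz.irrel (GrSyz.stdGr k (Fin 3))).toIdeal ^ (F.rk 2) := by
      exact hIa.le.trans
        (Ideal.mul_le_right.trans (minorIdeal_le_pow _ (F.d 1) (fun a b => hF 1 a b) (F.rk 2)))
    have hrk2 : F.rk 2 ≤ d := by
      have h1 := hIpow hfI
      have h2 : (GrSyz.irrel (GrSyz.stdGr k (Fin 3))).toIdeal =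
          MvPolynomial.idealOfVars (Fin 3) k := by
        rw [Groth.Agent.H19.HilbSyz.irrel_eq_span k (Fin 3), Finset.coe_univ, Set.image_univ]
      rw [h2, MvPolynomial.mem_pow_idealOfVars_iff] at h1
      obtain ⟨e, he⟩ := MvPolynomial.ne_zero_iff.mp hf0
      have h3 := h1 e (MvPolynomial.mem_support_iff.mpr he)
      have h4 : e.degree = d := by
        rw [Finsupp.degree_eq_weight_one]
        exact hfh he
      omega
    rw [← hrange]
    exact (spanFinrank_range_le π').trans (by omega)

end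

end Groth.Agent.H19.PtsMain
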