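import Mathlib
import Groth.Agent.H19.PtsMain

set_option autoImplicit false
universe u

namespace Groth.Agent.H19.PtsRes

open GrSyz Matrix Groth.Agent.H19.PtsIdeal Groth.Agent.H19.GrQuotZ Groth.Agent.H19.PtsMain

theorem exists_res (k : Type u) [Field k]
    (Z : Finset (Fin 3 → k)) (hZ : ∀ p ∈ Z, p ≠ 0) (hZne : Z.Nonempty) (I : Ideal (MvPolynomial (Fin 3) k))
    (hI : ∀ f : MvPolynomial (Fin 3) k, f ∈ I ↔
      ∀ p ∈ Z, ∀ j : ℕ, MvPolynomial.eval p (MvPolynomial.homogeneousComponent j f) = 0) :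
    ∃ (n t : ℕ) (Ψ : Matrix (Fin n) (Fin t) (MvPolynomial (Fin 3) k))
      (π' : (Fin n → MvPolynomial (Fin 3) k) →ₗ[MvPolynomial (Fin 3) k] MvPolynomial (Fin 3) k),
      (∀ a b, Ψ a b ∈ (GrSyz.irrel (GrSyz.stdGr k (Fin 3))).toIdeal) ∧
      LinearMap.ker Ψ.mulVecLin = ⊥ ∧ LinearMap.ker π' = LinearMap.range Ψ.mulVecLin ∧
      LinearMap.range π' = I := by
  classical
  have hhom := isHomogeneous 2 Z I hI
  letI : DirectSum.Decomposition (quotGrading (GrSyz.stdGr k (Fin 3)) I) := decomposition hhom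
  haveI : SetLike.GradedSMul (GrSyz.stdGr k (Fin 3)) (quotGrading (GrSyz.stdGr k (Fin 3)) I) :=
    gradedSMul _ I
  set π : MvPolynomial (Fin 3) k →ₗ[MvPolynomial (Fin 3) k] (MvPolynomial (Fin 3) k ⧸ I) :=
    Submodule.mkQ I with hπdef
  have hπ : Function.Surjective π := Submodule.mkQ_surjective I
  have hπg : GrLC.IsGrHom (GrSyz.stdGr k (Fin 3)) (quotGrading (GrSyz.stdGr k (Fin 3)) I) π :=
    fun g m hm => mk_mem_quotGrading _ I hm
  have hker : LinearMap.ker π = I := Submodule.ker_mkQ I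
  have hkerle : LinearMap.ker π ≤ (GrSyz.irrel (GrSyz.stdGr k (Fin 3))).toIdeal := by
    intro f hf
    rw [hker, hI] at hf
    obtain ⟨p, hp⟩ := hZne
    have := hf p hp 0
    rw [MvPolynomial.homogeneousComponent_zero, MvPolynomial.eval_C] at this
    rw [Groth.Agent.S15436.irrel_eq_ker, RingHom.mem_ker]
    exact this
  obtain ⟨F, hF, hlen3⟩ := Groth.Agent.H19.HilbSyz.hilbert_syzygy k 2
    (MvPolynomial (Fin 3) k ⧸ I) (quotGrading (GrSyz.stdGr k (Fin 3)) I)
  -- depth ≥ 1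
  have hdepth : LocCoh.idealDepth (GrSyz.irrel (GrSyz.stdGr k (Fin 3))).toIdeal
      (MvPolynomial (Fin 3) k ⧸ I) ≠ 0 := by
    obtain ⟨x, hx𝔪, hx⟩ := exists_avoiding 2 Z hZ
    have hreg := isSMulRegular_of_ev_ne_zero 2 Z I hI x hx
    by_cases htop : (GrSyz.irrel (GrSyz.stdGr k (Fin 3))).toIdeal •
        (⊤ : Submodule (MvPolynomial (Fin 3) k) (MvPolynomial (Fin 3) k ⧸ I)) = ⊤
    · rw [Groth.Agent.H29.idealDepth_eq_top_of_smul_top_eq_top _ _ htop]
      exact ENat.top_ne_zero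
    · intro h0
      exact (Groth.Agent.H29.idealDepth_eq_zero_iff _ _ htop).mp h0 x hx𝔪 hreg
  have hrk3 : F.rk 3 = 0 := by
    by_contra hne
    have hAB := Groth.Agent.H19.GrAB.graded_AB (k := k) 2 (MvPolynomial (Fin 3) k ⧸ I)
      (quotGrading (GrSyz.stdGr k (Fin 3)) I) F hF 3 hlen3 hne
    apply hdepth
    induction hx : LocCoh.idealDepth (GrSyz.irrel (GrSyz.stdGr k (Fin 3))).toIdeal
      (MvPolynomial (Fin 3) k ⧸ I) using ENat.recTopCoe with
    | top => rw [hx] at hAB; simp at hAB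
    | coe n =>
      rw [hx] at hAB
      have : (3 + n : ℕ) = 3 := by exact_mod_cast hAB
      have hn : n = 0 := by omega
      rw [hn]
      rfl
  have hlen : F.HasLengthLE 2 := by
    intro i hi
    rcases Nat.lt_or_ge 3 i with h | h
    · exact hlen3 i h
    · have : i = 3 := by omega
      rw [this]; exact hrk3
  obtain ⟨hrk0, hdeg0⟩ := Groth.Agent.H19.HBCyc.rk_zero_eq_one 2 π hπ hπg hkerle F hF
  -- injectivity of d 1
  have hker1 : LinearMap.ker (F.d 1).mulVecLin = ⊥ := by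
    rw [LinearMap.ker_eq_bot']
    intro x hx
    have hx' : x ∈ LinearMap.ker (F.dLin 1) := hx
    rw [F.exact_succ 1] at hx'
    obtain ⟨y, hy⟩ := hx'
    have hrk3' : F.rk (1 + 1 + 1) = 0 := hrk3
    haveI : IsEmpty (Fin (F.rk (1 + 1 + 1))) := by rw [hrk3']; exact Fin.isEmpty
    rw [Subsingleton.elim y 0, map_zero] at hy
    exact hy.symm
  set b₀ : Fin (F.rk 0) := Fin.cast hrk0.symm 0 with hb₀
  have hb₀all : ∀ b : Fin (F.rk 0), b = b₀ := by
    intro b
    apply Fin.ext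
    have := b.2
    have := b₀.2
    omega
  set π' : (Fin (F.rk 1) → MvPolynomial (Fin 3) k) →ₗ[MvPolynomial (Fin 3) k] MvPolynomial (Fin 3) k :=
    (LinearMap.proj b₀) ∘ₗ (F.dLin 0) with hπ'
  have hπ'app : ∀ v, π' v = (F.d 0).mulVec v b₀ := fun v => rfl
  have hex : LinearMap.ker π' = LinearMap.range (F.d 1).mulVecLin := by
    ext v
    rw [LinearMap.mem_ker, hπ'app]
    constructor
    · intro hv
      have hv' : v ∈ LinearMap.ker (F.dLin 0) := by
        rw [LinearMap.mem_ker]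
        funext b
        rw [hb₀all b]
        exact hv
      rw [F.exact_succ 0] at hv'
      exact hv'
    · intro hv
      have h7 : v ∈ LinearMap.ker (F.dLin 0) := by
        rw [F.exact_succ 0]
        exact hv
      exact congrFun h7 b₀
  -- the generator of F_0
  obtain ⟨s, hs, hπs⟩ := Groth.Agent.H19.HBCyc.exists_mem_of_surjective π hπ hπg (F.deg 0 b₀)
    (F.aug b₀) (F.aug_mem b₀)
  have hsunit : IsUnit s := by
    apply Groth.Agent.S15427.isUnit_of_mem_stdGr_of_not_mem_irrel k _ _ _ hs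
    intro hsm
    obtain ⟨c, hc⟩ := F.aug_surjective (π 1)
    rw [Fintype.linearCombination_apply] at hc
    have h1 : (1 - c b₀ * s) ∈ LinearMap.ker π := by
      rw [LinearMap.mem_ker, map_sub, sub_eq_zero, ← hc]
      rw [Finset.sum_eq_single b₀ (fun b _ hb => absurd (hb₀all b) hb)
        (fun h => absurd (Finset.mem_univ _) h)]
      rw [← smul_eq_mul, map_smul, hπs]
    have h4 := Ideal.add_mem _ (hkerle h1) (Ideal.mul_mem_left _ (c b₀) hsm)
    rw [sub_add_cancel] at h4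
    exact Groth.Agent.S15427.one_not_mem_irrel k _ h4
  have hkeraug : ∀ v : Fin (F.rk 0) → MvPolynomial (Fin 3) k,
      v ∈ LinearMap.ker F.augLin ↔ v b₀ ∈ I := by
    intro v
    rw [LinearMap.mem_ker, Fintype.linearCombination_apply,
      Finset.sum_eq_single b₀ (fun b _ hb => absurd (hb₀all b) hb)
        (fun h => absurd (Finset.mem_univ _) h), ← hπs, ← map_smul, smul_eq_mul,
      ← LinearMap.mem_ker, hker]
    exact Ideal.mul_unit_mem_iff_mem I hsunit
  have hrange : LinearMap.range π' = I := by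
    ext g
    constructor
    · rintro ⟨w, rfl⟩
      rw [hπ'app, ← hkeraug, F.exact_zero]
      exact ⟨w, rfl⟩
    · intro hg
      have : (fun _ => g : Fin (F.rk 0) → MvPolynomial (Fin 3) k) ∈ LinearMap.ker F.augLin :=
        (hkeraug _).mpr hg
      rw [F.exact_zero] at this
      obtain ⟨w, hw⟩ := this
      exact ⟨w, congrFun hw b₀⟩
  exact ⟨F.rk 1, F.rk 2, F.d 1, π', fun a b => hF 1 a b, hker1, hex, hrange⟩

theorem exists_linear (k : Type u) [Field k] (p : Fin 3 → k) (hp : p ≠ 0) :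
    ∃ ℓ : MvPolynomial (Fin 3) k, ℓ ≠ 0 ∧ ev p ℓ = 0 := by
  obtain ⟨i, hi⟩ : ∃ i, p i ≠ 0 := by
    by_contra h
    push Not at h
    exact hp (funext h)
  refine ⟨MvPolynomial.C (p i) * MvPolynomial.X (i + 1) - MvPolynomial.C (p (i + 1)) * MvPolynomial.X i,
    ?_, ?_⟩
  · intro h
    have h1 := congrArg (MvPolynomial.coeff (Finsupp.single (i + 1) 1)) h
    have hne : i + 1 ≠ i := by
      fin_cases i <;> decide
    rw [MvPolynomial.coeff_sub, MvPolynomial.coeff_C_mul, MvPolynomial.coeff_C_mul,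
      MvPolynomial.coeff_X', MvPolynomial.coeff_X', if_pos rfl, if_neg, MvPolynomial.coeff_zero] at h1
    · simp at h1
      exact hi h1
    · intro h2
      have := Finsupp.single_left_injective (one_ne_zero) h2
      exact hne this.symm
  · rw [map_sub, map_mul, map_mul, ev_X, ev_X]
    unfold ev
    rw [MvPolynomial.aeval_C, MvPolynomial.aeval_C, Polynomial.algebraMap_eq]
    ring

theorem ne_bot (k : Type u) [Field k]
    (Z : Finset (Fin 3 → k)) (hZ : ∀ p ∈ Z, p ≠ 0) (I : Ideal (MvPolynomial (Fin 3) k))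
    (hI : ∀ f : MvPolynomial (Fin 3) k, f ∈ I ↔
      ∀ p ∈ Z, ∀ j : ℕ, MvPolynomial.eval p (MvPolynomial.homogeneousComponent j f) = 0) :
    I ≠ ⊥ := by
  classical
  have hex : ∀ p : Fin 3 → k, ∃ ℓ : MvPolynomial (Fin 3) k, p ∈ Z → (ℓ ≠ 0 ∧ ev p ℓ = 0) := by
    intro p
    by_cases hp : p ∈ Z
    · obtain ⟨ℓ, h1, h2⟩ := exists_linear k p (hZ p hp)
      exact ⟨ℓ, fun _ => ⟨h1, h2⟩⟩
    · exact ⟨0, fun h => absurd h hp⟩
  choose ℓ hℓ using hex
  intro hbot
  have hmem : ∏ p ∈ Z, ℓ p ∈ I := by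
    rw [mem_iff_ev 2 Z I hI]
    intro q hq
    rw [map_prod]
    exact Finset.prod_eq_zero hq (hℓ q hq).2
  rw [hbot, Submodule.mem_bot, Finset.prod_eq_zero_iff] at hmem
  obtain ⟨p, hp, hp0⟩ := hmem
  exact (hℓ p hp).1 hp0

theorem main (k : Type u) [Field k]
    (Z : Finset (Fin 3 → k)) (hZ : ∀ p ∈ Z, p ≠ 0) (I : Ideal (MvPolynomial (Fin 3) k))
    (hI : ∀ f : MvPolynomial (Fin 3) k, f ∈ I ↔
      ∀ p ∈ Z, ∀ j : ℕ, MvPolynomial.eval p (MvPolynomial.homogeneousComponent j f) = 0) :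
    ∃ (t : ℕ) (Ψ : Matrix (Fin (t + 1)) (Fin t) (MvPolynomial (Fin 3) k)) (π : (Fin (t + 1) → MvPolynomial (Fin 3) k) →ₗ[MvPolynomial (Fin 3) k] MvPolynomial (Fin 3) k),
      LinearMap.ker Ψ.mulVecLin = ⊥ ∧ LinearMap.ker π = LinearMap.range Ψ.mulVecLin ∧ LinearMap.range π = I := by
  classical
  rcases Z.eq_empty_or_nonempty with hZe | hZne
  · have hItop : I = ⊤ := by
      rw [Ideal.eq_top_iff_one, hI]
      intro p hp
      rw [hZe] at hp
      exact absurd hp (Finset.notMem_empty _)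
    refine ⟨0, 0, LinearMap.proj 0, ?_, ?_, ?_⟩
    · rw [LinearMap.ker_eq_bot']
      intro x _
      exact Subsingleton.elim _ _
    · have h1 : LinearMap.range (Matrix.mulVecLin (0 : Matrix (Fin (0 + 1)) (Fin 0) (MvPolynomial (Fin 3) k))) = ⊥ := by
        rw [LinearMap.range_eq_bot]
        exact Subsingleton.elim _ _
      rw [h1, LinearMap.ker_eq_bot']
      intro x hx
      funext i
      have hi : i = 0 := Fin.ext (by have := i.2; omega)
      rw [hi]
      exact hx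
    · rw [hItop, LinearMap.range_eq_top]
      intro g
      exact ⟨fun _ => g, rfl⟩
  · obtain ⟨n, t, Ψ, π', -, h1, h2, h3⟩ := exists_res k Z hZ hZne I hI
    have hne : LinearMap.range π' ≠ ⊥ := by
      rw [h3]
      exact ne_bot k Z hZ I hI
    obtain ⟨hn, -, -⟩ := Groth.Agent.S12907.result t n Ψ π' h1 h2 hne
    subst hn
    exact ⟨t, Ψ, π', h1, h2, h3⟩

end Groth.Agent.H19.PtsRes
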