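import Mathlib

set_option autoImplicit false
universe u

namespace Groth.Agent.H19.Refl

open scoped nonZeroDivisors

variable {A K L : Type u} [CommRing A] [IsDomain A] [Field K] [Algebra A K] [IsFractionRing A K]
  [Field L] [Algebra K L] [Algebra A L] [IsScalarTower A K L]
  {ι : Type} [Fintype ι] [DecidableEq ι] (bs : Module.Basis ι K L)

/-- the `K`-linear functional with prescribed integral values on the basis -/
noncomputable def extK (p : ι → A) : L →ₗ[K] K := ∑ i, algebraMap A K (p i) • bs.coord i

theorem extK_apply (p : ι → A) (z : L) :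
    extK bs p z = ∑ i, algebraMap A K (p i) * bs.repr z i := by
  simp only [extK, LinearMap.sum_apply, LinearMap.smul_apply, Module.Basis.coord_apply, smul_eq_mul]

theorem extK_basis (p : ι → A) (j : ι) : extK bs p (bs j) = algebraMap A K (p j) := by
  rw [extK_apply]
  simp [Module.Basis.repr_self, Finsupp.single_apply]

variable (B : Subalgebra A L) (hbs : ∀ i, bs i ∈ B)

/-- the values of a functional on the basis -/
noncomputable def pOf (φ : ↥B →ₗ[A] A) : ι → A := fun i => φ ⟨bs i, hbs i⟩

include hbs in
theorem extK_restrict (φ : ↥B →ₗ[A] A) (y : L) (hy : y ∈ B) :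
    extK bs (pOf bs B hbs φ) y = algebraMap A K (φ ⟨y, hy⟩) := by
  obtain ⟨a, ha⟩ := IsLocalization.exist_integer_multiples_of_finite A⁰ (fun i => bs.repr y i)
  choose c hc using ha
  have ha0 : algebraMap A K (a : A) ≠ 0 := by
    intro h
    have := (IsFractionRing.injective A K) (h.trans (map_zero _).symm)
    exact (nonZeroDivisors.coe_ne_zero a) this
  -- `a • y = ∑ c i • bs i`
  have h1 : (a : A) • y = ∑ i, c i • bs i := by
    conv_lhs => rw [← bs.sum_repr y]
    rw [Finset.smul_sum]
    refine Finset.sum_congr rfl (fun i _ => ?_)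
    rw [← IsScalarTower.algebraMap_smul K (c i) (bs i), hc i, Algebra.smul_def (a : A) (bs.repr y i),
      ← smul_smul, IsScalarTower.algebraMap_smul]
  have h2 : (a : A) • (⟨y, hy⟩ : ↥B) = ∑ i, c i • (⟨bs i, hbs i⟩ : ↥B) := by
    apply Subtype.ext
    have h4 : ((∑ i, c i • (⟨bs i, hbs i⟩ : ↥B) : ↥B) : L) = ∑ i, c i • bs i := by
      rw [← Subalgebra.coe_val, map_sum]
      rfl
    rw [h4, ← h1]
    rfl
  have h3 := congrArg φ h2
  rw [map_smul, map_sum] at h3
  simp only [map_smul, smul_eq_mul] at h3
  apply mul_left_cancel₀ ha0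
  rw [← map_mul, h3, map_sum, extK_apply, Finset.mul_sum]
  refine Finset.sum_congr rfl (fun i _ => ?_)
  rw [map_mul, pOf]
  have := hc i
  rw [Algebra.smul_def] at this
  rw [this]
  ring

end Groth.Agent.H19.Refl
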