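import Mathlib
import Groth.Agent.H19.Refl1

set_option autoImplicit false
universe u

namespace Groth.Agent.H19.Refl

open scoped nonZeroDivisors

variable {A K L : Type u} [CommRing A] [IsDomain A] [Field K] [Algebra A K] [IsFractionRing A K]
  [Field L] [Algebra K L] [Algebra A L] [IsScalarTower A K L]
  {ι : Type} [Fintype ι] [DecidableEq ι] (bs : Module.Basis ι K L)
  (B : Subalgebra A L) (hbs : ∀ i, bs i ∈ B)

theorem repr_smul (r : A) (y : L) (i : ι) :
    bs.repr (r • y) i = algebraMap A K r * bs.repr y i := by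
  rw [← IsScalarTower.algebraMap_smul K r y, map_smul, Finsupp.smul_apply, smul_eq_mul]

/-- uniform denominator -/
theorem exists_denom [Module.Finite A ↥B] : ∃ a : A, a ≠ 0 ∧ ∀ (y : L), y ∈ B → ∀ i,
    ∃ c : A, algebraMap A K c = algebraMap A K a * bs.repr y i := by
  obtain ⟨m, g, hg⟩ := Module.Finite.exists_fin (R := A) (M := ↥B)
  obtain ⟨a, ha⟩ := IsLocalization.exist_integer_multiples_of_finite A⁰
    (fun ki : Fin m × ι => bs.repr (g ki.1 : L) ki.2)
  refine ⟨a, nonZeroDivisors.coe_ne_zero a, fun y hy i => ?_⟩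
  have hmem : (⟨y, hy⟩ : ↥B) ∈ Submodule.span A (Set.range g) := by rw [hg]; trivial
  have key : ∀ y' : ↥B, y' ∈ Submodule.span A (Set.range g) →
      ∃ c : A, algebraMap A K c = algebraMap A K a * bs.repr (y' : L) i := by
    intro y' hy'
    induction hy' using Submodule.span_induction with
    | mem z hz =>
      obtain ⟨k, rfl⟩ := hz
      obtain ⟨c, hc⟩ := ha (k, i)
      exact ⟨c, by rw [hc, Algebra.smul_def]⟩
    | zero => exact ⟨0, by simp⟩
    | add z z' _ _ hz hz' =>
      obtain ⟨c, hc⟩ := hz
      obtain ⟨c', hc'⟩ := hz'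
      refine ⟨c + c', ?_⟩
      rw [map_add, hc, hc', Subalgebra.coe_add, map_add, Finsupp.add_apply, mul_add]
    | smul r z _ hz =>
      obtain ⟨c, hc⟩ := hz
      refine ⟨r * c, ?_⟩
      rw [map_mul, hc, Subalgebra.coe_smul, repr_smul]
      ring
  exact key ⟨y, hy⟩ hmem

variable (a : A) (hden : ∀ (y : L), y ∈ B → ∀ i,
    ∃ c : A, algebraMap A K c = algebraMap A K a * bs.repr y i)

/-- the functional `y ↦ a * (i-th coordinate of y)` -/
noncomputable def phiI (i : ι) : ↥B →ₗ[A] A where
  toFun y := Classical.choose (hden y.1 y.2 i)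
  map_add' y y' := by
    apply IsFractionRing.injective A K
    rw [map_add, Classical.choose_spec (hden y.1 y.2 i), Classical.choose_spec (hden y'.1 y'.2 i),
      Classical.choose_spec (hden (y + y').1 (y + y').2 i), Subalgebra.coe_add, map_add,
      Finsupp.add_apply, mul_add]
  map_smul' r y := by
    apply IsFractionRing.injective A K
    rw [RingHom.id_apply, smul_eq_mul, map_mul, Classical.choose_spec (hden y.1 y.2 i),
      Classical.choose_spec (hden (r • y).1 (r • y).2 i), Subalgebra.coe_smul, repr_smul]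
    ring

theorem phiI_spec (i : ι) (y : ↥B) :
    algebraMap A K (phiI bs B a hden i y) = algebraMap A K a * bs.repr (y : L) i :=
  Classical.choose_spec (hden y.1 y.2 i)

end Groth.Agent.H19.Refl
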