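import Mathlib
import Groth.Agent.H19.Refl2

set_option autoImplicit false
universe u

namespace Groth.Agent.H19.Refl

open scoped nonZeroDivisors

variable {A K L : Type u} [CommRing A] [IsDomain A] [Field K] [Algebra A K] [IsFractionRing A K]
  [Field L] [Algebra K L] [Algebra A L] [IsScalarTower A K L]
  {ι : Type} [Fintype ι] [DecidableEq ι] (bs : Module.Basis ι K L)
  (B : Subalgebra A L) (hbs : ∀ i, bs i ∈ B)

/-- the "double dual" inside `L` -/
noncomputable def CC : Submodule A L :=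
  ⨅ φ : ↥B →ₗ[A] A, Submodule.comap ((extK bs (pOf bs B hbs φ)).restrictScalars A)
    (LinearMap.range (Algebra.linearMap A K))

theorem mem_CC (z : L) : z ∈ CC bs B hbs ↔
    ∀ φ : ↥B →ₗ[A] A, ∃ c : A, algebraMap A K c = extK bs (pOf bs B hbs φ) z := by
  simp only [CC, Submodule.mem_iInf, Submodule.mem_comap, LinearMap.mem_range,
    LinearMap.coe_restrictScalars, Algebra.linearMap_apply]

theorem le_CC (y : L) (hy : y ∈ B) : y ∈ CC bs B hbs := by
  rw [mem_CC]
  intro φ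
  exact ⟨φ ⟨y, hy⟩, (extK_restrict bs B hbs φ y hy).symm⟩

/-- `extK φ (z * y) = extK (φ ∘ (y * ·)) z` -/
theorem extK_mul_right (φ : ↥B →ₗ[A] A) (y : L) (hy : y ∈ B) (z : L) :
    extK bs (pOf bs B hbs φ) (z * y) =
      extK bs (pOf bs B hbs (φ ∘ₗ LinearMap.mulLeft A (⟨y, hy⟩ : ↥B))) z := by
  have h : (extK bs (pOf bs B hbs φ)) ∘ₗ (LinearMap.mulRight K y) =
      extK bs (pOf bs B hbs (φ ∘ₗ LinearMap.mulLeft A (⟨y, hy⟩ : ↥B))) := by
    apply bs.ext
    intro j
    rw [LinearMap.comp_apply, LinearMap.mulRight_apply, extK_basis,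
      extK_restrict bs B hbs φ (bs j * y) (B.mul_mem (hbs j) hy)]
    congr 1
    show φ ⟨bs j * y, _⟩ = φ ((⟨y, hy⟩ : ↥B) * ⟨bs j, hbs j⟩)
    congr 1
    apply Subtype.ext
    exact mul_comm _ _
  exact LinearMap.congr_fun h z

/-- for `z ∈ C`, the functional `y ↦ φ_K (z y)` -/
noncomputable def phiZ (φ : ↥B →ₗ[A] A) (z : L) (hz : z ∈ CC bs B hbs) : ↥B →ₗ[A] A where
  toFun y := Classical.choose ((mem_CC bs B hbs z).1 hz (φ ∘ₗ LinearMap.mulLeft A y))
  map_add' y y' := by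
    apply IsFractionRing.injective A K
    rw [map_add, Classical.choose_spec ((mem_CC bs B hbs z).1 hz (φ ∘ₗ LinearMap.mulLeft A y)),
      Classical.choose_spec ((mem_CC bs B hbs z).1 hz (φ ∘ₗ LinearMap.mulLeft A y')),
      Classical.choose_spec ((mem_CC bs B hbs z).1 hz (φ ∘ₗ LinearMap.mulLeft A (y + y'))),
      ← extK_mul_right bs B hbs φ y.1 y.2, ← extK_mul_right bs B hbs φ y'.1 y'.2,
      ← extK_mul_right bs B hbs φ (y + y').1 (y + y').2, ← map_add, ← mul_add]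
    rfl
  map_smul' r y := by
    apply IsFractionRing.injective A K
    rw [RingHom.id_apply, smul_eq_mul, map_mul,
      Classical.choose_spec ((mem_CC bs B hbs z).1 hz (φ ∘ₗ LinearMap.mulLeft A y)),
      Classical.choose_spec ((mem_CC bs B hbs z).1 hz (φ ∘ₗ LinearMap.mulLeft A (r • y))),
      ← extK_mul_right bs B hbs φ y.1 y.2, ← extK_mul_right bs B hbs φ (r • y).1 (r • y).2,
      Subalgebra.coe_smul, mul_smul_comm, ← IsScalarTower.algebraMap_smul K r (z * (y : L)),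
      map_smul, smul_eq_mul]

theorem phiZ_spec (φ : ↥B →ₗ[A] A) (z : L) (hz : z ∈ CC bs B hbs) (y : ↥B) :
    algebraMap A K (phiZ bs B hbs φ z hz y) = extK bs (pOf bs B hbs φ) (z * (y : L)) := by
  rw [extK_mul_right bs B hbs φ y.1 y.2]
  exact Classical.choose_spec ((mem_CC bs B hbs z).1 hz (φ ∘ₗ LinearMap.mulLeft A y))

theorem mul_mem_CC (z z' : L) (hz : z ∈ CC bs B hbs) (hz' : z' ∈ CC bs B hbs) :
    z * z' ∈ CC bs B hbs := by
  rw [mem_CC]
  intro φ
  have h : (extK bs (pOf bs B hbs φ)) ∘ₗ (LinearMap.mulLeft K z) =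
      extK bs (pOf bs B hbs (phiZ bs B hbs φ z hz)) := by
    apply bs.ext
    intro j
    rw [LinearMap.comp_apply, LinearMap.mulLeft_apply, extK_basis]
    exact (phiZ_spec bs B hbs φ z hz ⟨bs j, hbs j⟩).symm
  obtain ⟨c, hc⟩ := (mem_CC bs B hbs z').1 hz' (phiZ bs B hbs φ z hz)
  refine ⟨c, ?_⟩
  rw [hc, ← h]
  rfl

end Groth.Agent.H19.Refl
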