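import Mathlib
import Groth.Agent.H19.Refl3

set_option autoImplicit false
universe u

namespace Groth.Agent.H19.Refl

open scoped nonZeroDivisors

theorem main_S6881 (A K L : Type u) [CommRing A] [IsDomain A] [IsNoetherianRing A]
    [IsIntegrallyClosed A] [Field K] [Algebra A K] [IsFractionRing A K] [Field L] [Algebra K L]
    [FiniteDimensional K L] [Algebra A L] [IsScalarTower A K L]
    [Module.Finite A ↥(integralClosure A L)] :
    Module.IsReflexive A ↥(integralClosure A L) := by
  classical
  obtain ⟨s, b0, hb0⟩ := FiniteDimensional.exists_is_basis_integral A K L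
  let bs : Module.Basis (Fin (Fintype.card s)) K L := b0.reindex (Fintype.equivFin s)
  let B : Subalgebra A L := integralClosure A L
  have hbs : ∀ i, bs i ∈ B := by
    intro i
    show IsIntegral A (bs i)
    rw [Module.Basis.reindex_apply]
    exact hb0 _
  obtain ⟨a, ha0, hden⟩ := exists_denom bs B
  have haK : algebraMap A K a ≠ 0 := by
    intro h
    exact ha0 ((IsFractionRing.injective A K) (h.trans (map_zero _).symm))
  have hinj := IsFractionRing.injective A K
  -- `extK` of `phiI`
  have hextI : ∀ (i : Fin (Fintype.card s)) (z : L),
      extK bs (pOf bs B hbs (phiI bs B a hden i)) z = algebraMap A K a * bs.repr z i := by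
    intro i z
    have h : extK bs (pOf bs B hbs (phiI bs B a hden i)) = algebraMap A K a • bs.coord i := by
      apply bs.ext
      intro j
      rw [extK_basis, LinearMap.smul_apply, Module.Basis.coord_apply, smul_eq_mul]
      exact phiI_spec bs B a hden i ⟨bs j, hbs j⟩
    rw [h, LinearMap.smul_apply, Module.Basis.coord_apply, smul_eq_mul]
  constructor
  constructor
  · -- injectivity
    rw [injective_iff_map_eq_zero]
    intro y hy
    apply Subtype.ext
    show (y : L) = 0
    apply bs.repr.injective
    ext i
    have h1 : phiI bs B a hden i y = 0 := by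
      have := LinearMap.congr_fun hy (phiI bs B a hden i)
      simpa using this
    have h2 := phiI_spec bs B a hden i y
    rw [h1, map_zero] at h2
    rcases mul_eq_zero.1 h2.symm with h | h
    · exact absurd h haK
    · rw [h]; simp
  · -- surjectivity
    intro Λ
    let lam : Fin (Fintype.card s) → A := fun i => Λ (phiI bs B a hden i)
    let x : L := ∑ i, (algebraMap A K (lam i) / algebraMap A K a) • bs i
    have hxrepr : ∀ i, bs.repr x i = algebraMap A K (lam i) / algebraMap A K a := by
      intro i
      have := Module.Basis.repr_sum_self bs (fun i => algebraMap A K (lam i) / algebraMap A K a)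
      exact congrFun this i
    -- Claim A
    have hA : ∀ φ : ↥B →ₗ[A] A, algebraMap A K (Λ φ) = extK bs (pOf bs B hbs φ) x := by
      intro φ
      have hφ : a • φ = ∑ i, pOf bs B hbs φ i • phiI bs B a hden i := by
        apply LinearMap.ext
        intro y
        apply hinj
        rw [LinearMap.smul_apply, smul_eq_mul, map_mul, LinearMap.sum_apply, map_sum,
          ← extK_restrict bs B hbs φ y.1 y.2, extK_apply, Finset.mul_sum]
        refine Finset.sum_congr rfl (fun i _ => ?_)
        rw [LinearMap.smul_apply, smul_eq_mul, map_mul, phiI_spec]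
        ring
      have h1 := congrArg Λ hφ
      rw [map_smul, map_sum, smul_eq_mul] at h1
      have h2 : algebraMap A K a * algebraMap A K (Λ φ) =
          ∑ i, algebraMap A K (pOf bs B hbs φ i) * algebraMap A K (lam i) := by
        rw [← map_mul, h1, map_sum]
        refine Finset.sum_congr rfl (fun i _ => ?_)
        rw [map_smul, smul_eq_mul, map_mul]
      rw [extK_apply]
      apply mul_left_cancel₀ haK
      rw [h2, Finset.mul_sum]
      refine Finset.sum_congr rfl (fun i _ => ?_)
      rw [hxrepr]
      field_simp
    -- Claim B : `x ∈ B`
    have hxC : x ∈ CC bs B hbs := by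
      rw [mem_CC]
      intro φ
      exact ⟨Λ φ, hA φ⟩
    have hC0 : CC bs B hbs ≠ ⊥ := by
      intro h
      have h1 : (1 : L) ∈ CC bs B hbs := le_CC bs B hbs 1 B.one_mem
      rw [h] at h1
      exact one_ne_zero ((Submodule.mem_bot A).1 h1)
    have hCfg : (CC bs B hbs).FG := by
      let G : Submodule A L :=
        Submodule.span A (Set.range fun i => (algebraMap A K a)⁻¹ • bs i)
      have hGfg : G.FG := Submodule.fg_span (Set.finite_range _)
      have hCG : CC bs B hbs ≤ G := by
        intro z hz
        have hz' := (mem_CC bs B hbs z).1 hz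
        choose c hc using fun i => hz' (phiI bs B a hden i)
        have hz2 : z = ∑ i, c i • ((algebraMap A K a)⁻¹ • bs i) := by
          conv_lhs => rw [← bs.sum_repr z]
          refine Finset.sum_congr rfl (fun i _ => ?_)
          rw [← IsScalarTower.algebraMap_smul K (c i), smul_smul, hc i, hextI]
          congr 1
          field_simp
        rw [hz2]
        exact Submodule.sum_mem _ (fun i _ => Submodule.smul_mem _ _ (Submodule.subset_span ⟨i, rfl⟩))
      haveI : IsNoetherian A ↥G := isNoetherian_of_fg_of_noetherian G hGfg
      have h1 : (Submodule.comap G.subtype (CC bs B hbs)).FG := IsNoetherian.noetherian _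
      have h2 := h1.map G.subtype
      rw [Submodule.map_comap_subtype, inf_eq_right.2 hCG] at h2
      exact h2
    have hint : IsIntegral A x :=
      isIntegral_of_smul_mem_submodule (R := A) (A := L) (M := L) (CC bs B hbs) hC0 hCfg x
        (fun n hn => mul_mem_CC bs B hbs x n hxC hn)
    have hxB : x ∈ B := hint
    refine ⟨⟨x, hxB⟩, ?_⟩
    apply LinearMap.ext
    intro φ
    apply hinj
    rw [Module.Dual.eval_apply, ← extK_restrict bs B hbs φ x hxB]
    exact (hA φ).symm

end Groth.Agent.H19.Refl
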