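import Mathlib
import Groth.Agent.H19.RegTor
import Groth.Agent.H13.TorBal
import Groth.Agent.S3527

set_option autoImplicit false
universe u

namespace Groth.Agent.H19.RegTor2

open CategoryTheory CategoryTheory.Limits TensorProduct RingTheory.Sequence Pointwise
open Groth.Agent.H19.RegTor

variable {A : Type u} [CommRing A]

section step

variable (N : Type u) [AddCommGroup N] [Module A N] (r : A) (L : Type u) [AddCommGroup L]
  [Module A L]

/-- vanishing above the top degree -/
theorem step_vanish (h : IsSMulRegular L r) (p : ℕ) (hT : ∀ i : ℕ, p < i → IsZero (T A N i L)) :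
    ∀ i : ℕ, p + 1 < i → IsZero (T A N i (QuotSMulTop r L)) := by
  intro i hi
  obtain ⟨j, rfl⟩ : ∃ j, i = j + 1 := ⟨i - 1, by omega⟩
  have hS := sc_shortExact r L h
  have e3 := Groth.Agent.H19.TorFirst.exact₃ (sc r L) hS (ModuleCat.of A N) j
  exact e3.isZero_of_both_zeros ((hT (j + 1) (by omega)).eq_of_src _ _)
    ((hT j (by omega)).eq_of_tgt _ _)

/-- the top degree -/
theorem step_top (h : IsSMulRegular L r) (p : ℕ) (hT : IsZero (T A N (p + 1) L)) :
    Nonempty (T A N (p + 1) (QuotSMulTop r L) ≃ₗ[A] Submodule.torsionBy A (T A N p L) r) := by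
  have hS := sc_shortExact r L h
  have e3 := Groth.Agent.H19.TorFirst.exact₃ (sc r L) hS (ModuleCat.of A N) p
  have e1 := Groth.Agent.H19.TorFirst.exact₁ (sc r L) hS (ModuleCat.of A N) p
  have hmono : Mono (Groth.Agent.H19.TorFirst.δ (sc r L) hS (ModuleCat.of A N) p) :=
    e3.mono_g (hT.eq_of_src _ _)
  rw [ModuleCat.mono_iff_injective] at hmono
  rw [ShortComplex.moduleCat_exact_iff_range_eq_ker] at e1
  have hker : LinearMap.ker
      ((((Tor (ModuleCat.{u} A) p).map (sc r L).f).app (ModuleCat.of A N)).hom) =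
      Submodule.torsionBy A (T A N p L) r := by
    ext y
    rw [LinearMap.mem_ker]
    show _ ↔ r • (y : T A N p L) = 0
    exact Eq.congr_left (map_f_apply N r L p y)
  exact ⟨(LinearEquiv.ofInjective _ hmono).trans (LinearEquiv.ofEq _ _ (e1.trans hker))⟩

end step

section tors

variable (M : Type u) [AddCommGroup M] [Module A M]

/-- elements killed by the ideal `J`. -/
def tors (J : Ideal A) : Submodule A M where
  carrier := {m | ∀ a ∈ J, a • m = 0}
  add_mem' := by
    intro m m' hm hm' a ha
    rw [smul_add, hm a ha, hm' a ha, add_zero]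
  zero_mem' := by
    intro a _
    exact smul_zero a
  smul_mem' := by
    intro c m hm a ha
    rw [smul_comm, hm a ha, smul_zero]

theorem mem_tors (J : Ideal A) (m : M) : m ∈ tors M J ↔ ∀ a ∈ J, a • m = 0 := Iff.rfl

/-- `(M[J'])[r] ≃ M[J' + (r)]`. -/
def torsStep (J' : Ideal A) (r : A) :
    Submodule.torsionBy A (tors M J') r ≃ₗ[A] tors M (J' ⊔ Ideal.span {r}) where
  toFun x := ⟨x.1.1, by
    intro a ha
    obtain ⟨b, hb, c, hc, rfl⟩ := Submodule.mem_sup.1 ha
    obtain ⟨d, rfl⟩ := Ideal.mem_span_singleton'.1 hc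
    have h1 : r • (x.1 : M) = 0 := by
      have := x.2
      rw [Submodule.mem_torsionBy_iff] at this
      exact congrArg Subtype.val this
    rw [add_smul, x.1.2 b hb, mul_smul, h1, smul_zero, add_zero]⟩
  map_add' _ _ := rfl
  map_smul' _ _ := rfl
  invFun y := ⟨⟨y.1, fun a ha => y.2 a (Ideal.mem_sup_left ha)⟩, by
    rw [Submodule.mem_torsionBy_iff]
    exact Subtype.ext (y.2 r (Ideal.mem_sup_right (Ideal.mem_span_singleton_self r)))⟩
  left_inv _ := rfl
  right_inv _ := rfl

/-- torsion transfers along linear equivalences. -/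
def torsionByCongr {X Y : Type u} [AddCommGroup X] [Module A X] [AddCommGroup Y] [Module A Y]
    (e : X ≃ₗ[A] Y) (r : A) : Submodule.torsionBy A X r ≃ₗ[A] Submodule.torsionBy A Y r :=
  LinearEquiv.ofSubmodules e _ _ (by
    ext y
    simp only [Submodule.mem_map, Submodule.mem_torsionBy_iff]
    constructor
    · rintro ⟨x, hx, rfl⟩
      rw [← map_smul, hx, map_zero]
    · intro hy
      exact ⟨e.symm y, by rw [← map_smul, hy, map_zero], e.apply_symm_apply y⟩)

/-- `Hom(A/J, M) ≃ M[J]`. -/
noncomputable def homEquivTors (J : Ideal A) : ((A ⧸ J) →ₗ[A] M) ≃ₗ[A] tors M J where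
  toFun f := ⟨f (Ideal.Quotient.mk J 1), by
    intro a ha
    rw [← map_smul]
    have : a • (Ideal.Quotient.mk J 1) = 0 := by
      rw [← Ideal.Quotient.mk_eq_mk, ← Submodule.Quotient.mk_smul, smul_eq_mul, mul_one]
      exact (Submodule.Quotient.mk_eq_zero _).2 ha
    rw [this, map_zero]⟩
  map_add' _ _ := rfl
  map_smul' _ _ := rfl
  invFun m := Submodule.liftQ J (LinearMap.toSpanSingleton A M m.1) (by
    intro a ha
    rw [LinearMap.mem_ker, LinearMap.toSpanSingleton_apply]
    exact m.2 a ha)
  left_inv f := by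
    apply Submodule.linearMap_qext
    ext
    simp
  right_inv m := by
    apply Subtype.ext
    show Submodule.liftQ J (LinearMap.toSpanSingleton A M m.1) _ (Submodule.Quotient.mk 1) = m.1
    rw [Submodule.liftQ_apply, LinearMap.toSpanSingleton_apply, one_smul]

theorem tors_bot_eq_top : tors M (⊥ : Ideal A) = ⊤ := by
  ext m
  simp only [mem_tors, Submodule.mem_top, iff_true]
  intro a ha
  rw [(Submodule.mem_bot A).1 ha, zero_smul]

end tors

section main

variable (M : Type u) [AddCommGroup M] [Module A M]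

/-- transfer along an equivalence in the first variable. -/
noncomputable def TCongr {L L' : Type u} [AddCommGroup L] [Module A L] [AddCommGroup L']
    [Module A L'] (e : L ≃ₗ[A] L') (i : ℕ) : T A M i L ≃ₗ[A] T A M i L' :=
  (((Tor (ModuleCat.{u} A) i).mapIso e.toModuleIso).app (ModuleCat.of A M)).toLinearEquiv

theorem ofList_append_singleton (rs : List A) (r : A) :
    Ideal.ofList (rs ++ [r]) = Ideal.ofList rs ⊔ Ideal.span {r} := by
  rw [Ideal.ofList_append, Ideal.ofList_singleton]

theorem ofList_cons_eq (rs : List A) (r : A) :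
    Ideal.ofList (r :: rs) = Ideal.ofList (rs ++ [r]) := by
  rw [ofList_append_singleton, Ideal.ofList_cons, sup_comm]

theorem koszul_top (xs : List A) : IsWeaklyRegular A xs →
    (∀ i : ℕ, xs.length < i →
      IsZero (T A M i (A ⧸ (Ideal.ofList xs • ⊤ : Submodule A A)))) ∧
    Nonempty (T A M xs.length (A ⧸ (Ideal.ofList xs • ⊤ : Submodule A A)) ≃ₗ[A]
      tors M (Ideal.ofList xs)) := by
  induction xs using List.reverseRecOn with
  | nil =>
    intro _
    have e : (A ⧸ (Ideal.ofList ([] : List A) • ⊤ : Submodule A A)) ≃ₗ[A] A :=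
      Submodule.quotEquivOfEqBot _ (ofList_nil_smul A)
    constructor
    · intro i hi
      apply isZero_congr M e.symm i
      rw [ModuleCat.isZero_iff_subsingleton]
      exact (Groth.Agent.S3527.result A A M i hi).1
    · obtain ⟨e0⟩ := Groth.Agent.H13.TorBC.tor_zero_equiv (R := A) (M := A) (N := M)
      have e1 : tors M (Ideal.ofList ([] : List A)) ≃ₗ[A] M :=
        (LinearEquiv.ofEq _ _ (by rw [Ideal.ofList_nil, tors_bot_eq_top])).trans
          Submodule.topEquiv
      exact ⟨(TCongr M e 0).trans (e0.trans ((TensorProduct.lid A M).trans e1.symm))⟩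
  | append_singleton rs r ih =>
    intro hreg
    rw [isWeaklyRegular_append_iff, isWeaklyRegular_singleton_iff] at hreg
    obtain ⟨ih1, ⟨ih2⟩⟩ := ih hreg.1
    have e : QuotSMulTop r (A ⧸ (Ideal.ofList rs • ⊤ : Submodule A A)) ≃ₗ[A]
        (A ⧸ (Ideal.ofList (rs ++ [r]) • ⊤ : Submodule A A)) :=
      (Submodule.quotOfListConsSMulTopEquivQuotSMulTopOuter A r rs).symm.trans
        (Submodule.quotEquivOfEq _ _ (by rw [ofList_cons_eq]))
    have hlen : (rs ++ [r]).length = rs.length + 1 := by simp
    rw [hlen]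
    constructor
    · intro i hi
      exact isZero_congr M e i (step_vanish M r _ hreg.2 rs.length ih1 i hi)
    · obtain ⟨e2⟩ := step_top M r _ hreg.2 rs.length (ih1 _ (Nat.lt_succ_self _))
      exact ⟨(TCongr M e (rs.length + 1)).symm.trans (e2.trans ((torsionByCongr ih2 r).trans
        ((torsStep M (Ideal.ofList rs) r).trans
          (LinearEquiv.ofEq _ _ (by rw [ofList_append_singleton])))))⟩

/-- `Tor'` and `Tor` agree objectwise. -/
theorem tor'_iso (X Y : ModuleCat.{u} A) (n : ℕ) :
    Nonempty (((Tor' (ModuleCat.{u} A) n).obj X).obj Y ≅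
      ((Tor (ModuleCat.{u} A) n).obj X).obj Y) := by
  let P := ProjectiveResolution.of X
  obtain ⟨e⟩ := Groth.Agent.H13.TorBal.main X Y P n
  have e' : ((Tor' (ModuleCat.{u} A) n).obj X).obj Y ≅ _ :=
    P.isoLeftDerivedObj ((MonoidalCategory.tensoringRight (ModuleCat.{u} A)).obj Y) n
  exact ⟨e' ≪≫ e.symm⟩

end main

end Groth.Agent.H19.RegTor2
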