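import Mathlib

/-!
Helper lemmas: connected components of a prime spectrum and idempotents (helper19).
-/
set_option autoImplicit false
universe u

namespace Groth.Agent.H19

variable {R : Type u} [CommRing R]

/-- If all idempotents of `A` are trivial then `Spec A` is preconnected. -/
theorem preconnectedSpace_of_idempotents {A : Type u} [CommRing A]
    (h : ∀ e : A, IsIdempotentElem e → e = 0 ∨ e = 1) : PreconnectedSpace (PrimeSpectrum A) := by
  rw [preconnectedSpace_iff_clopen]
  intro s hs
  obtain ⟨e, he, rfl⟩ := PrimeSpectrum.isClopen_iff.mp hs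
  rcases h e he with rfl | rfl
  · left; simp
  · right; simp

/-- Every element of an ideal generated by idempotents is a multiple of a single idempotent of the
ideal. -/
theorem exists_idem_of_mem_span {S : Set R} (hS : ∀ e ∈ S, IsIdempotentElem e) {a : R}
    (ha : a ∈ Ideal.span S) : ∃ e, IsIdempotentElem e ∧ e ∈ Ideal.span S ∧ a * e = a := by
  induction ha using Submodule.span_induction with
  | mem x hx => exact ⟨x, hS x hx, Ideal.subset_span hx, hS x hx⟩
  | zero => exact ⟨0, IsIdempotentElem.zero, zero_mem _, by simp⟩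
  | add x y _ _ hx hy =>
    obtain ⟨e₁, he₁, he₁S, hxe⟩ := hx
    obtain ⟨e₂, he₂, he₂S, hye⟩ := hy
    refine ⟨e₁ + e₂ - e₁ * e₂, ?_, ?_, ?_⟩
    · have h1 : e₁ * e₁ = e₁ := he₁
      have h2 : e₂ * e₂ = e₂ := he₂
      change (e₁ + e₂ - e₁ * e₂) * (e₁ + e₂ - e₁ * e₂) = e₁ + e₂ - e₁ * e₂
      have : (e₁ + e₂ - e₁ * e₂) * (e₁ + e₂ - e₁ * e₂) =
          e₁ * e₁ + e₂ * e₂ + 2 * e₁ * e₂ - 2 * (e₁ * e₁) * e₂ - 2 * e₁ * (e₂ * e₂) + (e₁ * e₁) * (e₂ * e₂) := by
        ring
      rw [this, h1, h2]; ring
    · exact Ideal.sub_mem _ (Ideal.add_mem _ he₁S he₂S) (Ideal.mul_mem_right _ _ he₁S)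
    · have : (x + y) * (e₁ + e₂ - e₁ * e₂) =
          x * e₁ + (x - x * e₁) * e₂ + y * e₂ + (y - y * e₂) * e₁ := by ring
      rw [this, hxe, hye]; ring
  | smul r x _ hx =>
    obtain ⟨e, he, heS, hxe⟩ := hx
    refine ⟨e, he, heS, ?_⟩
    rw [smul_eq_mul, mul_assoc, hxe]

/-- The set of idempotents contained in a prime. -/
def idemIn (p : PrimeSpectrum R) : Set R := {e : R | IsIdempotentElem e ∧ e ∈ p.asIdeal}

theorem idem_mem_or (p : PrimeSpectrum R) {e : R} (he : IsIdempotentElem e) :
    e ∈ p.asIdeal ∨ 1 - e ∈ p.asIdeal := by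
  apply p.isPrime.mem_or_mem
  rw [mul_sub, mul_one, he.eq, sub_self]
  exact zero_mem _

/-- The quotient by the ideal generated by the idempotents of a prime has only trivial idempotents. -/
theorem quotient_idem_trivial (p : PrimeSpectrum R)
    (x : R ⧸ Ideal.span (idemIn p)) (hx : IsIdempotentElem x) : x = 0 ∨ x = 1 := by
  obtain ⟨f, rfl⟩ := Ideal.Quotient.mk_surjective x
  have hf : f * f - f ∈ Ideal.span (idemIn p) := by
    rw [← Ideal.Quotient.eq, map_mul]; exact hx
  obtain ⟨e, he, heS, hfe⟩ := exists_idem_of_mem_span (fun e he => he.1) hf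
  have hee : e * e = e := he
  set g := f * (1 - e) with hg
  have hgi : IsIdempotentElem g := by
    change g * g = g
    have : g * g - g = (f * f - f) - (f * f - f) * e + (f * f) * (e * e - e) := by rw [hg]; ring
    rw [← sub_eq_zero, this, hfe, hee]; ring
  have hgf : g - f ∈ Ideal.span (idemIn p) := by
    have : g - f = -(f * e) := by rw [hg]; ring
    rw [this]; exact neg_mem (Ideal.mul_mem_left _ _ heS)
  rcases idem_mem_or p hgi with h | h
  · left
    have hgS : g ∈ Ideal.span (idemIn p) := Ideal.subset_span ⟨hgi, h⟩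
    rw [Ideal.Quotient.eq_zero_iff_mem]
    have : f = g - (g - f) := by ring
    rw [this]; exact Ideal.sub_mem _ hgS hgf
  · right
    have hgS : 1 - g ∈ Ideal.span (idemIn p) := Ideal.subset_span ⟨hgi.one_sub, h⟩
    rw [← map_one (Ideal.Quotient.mk _), eq_comm, Ideal.Quotient.eq]
    have : 1 - f = (1 - g) + (g - f) := by ring
    rw [this]; exact Ideal.add_mem _ hgS hgf

/-- The connected component of a point of `Spec R` is the zero locus of the idempotents it contains. -/
theorem connectedComponent_eq_zeroLocus (p : PrimeSpectrum R) :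
    connectedComponent p = PrimeSpectrum.zeroLocus (idemIn p) := by
  apply Set.Subset.antisymm
  · intro q hq
    rw [PrimeSpectrum.mem_zeroLocus]
    intro e he
    have hcl : IsClopen (PrimeSpectrum.zeroLocus ({e} : Set R)) :=
      PrimeSpectrum.isClopen_iff_zeroLocus.mpr ⟨e, he.1, rfl⟩
    have hp : p ∈ PrimeSpectrum.zeroLocus ({e} : Set R) := by
      rw [PrimeSpectrum.mem_zeroLocus, Set.singleton_subset_iff]; exact he.2
    have := hcl.connectedComponent_subset hp hq
    rw [PrimeSpectrum.mem_zeroLocus, Set.singleton_subset_iff] at this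
    exact this
  · apply IsPreconnected.subset_connectedComponent
    · -- zeroLocus is the range of comap of the quotient map
      have hrange : PrimeSpectrum.zeroLocus (idemIn p) =
          Set.range (PrimeSpectrum.comap (Ideal.Quotient.mk (Ideal.span (idemIn p)))) := by
        rw [_root_.range_comap_of_surjective _ _ Ideal.Quotient.mk_surjective,
          Ideal.mk_ker, PrimeSpectrum.zeroLocus_span]
      rw [hrange]
      haveI := preconnectedSpace_of_idempotents (quotient_idem_trivial p)
      exact isPreconnected_range (PrimeSpectrum.continuous_comap _)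
    · rw [PrimeSpectrum.mem_zeroLocus]
      exact fun e he => he.2

end Groth.Agent.H19
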