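import Mathlib
import Groth.Agent.H19.TorFlip
import Groth.Agent.H19.FlatCech

set_option autoImplicit false
universe u

namespace Groth.Agent.H19.TorAR

open CategoryTheory CategoryTheory.Limits TensorProduct Function

section alg

variable {R : Type u} [CommRing R]

theorem lid_rTensor_mem {F : Type u} [AddCommGroup F] [Module R F] (J : Ideal R)
    (t : ↥J ⊗[R] F) : TensorProduct.lid R F (J.subtype.rTensor F t) ∈ (J • ⊤ : Submodule R F) := by
  induction t using TensorProduct.induction_on with
  | zero => simp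
  | tmul a f =>
    simp only [LinearMap.rTensor_tmul, Submodule.subtype_apply, TensorProduct.lid_tmul]
    exact Submodule.smul_mem_smul a.2 trivial
  | add x y hx hy =>
    rw [map_add, map_add]
    exact Submodule.add_mem _ hx hy

theorem lid_rTensor_lTensor {F M : Type u} [AddCommGroup F] [Module R F] [AddCommGroup M]
    [Module R M] (π : F →ₗ[R] M) (J : Ideal R) (t : ↥J ⊗[R] F) :
    π (TensorProduct.lid R F (J.subtype.rTensor F t)) =
      TensorProduct.lid R M (J.subtype.rTensor M (π.lTensor ↥J t)) := by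
  induction t using TensorProduct.induction_on with
  | zero => simp
  | tmul a f => simp
  | add x y hx hy => simp only [map_add, hx, hy]

theorem artinRees_tensor [IsNoetherianRing R] (I : Ideal R) (M : Type u) [AddCommGroup M]
    [Module R M] [Module.Finite R M] (n : ℕ) :
    ∃ m : ℕ, n ≤ m ∧ ∀ (h : I ^ m ≤ I ^ n) (t : ↥(I ^ m) ⊗[R] M),
      (I ^ m).subtype.rTensor M t = 0 → (Submodule.inclusion h).rTensor M t = 0 := by
  obtain ⟨k, π, hπ⟩ := Module.Finite.exists_fin' R M
  obtain ⟨c, hc⟩ := Ideal.exists_pow_inf_eq_pow_smul I (LinearMap.ker π)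
  refine ⟨n + c, Nat.le_add_right n c, ?_⟩
  intro h t ht
  obtain ⟨t', rfl⟩ := LinearMap.lTensor_surjective (↥(I ^ (n + c))) hπ t
  set x := TensorProduct.lid R (Fin k → R) ((I ^ (n + c)).subtype.rTensor (Fin k → R) t') with hx
  have hx1 : x ∈ (I ^ (n + c) • ⊤ : Submodule R (Fin k → R)) := lid_rTensor_mem _ t'
  have hx2 : x ∈ LinearMap.ker π := by
    rw [LinearMap.mem_ker, hx, lid_rTensor_lTensor, ht, map_zero]
  have hx3 : x ∈ I ^ n • (I ^ c • ⊤ ⊓ LinearMap.ker π : Submodule R (Fin k → R)) := by
    have := hc (n + c) (Nat.le_add_left c n)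
    rw [Nat.add_sub_cancel] at this
    rw [← this]
    exact ⟨hx1, hx2⟩
  -- produce `s`
  have hs : ∃ s : ↥(I ^ n) ⊗[R] (Fin k → R),
      TensorProduct.lid R (Fin k → R) ((I ^ n).subtype.rTensor (Fin k → R) s) = x ∧
        π.lTensor ↥(I ^ n) s = 0 := by
    refine Submodule.smul_induction_on hx3 ?_ ?_
    · intro b hb z hz
      refine ⟨⟨b, hb⟩ ⊗ₜ z, by simp, ?_⟩
      rw [LinearMap.lTensor_tmul, LinearMap.mem_ker.1 hz.2, TensorProduct.tmul_zero]
    · rintro y y' ⟨s, hs1, hs2⟩ ⟨s', hs1', hs2'⟩
      exact ⟨s + s', by rw [map_add, map_add, hs1, hs1'], by rw [map_add, hs2, hs2', add_zero]⟩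
  obtain ⟨s, hs1, hs2⟩ := hs
  have hinj : Injective ((I ^ n).subtype.rTensor (Fin k → R)) :=
    Module.Flat.rTensor_preserves_injective_linearMap _ Subtype.val_injective
  have hcomp : (I ^ n).subtype.rTensor (Fin k → R)
      ((Submodule.inclusion h).rTensor (Fin k → R) t') =
      (I ^ (n + c)).subtype.rTensor (Fin k → R) t' := by
    rw [← LinearMap.comp_apply, ← LinearMap.rTensor_comp]
    rfl
  have hst : (Submodule.inclusion h).rTensor (Fin k → R) t' = s := by
    apply hinj
    apply (TensorProduct.lid R (Fin k → R)).injective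
    rw [hs1, hcomp]
  have hcomm : (Submodule.inclusion h).rTensor M (π.lTensor ↥(I ^ (n + c)) t') =
      π.lTensor ↥(I ^ n) ((Submodule.inclusion h).rTensor (Fin k → R) t') := by
    rw [← LinearMap.comp_apply, ← LinearMap.comp_apply, LinearMap.rTensor_comp_lTensor,
      LinearMap.lTensor_comp_rTensor]
  rw [hcomm, hst, hs2]

end alg


section tor

open Groth.Agent.H19.TorFirst Groth.Agent.H19.TorZero Groth.Agent.H19.FlatCech

variable {R : Type u} [CommRing R]

/-- the first-variable map `Tor_1(R/J, M) → Tor_1(R/J', M)` vanishes as soon as the kernel of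
`J ⊗ M → M` dies in `J' ⊗ M`. -/
theorem tor_one_factor_app_eq_zero (M : Type u) [AddCommGroup M] [Module R M] {J J' : Ideal R}
    (h : J ≤ J')
    (hAR : ∀ t : ↥J ⊗[R] M, J.subtype.rTensor M t = 0 → (Submodule.inclusion h).rTensor M t = 0) :
    ((Tor (ModuleCat.{u} R) 1).map (ModuleCat.ofHom (Submodule.factor h))).app
      (ModuleCat.of R M) = 0 := by
  have hS := scOf_shortExact J.subtype J.mkQ (LinearMap.exact_subtype_mkQ J)
    J.injective_subtype J.mkQ_surjective
  have hS' := scOf_shortExact J'.subtype J'.mkQ (LinearMap.exact_subtype_mkQ J')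
    J'.injective_subtype J'.mkQ_surjective
  let φ : scOf J.subtype J.mkQ (LinearMap.exact_subtype_mkQ J) ⟶
      scOf J'.subtype J'.mkQ (LinearMap.exact_subtype_mkQ J') :=
    ShortComplex.homMk (ModuleCat.ofHom (Submodule.inclusion h)) (𝟙 _)
      (ModuleCat.ofHom (Submodule.factor h))
      (by
        apply ModuleCat.hom_ext
        apply LinearMap.ext
        intro x
        rfl)
      (by
        apply ModuleCat.hom_ext
        apply LinearMap.ext
        intro x
        rfl)
  have hnat := Groth.Agent.H19.TorNat.δ_naturality_sc hS hS' φ (ModuleCat.of R M) 0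
  have hmono : Mono (δ _ hS' (ModuleCat.of R M) 0) := by
    refine (exact₃ _ hS' (ModuleCat.of R M) 0).mono_g (IsZero.eq_of_src ?_ _ _)
    have hsub := (Groth.Agent.S3527.result R R M 1 Nat.one_pos).1
    exact @ModuleCat.isZero_of_subsingleton _ _ _ hsub
  have hzero : δ _ hS (ModuleCat.of R M) 0 ≫
      ((Tor (ModuleCat.{u} R) 0).map φ.τ₁).app (ModuleCat.of R M) = 0 := by
    apply ModuleCat.hom_ext
    apply LinearMap.ext
    intro x
    show (((Tor (ModuleCat.{u} R) 0).map φ.τ₁).app (ModuleCat.of R M)).hom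
      ((δ _ hS (ModuleCat.of R M) 0).hom x) = 0
    set y := (δ _ hS (ModuleCat.of R M) 0).hom x with hy
    have h1 : (((Tor (ModuleCat.{u} R) 0).map
        (scOf J.subtype J.mkQ (LinearMap.exact_subtype_mkQ J)).f).app (ModuleCat.of R M)).hom y
        = 0 := by
      have := congrArg (fun t => t.hom x) (δ_map_f _ hS (ModuleCat.of R M) 0)
      exact this
    have h2 := tor0Iso_naturality_apply
      (scOf J.subtype J.mkQ (LinearMap.exact_subtype_mkQ J)).f (ModuleCat.of R M) y
    rw [h1, map_zero] at h2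
    have h3 := hAR _ h2.symm
    have h4 := tor0Iso_naturality_apply φ.τ₁ (ModuleCat.of R M) y
    apply (tor0Iso_bijective _ (ModuleCat.of R M)).1
    rw [h4, map_zero]
    exact h3
  rw [← cancel_mono (δ _ hS' (ModuleCat.of R M) 0), zero_comp]
  exact hnat.symm.trans hzero

end tor

end Groth.Agent.H19.TorAR
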