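import Mathlib
import Groth.Agent.H19.TorFirst
import Groth.Agent.S4507
import Groth.Agent.S8596

set_option autoImplicit false
universe u

/-!
If `u : M ⟶ N` induces bijections `Tor_i(k(x), M) → Tor_i(k(x), N)` for all primes `x` and all `i`
(Noetherian base), then `u` is an isomorphism.
-/

namespace Groth.Agent.H19.TorIso

open CategoryTheory CategoryTheory.Limits MonoidalCategory
open Groth.Agent.H19.TorFirst

section epi

variable {C : Type*} [Category C] [Abelian C]

theorem epi_homologyMap_zero {K L : ChainComplex C ℕ} (φ : K ⟶ L) [Epi (φ.f 0)] :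
    Epi (HomologicalComplex.homologyMap φ 0) := by
  have h1 : K.pOpcycles 0 ≫ HomologicalComplex.opcyclesMap φ 0 = φ.f 0 ≫ L.pOpcycles 0 :=
    HomologicalComplex.p_opcyclesMap φ 0
  haveI : Epi (HomologicalComplex.opcyclesMap φ 0) := by
    haveI : Epi (K.pOpcycles 0 ≫ HomologicalComplex.opcyclesMap φ 0) := by
      rw [h1]; infer_instance
    exact epi_of_epi (K.pOpcycles 0) _
  have h2 : HomologicalComplex.homologyMap φ 0 ≫ L.homologyι 0 =
      K.homologyι 0 ≫ HomologicalComplex.opcyclesMap φ 0 :=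
    HomologicalComplex.homologyι_naturality φ 0
  haveI : IsIso (L.homologyι 0) := inferInstance
  haveI : IsIso (K.homologyι 0) := inferInstance
  have h3 : HomologicalComplex.homologyMap φ 0 =
      K.homologyι 0 ≫ HomologicalComplex.opcyclesMap φ 0 ≫ inv (L.homologyι 0) := by
    rw [← Category.assoc, ← h2, Category.assoc, IsIso.hom_inv_id, Category.comp_id]
  rw [h3]
  infer_instance

end epi

variable {A : Type u} [CommRing A]

theorem epi_tor_zero_map {L₂ L₃ : ModuleCat.{u} A} (g : L₂ ⟶ L₃) [Epi g] (X : ModuleCat.{u} A) :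
    Epi (((Tor (ModuleCat.{u} A) 0).map g).app X) := by
  let P := ProjectiveResolution.of X
  have h := P.leftDerived_app_eq ((tensoringLeft (ModuleCat.{u} A)).map g) 0
  show Epi ((NatTrans.leftDerived ((tensoringLeft (ModuleCat.{u} A)).map g) 0).app X)
  rw [h]
  haveI : Epi ((HomologicalComplex.homologyFunctor (ModuleCat.{u} A) (ComplexShape.down ℕ) 0).map
      ((NatTrans.mapHomologicalComplex ((tensoringLeft (ModuleCat.{u} A)).map g)
        (ComplexShape.down ℕ)).app P.complex)) := by
    haveI : Epi (((NatTrans.mapHomologicalComplex ((tensoringLeft (ModuleCat.{u} A)).map g)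
        (ComplexShape.down ℕ)).app P.complex).f 0) := by
      show Epi (g ▷ P.complex.X 0)
      rw [ModuleCat.epi_iff_surjective]
      exact LinearMap.rTensor_surjective _ ((ModuleCat.epi_iff_surjective g).1 inferInstance)
    exact epi_homologyMap_zero _
  infer_instance


section D

variable {M N : ModuleCat.{u} A} (u : M ⟶ N)

/-- the comparison map `Tor_i(L, M) ⟶ Tor_i(L, N)`. -/
noncomputable abbrev t (i : ℕ) (L : ModuleCat.{u} A) :
    ((Tor (ModuleCat.{u} A) i).obj L).obj M ⟶ ((Tor (ModuleCat.{u} A) i).obj L).obj N :=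
  ((Tor (ModuleCat.{u} A) i).obj L).map u

/-- the class of modules `L` for which all `Tor_i(L, u)` are bijective. -/
def D (L : Type u) [AddCommGroup L] [Module A L] : Prop :=
  ∀ i : ℕ, Function.Bijective (t u i (ModuleCat.of A L)).hom

theorem nat_first {L L' : ModuleCat.{u} A} (φ : L ⟶ L') (i : ℕ) :
    t u i L ≫ ((Tor (ModuleCat.{u} A) i).map φ).app N =
      ((Tor (ModuleCat.{u} A) i).map φ).app M ≫ t u i L' :=
  ((Tor (ModuleCat.{u} A) i).map φ).naturality u

theorem nat_first_apply {L L' : ModuleCat.{u} A} (φ : L ⟶ L') (i : ℕ)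
    (x : ((Tor (ModuleCat.{u} A) i).obj L).obj M) :
    (((Tor (ModuleCat.{u} A) i).map φ).app N).hom ((t u i L).hom x) =
      (t u i L').hom ((((Tor (ModuleCat.{u} A) i).map φ).app M).hom x) := by
  have h := nat_first u φ i
  exact congrArg (fun f => f.hom x) h

theorem nat_δ (S : ShortComplex (ModuleCat.{u} A)) (hS : S.ShortExact) (i : ℕ) :
    t u (i + 1) S.X₃ ≫ δ S hS N i = δ S hS M i ≫ t u i S.X₁ :=
  (δNat S hS i).naturality u

theorem nat_δ_apply (S : ShortComplex (ModuleCat.{u} A)) (hS : S.ShortExact) (i : ℕ)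
    (x : ((Tor (ModuleCat.{u} A) (i + 1)).obj S.X₃).obj M) :
    (δ S hS N i).hom ((t u (i + 1) S.X₃).hom x) = (t u i S.X₁).hom ((δ S hS M i).hom x) := by
  have h := nat_δ u S hS i
  exact congrArg (fun f => f.hom x) h

theorem D_of_equiv {L L' : Type u} [AddCommGroup L] [Module A L] [AddCommGroup L'] [Module A L']
    (e : L ≃ₗ[A] L') (h : D u L) : D u L' := by
  intro i
  have hM : Function.Bijective
      (((Tor (ModuleCat.{u} A) i).map e.toModuleIso.hom).app M).hom :=
    ConcreteCategory.bijective_of_isIso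
      (((Tor (ModuleCat.{u} A) i).mapIso e.toModuleIso).app M).hom
  have hN : Function.Bijective
      (((Tor (ModuleCat.{u} A) i).map e.toModuleIso.hom).app N).hom :=
    ConcreteCategory.bijective_of_isIso
      (((Tor (ModuleCat.{u} A) i).mapIso e.toModuleIso).app N).hom
  have hcomp : (t u i (ModuleCat.of A L')).hom ∘
      (((Tor (ModuleCat.{u} A) i).map e.toModuleIso.hom).app M).hom =
      (((Tor (ModuleCat.{u} A) i).map e.toModuleIso.hom).app N).hom ∘
        (t u i (ModuleCat.of A L)).hom := by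
    funext x
    exact (nat_first_apply u e.toModuleIso.hom i x).symm
  have hb : Function.Bijective ((t u i (ModuleCat.of A L')).hom ∘
      (((Tor (ModuleCat.{u} A) i).map e.toModuleIso.hom).app M).hom) := by
    rw [hcomp]
    exact hN.comp (h i)
  exact (Function.Bijective.of_comp_iff _ hM).1 hb

theorem D_of_subsingleton (L : Type u) [AddCommGroup L] [Module A L] [Subsingleton L] :
    D u L := by
  intro i
  have hzM : IsZero (((Tor (ModuleCat.{u} A) i).obj (ModuleCat.of A L)).obj M) :=
    (TorF M i).map_isZero (ModuleCat.isZero_of_subsingleton (ModuleCat.of A L))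
  have hzN : IsZero (((Tor (ModuleCat.{u} A) i).obj (ModuleCat.of A L)).obj N) :=
    (TorF N i).map_isZero (ModuleCat.isZero_of_subsingleton (ModuleCat.of A L))
  haveI := ModuleCat.subsingleton_of_isZero hzM
  haveI := ModuleCat.subsingleton_of_isZero hzN
  exact ⟨fun _ _ _ => Subsingleton.elim _ _, fun y => ⟨0, Subsingleton.elim _ _⟩⟩

theorem D_of_shortExact (S : ShortComplex (ModuleCat.{u} A)) (hS : S.ShortExact)
    (h1 : ∀ i : ℕ, Function.Bijective (t u i S.X₁).hom)
    (h3 : ∀ i : ℕ, Function.Bijective (t u i S.X₃).hom) :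
    ∀ i : ℕ, Function.Bijective (t u i S.X₂).hom := by
  intro i
  have ex1M := (ShortComplex.ShortExact.moduleCat_exact_iff_function_exact _).1 (exact₁ S hS M i)
  have ex1N := (ShortComplex.ShortExact.moduleCat_exact_iff_function_exact _).1 (exact₁ S hS N i)
  have ex2M := (ShortComplex.ShortExact.moduleCat_exact_iff_function_exact _).1 (exact₂ S hS M i)
  have ex2N := (ShortComplex.ShortExact.moduleCat_exact_iff_function_exact _).1 (exact₂ S hS N i)
  constructor
  · exact LinearMap.injective_of_surjective_of_injective_of_injective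
      (δ S hS M i).hom (((Tor (ModuleCat.{u} A) i).map S.f).app M).hom
      (((Tor (ModuleCat.{u} A) i).map S.g).app M).hom
      (δ S hS N i).hom (((Tor (ModuleCat.{u} A) i).map S.f).app N).hom
      (((Tor (ModuleCat.{u} A) i).map S.g).app N).hom
      (t u (i + 1) S.X₃).hom (t u i S.X₁).hom (t u i S.X₂).hom (t u i S.X₃).hom
      (LinearMap.ext fun x => nat_δ_apply u S hS i x)
      (LinearMap.ext fun x => nat_first_apply u S.f i x)
      (LinearMap.ext fun x => nat_first_apply u S.g i x)
      ex1M ex2M ex1N (h3 (i + 1)).2 (h1 i).1 (h3 i).1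
  · cases i with
    | zero =>
      haveI := hS.epi_g
      have hsM : Function.Surjective (((Tor (ModuleCat.{u} A) 0).map S.g).app M).hom :=
        (ModuleCat.epi_iff_surjective _).1 (epi_tor_zero_map S.g M)
      have hsN : Function.Surjective (((Tor (ModuleCat.{u} A) 0).map S.g).app N).hom :=
        (ModuleCat.epi_iff_surjective _).1 (epi_tor_zero_map S.g N)
      intro y
      obtain ⟨x3, hx3⟩ := (h3 0).2 ((((Tor (ModuleCat.{u} A) 0).map S.g).app N).hom y)
      obtain ⟨x2, hx2⟩ := hsM x3
      have hker : (((Tor (ModuleCat.{u} A) 0).map S.g).app N).hom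
          (y - (t u 0 S.X₂).hom x2) = 0 := by
        rw [map_sub, nat_first_apply u S.g 0 x2, hx2, hx3, sub_self]
      obtain ⟨z, hz⟩ := (ex2N _).1 hker
      obtain ⟨x1, hx1⟩ := (h1 0).2 z
      refine ⟨x2 + (((Tor (ModuleCat.{u} A) 0).map S.f).app M).hom x1, ?_⟩
      rw [map_add, ← nat_first_apply u S.f 0 x1, hx1, hz]
      abel
    | succ j =>
      have ex3M := (ShortComplex.ShortExact.moduleCat_exact_iff_function_exact _).1
        (exact₃ S hS M j)
      have ex3N := (ShortComplex.ShortExact.moduleCat_exact_iff_function_exact _).1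
        (exact₃ S hS N j)
      exact LinearMap.surjective_of_surjective_of_surjective_of_injective
        (((Tor (ModuleCat.{u} A) (j + 1)).map S.f).app M).hom
        (((Tor (ModuleCat.{u} A) (j + 1)).map S.g).app M).hom (δ S hS M j).hom
        (((Tor (ModuleCat.{u} A) (j + 1)).map S.f).app N).hom
        (((Tor (ModuleCat.{u} A) (j + 1)).map S.g).app N).hom (δ S hS N j).hom
        (t u (j + 1) S.X₁).hom (t u (j + 1) S.X₂).hom (t u (j + 1) S.X₃).hom (t u j S.X₁).hom
        (LinearMap.ext fun x => nat_first_apply u S.f (j + 1) x)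
        (LinearMap.ext fun x => nat_first_apply u S.g (j + 1) x)
        (LinearMap.ext fun x => nat_δ_apply u S hS j x)
        ex3M ex2N ex3N (h1 (j + 1)).2 (h3 (j + 1)).2 (h1 j).1


theorem D_of_exact {N₁ N₂ N₃ : Type u} [AddCommGroup N₁] [Module A N₁] [AddCommGroup N₂]
    [Module A N₂] [AddCommGroup N₃] [Module A N₃] (f : N₁ →ₗ[A] N₂) (g : N₂ →ₗ[A] N₃)
    (hf : Function.Injective f) (hg : Function.Surjective g) (hfg : Function.Exact f g)
    (h1 : D u N₁) (h3 : D u N₃) : D u N₂ :=
  D_of_shortExact u (ShortComplex.mk (ModuleCat.ofHom f) (ModuleCat.ofHom g) (by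
      apply ModuleCat.hom_ext
      apply LinearMap.ext
      intro x
      exact hfg.apply_apply_eq_zero x))
    (ModuleCat.shortComplex_shortExact _ hfg hf hg) h1 h3

theorem D_of_fg [IsNoetherianRing A] (I : Ideal A)
    (hI : ∀ q : Ideal A, q.IsPrime → I ≤ q → D u (A ⧸ q))
    (L : Type u) [AddCommGroup L] [Module A L] [hfin : Module.Finite A L] :
    I ≤ Module.annihilator A L → D u L := by
  induction hfin using IsNoetherianRing.induction_on_isQuotientEquivQuotientPrime A with
  | subsingleton N => intro _; exact D_of_subsingleton u N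
  | quotient N p f =>
    intro hN
    refine D_of_equiv u f.symm (hI p.1 p.2 ?_)
    rw [f.annihilator_eq, Ideal.annihilator_quotient] at hN
    exact hN
  | exact N₁ N₂ N₃ f g hf hg hfg h₁ h₃ =>
    intro hN
    exact D_of_exact u f g hf hg hfg (h₁ (hN.trans (f.annihilator_le_of_injective hf)))
      (h₃ (hN.trans (g.annihilator_le_of_surjective hg)))

section chase

variable (L Q : ModuleCat.{u} A) (f : A) (g : L ⟶ Q) (w : (f • 𝟙 L) ≫ g = 0)
  (hS : (ShortComplex.mk (f • 𝟙 L) g w).ShortExact)
  (hQ : ∀ j : ℕ, Function.Bijective (t u j Q).hom)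

theorem mapf_apply (X : ModuleCat.{u} A) (i : ℕ) (y : ((Tor (ModuleCat.{u} A) i).obj L).obj X) :
    (((Tor (ModuleCat.{u} A) i).map (f • 𝟙 L)).app X).hom y = f • y :=
  TorF_map_smul_id_apply X i L f y

include hS hQ in
theorem claim1 (i : ℕ) (c : ((Tor (ModuleCat.{u} A) i).obj L).obj N)
    (m : ((Tor (ModuleCat.{u} A) i).obj L).obj M) (hm : (t u i L).hom m = f • c) :
    ∃ m', (t u i L).hom m' = c := by
  have e2M := (ShortComplex.ShortExact.moduleCat_exact_iff_function_exact _).1
    (exact₂ _ hS M i)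
  have e2N := (ShortComplex.ShortExact.moduleCat_exact_iff_function_exact _).1
    (exact₂ _ hS N i)
  have e1N := (ShortComplex.ShortExact.moduleCat_exact_iff_function_exact _).1
    (exact₁ _ hS N i)
  have h1 : (((Tor (ModuleCat.{u} A) i).map g).app N).hom (f • c) = 0 := by
    rw [← mapf_apply L f N i c]
    exact (e2N _).2 ⟨c, rfl⟩
  have h2 : (t u i Q).hom ((((Tor (ModuleCat.{u} A) i).map g).app M).hom m) = 0 := by
    rw [← nat_first_apply u g i m, hm, h1]
  have h3 : (((Tor (ModuleCat.{u} A) i).map g).app M).hom m = 0 :=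
    (hQ i).1 (h2.trans (map_zero _).symm)
  obtain ⟨m', hm'⟩ := (e2M m).1 h3
  have hm'' : f • m' = m := (mapf_apply L f M i m').symm.trans hm'
  have h4 : (((Tor (ModuleCat.{u} A) i).map (f • 𝟙 L)).app N).hom (c - (t u i L).hom m') = 0 := by
    rw [mapf_apply, smul_sub, ← hm, ← hm'', map_smul, sub_self]
  obtain ⟨y', hy'⟩ := (e1N _).1 h4
  obtain ⟨y, hy⟩ := (hQ (i + 1)).2 y'
  refine ⟨m' + (δ _ hS M i).hom y, ?_⟩
  have hnat := nat_δ_apply u _ hS i y
  rw [map_add]
  have h5 : (t u i L).hom ((δ _ hS M i).hom y) = c - (t u i L).hom m' := by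
    rw [← hy']
    rw [← hy]
    exact hnat.symm
  rw [h5]
  abel

include hS hQ in
theorem claim3 (i : ℕ) (hsurj : Function.Surjective (t u (i + 1) L).hom)
    (k : ((Tor (ModuleCat.{u} A) i).obj L).obj M) (hk : (t u i L).hom k = 0) (hfk : f • k = 0) :
    k = 0 := by
  have e1M := (ShortComplex.ShortExact.moduleCat_exact_iff_function_exact _).1
    (exact₁ _ hS M i)
  have e3N := (ShortComplex.ShortExact.moduleCat_exact_iff_function_exact _).1
    (exact₃ _ hS N i)
  have e3M := (ShortComplex.ShortExact.moduleCat_exact_iff_function_exact _).1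
    (exact₃ _ hS M i)
  have h1 : (((Tor (ModuleCat.{u} A) i).map (f • 𝟙 L)).app M).hom k = 0 := by
    rw [mapf_apply, hfk]
  obtain ⟨y, hy⟩ := (e1M k).1 h1
  have hnat := nat_δ_apply u _ hS i y
  have h2 : (δ _ hS N i).hom ((t u (i + 1) Q).hom y) = 0 := by
    rw [hnat]
    have : (δ _ hS M i).hom y = k := hy
    rw [this, hk]
  obtain ⟨n, hn⟩ := (e3N _).1 h2
  obtain ⟨m, hm⟩ := hsurj n
  have h3 : (t u (i + 1) Q).hom ((((Tor (ModuleCat.{u} A) (i + 1)).map g).app M).hom m) =
      (t u (i + 1) Q).hom y := by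
    rw [← nat_first_apply u g (i + 1) m, hm]
    exact hn
  have h4 : (((Tor (ModuleCat.{u} A) (i + 1)).map g).app M).hom m = y := (hQ (i + 1)).1 h3
  have h5 : (δ _ hS M i).hom y = 0 := by
    rw [← h4]
    exact (e3M _).2 ⟨m, rfl⟩
  exact hy.symm.trans h5

end chase

section prime

variable [IsNoetherianRing A]

theorem prime_step (hk : ∀ (x : Ideal A) [x.IsPrime], D u x.ResidueField) (p : Ideal A)
    [p.IsPrime] (IH : ∀ q : Ideal A, p < q → q.IsPrime → D u (A ⧸ q)) : D u (A ⧸ p) := by
  have hQ : ∀ f : A, f ∉ p → D u (A ⧸ (p ⊔ Ideal.span {f})) := fun f hf =>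
    D_of_fg u (p ⊔ Ideal.span {f}) (fun q hq hle => IH q
      (lt_of_le_of_ne (le_sup_left.trans hle) (fun hpq => hf (by
        rw [hpq]
        exact hle (Ideal.mem_sup_right (Ideal.mem_span_singleton_self f))))) hq) _
      (by rw [Ideal.annihilator_quotient])
  -- the short exact sequences
  have hw : ∀ f : A, (f • 𝟙 (ModuleCat.of A (A ⧸ p))) ≫ (ModuleCat.ofHom
      (Ideal.Quotient.factorₐ A (le_sup_left : p ≤ p ⊔ Ideal.span {f})).toLinearMap :
      ModuleCat.of A (A ⧸ p) ⟶ ModuleCat.of A (A ⧸ (p ⊔ Ideal.span {f}))) = 0 := by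
    intro f
    apply ModuleCat.hom_ext
    apply LinearMap.ext
    intro x
    exact (Groth.Agent.S8596.smul_id_exact p f).apply_apply_eq_zero x
  have hSE : ∀ (f : A) (hf : f ∉ p), (ShortComplex.mk _ _ (hw f)).ShortExact := fun f hf =>
    ModuleCat.shortComplex_shortExact _ (Groth.Agent.S8596.smul_id_exact p f)
      (Groth.Agent.S8596.smul_id_injective p f hf) (Groth.Agent.S8596.factor_surjective p f)
  -- localization
  let ℓ : ModuleCat.of A (A ⧸ p) ⟶ ModuleCat.of A (LocalizedModule p.primeCompl (A ⧸ p)) :=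
    ModuleCat.ofHom (LocalizedModule.mkLinearMap p.primeCompl (A ⧸ p))
  have hloc : ∀ (X : ModuleCat.{u} A) (i : ℕ), IsLocalizedModule p.primeCompl
      (((Tor (ModuleCat.{u} A) i).map ℓ).app X).hom := fun X i =>
    Groth.Agent.S4507.result (TorF X i) (fun J _ _ => TorF_preservesFiltered X i J)
      p.primeCompl (ModuleCat.of A (A ⧸ p))
  haveI := Groth.Agent.S8596.residueField_isLocalizedModule p
  have e : LocalizedModule p.primeCompl (A ⧸ p) ≃ₗ[A] p.ResidueField :=
    IsLocalizedModule.iso p.primeCompl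
      ((IsScalarTower.toAlgHom A (A ⧸ p) p.ResidueField).toLinearMap)
  have hK : D u (LocalizedModule p.primeCompl (A ⧸ p)) := D_of_equiv u e.symm (hk p)
  -- surjectivity
  have hsurj : ∀ i : ℕ, Function.Surjective (t u i (ModuleCat.of A (A ⧸ p))).hom := by
    intro i c
    haveI := hloc M i
    haveI := hloc N i
    obtain ⟨z, hz⟩ := (hK i).2 ((((Tor (ModuleCat.{u} A) i).map ℓ).app N).hom c)
    obtain ⟨⟨m, s⟩, hs⟩ := IsLocalizedModule.surj p.primeCompl
      (((Tor (ModuleCat.{u} A) i).map ℓ).app M).hom z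
    have hs1 : (s : A) • z = (((Tor (ModuleCat.{u} A) i).map ℓ).app M).hom m := hs
    have heq : (((Tor (ModuleCat.{u} A) i).map ℓ).app N).hom ((s : A) • c) =
        (((Tor (ModuleCat.{u} A) i).map ℓ).app N).hom ((t u i (ModuleCat.of A (A ⧸ p))).hom m) := by
      rw [map_smul, ← hz, ← map_smul, hs1, nat_first_apply]
    obtain ⟨s', hs'⟩ := IsLocalizedModule.exists_of_eq (S := p.primeCompl) heq
    have hs'1 : (s' : A) • ((s : A) • c) =
        (s' : A) • (t u i (ModuleCat.of A (A ⧸ p))).hom m := hs'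
    have hmem : (s' : A) * (s : A) ∉ p := (s' * s).2
    exact claim1 u _ _ ((s' : A) * (s : A)) _ (hw _) (hSE _ hmem) (hQ _ hmem) i c
      ((s' : A) • m) (by rw [map_smul, ← hs'1, mul_smul])
  -- injectivity
  intro i
  refine ⟨?_, hsurj i⟩
  rw [injective_iff_map_eq_zero]
  intro k hk0
  haveI := hloc M i
  haveI := hloc N i
  have h1 : (t u i (ModuleCat.of A (LocalizedModule p.primeCompl (A ⧸ p)))).hom
      ((((Tor (ModuleCat.{u} A) i).map ℓ).app M).hom k) = 0 := by
    rw [← nat_first_apply, hk0, map_zero]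
  have h2 : (((Tor (ModuleCat.{u} A) i).map ℓ).app M).hom k =
      (((Tor (ModuleCat.{u} A) i).map ℓ).app M).hom 0 := by
    rw [map_zero]
    exact (hK i).1 (h1.trans (map_zero _).symm)
  obtain ⟨s, hs⟩ := IsLocalizedModule.exists_of_eq (S := p.primeCompl) h2
  have hs1 : (s : A) • k = 0 := by
    have : (s : A) • k = (s : A) • (0 : ((Tor (ModuleCat.{u} A) i).obj
      (ModuleCat.of A (A ⧸ p))).obj M) := hs
    rw [this, smul_zero]
  exact claim3 u _ _ (s : A) _ (hw _) (hSE _ s.2) (hQ _ s.2) i (hsurj (i + 1)) k hk0 hs1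

end prime

section final

theorem isIso_of_tor_zero_unit (h : Function.Bijective (t u 0 (ModuleCat.of A A)).hom) :
    IsIso u := by
  let F : ModuleCat.{u} A ⥤ ModuleCat.{u} A :=
    (tensoringLeft (ModuleCat.{u} A)).obj (ModuleCat.of A A)
  have hiso : IsIso ((F.leftDerived 0).map u) :=
    (ConcreteCategory.isIso_iff_bijective _).2 h
  have hnat := F.leftDerivedZeroIsoSelf.hom.naturality u
  have hF : IsIso (F.map u) := by
    have : F.map u = F.leftDerivedZeroIsoSelf.inv.app M ≫ (F.leftDerived 0).map u ≫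
        F.leftDerivedZeroIsoSelf.hom.app N := by
      rw [hnat, ← Category.assoc, Iso.inv_hom_id_app, Category.id_comp]
    rw [this]
    infer_instance
  have hu : u = (λ_ M).inv ≫ F.map u ≫ (λ_ N).hom := by
    have : F.map u = (𝟙_ (ModuleCat.{u} A)) ◁ u := rfl
    rw [this, leftUnitor_naturality, ← Category.assoc, Iso.inv_hom_id, Category.id_comp]
  rw [hu]
  infer_instance

end final

end D

end Groth.Agent.H19.TorIso
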