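import Mathlib
import Groth.Agent.H19.TorKos1
import Groth.Agent.S15821
import Groth.Agent.H13.TorBC

set_option autoImplicit false
universe u

namespace Groth.Agent.H19.TorKos

open CategoryTheory CategoryTheory.Limits CochainComplex HomologicalComplex MonoidalCategory
open Groth.Agent.H19.Kos TensorProduct

variable {A : Type u} [CommRing A] (l : List A)

/-- the terms of the Koszul complex, indexed homologically -/
abbrev KX (n : ℕ) : Type u := ((Koszul.koszul A l).X (-(n : ℤ)) : Type u)

/-- the differentials, indexed homologically -/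
noncomputable def Kd (n : ℕ) : KX l (n + 1) →ₗ[A] KX l n :=
  ((Koszul.koszul A l).d (-((n + 1 : ℕ) : ℤ)) (-(n : ℤ))).hom

theorem Kd_exact (hv : ∀ n : ℤ, n ≠ 0 → Subsingleton ((Koszul.koszul A l).homology n)) (n : ℕ) :
    Function.Exact (Kd l (n + 1)) (Kd l n) :=
  exact_of_subsingleton_homology _ (-((n + 1 + 1 : ℕ) : ℤ)) (-((n + 1 : ℕ) : ℤ)) (-(n : ℤ))
    (by push_cast; ring) (by push_cast; ring) (hv _ (by push_cast; omega))

theorem flat_KX (n : ℕ) : Module.Flat A (KX l n) := by
  haveI : Module.Free A (KX l n) := free_koszul l _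
  infer_instance

theorem KC_d_hom (M : Type u) [AddCommGroup M] [Module A M] (i j : ℤ) :
    ((KC l M).d i j).hom = LinearMap.rTensor M ((Koszul.koszul A l).d i j).hom := rfl

end Groth.Agent.H19.TorKos
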