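import Mathlib
import Groth.Agent.H19.TorKos2

set_option autoImplicit false
universe u

namespace Groth.Agent.H19.TorKos

open CategoryTheory CategoryTheory.Limits CochainComplex HomologicalComplex MonoidalCategory
open Groth.Agent.H19.Kos TensorProduct

variable {A : Type u} [CommRing A]

theorem aug_of_equiv {P₂ P₁ P₀ H Q : Type u} [AddCommGroup P₂] [Module A P₂] [AddCommGroup P₁]
    [Module A P₁] [AddCommGroup P₀] [Module A P₀] [AddCommGroup H] [Module A H]
    [AddCommGroup Q] [Module A Q]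
    (f : P₂ →ₗ[A] P₁) (g : P₁ →ₗ[A] P₀) (hg : ∀ x, g x = 0)
    (tc : P₂ →ₗ[A] LinearMap.ker g) (htc : ∀ x, (tc x : P₁) = f x)
    (e1 : H ≃ₗ[A] (LinearMap.ker g ⧸ LinearMap.range tc)) (e0 : H ≃ₗ[A] Q) :
    ∃ ε : P₁ →ₗ[A] Q, Function.Surjective ε ∧ Function.Exact f ε := by
  let incl : P₁ →ₗ[A] LinearMap.ker g := LinearMap.codRestrict _ LinearMap.id hg
  have hincl : Function.Surjective incl := fun y => ⟨y.1, Subtype.ext rfl⟩
  refine ⟨e0.toLinearMap ∘ₗ e1.symm.toLinearMap ∘ₗ Submodule.mkQ _ ∘ₗ incl, ?_, ?_⟩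
  · intro q
    obtain ⟨y, hy⟩ := Submodule.mkQ_surjective _ (e1 (e0.symm q))
    obtain ⟨x, hx⟩ := hincl y
    refine ⟨x, ?_⟩
    simp only [LinearMap.coe_comp, LinearEquiv.coe_coe, Function.comp_apply]
    rw [hx, hy]
    simp
  · intro x
    simp only [LinearMap.coe_comp, LinearEquiv.coe_coe, Function.comp_apply]
    rw [LinearEquiv.map_eq_zero_iff, LinearEquiv.map_eq_zero_iff, Submodule.mkQ_apply,
      Submodule.Quotient.mk_eq_zero]
    constructor
    · rintro ⟨y, hy⟩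
      exact ⟨y, by rw [← htc, hy]; rfl⟩
    · rintro ⟨y, hy⟩
      exact ⟨y, Subtype.ext (by rw [htc, hy]; rfl)⟩

variable (l : List A)

/-- existence of the augmentation -/
theorem exists_aug {Q : Type u} [AddCommGroup Q] [Module A Q]
    (e : (Koszul.koszul A l).homology 0 ≃ₗ[A] Q) :
    ∃ ε : KX l 0 →ₗ[A] Q, Function.Surjective ε ∧ Function.Exact (Kd l 0) ε := by
  obtain ⟨e1⟩ := homology_equiv (Koszul.koszul A l) (-((0 + 1 : ℕ) : ℤ)) (-((0 : ℕ) : ℤ)) 1
    (by norm_num) (by norm_num)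
  haveI hs : Subsingleton ((Koszul.koszul A l).X 1) := koszul_X_pos l 1 one_pos
  exact aug_of_equiv (Kd l 0) ((Koszul.koszul A l).d (-((0 : ℕ) : ℤ)) 1).hom
    (fun x => Subsingleton.elim _ _) _ (fun x => rfl) e1 e

end Groth.Agent.H19.TorKos
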