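import Mathlib
import Groth.Agent.H19.TorKos3

set_option autoImplicit false
universe u

namespace Groth.Agent.H19.TorKos

open CategoryTheory CategoryTheory.Limits CochainComplex HomologicalComplex MonoidalCategory
open Groth.Agent.H19.Kos TensorProduct Groth.Agent.H13.TorBC

variable {A : Type u} [CommRing A] (l : List A)

theorem subsingleton_tensor_left (X M : Type u) [AddCommGroup X] [Module A X] [AddCommGroup M]
    [Module A M] [Subsingleton X] : Subsingleton (X ⊗[A] M) := by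
  refine ⟨fun a b => ?_⟩
  have h0 : ∀ z : X ⊗[A] M, z = 0 := by
    intro z
    induction z using TensorProduct.induction_on with
    | zero => rfl
    | tmul x m => rw [Subsingleton.elim x 0, TensorProduct.zero_tmul]
    | add x y hx hy => rw [hx, hy, add_zero]
  rw [h0 a, h0 b]

theorem KH_equiv_tor_succ (hv : ∀ n : ℤ, n ≠ 0 → Subsingleton ((Koszul.koszul A l).homology n))
    {Q : Type u} [AddCommGroup Q] [Module A Q]
    (e : (Koszul.koszul A l).homology 0 ≃ₗ[A] Q) (M : Type u) [AddCommGroup M] [Module A M]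
    (m : ℕ) : Nonempty (KH l M (-((m + 1 : ℕ) : ℤ)) ≃ₗ[A] DRing.Tor A (m + 1) Q M) := by
  obtain ⟨ε, hε, h0⟩ := exists_aug l e
  haveI : ∀ n, Module.Flat A (KX l n) := fun n => flat_KX l n
  let π := (Kd l m).rangeRestrict
  let ι := (LinearMap.range (Kd l m)).subtype
  have hπ : Function.Surjective π := LinearMap.surjective_rangeRestrict _
  have hι : Function.Injective ι := Submodule.injective_subtype _
  obtain ⟨e1⟩ := tor_succ_equiv₁ (M := Q) (N := M) (KX l) (Kd l) ε hε h0 (Kd_exact l hv) m π ι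
    hπ hι rfl
  have hex : Function.Exact (Kd l (m + 1)) π := by
    intro x
    rw [← (Kd_exact l hv m) x]
    constructor
    · intro h
      have : ι (π x) = 0 := by rw [h, map_zero]
      exact this
    · intro h
      apply hι
      rw [map_zero]
      exact h
  obtain ⟨e2⟩ := homology_equiv_ker (KC l M) (-((m + 1 + 1 : ℕ) : ℤ)) (-((m + 1 : ℕ) : ℤ))
    (-(m : ℤ)) (by push_cast; ring) (by push_cast; ring)
    (W := ↥(LinearMap.range (Kd l m)) ⊗[A] M)
    (LinearMap.rTensor M π) (LinearMap.rTensor M ι)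
    (LinearMap.rTensor_surjective M hπ)
    ((congrArg (LinearMap.rTensor M) (rfl : Kd l m = ι ∘ₗ π)).trans
      (LinearMap.rTensor_comp M ι π))
    (rTensor_exact M hex hπ)
  exact ⟨e2.trans e1.symm⟩

theorem KH_equiv_tor_zero
    {Q : Type u} [AddCommGroup Q] [Module A Q]
    (e : (Koszul.koszul A l).homology 0 ≃ₗ[A] Q) (M : Type u) [AddCommGroup M] [Module A M] :
    Nonempty (KH l M (-((0 : ℕ) : ℤ)) ≃ₗ[A] DRing.Tor A 0 Q M) := by
  obtain ⟨ε, hε, h0⟩ := exists_aug l e
  obtain ⟨e1⟩ := tor_zero_equiv (R := A) (M := Q) (N := M)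
  haveI hs : Subsingleton ((Koszul.koszul A l).X 1) := koszul_X_pos l 1 one_pos
  haveI hs' : Subsingleton (↑((Koszul.koszul A l).X 1) ⊗[A] M) := subsingleton_tensor_left _ _
  obtain ⟨e2⟩ := homology_equiv_ker (KC l M) (-((0 + 1 : ℕ) : ℤ)) (-((0 : ℕ) : ℤ))
    1 (by norm_num) (by norm_num)
    (W := Q ⊗[A] M)
    (LinearMap.rTensor M ε) (0 : Q ⊗[A] M →ₗ[A] ↑((Koszul.koszul A l).X 1) ⊗[A] M)
    (LinearMap.rTensor_surjective M hε)
    (LinearMap.ext fun x => @Subsingleton.elim _ hs' _ _)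
    (rTensor_exact M h0 hε)
  have e3 : LinearMap.ker (0 : Q ⊗[A] M →ₗ[A] ↑((Koszul.koszul A l).X 1) ⊗[A] M) ≃ₗ[A] Q ⊗[A] M :=
    (LinearEquiv.ofEq _ _ LinearMap.ker_zero).trans Submodule.topEquiv
  exact ⟨(e2.trans e3).trans e1.symm⟩

theorem KH_equiv_tor (hv : ∀ n : ℤ, n ≠ 0 → Subsingleton ((Koszul.koszul A l).homology n))
    {Q : Type u} [AddCommGroup Q] [Module A Q]
    (e : (Koszul.koszul A l).homology 0 ≃ₗ[A] Q) (M : Type u) [AddCommGroup M] [Module A M]
    (i : ℕ) : Nonempty (KH l M (-(i : ℤ)) ≃ₗ[A] DRing.Tor A i Q M) := by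
  cases i with
  | zero => exact KH_equiv_tor_zero l e M
  | succ m => exact KH_equiv_tor_succ l hv e M m

end Groth.Agent.H19.TorKos
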