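import Mathlib
import Groth.Agent.H19.TorKos4
import Groth.Agent.H19.SerreChi3
import Groth.Agent.H19.AssocS1833
import Groth.Prelude.Def_IntMult

set_option autoImplicit false
universe u

namespace Groth.Agent.H19.TorKos

open CategoryTheory CategoryTheory.Limits CochainComplex HomologicalComplex MonoidalCategory
open Groth.Agent.H19.Kos TensorProduct Groth.Agent.H19.Samuel

variable {A : Type u} [CommRing A]

theorem finsum_int_eq_nat (F : ℤ → ℤ) (hF : ∀ n : ℤ, 0 < n → F n = 0) :
    ∑ᶠ n : ℤ, F n = ∑ᶠ i : ℕ, F (-(i : ℤ)) := by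
  have hinj : Function.Injective (fun i : ℕ => -(i : ℤ)) := by
    intro a b h
    simp only [neg_inj] at h
    exact_mod_cast h
  rw [← finsum_mem_range (f := F) hinj, ← finsum_mem_univ (f := F)]
  apply finsum_mem_inter_support_eq
  ext n
  simp only [Set.mem_inter_iff, Set.mem_univ, true_and, Set.mem_range, Function.mem_support]
  constructor
  · intro h
    refine ⟨⟨(-n).toNat, ?_⟩, h⟩
    have : n ≤ 0 := by
      by_contra hcon
      push Not at hcon
      exact h (hF n hcon)
    rw [Int.toNat_of_nonneg (by omega)]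
    ring
  · exact fun h => h.2

theorem chi_eq (l : List A) (hl : RingTheory.Sequence.IsWeaklyRegular A l)
    (M : Type u) [AddCommGroup M] [Module A M] :
    (∑ᶠ i : ℤ, ((i.negOnePow : ℤˣ) : ℤ) * ((Module.length A ((DRing.tensorCx (Koszul.koszul A l)
      (ModuleCat.of A M)).homology i)).toNat : ℤ)) = IntMult.chi A (A ⧸ Ideal.ofList l) M := by
  obtain ⟨hkr, ⟨e⟩⟩ := Groth.Agent.S15821.result A l hl
  have hv : ∀ n : ℤ, n ≠ 0 → Subsingleton ((Koszul.koszul A l).homology n) :=
    fun n hn => ModuleCat.subsingleton_of_isZero (hkr n hn)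
  rw [finsum_int_eq_nat]
  · unfold IntMult.chi
    apply finsum_congr
    intro i
    obtain ⟨ei⟩ := KH_equiv_tor l hv e.toLinearEquiv M i
    have h1 : Module.length A ((DRing.tensorCx (Koszul.koszul A l)
        (ModuleCat.of A M)).homology (-(i : ℤ))) =
        Module.length A (DRing.Tor A i (A ⧸ Ideal.ofList l) M) := ei.length_eq
    rw [h1, Int.negOnePow_neg, Int.coe_negOnePow_natCast]
  · intro n hn
    haveI : Subsingleton (KH l M n) := KH_subsingleton M l n (Or.inl hn)
    have h0 : Module.length A (KH l M n) = 0 := by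
      rw [Module.length_eq_zero_iff]; infer_instance
    have h0' : Module.length A ((DRing.tensorCx (Koszul.koszul A l)
        (ModuleCat.of A M)).homology n) = 0 := h0
    rw [h0']
    simp

theorem main_S1914 (A : Type u) [CommRing A] [IsNoetherianRing A] [IsLocalRing A] (c : ℕ)
    (g : Fin c → A) (hreg : RingTheory.Sequence.IsRegular A (List.ofFn g)) (M : Type u)
    [AddCommGroup M] [Module A M] [Module.Finite A M]
    (h0 : Module.supportDim A (M ⧸ (Ideal.span (Set.range g) • (⊤ : Submodule A M))) ≤ 0) :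
    Filter.Tendsto (fun t : ℕ => (c.factorial : ℝ) * ((Module.length A (M ⧸ (Ideal.span (Set.range g) ^ t • (⊤ : Submodule A M)))).toNat : ℝ) / (t : ℝ) ^ c) Filter.atTop (nhds (IntMult.chi A (A ⧸ Ideal.span (Set.range g)) M : ℝ)) := by
  have hfl : IsFiniteLength A (M ⧸ (Ideal.span (Set.range g) • (⊤ : Submodule A M))) :=
    Groth.Agent.H19.AssocOne.isFiniteLength_of_supportDim_le_zero _ h0
  have hA : Adm (List.ofFn g) M := adm_ofFn g M hfl
  have h := lim_ofFn g M hA
  rw [chi_eq (List.ofFn g) hreg.toIsWeaklyRegular M, ofList_ofFn] at h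
  exact h

end Groth.Agent.H19.TorKos
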