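import Mathlib
import Groth.Agent.H19.TorNat
import Groth.Agent.H19.TorZero
import Groth.Agent.H19.FlatCech

/-!
# Purity, Tor and splitting
-/

set_option autoImplicit false
universe u

namespace Groth.Agent.H19.TorPure

open CategoryTheory CategoryTheory.Limits TensorProduct Function
open Groth.Agent.H19.TorFirst

section split

variable {R : Type u} [CommRing R]

theorem piScalarRight_lTensor_mulVecLin (X : Type u) [AddCommGroup X] [Module R X] {m n : ℕ}
    (a : Fin m → Fin n → R) (ω : X ⊗[R] (Fin n → R)) :
    TensorProduct.piScalarRight R R X (Fin m) ((Matrix.mulVecLin (Matrix.of a)).lTensor X ω) =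
      fun i => ∑ j, a i j • (TensorProduct.piScalarRight R R X (Fin n) ω) j := by
  induction ω using TensorProduct.induction_on with
  | zero =>
    ext i
    simp
  | tmul x v =>
    ext i
    simp [Matrix.mulVec, dotProduct, Finset.sum_smul, mul_smul]
  | add ω ω' h h' =>
    rw [map_add, map_add, h, h']
    ext i
    simp [Finset.sum_add_distrib, smul_add]

theorem piScalarRight_rTensor {K E : Type u} [AddCommGroup K] [Module R K] [AddCommGroup E]
    [Module R E] (ι : K →ₗ[R] E) (k : ℕ) (t : K ⊗[R] (Fin k → R)) :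
    TensorProduct.piScalarRight R R E (Fin k) (ι.rTensor _ t) =
      fun i => ι (TensorProduct.piScalarRight R R K (Fin k) t i) := by
  induction t using TensorProduct.induction_on with
  | zero =>
    ext i
    simp
  | tmul x v =>
    ext i
    simp
  | add ω ω' h h' =>
    rw [map_add, map_add, h, h']
    ext i
    simp

/-- a pure short exact sequence with finitely presented cokernel splits. -/
theorem exists_section_of_pure {K E M : Type u} [AddCommGroup K] [Module R K]
    [AddCommGroup E] [Module R E] [AddCommGroup M] [Module R M] [Module.FinitePresentation R M]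
    (ι : K →ₗ[R] E) (p : E →ₗ[R] M) (hex : Function.Exact ι p) (hp : Surjective p)
    (hpure : ∀ (N : Type u) [AddCommGroup N] [Module R N], Injective (ι.rTensor N)) :
    ∃ s : M →ₗ[R] E, p ∘ₗ s = LinearMap.id := by
  obtain ⟨n, m, f, g, hf, hgf⟩ := Module.FinitePresentation.exists_fin' R M
  let a : Fin m → Fin n → R := fun i => g (Pi.single i 1)
  let 𝔸 : (Fin n → R) →ₗ[R] (Fin m → R) := Matrix.mulVecLin (Matrix.of a)
  choose y hy using fun j => hp (f (Pi.single j 1))
  have hPQ : p ∘ₗ Fintype.linearCombination R y = f := by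
    apply LinearMap.pi_ext'
    intro j
    ext
    simp [Fintype.linearCombination_apply_single, hy]
  let z : Fin m → E := fun i => ∑ j, a i j • y j
  have hz : ∀ i, p (z i) = 0 := by
    intro i
    have h1 : z i = Fintype.linearCombination R y (a i) := by
      simp [z, Fintype.linearCombination_apply]
    rw [h1, ← LinearMap.comp_apply, hPQ]
    exact hgf.apply_apply_eq_zero _
  choose k hk using fun i => (hex (z i)).1 (hz i)
  -- the test module
  let ζ' : K ⊗[R] (Fin m → R) := (TensorProduct.piScalarRight R R K (Fin m)).symm k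
  have hζ : (ι.rTensor ((Fin m → R) ⧸ LinearMap.range 𝔸))
      ((LinearMap.range 𝔸).mkQ.lTensor K ζ') = 0 := by
    have h1 : (ι.rTensor ((Fin m → R) ⧸ LinearMap.range 𝔸))
        ((LinearMap.range 𝔸).mkQ.lTensor K ζ') =
        (LinearMap.range 𝔸).mkQ.lTensor E (ι.rTensor (Fin m → R) ζ') := by
      rw [← LinearMap.comp_apply, ← LinearMap.comp_apply, LinearMap.rTensor_comp_lTensor,
        LinearMap.lTensor_comp_rTensor]
    have h2 : ι.rTensor (Fin m → R) ζ' =
        𝔸.lTensor E ((TensorProduct.piScalarRight R R E (Fin n)).symm y) := by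
      apply (TensorProduct.piScalarRight R R E (Fin m)).injective
      rw [piScalarRight_rTensor, piScalarRight_lTensor_mulVecLin]
      ext i
      simp only [ζ', LinearEquiv.apply_symm_apply]
      exact hk i
    rw [h1, h2, ← LinearMap.comp_apply, ← LinearMap.lTensor_comp]
    have h3 : (LinearMap.range 𝔸).mkQ ∘ₗ 𝔸 = 0 := by
      apply LinearMap.ext
      intro v
      exact (Submodule.Quotient.mk_eq_zero _).2 ⟨v, rfl⟩
    rw [h3, LinearMap.lTensor_zero, LinearMap.zero_apply]
  have hζ0 : (LinearMap.range 𝔸).mkQ.lTensor K ζ' = 0 :=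
    hpure _ (hζ.trans (map_zero _).symm)
  obtain ⟨ω, hω⟩ := (lTensor_exact K (LinearMap.exact_map_mkQ_range 𝔸)
    (Submodule.mkQ_surjective _) ζ').1 hζ0
  let w : Fin n → K := TensorProduct.piScalarRight R R K (Fin n) ω
  have hkw : ∀ i, k i = ∑ j, a i j • w j := by
    intro i
    have h1 := piScalarRight_lTensor_mulVecLin K a ω
    rw [show (Matrix.mulVecLin (Matrix.of a)).lTensor K ω = ζ' from hω] at h1
    simp only [ζ', LinearEquiv.apply_symm_apply] at h1
    exact congrFun h1 i
  -- the section
  let s' : (Fin n → R) →ₗ[R] E := Fintype.linearCombination R (fun j => y j - ι (w j))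
  have hs'g : s' ∘ₗ g = 0 := by
    apply LinearMap.pi_ext'
    intro i
    ext
    simp only [LinearMap.coe_comp, LinearMap.coe_single, Function.comp_apply, LinearMap.zero_comp,
      LinearMap.zero_apply, s', Fintype.linearCombination_apply]
    show ∑ j, a i j • (y j - ι (w j)) = 0
    simp only [smul_sub, Finset.sum_sub_distrib]
    rw [sub_eq_zero]
    show z i = _
    rw [← hk i, hkw i, map_sum]
    simp
  have hps' : p ∘ₗ s' = f := by
    apply LinearMap.pi_ext'
    intro j
    ext
    have h0 : p (ι (w j)) = 0 := hex.apply_apply_eq_zero _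
    simp [s', Fintype.linearCombination_apply_single, hy, h0]
  -- descend along f
  have hker : LinearMap.ker f ≤ LinearMap.ker s' := by
    intro v hv
    obtain ⟨u, rfl⟩ := (hgf v).1 hv
    exact LinearMap.congr_fun hs'g u
  let e := LinearMap.quotKerEquivOfSurjective f hf
  refine ⟨(LinearMap.ker f).liftQ s' hker ∘ₗ e.symm.toLinearMap, ?_⟩
  ext x
  obtain ⟨v, rfl⟩ := hf x
  have h1 : e.symm (f v) = (LinearMap.ker f).mkQ v := by
    rw [LinearEquiv.symm_apply_eq]
    rfl
  simp only [LinearMap.coe_comp, LinearEquiv.coe_coe, Function.comp_apply, LinearMap.id_coe, id_eq]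
  rw [h1]
  show p (s' v) = f v
  rw [← LinearMap.comp_apply, hps']

end split


section tor

variable {R : Type u} [CommRing R]

/-- injectivity of `S.f ⊗ N` when the connecting map vanishes. -/
theorem rTensor_injective_of_δ_zero (S : ShortComplex (ModuleCat.{u} R)) (hS : S.ShortExact)
    (N : ModuleCat.{u} R) (h : δ S hS N 0 = 0) : Injective (S.f.hom.rTensor N) := by
  have hmono : Mono (((Tor (ModuleCat.{u} R) 0).map S.f).app N) := (exact₁ S hS N 0).mono_g h
  rw [ModuleCat.mono_iff_injective] at hmono
  intro t t' htt'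
  obtain ⟨y, rfl⟩ := (Groth.Agent.H19.TorZero.tor0Iso_bijective S.X₁ N).2 t
  obtain ⟨y', rfl⟩ := (Groth.Agent.H19.TorZero.tor0Iso_bijective S.X₁ N).2 t'
  have h1 := Groth.Agent.H19.TorZero.tor0Iso_naturality_apply S.f N y
  have h1' := Groth.Agent.H19.TorZero.tor0Iso_naturality_apply S.f N y'
  have h2 := h1.trans (htt'.trans h1'.symm)
  rw [hmono ((Groth.Agent.H19.TorZero.tor0Iso_bijective S.X₂ N).1 h2)]

section pullback

variable {F M M' : Type u} [AddCommGroup F] [Module R F] [AddCommGroup M] [Module R M]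
  [AddCommGroup M'] [Module R M'] (π : F →ₗ[R] M') (α : M →ₗ[R] M')

/-- the pullback of `π` and `α`. -/
def pb : Submodule R (F × M) :=
  LinearMap.eqLocus (π ∘ₗ LinearMap.fst R F M) (α ∘ₗ LinearMap.snd R F M)

/-- second projection. -/
def pbSnd : pb π α →ₗ[R] M := LinearMap.snd R F M ∘ₗ (pb π α).subtype

/-- first projection. -/
def pbFst : pb π α →ₗ[R] F := LinearMap.fst R F M ∘ₗ (pb π α).subtype

theorem pb_comm : π ∘ₗ pbFst π α = α ∘ₗ pbSnd π α := by
  ext x
  exact x.2

/-- the kernel of `π` inside the pullback. -/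
def pbKer : LinearMap.ker π →ₗ[R] pb π α :=
  LinearMap.codRestrict (pb π α) (LinearMap.inl R F M ∘ₗ (LinearMap.ker π).subtype)
    (fun k => by
      show π k.1 = α 0
      rw [map_zero]
      exact k.2)

theorem pbFst_pbKer (k : LinearMap.ker π) : pbFst π α (pbKer π α k) = k.1 := rfl

theorem pb_exact : Function.Exact (pbKer π α) (pbSnd π α) := by
  intro x
  constructor
  · intro hx
    have hx2 : x.1.2 = 0 := hx
    have hx1 : π x.1.1 = 0 := by
      have h3 : π x.1.1 = α x.1.2 := x.2
      rw [h3, hx2, map_zero]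
    exact ⟨⟨x.1.1, hx1⟩, Subtype.ext (Prod.ext rfl hx2.symm)⟩
  · rintro ⟨k, rfl⟩
    rfl

theorem pbKer_injective : Injective (pbKer π α) := by
  intro k k' hkk'
  exact Subtype.ext (congrArg (fun x : pb π α => x.1.1) hkk')

theorem pbSnd_surjective (hπ : Surjective π) : Surjective (pbSnd π α) := by
  intro x
  obtain ⟨y, hy⟩ := hπ (α x)
  exact ⟨⟨(y, x), hy⟩, rfl⟩

end pullback

/-- a map from a finitely presented module inducing zero on all `Tor_1(-, N)` factors through
any surjection onto the target. -/
theorem factors_of_tor_one_map_zero {F M M' : Type u} [AddCommGroup F] [Module R F]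
    [AddCommGroup M] [Module R M]
    [Module.FinitePresentation R M] [AddCommGroup M'] [Module R M'] (α : M →ₗ[R] M')
    (π : F →ₗ[R] M') (hπ : Surjective π)
    (h : ∀ (N : Type u) [AddCommGroup N] [Module R N],
      ((Tor (ModuleCat.{u} R) 1).map (ModuleCat.ofHom α)).app (ModuleCat.of R N) = 0) :
    ∃ g : M →ₗ[R] F, α = π ∘ₗ g := by
  have hSE := Groth.Agent.H19.FlatCech.scOf_shortExact (pbKer π α) (pbSnd π α) (pb_exact π α)
    (pbKer_injective π α) (pbSnd_surjective π α hπ)
  have hexF : Function.Exact (LinearMap.ker π).subtype π := LinearMap.exact_subtype_ker_map π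
  have hSF := Groth.Agent.H19.FlatCech.scOf_shortExact (LinearMap.ker π).subtype π hexF
    (LinearMap.ker π).injective_subtype hπ
  let φ : Groth.Agent.H19.FlatCech.scOf (pbKer π α) (pbSnd π α) (pb_exact π α) ⟶
      Groth.Agent.H19.FlatCech.scOf (LinearMap.ker π).subtype π hexF :=
    ShortComplex.homMk (𝟙 _) (ModuleCat.ofHom (pbFst π α)) (ModuleCat.ofHom α)
      (by
        apply ModuleCat.hom_ext
        apply LinearMap.ext
        intro k
        rfl)
      (by
        apply ModuleCat.hom_ext
        apply LinearMap.ext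
        intro x
        exact LinearMap.congr_fun (pb_comm π α) x)
  have hpure : ∀ (N : Type u) [AddCommGroup N] [Module R N],
      Injective ((pbKer π α).rTensor N) := by
    intro N _ _
    have hnat := Groth.Agent.H19.TorNat.δ_naturality_sc hSE hSF φ (ModuleCat.of R N) 0
    have h0 : δ _ hSE (ModuleCat.of R N) 0 = 0 := by
      have h1 : ((Tor (ModuleCat.{u} R) 0).map φ.τ₁).app (ModuleCat.of R N) = 𝟙 _ := by
        show ((Tor (ModuleCat.{u} R) 0).map (𝟙 _)).app _ = _
        rw [CategoryTheory.Functor.map_id]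
        rfl
      rw [h1, Category.comp_id] at hnat
      rw [hnat]
      show ((Tor (ModuleCat.{u} R) 1).map (ModuleCat.ofHom α)).app _ ≫ _ = 0
      rw [h N, zero_comp]
    exact rTensor_injective_of_δ_zero _ hSE (ModuleCat.of R N) h0
  obtain ⟨s, hs⟩ := exists_section_of_pure (pbKer π α) (pbSnd π α) (pb_exact π α)
    (pbSnd_surjective π α hπ) hpure
  refine ⟨pbFst π α ∘ₗ s, ?_⟩
  rw [← LinearMap.comp_assoc, pb_comm, LinearMap.comp_assoc, hs, LinearMap.comp_id]

end tor

end Groth.Agent.H19.TorPure
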