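import Groth.Agent.H19.WeilCohPt
import Mathlib

set_option autoImplicit false
universe u v
open CategoryTheory AlgebraicGeometry Limits

namespace Groth.Agent.H19.WeilCohGraph

open Groth.Agent.H19.WeilCohPt Groth.Agent.H19.WeilCohLib

variable {k : Type u} [Field k] [IsAlgClosed k] {K : Type v} [Field K] [CharZero K]
variable (T : WeilCoh.Theory k K)

theorem exists_top (X : WeilCoh.Var k) :
    ∃ t : T.H X, t ∈ T.gr X (2 * (WeilCoh.dim X.obj.left : ℤ)) ∧ T.tr X t = 1 := by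
  obtain ⟨t, ht⟩ := (T.tr_bijective X).2 1
  exact ⟨t.1, t.2, ht⟩

theorem pull_comp_apply {X Y Z : WeilCoh.Var k} (f : X ⟶ Y) (g : Y ⟶ Z) (a : T.H Z) :
    T.pull f (T.pull g a) = T.pull (f ≫ g) a := by
  rw [T.pull_comp]; rfl

theorem pull_id_apply {X : WeilCoh.Var k} (a : T.H X) : T.pull (𝟙 X) a = a := by
  rw [T.pull_id]; rfl

include T in
theorem dim_prod {X Y P : WeilCoh.Var k} (p : P ⟶ X) (q : P ⟶ Y) (hP : WeilCoh.IsProd p q) :
    2 * (WeilCoh.dim X.obj.left : ℤ) + 2 * (WeilCoh.dim Y.obj.left : ℤ) =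
      2 * (WeilCoh.dim P.obj.left : ℤ) := by
  obtain ⟨tX, htX, htX1⟩ := exists_top T X
  obtain ⟨tY, htY, htY1⟩ := exists_top T Y
  have h1 := T.tr_prod p q hP tX tY htX htY
  rw [htX1, htY1, mul_one] at h1
  have hmem : T.pull p tX * T.pull q tY ∈
      T.gr P (2 * (WeilCoh.dim X.obj.left : ℤ) + 2 * (WeilCoh.dim Y.obj.left : ℤ)) :=
    SetLike.mul_mem_graded (T.pull_mem p _ _ htX) (T.pull_mem q _ _ htY)
  by_contra hne
  have := T.tr_vanish P _ _ hmem hne
  rw [h1] at this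
  exact one_ne_zero this

/-- (★) -/
theorem graph_tr {X P : WeilCoh.Var k} [IrreducibleSpace ↥X.obj.left] (j : X ⟶ P) (p : P ⟶ X)
    (hjp : j ≫ p = 𝟙 X) (a : T.H P) (ha : a ∈ T.gr P (2 * (WeilCoh.dim X.obj.left : ℤ))) :
    T.tr P (T.cl P (WeilCoh.sm j (genericPoint ↥X.obj.left)) * a) = T.tr X (T.pull j a) := by
  have h := T.cl_push j (genericPoint ↥X.obj.left) a (by rw [pdim_generic]; exact ha)
  have hsec : WeilCoh.sm j ≫ WeilCoh.sm p = 𝟙 _ := by
    have := congrArg (fun φ ↦ φ.hom.left) hjp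
    exact this
  rw [cl_generic, one_mul, residueDegree_of_section _ _ hsec, Nat.cast_one, one_mul] at h
  exact h.symm

include T in
theorem graph_codim {X P : WeilCoh.Var k} [IrreducibleSpace ↥X.obj.left] (j : X ⟶ P) (p : P ⟶ X)
    (hjp : j ≫ p = 𝟙 X) :
    2 * (WeilCoh.codim P.obj.left (WeilCoh.sm j (genericPoint ↥X.obj.left)) : ℤ) +
      2 * (WeilCoh.dim X.obj.left : ℤ) = 2 * (WeilCoh.dim P.obj.left : ℤ) := by
  obtain ⟨t, ht, ht1⟩ := exists_top T X
  have h := graph_tr T j p hjp (T.pull p t) (T.pull_mem p _ _ ht)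
  rw [pull_comp_apply, hjp, pull_id_apply, ht1] at h
  have hmem : T.cl P (WeilCoh.sm j (genericPoint ↥X.obj.left)) * T.pull p t ∈ T.gr P
      (2 * (WeilCoh.codim P.obj.left (WeilCoh.sm j (genericPoint ↥X.obj.left)) : ℤ) +
        2 * (WeilCoh.dim X.obj.left : ℤ)) :=
    SetLike.mul_mem_graded (T.cl_mem P _) (T.pull_mem p _ _ ht)
  by_contra hne
  have := T.tr_vanish P _ _ hmem hne
  rw [h] at this
  exact one_ne_zero this

theorem push_graph (X Y P : WeilCoh.Var k)
    [IrreducibleSpace ↥X.obj.left] (f : X ⟶ Y) (p : P ⟶ X) (q : P ⟶ Y)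
    (j : X ⟶ P) (hjp : j ≫ p = 𝟙 X) (hjq : j ≫ q = f)
    (i : ℤ) (β : ↥(T.gr Y i)) :
    (T.push p (2 * (WeilCoh.codim P.obj.left (WeilCoh.sm j (genericPoint ↥X.obj.left)) : ℤ) + i)
        ⟨T.cl P (WeilCoh.sm j (genericPoint ↥X.obj.left)) * T.pull q (β : T.H Y),
          SetLike.mul_mem_graded (T.cl_mem P (WeilCoh.sm j (genericPoint ↥X.obj.left)))
            (T.pull_mem q i β β.2)⟩ : T.H X) = T.pull f (β : T.H Y) := by
  have hc := graph_codim T j p hjp
  refine eq_of_tr_mul_eq T X i (2 * (WeilCoh.dim X.obj.left : ℤ) - i) (by ring) _ _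
    (mem_gr_of_eq T X (by omega) (Subtype.property _)) (T.pull_mem f i β β.2) ?_
  intro b hb
  rw [push_spec T p _ _ b (mem_gr_of_eq T X (by omega) hb)]
  simp only []
  rw [mul_assoc, graph_tr T j p hjp _ (mem_gr_of_eq T P (by ring)
    (SetLike.mul_mem_graded (T.pull_mem q i β β.2) (T.pull_mem p _ b hb))),
    map_mul, pull_comp_apply, pull_comp_apply, hjp, hjq, pull_id_apply]

theorem gr_neg_eq_zero (X : WeilCoh.Var k) {s : ℤ} (hs : s < 0) {a : T.H X} (ha : a ∈ T.gr X s) :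
    a = 0 := by
  have := T.vanish X s (Or.inl hs)
  rw [this] at ha
  exact (Submodule.mem_bot K).1 ha

theorem gr_big_eq_zero (X : WeilCoh.Var k) {s : ℤ} (hs : 2 * (WeilCoh.dim X.obj.left : ℤ) < s)
    {a : T.H X} (ha : a ∈ T.gr X s) : a = 0 := by
  have := T.vanish X s (Or.inr hs)
  rw [this] at ha
  exact (Submodule.mem_bot K).1 ha

/-- induction principle: a property of elements of `H X` closed under sums that holds for
homogeneous elements of natural degree holds for all. -/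
theorem homog_induction (X : WeilCoh.Var k) (motive : T.H X → Prop)
    (h0 : motive 0) (hadd : ∀ a b, motive a → motive b → motive (a + b))
    (hhom : ∀ (s : ℕ) (a : T.H X), a ∈ T.gr X (s : ℤ) → motive a) (a : T.H X) : motive a := by
  have ha : a ∈ ⨆ s, T.gr X s := by
    rw [(T.decomp X).submodule_iSup_eq_top]; trivial
  refine Submodule.iSup_induction (T.gr X) (motive := motive) ha ?_ h0 hadd
  intro s a ha
  by_cases hs : s < 0
  · rw [gr_neg_eq_zero T X hs ha]; exact h0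
  · obtain ⟨s', rfl⟩ : ∃ s' : ℕ, s = (s' : ℤ) := ⟨s.toNat, by omega⟩
    exact hhom s' a ha

theorem kunneth_ext {X Y P : WeilCoh.Var k} (p : P ⟶ X) (q : P ⟶ Y) (hP : WeilCoh.IsProd p q)
    (F G : T.H P →ₗ[K] K)
    (h : ∀ (s t : ℕ) (a : T.H X) (b : T.H Y), a ∈ T.gr X (s : ℤ) → b ∈ T.gr Y (t : ℤ) →
      F (T.pull p a * T.pull q b) = G (T.pull p a * T.pull q b)) : F = G := by
  apply LinearMap.ext
  intro c
  obtain ⟨z, rfl⟩ := (T.kunneth p q hP).2 c
  induction z using TensorProduct.induction_on with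
  | zero => simp
  | add x y hx hy => simp [map_add, hx, hy]
  | tmul a b =>
    have hk : WeilCoh.kunnethMap K (T.pull p) (T.pull q) (a ⊗ₜ[K] b) = T.pull p a * T.pull q b := by
      simp [WeilCoh.kunnethMap]
    rw [hk]
    refine homog_induction T X (fun a ↦ F (T.pull p a * T.pull q b) = G (T.pull p a * T.pull q b))
      (by simp) (fun a a' h1 h2 ↦ by simp [map_add, add_mul, h1, h2]) ?_ a
    intro s a ha
    refine homog_induction T Y (fun b ↦ F (T.pull p a * T.pull q b) = G (T.pull p a * T.pull q b))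
      (by simp) (fun b b' h1 h2 ↦ by simp [map_add, mul_add, h1, h2]) ?_ b
    intro t b hb
    exact h s t a b ha hb

/-- Lemma A: the sign rule in the Künneth product. -/
theorem kunneth_mul {X Y P : WeilCoh.Var k} (p : P ⟶ X) (q : P ⟶ Y)
    (u a : T.H X) (v b : T.H Y) (m s : ℕ) (hv : v ∈ T.gr Y (m : ℤ)) (ha : a ∈ T.gr X (s : ℤ)) :
    (T.pull p u * T.pull q v) * (T.pull p a * T.pull q b) =
      ((-1 : K) ^ (m * s)) • (T.pull p (u * a) * T.pull q (v * b)) := by
  have hc := T.gradedComm P (m : ℤ) (s : ℤ) (T.pull q v) (T.pull p a) (T.pull_mem q _ _ hv)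
    (T.pull_mem p _ _ ha)
  simp only [Int.natAbs_natCast] at hc
  calc (T.pull p u * T.pull q v) * (T.pull p a * T.pull q b)
      = T.pull p u * (T.pull q v * T.pull p a) * T.pull q b := by simp only [mul_assoc]
    _ = ((-1 : K) ^ (m * s)) • (T.pull p u * T.pull p a * (T.pull q v * T.pull q b)) := by
        rw [hc, mul_smul_comm, smul_mul_assoc]
        simp only [mul_assoc]
    _ = _ := by rw [map_mul, map_mul]

/-- Lemma B. -/
theorem tr_kunneth {X Y P : WeilCoh.Var k} (p : P ⟶ X) (q : P ⟶ Y) (hP : WeilCoh.IsProd p q)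
    (u : T.H X) (v : T.H Y) (m₁ m₂ : ℤ) (hu : u ∈ T.gr X m₁) (hv : v ∈ T.gr Y m₂)
    (hm : m₁ + m₂ = 2 * (WeilCoh.dim X.obj.left : ℤ) + 2 * (WeilCoh.dim Y.obj.left : ℤ)) :
    T.tr P (T.pull p u * T.pull q v) = T.tr X u * T.tr Y v := by
  by_cases h1 : m₁ = 2 * (WeilCoh.dim X.obj.left : ℤ)
  · have h2 : m₂ = 2 * (WeilCoh.dim Y.obj.left : ℤ) := by omega
    subst h1 h2
    exact T.tr_prod p q hP u v hu hv
  · rcases lt_or_gt_of_ne h1 with h | h
    · have : v = 0 := gr_big_eq_zero T Y (by omega) hv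
      subst this
      simp
    · have : u = 0 := gr_big_eq_zero T X h hu
      subst this
      simp

/-- dual-basis expansion of the trace pairing -/
theorem tr_dual_expand (X : WeilCoh.Var k) (t : ℕ) {ι : Type} [Fintype ι] [DecidableEq ι]
    (e : Module.Basis ι K ↥(T.gr X (t : ℤ)))
    (f : ι → ↥(T.gr X (2 * (WeilCoh.dim X.obj.left : ℤ) - t)))
    (hef : ∀ i l : ι, T.tr X ((f l : T.H X) * (e i : T.H X)) = if i = l then 1 else 0)
    (b : T.H X) (hb : b ∈ T.gr X (t : ℤ)) (L : T.H X →ₗ[K] K) :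
    ∑ i, L (e i : T.H X) * T.tr X ((f i : T.H X) * b) = L b := by
  have hb' : b = ∑ l, (e.repr ⟨b, hb⟩ l) • (e l : T.H X) := by
    have := congrArg Subtype.val (e.sum_repr ⟨b, hb⟩)
    simp only [Submodule.coe_sum, Submodule.coe_smul] at this
    exact this.symm
  have h1 : ∀ i, T.tr X ((f i : T.H X) * b) = e.repr ⟨b, hb⟩ i := by
    intro i
    conv_lhs => rw [hb']
    rw [Finset.mul_sum, map_sum]
    simp only [mul_smul_comm, map_smul, smul_eq_mul, hef]
    simp
  simp only [h1]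
  conv_rhs => rw [hb']
  rw [map_sum]
  refine Finset.sum_congr rfl (fun i _ ↦ ?_)
  rw [map_smul, smul_eq_mul, mul_comm]

/-- one term of the graph-class sum paired with a Künneth generator -/
theorem term_tr {X P : WeilCoh.Var k} (φ : X ⟶ X) (p q : P ⟶ X) (hP : WeilCoh.IsProd p q)
    (r s t : ℕ) (hr : r ≤ 2 * WeilCoh.dim X.obj.left)
    (hst : (s : ℤ) + t = 2 * (WeilCoh.dim X.obj.left : ℤ))
    (ei : T.H X) (hei : ei ∈ T.gr X (r : ℤ))
    (fi : T.H X) (hfi : fi ∈ T.gr X (2 * (WeilCoh.dim X.obj.left : ℤ) - r))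
    (a b : T.H X) (ha : a ∈ T.gr X (s : ℤ)) (hb : b ∈ T.gr X (t : ℤ)) :
    T.tr P ((T.pull p (T.pull φ ei) * T.pull q fi) * (T.pull p a * T.pull q b)) =
      ((-1 : K) ^ ((2 * WeilCoh.dim X.obj.left - r) * s)) *
        (T.tr X (T.pull φ ei * a) * T.tr X (fi * b)) := by
  have hfi' : fi ∈ T.gr X (((2 * WeilCoh.dim X.obj.left - r : ℕ)) : ℤ) :=
    mem_gr_of_eq T X (by push_cast [Nat.cast_sub hr]; ring) hfi
  rw [kunneth_mul T p q _ a fi b _ s hfi' ha, map_smul, smul_eq_mul,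
    tr_kunneth T p q hP _ _ ((r : ℤ) + s) ((2 * (WeilCoh.dim X.obj.left : ℤ) - r) + t)
      (SetLike.mul_mem_graded (T.pull_mem φ _ _ hei) ha) (SetLike.mul_mem_graded hfi hb)
      (by omega)]

theorem cl_graph_eq (X P : WeilCoh.Var k) [IrreducibleSpace ↥X.obj.left] (φ : X ⟶ X)
    (p q : P ⟶ X) (hP : WeilCoh.IsProd p q) (j : X ⟶ P) (hjp : j ≫ p = 𝟙 X) (hjq : j ≫ q = φ)
    (ι : ℕ → Type) [∀ r, Fintype (ι r)] [∀ r, DecidableEq (ι r)]
    (e : (r : ℕ) → Module.Basis (ι r) K ↥(T.gr X (r : ℤ)))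
    (f : (r : ℕ) → ι r → ↥(T.gr X (2 * (WeilCoh.dim X.obj.left : ℤ) - r)))
    (hef : ∀ r, r ≤ 2 * WeilCoh.dim X.obj.left → ∀ i l : ι r,
      T.tr X ((f r l : T.H X) * (e r i : T.H X)) = if i = l then 1 else 0) :
    T.cl P (WeilCoh.sm j (genericPoint ↥X.obj.left)) =
      ∑ r ∈ Finset.range (2 * WeilCoh.dim X.obj.left + 1), ∑ i : ι r,
        T.pull p (T.pull φ (e r i : T.H X)) * T.pull q (f r i : T.H X) := by
  have hdim := dim_prod T p q hP
  have hc := graph_codim T j p hjp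
  have hγ : T.cl P (WeilCoh.sm j (genericPoint ↥X.obj.left)) ∈
      T.gr P (2 * (WeilCoh.dim X.obj.left : ℤ)) :=
    mem_gr_of_eq T P (by omega) (T.cl_mem P _)
  have hterm : ∀ (r : ℕ) (i : ι r), T.pull p (T.pull φ (e r i : T.H X)) * T.pull q (f r i : T.H X) ∈
      T.gr P (2 * (WeilCoh.dim X.obj.left : ℤ)) := fun r i ↦
    mem_gr_of_eq T P (by ring) (SetLike.mul_mem_graded
      (T.pull_mem p _ _ (T.pull_mem φ _ _ (e r i).2)) (T.pull_mem q _ _ (f r i).2))
  have hγ' : (∑ r ∈ Finset.range (2 * WeilCoh.dim X.obj.left + 1), ∑ i : ι r,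
        T.pull p (T.pull φ (e r i : T.H X)) * T.pull q (f r i : T.H X)) ∈
      T.gr P (2 * (WeilCoh.dim X.obj.left : ℤ)) :=
    Submodule.sum_mem _ (fun r _ ↦ Submodule.sum_mem _ (fun i _ ↦ hterm r i))
  refine eq_of_tr_mul_eq T P _ _ hdim _ _ hγ hγ' ?_
  intro c _
  have hFG : (T.tr P) ∘ₗ (LinearMap.mulLeft K (T.cl P (WeilCoh.sm j (genericPoint ↥X.obj.left)))) =
      (T.tr P) ∘ₗ (LinearMap.mulLeft K (∑ r ∈ Finset.range (2 * WeilCoh.dim X.obj.left + 1),
        ∑ i : ι r, T.pull p (T.pull φ (e r i : T.H X)) * T.pull q (f r i : T.H X))) := by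
    apply kunneth_ext T p q hP
    intro s t a b ha hb
    simp only [LinearMap.coe_comp, Function.comp_apply, LinearMap.mulLeft_apply]
    by_cases hst : (s : ℤ) + t = 2 * (WeilCoh.dim X.obj.left : ℤ)
    · -- main case
      rw [graph_tr T j p hjp _ (mem_gr_of_eq T P hst
        (SetLike.mul_mem_graded (T.pull_mem p _ _ ha) (T.pull_mem q _ _ hb))),
        map_mul, pull_comp_apply, pull_comp_apply, hjp, hjq, pull_id_apply]
      rw [Finset.sum_mul, map_sum]
      have ht : t ≤ 2 * WeilCoh.dim X.obj.left := by omega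
      rw [Finset.sum_eq_single t]
      · rw [Finset.sum_mul, map_sum]
        have h1 : ∀ i : ι t, T.tr P ((T.pull p (T.pull φ (e t i : T.H X)) * T.pull q (f t i : T.H X)) *
            (T.pull p a * T.pull q b)) =
            ((-1 : K) ^ ((2 * WeilCoh.dim X.obj.left - t) * s)) *
              (T.tr X (T.pull φ (e t i : T.H X) * a) * T.tr X ((f t i : T.H X) * b)) := fun i ↦
          term_tr T φ p q hP t s t ht hst _ (e t i).2 _ (f t i).2 a b ha hb
        simp only [h1]
        rw [← Finset.mul_sum]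
        have h2 := tr_dual_expand T X t (e t) (f t) (hef t ht) b hb
          ((T.tr X) ∘ₗ (LinearMap.mulRight K a) ∘ₗ (T.pull φ).toLinearMap)
        simp only [LinearMap.coe_comp, Function.comp_apply, LinearMap.mulRight_apply,
          AlgHom.toLinearMap_apply] at h2
        rw [h2]
        have hcomm := T.gradedComm X (t : ℤ) (s : ℤ) (T.pull φ b) a (T.pull_mem φ _ _ hb) ha
        simp only [Int.natAbs_natCast] at hcomm
        rw [hcomm, map_smul, smul_eq_mul, ← mul_assoc, ← pow_add]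
        have hs2 : 2 * WeilCoh.dim X.obj.left - t = s := by omega
        rw [hs2]
        have heven : Even (s * s + t * s) := by
          have : s + t = 2 * WeilCoh.dim X.obj.left := by omega
          have h3 : s * s + t * s = (s + t) * s := by ring
          rw [h3, this]
          exact ⟨WeilCoh.dim X.obj.left * s, by ring⟩
        rw [heven.neg_one_pow, one_mul]
      · intro r hr hrt
        rw [Finset.sum_mul, map_sum]
        refine Finset.sum_eq_zero (fun i _ ↦ ?_)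
        have hr' : r ≤ 2 * WeilCoh.dim X.obj.left := by
          have := Finset.mem_range.1 hr; omega
        rw [term_tr T φ p q hP r s t hr' hst _ (e r i).2 _ (f r i).2 a b ha hb]
        have hz : T.tr X (T.pull φ (e r i : T.H X) * a) = 0 :=
          T.tr_vanish X ((r : ℤ) + s) _
            (SetLike.mul_mem_graded (T.pull_mem φ _ _ (e r i).2) ha) (by omega)
        rw [hz, zero_mul, mul_zero]
      · intro hnot
        exact absurd (Finset.mem_range.2 (by omega)) hnot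
    · -- degree mismatch: both vanish
      have hcmem : T.pull p a * T.pull q b ∈ T.gr P ((s : ℤ) + t) :=
        SetLike.mul_mem_graded (T.pull_mem p _ _ ha) (T.pull_mem q _ _ hb)
      rw [T.tr_vanish P _ _ (SetLike.mul_mem_graded hγ hcmem) (by omega),
        T.tr_vanish P _ _ (SetLike.mul_mem_graded hγ' hcmem) (by omega)]
  have := congrArg (fun F ↦ F c) hFG
  simpa using this

theorem tr_dual_repr (X : WeilCoh.Var k) (t : ℕ) {ι : Type} [Fintype ι] [DecidableEq ι]
    (e : Module.Basis ι K ↥(T.gr X (t : ℤ)))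
    (f : ι → ↥(T.gr X (2 * (WeilCoh.dim X.obj.left : ℤ) - t)))
    (hef : ∀ i l : ι, T.tr X ((f l : T.H X) * (e i : T.H X)) = if i = l then 1 else 0)
    (b : ↥(T.gr X (t : ℤ))) (i : ι) :
    T.tr X ((f i : T.H X) * (b : T.H X)) = e.repr b i := by
  have hb' : (b : T.H X) = ∑ l, (e.repr b l) • (e l : T.H X) := by
    have := congrArg Subtype.val (e.sum_repr b)
    simp only [Submodule.coe_sum, Submodule.coe_smul] at this
    exact this.symm
  conv_lhs => rw [hb']
  rw [Finset.mul_sum, map_sum]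
  simp only [mul_smul_comm, map_smul, smul_eq_mul, hef]
  simp

/-- existence of dual families -/
theorem exists_dual_family (X : WeilCoh.Var k) (r : ℕ) {ι : Type} [Fintype ι] [DecidableEq ι]
    (e : Module.Basis ι K ↥(T.gr X (r : ℤ))) :
    ∃ f : ι → ↥(T.gr X (2 * (WeilCoh.dim X.obj.left : ℤ) - r)),
      ∀ i l : ι, T.tr X ((f l : T.H X) * (e i : T.H X)) = if i = l then 1 else 0 := by
  haveI := T.duality X (2 * (WeilCoh.dim X.obj.left : ℤ) - r) r (by ring)
  refine ⟨fun l ↦ (WeilCoh.pairing K (T.gr X (2 * (WeilCoh.dim X.obj.left : ℤ) - r)) (T.gr X r)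
    (T.tr X)).toPerfPair.symm (e.coord l), fun i l ↦ ?_⟩
  have h := LinearMap.apply_symm_toPerfPair_self
    (WeilCoh.pairing K (T.gr X (2 * (WeilCoh.dim X.obj.left : ℤ) - r)) (T.gr X r) (T.tr X))
    (e.coord l)
  have h2 := congrArg (fun ψ ↦ ψ (e i)) h
  simp only [Module.Basis.coord_apply, Module.Basis.repr_self] at h2
  rw [Finsupp.single_apply] at h2
  exact h2

theorem lefschetz (X P : WeilCoh.Var k) [IrreducibleSpace ↥X.obj.left] (φ : X ⟶ X)
    (p q : P ⟶ X) (hP : WeilCoh.IsProd p q) (j d : X ⟶ P)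
    (hjp : j ≫ p = 𝟙 X) (hjq : j ≫ q = φ) (hdp : d ≫ p = 𝟙 X) (hdq : d ≫ q = 𝟙 X) :
    T.tr P (T.cl P (WeilCoh.sm j (genericPoint ↥X.obj.left)) *
        T.cl P (WeilCoh.sm d (genericPoint ↥X.obj.left))) =
      ∑ i ∈ Finset.range (2 * WeilCoh.dim X.obj.left + 1),
        (-1 : K) ^ i * LinearMap.trace K ↥(T.gr X (i : ℤ)) (T.pullDeg φ (i : ℤ)) := by
  classical
  let ι : ℕ → Type := fun r ↦ Fin (Module.finrank K ↥(T.gr X (r : ℤ)))
  let e : (r : ℕ) → Module.Basis (ι r) K ↥(T.gr X (r : ℤ)) := fun r ↦ Module.finBasis K _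
  choose f hf using fun r : ℕ ↦ exists_dual_family T X r (e r)
  have hdim := dim_prod T p q hP
  have hcd := graph_codim T d p hdp
  have hδ : T.cl P (WeilCoh.sm d (genericPoint ↥X.obj.left)) ∈
      T.gr P (2 * (WeilCoh.dim X.obj.left : ℤ)) :=
    mem_gr_of_eq T P (by omega) (T.cl_mem P _)
  rw [cl_graph_eq T X P φ p q hP j hjp hjq ι e f (fun r _ ↦ hf r), Finset.sum_mul, map_sum]
  refine Finset.sum_congr rfl (fun r hr ↦ ?_)
  have hr' : r ≤ 2 * WeilCoh.dim X.obj.left := by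
    have := Finset.mem_range.1 hr; omega
  rw [Finset.sum_mul, map_sum, LinearMap.trace_eq_matrix_trace K (e r), Matrix.trace,
    Finset.mul_sum]
  refine Finset.sum_congr rfl (fun i _ ↦ ?_)
  have hterm : T.pull p (T.pull φ (e r i : T.H X)) * T.pull q (f r i : T.H X) ∈
      T.gr P (2 * (WeilCoh.dim X.obj.left : ℤ)) :=
    mem_gr_of_eq T P (by ring) (SetLike.mul_mem_graded
      (T.pull_mem p _ _ (T.pull_mem φ _ _ (e r i).2)) (T.pull_mem q _ _ (f r i).2))
  have hcomm := T.gradedComm P _ _ _ _ hterm hδ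
  have hev : Even ((2 * (WeilCoh.dim X.obj.left : ℤ)).natAbs * (2 * (WeilCoh.dim X.obj.left : ℤ)).natAbs) := by
    have : (2 * (WeilCoh.dim X.obj.left : ℤ)).natAbs = 2 * WeilCoh.dim X.obj.left := by omega
    rw [this]
    exact ⟨WeilCoh.dim X.obj.left * (2 * WeilCoh.dim X.obj.left), by ring⟩
  rw [hev.neg_one_pow, one_smul] at hcomm
  rw [hcomm, graph_tr T d p hdp _ hterm, map_mul, pull_comp_apply T d p, pull_comp_apply T d q,
    hdp, hdq, pull_id_apply, pull_id_apply]
  have hcomm2 := T.gradedComm X (r : ℤ) (2 * (WeilCoh.dim X.obj.left : ℤ) - r)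
    (T.pull φ (e r i : T.H X)) (f r i : T.H X) (T.pull_mem φ _ _ (e r i).2) (f r i).2
  have hn2 : (2 * (WeilCoh.dim X.obj.left : ℤ) - r).natAbs = 2 * WeilCoh.dim X.obj.left - r := by
    omega
  rw [Int.natAbs_natCast, hn2] at hcomm2
  rw [hcomm2, map_smul, smul_eq_mul]
  have hpar : (-1 : K) ^ (r * (2 * WeilCoh.dim X.obj.left - r)) = (-1) ^ r := by
    obtain ⟨m, hm⟩ : ∃ m, 2 * WeilCoh.dim X.obj.left - r = m := ⟨_, rfl⟩
    rw [hm]
    rcases Nat.even_or_odd r with he | ho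
    · rw [(he.mul_right m).neg_one_pow, he.neg_one_pow]
    · have hmodd : Odd m := by
        rcases Nat.even_or_odd m with h | h
        · exfalso
          have : Odd (2 * WeilCoh.dim X.obj.left) := by
            have h3 : 2 * WeilCoh.dim X.obj.left = m + r := by omega
            rw [h3]; exact h.add_odd ho
          exact (Nat.not_odd_iff_even.2 ⟨WeilCoh.dim X.obj.left, by ring⟩) this
        · exact h
      rw [(ho.mul hmodd).neg_one_pow, ho.neg_one_pow]
  rw [hpar]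
  congr 1
  have h3 := tr_dual_repr T X r (e r) (f r) (hf r) (T.pullDeg φ r (e r i)) i
  rw [Matrix.diag_apply, LinearMap.toMatrix_apply]
  exact h3

end Groth.Agent.H19.WeilCohGraph
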