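import Groth.Prelude.Def_WeilCoh
import Mathlib

set_option autoImplicit false

namespace Groth.Agent.H19.WeilCohLib

open WeilCoh CategoryTheory AlgebraicGeometry

universe u v w

variable {k : Type u} [Field k] {P : ObjectProperty (Over (Spec (CommRingCat.of k)))}
variable {K : Type v} [Field K] (T : TheoryOn.{u, v, w} k P K)

theorem pairing_apply {A : Type w} [Ring A] [Algebra K A] (S S' : Submodule K A) (t : A →ₗ[K] K)
    (a : S) (b : S') : pairing K S S' t a b = t ((a : A) * (b : A)) := rfl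

/-- The defining property of push-forward. -/
theorem push_spec {X Y : P.FullSubcategory} (f : X ⟶ Y) (i : ℤ) (a : T.gr X i) (b : T.H Y)
    (hb : b ∈ T.gr Y (2 * (dim X.obj.left : ℤ) - i)) :
    T.tr Y ((T.push f i a : T.H Y) * b) = T.tr X ((a : T.H X) * T.pull f b) := by
  haveI := T.duality Y (i + 2 * (dim Y.obj.left : ℤ) - 2 * (dim X.obj.left : ℤ))
    (2 * (dim X.obj.left : ℤ) - i) (by omega)
  have h := LinearMap.apply_symm_toPerfPair_self
    (pairing K (T.gr Y (i + 2 * (dim Y.obj.left : ℤ) - 2 * (dim X.obj.left : ℤ)))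
      (T.gr Y (2 * (dim X.obj.left : ℤ) - i)) (T.tr Y)) (T.pushFunctional f i a)
  have h2 := congrArg (fun φ => φ ⟨b, hb⟩) h
  exact h2

/-- Poincaré duality as an extensionality principle. -/
theorem eq_of_tr_mul_eq (X : P.FullSubcategory) (m n : ℤ) (hmn : m + n = 2 * (dim X.obj.left : ℤ))
    (u v : T.H X) (hu : u ∈ T.gr X m) (hv : v ∈ T.gr X m)
    (h : ∀ b ∈ T.gr X n, T.tr X (u * b) = T.tr X (v * b)) : u = v := by
  have hinj := (T.duality X m n hmn).bijective_left.injective
  have : (⟨u, hu⟩ : T.gr X m) = ⟨v, hv⟩ := by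
    apply hinj
    apply LinearMap.ext
    intro b
    exact h b.1 b.2
  exact congrArg Subtype.val this

theorem mem_gr_of_eq (X : P.FullSubcategory) {m n : ℤ} (h : m = n) {u : T.H X} (hu : u ∈ T.gr X m) :
    u ∈ T.gr X n := h ▸ hu

end Groth.Agent.H19.WeilCohLib
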