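import Groth.Agent.S15442
import Groth.Agent.H19.WeilCohLib
import Mathlib

set_option autoImplicit false
universe u v
open CategoryTheory AlgebraicGeometry Limits

namespace Groth.Agent.H19.WeilCohPt

section ProjSection
variable (R : Type u) [CommRing R]

/-- evaluation at T = 1 on the degree-zero localization -/
noncomputable def evalOne :
    HomogeneousLocalization.Away (CohB1.polyGrading 0 R) (MvPolynomial.X (0 : Fin 1)) →+* R :=
  (IsLocalization.Away.lift (S := Localization.Away (MvPolynomial.X (0 : Fin 1) : MvPolynomial (Fin 1) R))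
    (MvPolynomial.X (0 : Fin 1) : MvPolynomial (Fin 1) R)
    (g := (MvPolynomial.eval (fun _ ↦ (1 : R)))) (by simp)).comp
    (algebraMap (HomogeneousLocalization.Away (CohB1.polyGrading 0 R) (MvPolynomial.X (0 : Fin 1)))
      (Localization.Away (MvPolynomial.X (0 : Fin 1) : MvPolynomial (Fin 1) R)))

theorem val_fromZero {A : Type u} [CommRing A] [Algebra R A] (𝒜 : ℕ → Submodule R A) [GradedAlgebra 𝒜]
    (x : Submonoid A) (a : 𝒜 0) :
    (HomogeneousLocalization.fromZeroRingHom 𝒜 x a).val = algebraMap A (Localization x) a := by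
  change (HomogeneousLocalization.mk ⟨0, a, 1, one_mem _⟩ : HomogeneousLocalization 𝒜 x).val = _
  rw [HomogeneousLocalization.val_mk]
  exact Localization.mk_one_eq_algebraMap _

theorem evalOne_comp :
    (evalOne R).comp ((HomogeneousLocalization.fromZeroRingHom (CohB1.polyGrading 0 R) _).comp
      (algebraMap R (CohB1.polyGrading 0 R 0))) = RingHom.id R := by
  ext r
  simp only [evalOne, RingHom.coe_comp, Function.comp_apply, RingHom.id_apply]
  rw [HomogeneousLocalization.algebraMap_apply, val_fromZero]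
  erw [IsLocalization.Away.lift_eq]
  simp

theorem X_mem : (MvPolynomial.X (0 : Fin 1) : MvPolynomial (Fin (0 + 1)) R) ∈ CohB1.polyGrading 0 R 1 :=
  (MvPolynomial.mem_homogeneousSubmodule _ _).2 (MvPolynomial.isHomogeneous_X R 0)

/-- the section of `P^0_R → Spec R`. -/
noncomputable def projSec' : Spec (CommRingCat.of R) ⟶ Proj (CohB1.polyGrading 0 R) :=
  Spec.map (CommRingCat.ofHom (evalOne R)) ≫
    Proj.awayι (CohB1.polyGrading 0 R) (MvPolynomial.X (0 : Fin 1))
      (m := 1) (X_mem R) Nat.one_pos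

theorem projSec'_toSpec : projSec' R ≫ (Proj.toSpecZero (CohB1.polyGrading 0 R) ≫
    Spec.map (CommRingCat.ofHom (algebraMap R (CohB1.polyGrading 0 R 0)))) = 𝟙 _ := by
  unfold projSec'
  rw [Category.assoc, Proj.awayι_toSpecZero_assoc, ← Spec.map_comp, ← Spec.map_comp,
    ← CommRingCat.ofHom_comp, ← CommRingCat.ofHom_comp]
  erw [evalOne_comp]
  simp

noncomputable def projSec : Spec (CommRingCat.of R) ⟶ CohB1.ProjSpace 0 R := projSec' R

theorem projSec_toSpec : projSec R ≫ CohB1.ProjSpace.toSpec 0 R = 𝟙 _ := projSec'_toSpec R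

end ProjSection

section Point

/-- a section of `P^0_S → S`. -/
noncomputable def baseSec (S : Scheme.{u}) : S ⟶ CohB1.ProjSpaceOver 0 S :=
  pullback.lift (specULiftZIsTerminal.from S ≫ projSec (ULift.{u} ℤ)) (𝟙 S)
    (by rw [Category.assoc, projSec_toSpec]; simp)

theorem baseSec_toBase (S : Scheme.{u}) : baseSec S ≫ CohB1.ProjSpaceOver.toBase 0 S = 𝟙 S := by
  unfold baseSec CohB1.ProjSpaceOver.toBase
  exact pullback.lift_snd _ _ _

variable (k : Type u) [Field k]

theorem isVar_pt : WeilCoh.IsVar k (Over.mk (𝟙 (Spec (CommRingCat.of k)))) := by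
  refine ⟨?_, ?_, ?_⟩
  · show Smooth (𝟙 (Spec (CommRingCat.of k)))
    infer_instance
  · refine ⟨0, baseSec _, ?_, baseSec_toBase _⟩
    haveI : Subsingleton ↥(Spec (CommRingCat.of k)) := inferInstance
    exact isClosedImmersion_of_comp_eq_id (Y := Spec (CommRingCat.of k))
      (CohB1.ProjSpaceOver.toBase 0 _) (baseSec _) (baseSec_toBase _)
  · show IrreducibleSpace ↥(Spec (CommRingCat.of k))
    infer_instance

/-- the point `Spec k` as an object of `Var k`. -/
noncomputable def pt : WeilCoh.Var k := ⟨Over.mk (𝟙 (Spec (CommRingCat.of k))), isVar_pt k⟩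

end Point

section Dim

theorem natDim_of_subsingleton (T : Type u) [TopologicalSpace T] [Subsingleton T] :
    WeilCoh.natDim T = 0 := by
  have h := topologicalKrullDim_zero_of_discreteTopology T
  unfold WeilCoh.natDim
  rcases hd : topologicalKrullDim T with _ | d
  · rfl
  · rw [hd] at h
    have : d ≤ 0 := WithBot.coe_le_coe.1 h
    have : d = 0 := le_antisymm this bot_le
    subst this
    rfl

theorem natDim_congr {T : Type u} [TopologicalSpace T] {S S' : Set T} (h : S = S') :
    WeilCoh.natDim ↥S = WeilCoh.natDim ↥S' := by subst h; rfl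

theorem natDim_univ (T : Type u) [TopologicalSpace T] :
    WeilCoh.natDim ↥(Set.univ : Set T) = WeilCoh.natDim T := by
  unfold WeilCoh.natDim
  rw [IsHomeomorph.topologicalKrullDim_eq _ (Homeomorph.Set.univ T).isHomeomorph]

theorem pdim_generic (X : Scheme.{u}) [IrreducibleSpace X] :
    WeilCoh.pdim X (genericPoint X) = WeilCoh.dim X := by
  unfold WeilCoh.pdim WeilCoh.dim
  rw [natDim_congr (genericPoint_closure (α := X)), natDim_univ]

theorem pdim_of_isClosed (X : Scheme.{u}) (x : X) (hx : IsClosed ({x} : Set X)) :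
    WeilCoh.pdim X x = 0 := by
  unfold WeilCoh.pdim
  rw [natDim_congr hx.closure_eq]
  exact natDim_of_subsingleton _

theorem dim_of_subsingleton (X : Scheme.{u}) [Subsingleton X] : WeilCoh.dim X = 0 :=
  natDim_of_subsingleton _

theorem pdim_of_subsingleton (X : Scheme.{u}) [Subsingleton X] (x : X) : WeilCoh.pdim X x = 0 :=
  natDim_of_subsingleton _

end Dim

section Mult

theorem preimMult_of_isField {X Y : Scheme.{u}} (s : Y ⟶ X) (ξ : X) (w : Y)
    (h : s w ∈ closure ({ξ} : Set X)) (hF : IsField (Y.presheaf.stalk w)) :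
    WeilCoh.preimMult s ξ w h = 1 := by
  unfold WeilCoh.preimMult
  set 𝔭 := RingHom.ker (Cyc.specMap (s w) ξ (specializes_iff_mem_closure.mpr h)) with h𝔭
  have h1 : 𝔭 ≠ ⊤ := RingHom.ker_ne_top _
  have h2 : 𝔭 ≤ IsLocalRing.maximalIdeal _ := IsLocalRing.le_maximalIdeal h1
  have h3 : Ideal.map (s.stalkMap w).hom (IsLocalRing.maximalIdeal _) ≤
      IsLocalRing.maximalIdeal (Y.presheaf.stalk w) :=
    ((IsLocalRing.local_hom_TFAE (s.stalkMap w).hom).out 0 2).1
      (inferInstance : IsLocalHom (s.stalkMap w).hom)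
  have h4 : IsLocalRing.maximalIdeal (Y.presheaf.stalk w) = ⊥ :=
    IsLocalRing.isField_iff_maximalIdeal_eq.1 hF
  have h5 : Ideal.map (s.stalkMap w).hom 𝔭 = ⊥ :=
    le_bot_iff.1 (((Ideal.map_mono h2).trans h3).trans h4.le)
  rw [h5]
  letI := hF.toField
  have e : (Y.presheaf.stalk w ⧸ (⊥ : Ideal (Y.presheaf.stalk w))) ≃ₗ[Y.presheaf.stalk w]
      Y.presheaf.stalk w := Submodule.quotEquivOfEqBot _ rfl
  rw [e.length_eq]
  have : Module.length (Y.presheaf.stalk w) (Y.presheaf.stalk w) = 1 := by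
    rw [Module.length_eq_one_iff]
    infer_instance
  rw [this]
  rfl

theorem isField_stalk_spec (k : Type u) [Field k] (w : Spec (CommRingCat.of k)) :
    IsField ((Spec (CommRingCat.of k)).presheaf.stalk w) := by
  obtain rfl : w = genericPoint _ := Subsingleton.elim _ _
  exact (inferInstance : Field (Spec (CommRingCat.of k)).functionField).toIsField

end Mult

section Maps
variable {k : Type u} [Field k]

noncomputable def toPt (X : WeilCoh.Var k) : X ⟶ pt k :=
  ObjectProperty.homMk (Over.homMk X.obj.hom (by simp [pt]))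

noncomputable def ofPoint (X : WeilCoh.Var k) (s : Spec (CommRingCat.of k) ⟶ X.obj.left)
    (hs : s ≫ X.obj.hom = 𝟙 _) : pt k ⟶ X :=
  ObjectProperty.homMk (Over.homMk s (by simpa [pt] using hs))

@[simp] theorem sm_toPt (X : WeilCoh.Var k) : WeilCoh.sm (toPt X) = X.obj.hom := rfl

@[simp] theorem sm_ofPoint (X : WeilCoh.Var k) (s : Spec (CommRingCat.of k) ⟶ X.obj.left)
    (hs : s ≫ X.obj.hom = 𝟙 _) : WeilCoh.sm (ofPoint X s hs) = s := rfl

instance : Subsingleton ↥(pt k).obj.left :=
  (inferInstance : Subsingleton ↥(Spec (CommRingCat.of k)))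

theorem dim_pt : WeilCoh.dim (pt k).obj.left = 0 := dim_of_subsingleton _

end Maps

section Generic
variable {k : Type u} [Field k] [IsAlgClosed k] {K : Type v} [Field K] [CharZero K]
variable (T : WeilCoh.Theory k K)

theorem exists_kPoint (X : WeilCoh.Var k) :
    ∃ (s : Spec (CommRingCat.of k) ⟶ X.obj.left), s ≫ X.obj.hom = 𝟙 _ := by
  haveI : Smooth X.obj.hom := X.property.1
  haveI : IrreducibleSpace ↥X.obj.left := X.property.2.2
  haveI : JacobsonSpace ↥X.obj.left := LocallyOfFiniteType.jacobsonSpace X.obj.hom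
  have hne : (closedPoints ↥X.obj.left).Nonempty := by
    by_contra h
    rw [Set.not_nonempty_iff_eq_empty] at h
    have := closure_closedPoints (X := ↥X.obj.left)
    rw [h, closure_empty] at this
    exact Set.empty_ne_univ this
  obtain ⟨x, hx⟩ := hne
  exact ⟨pointOfClosedPoint X.obj.hom x hx, pointOfClosedPoint_comp _ _ _⟩

theorem cl_pt_eq_one (w : ↥(pt k).obj.left) : T.cl (pt k) w = 1 := (T.point (pt k) dim_pt).1 w

theorem tr_pt_one : T.tr (pt k) 1 = 1 := (T.point (pt k) dim_pt).2

theorem cl_generic (X : WeilCoh.Var k) [IrreducibleSpace ↥X.obj.left] :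
    T.cl X (genericPoint ↥X.obj.left) = 1 := by
  obtain ⟨s, hs⟩ := exists_kPoint X
  obtain ⟨i, hi⟩ : ∃ i : pt k ⟶ X, i = ofPoint X s hs := ⟨_, rfl⟩
  obtain ⟨η, hη⟩ : ∃ η : ↥X.obj.left, η = genericPoint ↥X.obj.left := ⟨_, rfl⟩
  rw [← hη]
  have hcl : closure ({η} : Set ↥X.obj.left) = Set.univ := by rw [hη]; exact genericPoint_closure _
  have hpre : (WeilCoh.sm i) ⁻¹' closure ({η} : Set ↥X.obj.left) = Set.univ := by
    rw [hcl]; rfl
  have hcomp : ∀ w : ↥(pt k).obj.left,
      WeilCoh.IsCompPt ((WeilCoh.sm i) ⁻¹' closure ({η} : Set ↥X.obj.left)) w :=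
    fun w ↦ ⟨by rw [hpre]; trivial, fun w' _ _ ↦ Subsingleton.elim _ _⟩
  have hmult : ∀ (w : ↥(pt k).obj.left)
      (hw : WeilCoh.IsCompPt ((WeilCoh.sm i) ⁻¹' closure ({η} : Set ↥X.obj.left)) w),
      WeilCoh.preimMult (WeilCoh.sm i) η w hw.1 = 1 :=
    fun w hw ↦ preimMult_of_isField _ _ _ _ (isField_stalk_spec k w)
  have key := T.cl_pull i η (fun w _ ↦ by
    rw [pdim_of_subsingleton, hη, pdim_generic, dim_pt]; push_cast; ring) (Or.inr hmult)
  haveI : Nonempty ↥(pt k).obj.left := (pt k).property.2.2.toNonempty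
  haveI : Unique {w : ↥(pt k).obj.left //
      WeilCoh.IsCompPt ((WeilCoh.sm i) ⁻¹' closure ({η} : Set ↥X.obj.left)) w} :=
    ⟨⟨⟨Classical.arbitrary _, hcomp _⟩⟩, fun a ↦ Subtype.ext (Subsingleton.elim _ _)⟩
  rw [finsum_unique] at key
  rw [hmult _ (hcomp _), cl_pt_eq_one] at key
  have hmem : T.cl X η ∈ T.gr X 0 := by
    have := T.cl_mem X η
    unfold WeilCoh.codim at this
    rw [hη, pdim_generic] at this
    rw [hη]
    simpa using this
  obtain ⟨c, hc⟩ := (Groth.Agent.S15442.result k K T X).2 ⟨T.cl X η, hmem⟩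
  have hc' : c • (1 : T.H X) = T.cl X η := congrArg Subtype.val hc
  rw [← hc', map_smul, map_one] at key
  have h1 := congrArg (T.tr (pt k)) key
  rw [map_smul, tr_pt_one] at h1
  simp only [Nat.cast_one, one_smul, tr_pt_one, smul_eq_mul, mul_one] at h1
  rw [← hc', h1, one_smul]

end Generic

section ResDeg

theorem finrank_eq_one_of_surjective {F E : Type u} [Field F] [Field E] (φ : F →+* E)
    (hφ : Function.Surjective φ) :
    letI := φ.toAlgebra
    Module.finrank F E = 1 := by
  letI := φ.toAlgebra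
  rw [finrank_eq_one_iff_of_nonzero' (1 : E) one_ne_zero]
  intro w
  obtain ⟨c, rfl⟩ := hφ w
  exact ⟨c, by rw [Algebra.smul_def, mul_one]; rfl⟩

theorem residueDegree_eq_one_of_surjective {X Y : Scheme.{u}} (f : X ⟶ Y) (x : X)
    (h : Function.Surjective (f.residueFieldMap x).hom) : f.residueDegree x = 1 :=
  finrank_eq_one_of_surjective (f.residueFieldMap x).hom h

/-- residue degree of a closed point over an algebraically closed field -/
theorem residueDegree_of_isClosed {k : Type u} [Field k] [IsAlgClosed k] {X : Scheme.{u}}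
    (f : X ⟶ Spec (CommRingCat.of k)) [LocallyOfFiniteType f] (x : X) (hx : IsClosed ({x} : Set X)) :
    f.residueDegree x = 1 := by
  apply residueDegree_eq_one_of_surjective
  have h1 := SpecMap_residueFieldIsoBase_inv f x hx
  rw [← Scheme.Hom.SpecMap_residueFieldMap_fromSpecResidueField] at h1
  obtain ⟨θ, hθ⟩ := Spec.map_surjective ((Spec (CommRingCat.of k)).fromSpecResidueField (f x))
  rw [← hθ, ← Spec.map_comp] at h1
  have h2 := Spec.map_injective h1
  intro b
  obtain ⟨a, ha⟩ : ∃ a, (residueFieldIsoBase f x hx).inv a = b :=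
    ⟨(residueFieldIsoBase f x hx).hom b, by simp⟩
  refine ⟨θ a, ?_⟩
  rw [← ha, h2]
  rfl

/-- residue degree at `x` of a section `j` of `p` is one. -/
theorem residueDegree_of_section {X P : Scheme.{u}} (j : X ⟶ P) (p : P ⟶ X) (h : j ≫ p = 𝟙 X)
    (x : X) : j.residueDegree x = 1 := by
  apply residueDegree_eq_one_of_surjective
  have h1 := Scheme.residueFieldMap_comp j p x
  rw [Scheme.Hom.residueFieldMap_congr h x, Scheme.residueFieldMap_id] at h1
  intro b
  obtain ⟨e, he⟩ : ∃ e : X.residueField ((j ≫ p) x) ≅ X.residueField ((𝟙 X) x),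
      e.hom ≫ 𝟙 (X.residueField x) =
        Scheme.Hom.residueFieldMap p (j x) ≫ Scheme.Hom.residueFieldMap j x := ⟨_, h1⟩
  refine ⟨(p.residueFieldMap (j x)).hom (e.inv b), ?_⟩
  have h2 := congrArg (fun φ ↦ φ.hom (e.inv b)) he
  exact h2.symm.trans (e.inv_hom_id_apply b)

end ResDeg

section Closed
variable {k : Type u} [Field k] [IsAlgClosed k] {K : Type v} [Field K] [CharZero K]
variable (T : WeilCoh.Theory k K)

theorem tr_cl_closed (X : WeilCoh.Var k) (x : ↥X.obj.left) (hx : IsClosed ({x} : Set ↥X.obj.left)) :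
    T.tr X (T.cl X x) = 1 := by
  haveI : Smooth X.obj.hom := X.property.1
  have h := T.cl_push (toPt X) x 1 (by
    rw [pdim_of_isClosed _ x hx]
    simpa using SetLike.one_mem_graded (T.gr (pt k)))
  rw [map_one, mul_one, cl_pt_eq_one, mul_one, tr_pt_one, mul_one] at h
  have h2 : (WeilCoh.sm (toPt X)).residueDegree x = 1 :=
    residueDegree_of_isClosed X.obj.hom x hx
  rw [h, h2, Nat.cast_one]

theorem tr_pull_dominant (X Y : WeilCoh.Var k)
    [IrreducibleSpace ↥X.obj.left] [IrreducibleSpace ↥Y.obj.left] (f : X ⟶ Y)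
    (hdom : WeilCoh.sm f (genericPoint ↥X.obj.left) = genericPoint ↥Y.obj.left)
    (hdim : WeilCoh.dim X.obj.left = WeilCoh.dim Y.obj.left) (a : T.H Y)
    (ha : a ∈ T.gr Y (2 * (WeilCoh.dim Y.obj.left : ℤ))) :
    T.tr X (T.pull f a) =
      ((WeilCoh.sm f).residueDegree (genericPoint ↥X.obj.left) : K) * T.tr Y a := by
  have h := T.cl_push f (genericPoint ↥X.obj.left) a (by rw [pdim_generic, hdim]; exact ha)
  rw [hdom, cl_generic, cl_generic, one_mul, one_mul] at h
  exact h

end Closed

end Groth.Agent.H19.WeilCohPt
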