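import Groth.Agent.H19.WeilCohGraph
import Groth.Prelude.Def_ChowOps
import Mathlib

set_option autoImplicit false
universe u v
open CategoryTheory AlgebraicGeometry Limits

namespace Groth.Agent.H19.WeilCohZero

open Groth.Agent.H19.WeilCohPt Groth.Agent.H19.WeilCohLib Groth.Agent.H19.WeilCohGraph

section ClosedPts
variable {k : Type u} [Field k] [IsAlgClosed k]

theorem isAlgClosed_residueField_spec (y : ↥(Spec (CommRingCat.of k))) :
    IsAlgClosed ((Spec (CommRingCat.of k)).residueField y) := by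
  have hy : IsClosed ({y} : Set ↥(Spec (CommRingCat.of k))) := isClosed_discrete _
  let e := residueFieldIsoBase (𝟙 (Spec (CommRingCat.of k))) y hy
  exact IsAlgClosed.of_ringEquiv k _ e.symm.commRingCatIsoToRingEquiv

theorem closed_of_trdeg_zero {X : Scheme.{u}} (f : X ⟶ Spec (CommRingCat.of k))
    [LocallyOfFiniteType f] (x : X)
    (h : (letI := (f.residueFieldMap x).hom.toAlgebra
      Algebra.trdeg ((Spec (CommRingCat.of k)).residueField (f x)) (X.residueField x)) = 0) :
    IsClosed ({x} : Set X) := by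
  letI := (f.residueFieldMap x).hom.toAlgebra
  haveI := isAlgClosed_residueField_spec (f x)
  haveI : Algebra.IsAlgebraic ((Spec (CommRingCat.of k)).residueField (f x)) (X.residueField x) :=
    trdeg_eq_zero_iff.1 h
  haveI : Algebra.IsIntegral ((Spec (CommRingCat.of k)).residueField (f x)) (X.residueField x) :=
    Algebra.IsAlgebraic.isIntegral
  have hsurj : Function.Surjective (f.residueFieldMap x).hom :=
    (IsAlgClosed.algebraMap_bijective_of_isIntegral
      (k := (Spec (CommRingCat.of k)).residueField (f x)) (K := X.residueField x)).2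
  haveI : JacobsonSpace X := LocallyOfFiniteType.jacobsonSpace f
  rw [isClosed_singleton_iff_locallyOfFiniteType]
  have hcomp := Scheme.Hom.SpecMap_residueFieldMap_fromSpecResidueField f x
  haveI : LocallyOfFiniteType (Spec.map (f.residueFieldMap x)) :=
    (HasRingHomProperty.Spec_iff (P := @LocallyOfFiniteType)).2
      (RingHom.FiniteType.of_surjective _ hsurj)
  haveI : LocallyOfFiniteType ((Spec (CommRingCat.of k)).fromSpecResidueField (f x)) :=
    isClosed_singleton_iff_locallyOfFiniteType.1 (isClosed_discrete _)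
  haveI : LocallyOfFiniteType (X.fromSpecResidueField x ≫ f) := by
    rw [← hcomp]; infer_instance
  exact locallyOfFiniteType_of_comp _ f

end ClosedPts

section ZeroCycles
variable {k : Type u} [Field k] [IsAlgClosed k] {K : Type v} [Field K] [CharZero K]
variable (T : WeilCoh.Theory k K)

theorem zeroCycle_closed (X : WeilCoh.Var k) (δ : ↥X.obj.left → ℤ)
    (hδ : Cyc.DeltaCompat X.obj.hom δ (fun _ => 0)) (x : ↥X.obj.left) (hx : δ x = 0) :
    IsClosed ({x} : Set ↥X.obj.left) := by
  haveI : Smooth X.obj.hom := X.property.1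
  obtain ⟨n, hn, hn'⟩ := hδ x
  have hn0 : n = 0 := by
    rw [hx] at hn'
    have : (n : ℤ) = 0 := by linarith
    exact_mod_cast this
  subst hn0
  exact closed_of_trdeg_zero X.obj.hom x (by simpa using hn)

omit [IsAlgClosed k] in
theorem support_finite (X : WeilCoh.Var k) [QuasiCompact X.obj.hom]
    (α : AlgebraicCycle X.obj.left ℤ) : (Function.support (α : ↥X.obj.left → ℤ)).Finite := by
  haveI : CompactSpace ↥X.obj.left := QuasiCompact.compactSpace_of_compactSpace X.obj.hom
  have := α.locallyFiniteSupport.finite_inter_support_of_isCompact isCompact_univ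
  simpa using this

theorem deg_eq_finsum (X : WeilCoh.Var k) [QuasiCompact X.obj.hom] (δ : ↥X.obj.left → ℤ)
    (hδ : Cyc.DeltaCompat X.obj.hom δ (fun _ => 0))
    (α : AlgebraicCycle X.obj.left ℤ) (hα : α ∈ Cyc.Zk X.obj.left δ 0) :
    ChowOps.deg X.obj.hom δ α = ∑ᶠ x, α x := by
  haveI : Smooth X.obj.hom := X.property.1
  suffices key : ∀ (y : ↥(Spec (CommRingCat.of k))),
      (AlgebraicCycle.map X.obj.hom δ (fun _ => (0 : ℤ)) α) y = ∑ᶠ x, α x from key _
  intro y
  unfold AlgebraicCycle.map
  rw [Function.locallyFinsupp.map_apply]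
  have hpre : (X.obj.hom) ⁻¹' {y} = Set.univ :=
    Set.eq_univ_of_forall (fun x ↦ Subsingleton.elim _ _)
  rw [hpre, finsum_mem_univ]
  refine finsum_congr (fun x ↦ ?_)
  by_cases h0 : α x = 0
  · rw [h0, zero_mul]
  · have hδx : δ x = 0 := by
      by_contra h
      exact h0 (hα x h)
    have hcl := zeroCycle_closed X δ hδ x hδx
    simp only [AlgebraicCycle.mapCoeff, hδx, if_true]
    rw [residueDegree_of_isClosed X.obj.hom x hcl]
    simp

theorem cl_closed_eq (X : WeilCoh.Var k) (t : T.H X)
    (ht : t ∈ T.gr X (2 * (WeilCoh.dim X.obj.left : ℤ))) (ht1 : T.tr X t = 1)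
    (x : ↥X.obj.left) (hx : IsClosed ({x} : Set ↥X.obj.left)) : T.cl X x = t := by
  have hmem : T.cl X x ∈ T.gr X (2 * (WeilCoh.dim X.obj.left : ℤ)) := by
    have := T.cl_mem X x
    unfold WeilCoh.codim at this
    rw [pdim_of_isClosed _ x hx] at this
    simpa using this
  have := (T.tr_bijective X).1 (a₁ := ⟨T.cl X x, hmem⟩) (a₂ := ⟨t, ht⟩) (by
    show T.tr X (T.cl X x) = T.tr X t
    rw [tr_cl_closed T X x hx, ht1])
  exact congrArg Subtype.val this

theorem clCyc_zeroCycle (X : WeilCoh.Var k) [QuasiCompact X.obj.hom] (δ : ↥X.obj.left → ℤ)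
    (hδ : Cyc.DeltaCompat X.obj.hom δ (fun _ => 0))
    (α : AlgebraicCycle X.obj.left ℤ) (hα : α ∈ Cyc.Zk X.obj.left δ 0) (t : T.H X)
    (ht : t ∈ T.gr X (2 * (WeilCoh.dim X.obj.left : ℤ))) (ht1 : T.tr X t = 1) :
    T.clCyc X α = ((ChowOps.deg X.obj.hom δ α : ℤ) : K) • t := by
  rw [deg_eq_finsum X δ hδ α hα]
  unfold WeilCoh.TheoryOn.clCyc
  have h1 : ∀ ξ : ↥X.obj.left, ((α ξ : ℤ) : K) • T.cl X ξ = ((α ξ : ℤ) : K) • t := by
    intro ξ
    by_cases h0 : α ξ = 0
    · rw [h0]; simp
    · have hδx : δ ξ = 0 := by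
        by_contra h
        exact h0 (hα ξ h)
      rw [cl_closed_eq T X t ht ht1 ξ (zeroCycle_closed X δ hδ ξ hδx)]
  rw [finsum_congr h1, ← finsum_smul]
  congr 1
  exact (map_finsum (Int.castRingHom K) (support_finite X α)).symm

end ZeroCycles

end Groth.Agent.H19.WeilCohZero
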