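import Mathlib
import Groth.Agent.H19.ChiPerm
import Groth.Agent.H19.KosAssoc

set_option autoImplicit false
universe u v

namespace Groth.Agent.H19.Samuel

open Filter Topology Groth.Agent.H19.Kos
open scoped Pointwise

theorem smul_mem_maximalIdeal {A : Type u} [CommRing A] [IsLocalRing A] {G : Type v} [Group G]
    [MulSemiringAction G A] (σ : G) (a : A) (ha : a ∈ IsLocalRing.maximalIdeal A) :
    σ • a ∈ IsLocalRing.maximalIdeal A := by
  rw [IsLocalRing.mem_maximalIdeal] at ha ⊢
  intro hu
  apply ha
  have := hu.map (MulSemiringAction.toRingHom G A σ⁻¹)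
  simpa using this

theorem main_S15797
    (A : Type u) [CommRing A] [IsNoetherianRing A] [IsLocalRing A]
    (G : Type v) [Group G] [Fintype G] [MulSemiringAction G A]
    (n : ℕ) (hn : ringKrullDim A = n) (u : Fin n → A)
    (hu : Ideal.span (Set.range u) = IsLocalRing.maximalIdeal A)
    (hwa : ∀ τ : Fin n → G,
      IsLocalRing.maximalIdeal A ≤ (Ideal.span (Set.range fun i => τ i • u i)).radical) :
    ((Fintype.card G ^ n : ℕ) : ℕ∞) ≤
      Module.length A (A ⧸ Ideal.span (Set.range fun i => ∏ σ : G, σ • u i)) := by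
  classical
  set x : Fin n → A := fun i => ∏ σ : G, σ • u i with hx
  set F : List (List A) :=
    List.ofFn (fun i : Fin n => (Finset.univ : Finset G).toList.map (fun σ => σ • u i)) with hF
  have hum : ∀ i, u i ∈ IsLocalRing.maximalIdeal A := by
    intro i
    rw [← hu]
    exact Ideal.subset_span ⟨i, rfl⟩
  -- (1)
  have hprod : F.map List.prod = List.ofFn x := by
    rw [hF, List.map_ofFn]
    congr 1
    funext i
    simp only [Function.comp_apply, hx]
    exact Finset.prod_map_toList _ _
  -- (2) structure of choices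
  have hchoice : ∀ c, List.Forall₂ (fun a fs => a ∈ fs) c F →
      c.length = n ∧ (∀ g ∈ c, g ∈ IsLocalRing.maximalIdeal A) ∧ Adm (c ++ []) A := by
    intro c hc
    rw [List.forall₂_iff_get] at hc
    obtain ⟨hlen, hget⟩ := hc
    have hFlen : F.length = n := by rw [hF, List.length_ofFn]
    have hclen : c.length = n := hlen.trans hFlen
    have hex : ∀ i : Fin n, ∃ σ : G, σ • u i = c.get ⟨i.1, by rw [hclen]; exact i.2⟩ := by
      intro i
      have h1 := hget i.1 (by rw [hclen]; exact i.2) (by rw [hFlen]; exact i.2)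
      have h2 : F.get ⟨i.1, by rw [hFlen]; exact i.2⟩ =
          (Finset.univ : Finset G).toList.map (fun σ => σ • u i) := by
        simp [hF]
      rw [h2, List.mem_map] at h1
      obtain ⟨σ, -, hσ⟩ := h1
      exact ⟨σ, hσ⟩
    choose τ hτ using hex
    refine ⟨hclen, ?_, ?_⟩
    · intro g hg
      obtain ⟨k, hk⟩ := List.get_of_mem hg
      have hk' : k.1 < n := by
        have := k.2
        omega
      have e : c.get k = τ ⟨k.1, hk'⟩ • u ⟨k.1, hk'⟩ := (hτ ⟨k.1, hk'⟩).symm
      rw [← hk, e]
      exact smul_mem_maximalIdeal _ _ (hum _)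
    · rw [List.append_nil]
      refine ⟨inferInstance, ?_⟩
      intro p hp _ hl
      have h1 : Ideal.span (Set.range fun i => τ i • u i) ≤ p := by
        rw [Ideal.span_le]
        rintro _ ⟨i, rfl⟩
        show τ i • u i ∈ p
        rw [hτ i]
        exact hl _ (List.get_mem _ _)
      have h2 : IsLocalRing.maximalIdeal A ≤ p :=
        (hwa τ).trans (hp.radical_le_iff.mpr h1)
      have h3 : p = IsLocalRing.maximalIdeal A :=
        le_antisymm (IsLocalRing.le_maximalIdeal hp.ne_top) h2
      rw [h3]; infer_instance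
  -- (3)
  have hsec := chi_sections A F [] (fun c hc => (hchoice c hc).2.2)
  rw [hprod, List.append_nil] at hsec
  -- (4)
  have hcard : (F.map List.length).prod = Fintype.card G ^ n := by
    rw [hF, List.map_ofFn]
    have : (List.length ∘ fun i : Fin n =>
        (Finset.univ : Finset G).toList.map (fun σ => σ • u i)) = fun _ => Fintype.card G := by
      funext i
      simp [Finset.length_toList]
    rw [this, List.prod_ofFn]
    simp
  -- (5)
  have hge := le_secSum (g := fun c => chi (c ++ []) A) F (fun c hc => by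
    obtain ⟨hlen, hmem, hadm⟩ := hchoice c hc
    have hpos := chi_pos_of_dim_eq (c ++ []) (by rw [List.append_nil]; exact hmem) A hadm
      (by rw [Module.supportDim_self_eq_ringKrullDim, hn, List.append_nil, hlen])
    show 1 ≤ chi (c ++ []) A
    omega)
  rw [← hsec, hcard] at hge
  -- (6)
  have hAdm : Adm (List.ofFn x) A := by
    refine ⟨inferInstance, ?_⟩
    intro p hp _ hl
    have hex : ∀ i : Fin n, ∃ σ : G, σ • u i ∈ p := by
      intro i
      have h1 : x i ∈ p := hl (x i) ((List.mem_ofFn' x (x i)).mpr ⟨i, rfl⟩)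
      rw [hx] at h1
      obtain ⟨σ, -, hσ⟩ := (hp.prod_mem_iff).mp h1
      exact ⟨σ, hσ⟩
    choose τ hτ using hex
    have h1 : Ideal.span (Set.range fun i => τ i • u i) ≤ p := by
      rw [Ideal.span_le]
      rintro _ ⟨i, rfl⟩
      exact hτ i
    have h2 : IsLocalRing.maximalIdeal A ≤ p :=
      (hwa τ).trans (hp.radical_le_iff.mpr h1)
    have h3 : p = IsLocalRing.maximalIdeal A :=
      le_antisymm (IsLocalRing.le_maximalIdeal hp.ne_top) h2
    rw [h3]; infer_instance
  have hle := chi_le_len (List.ofFn x) A hAdm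
  have hfl := hAdm.isFiniteLength_quot
  have heq : (Ideal.span (Set.range x) : Submodule A A) =
      Ideal.ofList (List.ofFn x) • (⊤ : Submodule A A) := by
    rw [ofList_ofFn, Ideal.smul_top_eq_map]
    simp
  have hlen_eq : Module.length A (A ⧸ Ideal.span (Set.range x)) =
      Module.length A (A ⧸ Ideal.ofList (List.ofFn x) • (⊤ : Submodule A A)) :=
    (Submodule.quotEquivOfEq _ _ heq).length_eq
  rw [hlen_eq]
  have hne := Module.length_ne_top_iff.mpr hfl
  obtain ⟨m, hm⟩ := ENat.ne_top_iff_exists.mp hne
  unfold len at hle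
  rw [← hm] at hle ⊢
  simp only [ENat.toNat_coe] at hle
  have : (Fintype.card G ^ n : ℤ) ≤ (m : ℤ) := by
    have h1 : ((Fintype.card G ^ n : ℕ) : ℤ) ≤ chi (List.ofFn x) A := hge
    push_cast at h1
    linarith
  have h2 : Fintype.card G ^ n ≤ m := by exact_mod_cast this
  exact_mod_cast h2

end Groth.Agent.H19.Samuel
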